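import Cfsg.Agent.Lib.BG.FrobeniusType

/-!
# The subgroups `A₀` and `E₀`
-/

set_option autoImplicit false
set_option linter.style.haveILetI false
set_option linter.unusedSectionVars false
set_option linter.unusedVariables false

namespace CfsgLib.BG

open Subgroup CfsgLib.PLocal CfsgLib.OddLocal
open scoped commutatorElement Pointwise

universe u
variable {G : Type u} [Group G] [Finite G] {M E : Subgroup G}
variable (hG : Cfsg.IsMinSimpleOddOrder G) (hM : IsCoatom M)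

/-- Elements of prime order outside `τ₂(M)` act fixed-point-freely. -/
def FreeOutsideTau2 (M E : Subgroup G) : Prop :=
  ∀ x ∈ E, ∀ q : ℕ, q.Prime → orderOf x = q → q ∉ Cfsg.tau2 M →
    Cfsg.sigmaCore M ⊓ centralizer ({x} : Set G) = ⊥

omit [Finite G] in
theorem inf_centralizer_pow_le (N : Subgroup G) (e : G) (n : ℕ) :
    N ⊓ centralizer ({e} : Set G) ≤ N ⊓ centralizer ({e ^ n} : Set G) := fun y hy =>
  mem_inf.mpr ⟨(mem_inf.mp hy).1, mem_centralizer_singleton_iff.mpr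
    ((show Commute y e from mem_centralizer_singleton_iff.mp (mem_inf.mp hy).2).pow_right n).eq⟩

theorem mem_tau2_of_fixed (hfree : FreeOutsideTau2 M E) {e y : G} (he : e ∈ E)
    (hy : y ∈ Cfsg.sigmaCore M) (hy1 : y ≠ 1) (hey : Commute e y) {q : ℕ} (hq : q.Prime)
    (hd : q ∣ orderOf e) : q ∈ Cfsg.tau2 M := by
  by_contra hτ
  have ho : orderOf (e ^ (orderOf e / q)) = q := orderOf_pow_orderOf_div (orderOf_pos e).ne' hd
  refine hy1 (mem_bot.mp (hfree _ (pow_mem he _) q hq ho hτ ▸ inf_centralizer_pow_le _ e _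
    (mem_inf.mpr ⟨hy, mem_centralizer_singleton_iff.mpr hey.eq.symm⟩)))

/-- The conditions on `E₀` ensuring exponent and fixed-point-freeness. -/
def GoodSub (M E E₀ : Subgroup G) : Prop :=
  E₀ ≤ E ∧ (∀ q : ℕ, q.Prime → q ∉ Cfsg.tau2 M → ¬ q ∣ E₀.relIndex E) ∧
    ∀ p : ℕ, p ∈ Cfsg.tau2 M → ∃ P Y : Subgroup G, SylowIn p P E ∧ SylowIn p Y E₀ ∧ IsCyclic Y ∧
      Nat.card Y = Monoid.exponent P ∧
      ∀ x ∈ Y, orderOf x = p → Cfsg.sigmaCore M ⊓ centralizer ({x} : Set G) = ⊥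

theorem GoodSub.exponent_eq {E₀ : Subgroup G} (h : GoodSub M E E₀) :
    Monoid.exponent E₀ = Monoid.exponent E := by
  obtain ⟨hle, hidx, hY⟩ := h
  refine Nat.dvd_antisymm (Monoid.exponent_dvd_of_monoidHom (inclusion hle) (inclusion_injective hle))
    (Monoid.exponent_dvd.mpr fun e => ?_)
  rw [← Subgroup.orderOf_coe]
  refine (Nat.dvd_iff_prime_pow_dvd_dvd _ _).mpr fun q k hq hqk => ?_
  rcases Nat.eq_zero_or_pos k with rfl | hk
  · simp
  haveI : Fact q.Prime := ⟨hq⟩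
  set x := (e : G) ^ (orderOf (e : G) / q ^ k) with hx
  have hxo : orderOf x = q ^ k := orderOf_pow_orderOf_div (orderOf_pos (e : G)).ne' hqk
  have hxp : IsPGroup q (zpowers x) := IsPGroup.of_card (n := k) (by rw [Nat.card_zpowers, hxo])
  have hxE : zpowers x ≤ E := zpowers_le.mpr (pow_mem e.2 _)
  by_cases hτ : q ∈ Cfsg.tau2 M
  · obtain ⟨P, Y, hP, hYs, hYc, hYcard, -⟩ := hY q hτ
    obtain ⟨c, -, hcP⟩ := hP.exists_conj_le hxp hxE
    have h1 : c * x * c⁻¹ ∈ P := hcP (conj_mem_conjMap (mem_zpowers x))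
    have h2 : q ^ k ∣ Monoid.exponent P := by
      rw [← hxo, ← MulEquiv.orderOf_eq (MulAut.conj c) x]
      have h3 := Monoid.order_dvd_exponent (⟨c * x * c⁻¹, h1⟩ : P)
      rwa [← Subgroup.orderOf_coe] at h3
    rw [← hYcard] at h2
    haveI := hYc
    rw [← IsCyclic.exponent_eq_card (α := Y)] at h2
    exact h2.trans (Monoid.exponent_dvd_of_monoidHom (inclusion hYs.1) (inclusion_injective hYs.1))
  · obtain ⟨T, hT, -⟩ := exists_sylowIn_le (IsPGroup.of_bot (p := q) (G := G)) (bot_le (a := E₀))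
    have hTE : SylowIn q T E := ⟨hT.1.trans hle, hT.2.1, fun hd => by
      rw [← relIndex_mul_relIndex _ _ _ hT.1 hle] at hd
      exact (hq.dvd_mul.mp hd).elim hT.2.2 (hidx q hq hτ)⟩
    obtain ⟨c, -, hcT⟩ := hTE.exists_conj_le hxp hxE
    have h1 : c * x * c⁻¹ ∈ E₀ := hT.1 (hcT (conj_mem_conjMap (mem_zpowers x)))
    rw [← hxo, ← MulEquiv.orderOf_eq (MulAut.conj c) x]
    have h3 := Monoid.order_dvd_exponent (⟨c * x * c⁻¹, h1⟩ : E₀)
    rwa [← Subgroup.orderOf_coe] at h3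

theorem GoodSub.fpf {E₀ : Subgroup G} (h : GoodSub M E E₀) (hEM : E ≤ M)
    (hfree : FreeOutsideTau2 M E) {e : G} (he : e ∈ E₀) (he1 : e ≠ 1) :
    Cfsg.sigmaCore M ⊓ centralizer ({e} : Set G) = ⊥ := by
  obtain ⟨hle, -, hY⟩ := h
  obtain ⟨q, hq, hqd⟩ := Nat.exists_prime_and_dvd (fun h1 => he1 (orderOf_eq_one_iff.mp h1))
  set x := e ^ (orderOf e / q) with hx
  have hxo : orderOf x = q := orderOf_pow_orderOf_div (orderOf_pos e).ne' hqd
  rw [← le_bot_iff]
  refine (inf_centralizer_pow_le _ e (orderOf e / q)).trans (le_bot_iff.mpr ?_)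
  rw [← hx]
  by_cases hτ : q ∈ Cfsg.tau2 M
  · haveI : Fact q.Prime := ⟨hq⟩
    obtain ⟨P, Y, -, hYs, -, -, hfY⟩ := hY q hτ
    obtain ⟨c, hc, hcY⟩ := hYs.exists_conj_le
      (IsPGroup.of_card (n := 1) (by rw [Nat.card_zpowers, hxo, pow_one]) : IsPGroup q (zpowers x))
      (zpowers_le.mpr (pow_mem he _))
    have h1 := hfY (c * x * c⁻¹) (hcY (conj_mem_conjMap (mem_zpowers x)))
      ((MulEquiv.orderOf_eq (MulAut.conj c) x).trans hxo)
    rw [eq_bot_iff]
    intro y hy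
    obtain ⟨hyN, hyx⟩ := mem_inf.mp hy
    rw [mem_centralizer_singleton_iff] at hyx
    have h2 : c * y * c⁻¹ ∈ Cfsg.sigmaCore M ⊓ centralizer ({c * x * c⁻¹} : Set G) := by
      refine mem_inf.mpr ⟨(mem_normalizer_iff.mp (le_normalizer_sigmaCore M (hEM (hle hc))) y).mp hyN,
        mem_centralizer_singleton_iff.mpr ?_⟩
      calc c * y * c⁻¹ * (c * x * c⁻¹) = c * (y * x) * c⁻¹ := by group
        _ = c * (x * y) * c⁻¹ := by rw [hyx]
        _ = c * x * c⁻¹ * (c * y * c⁻¹) := by group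
    rw [h1, mem_bot] at h2
    exact mem_bot.mpr (conj_eq_one_iff.mp h2)
  · exact hfree x (hle (pow_mem he _)) q hq hxo hτ

include hG hM

/-- The nonabelian case. -/
theorem exists_good_nonabelian (hE : Cfsg.IsComplIn E (Cfsg.sigmaCore M) M) (hfree : FreeOutsideTau2 M E)
    {p : ℕ} [hp : Fact p.Prime] {A A₀ P S : Subgroup G} (h : IsExc p M A A₀) (hAE : A ≤ E)
    (hPE : SylowIn p P E) (hAP : A ≤ P) (hS : SylowIn p S ⊤) (hPS : P ≤ S) (hne : P ≠ S) :
    (∃ B : Subgroup G, B ≤ E ∧ E ≤ normalizer (B : Set G) ∧ IsMulCommutative B ∧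
      ∀ x ∈ Cfsg.sigmaCore M, x ≠ 1 → E ⊓ centralizer ({x} : Set G) ≤ B) ∧
    ∃ E₀, GoodSub M E E₀ := by
  have hP := sylowIn_of_compl hG hM hE h.not_sigma hPE
  have hτ : ∀ q ∈ Cfsg.tau2 M, q = p := by
    intro q hq
    by_contra hqp
    haveI : Fact q.Prime := ⟨hq.1⟩
    obtain ⟨B, B₀, hBE, h'⟩ := tau2_square hG hM hE hq
    have htop := h.sylow_top_of_pair hG hM h' (Ne.symm hqp) hE hAE hBE hP hAP
    exact hne (htop.eq_of_le hS.2.1 le_top hPS)
  obtain ⟨hab, hΩ, hPA⟩ := h.sylow_abelian hG hM hP hAP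
  obtain ⟨hA₀, hlines⟩ := h.nonabelian_lines hG hM hP hAP hS hPS hne
  have hA₀n : E ≤ normalizer (A₀ : Set G) := by
    rw [← hA₀]
    exact CfsgLib.Comp.le_normalizer_inf (h.compl_le_normalizer hG hM hE hAE)
      (CfsgLib.Comp.le_normalizer_centralizer (hE.1.trans (le_normalizer_sigmaCore M)))
  refine ⟨⟨A₀, h.line.1.trans hAE, hA₀n,
    (elemAb_mono h.sq.1 h.line.1).1, fun x hx hx1 e he => ?_⟩, ?_⟩
  · obtain ⟨he1, he2⟩ := mem_inf.mp he
    have hex : Commute e x := mem_centralizer_singleton_iff.mp he2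
    obtain ⟨k, hk⟩ : ∃ k, orderOf e = p ^ k :=
      ⟨_, Nat.eq_prime_pow_of_unique_prime_dvd (orderOf_pos e).ne' fun {q} hq hd =>
        hτ q (mem_tau2_of_fixed hfree he1 hx hx1 hex hq hd)⟩
    exact h.mem_line_of_fixed hG hM hE hAE hPE hAP hS hPS hne he1
      (IsPGroup.of_card (n := k) (by rw [Nat.card_zpowers, hk])) hx hx1 hex
  -- a `p'`-Hall subgroup of `N_E(P)`
  set N := E ⊓ normalizer (P : Set G) with hN
  have hPN : P ≤ N := le_inf hPE.1 le_normalizer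
  obtain ⟨H, hH, -⟩ := CfsgLib.Coprime.exists_invariant_hall (A := (⊥ : Subgroup G)) (G := N) bot_le
    (by rw [Subgroup.card_bot]; exact Nat.coprime_one_left _)
    (isSolvable_of_le_max hG hM (inf_le_left.trans hE.1)) {q | q ≠ p}
  have hHE : H ≤ E := hH.1.trans inf_le_left
  have hHP : H ≤ normalizer (P : Set G) := hH.1.trans inf_le_right
  have hpH : ¬ p ∣ Nat.card H := fun hd => hH.2.1 p hp.out hd rfl
  have hcopH : (Nat.card H).Coprime p := (hp.out.coprime_iff_not_dvd.mpr hpH).symm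
  have hp2 : p ≠ 2 := prime_ne_two_of_pgroup hG h.sq.isPGroup h.sq.ne_bot
  have hP1 : P ≠ ⊥ := fun e => h.sq.ne_bot (le_bot_iff.mp (hAP.trans e.le))
  obtain ⟨a, ha, hea⟩ := exists_exponent_pow hP.2.1 hP1
  set T := powImage P hab (p ^ (a - 1)) with hTdef
  have hTA : T ≤ A := powImage_top_le hab (fun x hx => (hΩ x hx).mp) ha hea
  obtain ⟨X, hX, hHX, hXA₀, hXT⟩ : ∃ X, IsLine p A X ∧ H ≤ normalizer (X : Set G) ∧ X ≠ A₀ ∧ X ≤ T := by
    by_cases hTA' : T = A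
    · obtain ⟨Z, hZ, hZA₀, -⟩ := h.sq.exists_line_ne' h.line
      obtain ⟨C, -, hCA, hCd, hCs, hHC⟩ := exists_invariant_factor_in (H := H) (V := A)
        (W := ⊥) (K := A₀) (C₀ := Z) h.sq.comm (hHP.trans hPA)
        (by rw [normalizer_eq_top]; exact le_top) (hHE.trans hA₀n) h.line.1 hZ.1
        (IsLine.inf_eq_bot hZ h.line hZA₀) (IsLine.sup_eq h.sq hZ h.line hZA₀) bot_le
        (by rwa [h.line.2])
      have hn : A₀ ≤ normalizer (C : Set G) := h.line.1.trans ((h.sq.le_centralizer.trans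
        (Subgroup.centralizer_le hCA)).trans (centralizer_le_normalizer _))
      have hCc : Nat.card C = p := Nat.eq_of_mul_eq_mul_right hp.out.pos (by
        rw [← sq, ← h.sq.2, ← hCs, CfsgLib.Coprime.card_sup_of_inf_eq_bot hn (inf_comm C A₀ ▸ hCd), h.line.2])
      exact ⟨C, ⟨hCA, hCc⟩, hHC, fun e => ne_bot_of_card_prime h.line.2 (by rw [← hCd, e, inf_idem]),
        hTA'.ge.trans' hCA⟩
    · have hTline : IsLine p A T := by
        refine ⟨hTA, ?_⟩
        have hd := card_dvd_of_le hTA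
        rw [h.sq.2] at hd
        obtain ⟨i, hi, hcard⟩ := (Nat.dvd_prime_pow hp.out).mp hd
        rw [hcard]
        rcases (show i = 0 ∨ i = 1 ∨ i = 2 by omega) with rfl | rfl | rfl
        · exact absurd (card_eq_one.mp (by rw [hcard, pow_zero])) (powImage_top_ne_bot hab ha hea)
        · exact pow_one p
        · exact absurd (eq_of_le_of_card_ge hTA (by rw [hcard, h.sq.2])) hTA'
      refine ⟨T, hTline, hHP.trans normalizer_le_powImage, fun e => ?_, le_rfl⟩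
      rcases Nat.lt_or_ge a 2 with ha2 | ha2
      · refine hTA' (le_antisymm hTA fun x hx => ⟨x, hAP hx, ?_⟩)
        rw [show a - 1 = 0 by omega, pow_zero, pow_one]
      · exact h.not_le_powImage hG hM hP hAP hS hPS hne hab (dvd_pow_self p (by omega : a - 1 ≠ 0)) e.ge
  obtain ⟨Y, hYP, hYc, hHY, hYcard, hXY⟩ := exists_invariant_cyclic hp2 h.sq hab hP.2.1 hAP
    (fun x hx => (hΩ x hx).mp) hHP hHX hX hcopH ha hXT
  haveI := CfsgLib.Solvable.pPrimeCore_normal p E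
  set K := (Cfsg.pPrimeCore p E).map E.subtype with hK
  have hKE : K ≤ E := map_subtype_le _
  have hKn : E ≤ normalizer (K : Set G) := (normal_subgroupOf_iff_le_normalizer hKE).mp (by
    rw [hK, subgroupOf, comap_map_eq_self_of_injective E.subtype_injective]; infer_instance)
  have hpK : ¬ p ∣ Nat.card K := by
    rw [hK, card_map_of_injective E.subtype_injective]
    exact fun hd => hp.out.ne_one (Nat.eq_one_of_dvd_coprimes (CfsgLib.Solvable.pPrimeCore_coprime p) hd dvd_rfl)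
  set E₀ := K ⊔ (Y ⊔ H) with hE₀
  have hE₀E : E₀ ≤ E := sup_le hKE (sup_le (hYP.trans hPE.1) hHE)
  have hcover : ∀ e ∈ E, ∃ u ∈ P, ∃ v ∈ E₀, u * v = e := by
    intro e he
    have hPH : P ⊔ H = N := by
      refine eq_of_le_of_card_ge (sup_le hPN hH.1) (le_of_eq ?_)
      have h1 : (P ⊔ H).relIndex N = 1 := by
        by_contra hne1
        obtain ⟨q, hq, hd⟩ := Nat.exists_prime_and_dvd hne1
        by_cases hqp : q = p
        · subst hqp
          exact hPE.2.2 ((hd.trans (relIndex_dvd_of_le_left N le_sup_left)).trans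
            ⟨N.relIndex E, (relIndex_mul_relIndex _ _ _ hPN inf_le_left).symm⟩)
        · exact hH.2.2 q hq hqp (hd.trans (relIndex_dvd_of_le_left N le_sup_right))
      rw [← CfsgLib.Coprime.card_mul_relIndex (sup_le hPN hH.1), h1, mul_one]
    let Sy : Sylow p E := (hPE.2.1.comap_subtype).toSylow hPE.2.2
    obtain ⟨g, hg, n, hn, hgn⟩ := pLengthLE_one_decomp
      (Cfsg.Agent.S1410.result hG p E fun e' => hM.1 (top_le_iff.mp (e' ▸ hE.1))) Sy ⟨e, he⟩
    have hgN : (g : G) ∈ P ⊔ H := by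
      rw [hPH]
      refine mem_inf.mpr ⟨g.2, ?_⟩
      have hg' : g ∈ normalizer ((P.subgroupOf E : Subgroup E) : Set E) := hg
      rw [mem_normalizer_iff]
      intro x
      constructor
      · intro hx
        exact (mem_normalizer_iff.mp hg' ⟨x, hPE.1 hx⟩).mp hx
      · intro hx
        have h1 : x ∈ E := by
          have := mul_mem (mul_mem (inv_mem g.2) (hPE.1 hx)) g.2
          simpa [mul_assoc] using this
        exact (mem_normalizer_iff.mp hg' ⟨x, h1⟩).mpr hx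
    obtain ⟨u, hu, v, hv, huv⟩ := (CfsgLib.Coprime.mem_sup_of_le_normalizer hHP).mp hgN
    refine ⟨u, hu, v * n, mul_mem (mem_sup_right (mem_sup_right hv))
      (mem_sup_left (mem_map_of_mem _ hn)), ?_⟩
    rw [← mul_assoc, huv]
    exact congrArg Subtype.val hgn
  have hset : (P : Set G) * (E₀ : Set G) = (E : Set G) := by
    ext e
    constructor
    · rintro ⟨u, hu, v, hv, rfl⟩
      exact mul_mem (hPE.1 hu) (hE₀E hv)
    · intro he
      obtain ⟨u, hu, v, hv, rfl⟩ := hcover e he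
      exact Set.mul_mem_mul hu hv
  refine ⟨E₀, hE₀E, fun q hq hqτ hd => ?_, fun q hq => ?_⟩
  · have h1 := CfsgLib.Solvable.card_mul_set_mul_card_inf P E₀
    rw [hset] at h1
    have h2 : E₀.relIndex E * Nat.card ↥(P ⊓ E₀) = Nat.card P := by
      refine Nat.eq_of_mul_eq_mul_left (Nat.card_pos (α := E₀)) ?_
      rw [← mul_assoc, CfsgLib.Coprime.card_mul_relIndex hE₀E, mul_comm (Nat.card E₀) (Nat.card P)]
      exact h1
    refine hqτ ?_
    rw [prime_dvd_pgroup_card hP.2.1 hq (hd.trans (Dvd.intro _ h2))]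
    exact ⟨hp.out, h.not_sigma, prankLE_two_of_not_sigma hG hM h.not_sigma,
      h.sq.not_prankLE_one h.le⟩
  · obtain rfl := hτ q hq
    refine ⟨P, Y, hPE, sylowIn_of_bound (hP.2.1.to_le hYP) hHY
      (sup_le ((hYP.trans hPE.1).trans hKn) (hHE.trans hKn)) hpK hpH
      (le_sup_left.trans le_sup_right) le_rfl, hYc, hYcard.trans hea.symm, fun x hx hxo => ?_⟩
    have hxX := eq_of_isCyclic_card hYc (zpowers_le.mpr hx) hXY (by rw [Nat.card_zpowers, hxo]) hX.2
    rw [← centralizer_zpowers_eq, hxX]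
    exact (hlines X hX hXA₀).1

/-- The abelian case. -/
theorem exists_good_abelian (hE : Cfsg.IsComplIn E (Cfsg.sigmaCore M) M) (hfree : FreeOutsideTau2 M E)
    (hab : ∀ (p : ℕ) [Fact p.Prime] (A A₀ P S : Subgroup G), IsExc p M A A₀ → A ≤ E → SylowIn p P E →
      A ≤ P → SylowIn p S ⊤ → P ≤ S → P = S) :
    (∃ B : Subgroup G, B ≤ E ∧ E ≤ normalizer (B : Set G) ∧ IsMulCommutative B ∧
      ∀ x ∈ Cfsg.sigmaCore M, x ≠ 1 → E ⊓ centralizer ({x} : Set G) ≤ B) ∧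
    ∃ E₀, GoodSub M E E₀ := by
  obtain ⟨H, hH, -⟩ := CfsgLib.Coprime.exists_invariant_hall (A := (⊥ : Subgroup G)) (G := E) bot_le
    (by rw [Subgroup.card_bot]; exact Nat.coprime_one_left _)
    (isSolvable_of_le_max hG hM hE.1) {q | q ∉ Cfsg.tau2 M}
  have hHE : H ≤ E := hH.1
  have hdata : ∀ i : Cfsg.tau2 M, ∃ P Y : Subgroup G, SylowIn i.1 P E ∧ IsMulCommutative P ∧
      E ≤ normalizer (P : Set G) ∧ Y ≤ P ∧ IsCyclic Y ∧ H ≤ normalizer (Y : Set G) ∧
      Nat.card Y = Monoid.exponent P ∧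
      ∀ x ∈ Y, orderOf x = i.1 → Cfsg.sigmaCore M ⊓ centralizer ({x} : Set G) = ⊥ := by
    rintro ⟨p, hpτ⟩
    haveI : Fact p.Prime := ⟨hpτ.1⟩
    obtain ⟨A, A₀, hAE, h⟩ := tau2_square hG hM hE hpτ
    obtain ⟨P, hPE, hAP⟩ := exists_sylowIn_le h.sq.isPGroup hAE
    obtain ⟨S, hS, hPS⟩ := exists_sylowIn_le hPE.2.1 (le_top (a := P))
    obtain rfl := hab p A A₀ P S h hAE hPE hAP hS hPS
    have hPM := sylowIn_of_compl hG hM hE h.not_sigma hPE
    have hPn := h.sylow_normal hG hM hE hAE hPE hAP hS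
    have hpH : ¬ p ∣ Nat.card H := fun hd => hH.2.1 p hpτ.1 hd hpτ
    obtain ⟨Y, hYP, hYc, hHY, hYcard, hfY⟩ := h.exists_cyclic_abelian hG hM hPM hAP hS
      (hHE.trans hE.1) (hHE.trans hPn) hpH
      (fun r hr hd => by
        haveI : Fact r.Prime := ⟨hr⟩
        have hrσ := not_sigma_of_dvd_compl hG hM hE hr (hd.trans (card_dvd_of_le hHE))
        refine ⟨hrσ, ?_⟩
        by_contra hr1
        exact hH.2.1 r hr hd ⟨hr, hrσ, prankLE_two_of_not_sigma hG hM hrσ, hr1⟩)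
      (fun x hx hxp => hfree x (hHE hx) _ hxp rfl fun hτ => hH.2.1 _ hxp
        (orderOf_mk x hx ▸ orderOf_dvd_natCard (⟨x, hx⟩ : H)) hτ)
    exact ⟨P, Y, hPE, (h.sylow_abelian hG hM hPM hAP).1, hPn, hYP, hYc, hHY, hYcard, hfY⟩
  choose P Y hPE hPab hPn hYP hYc hHY hYcard hfY using hdata
  have hPle : ∀ i j : Cfsg.tau2 M, i ≠ j → P j ≤ centralizer (P i : Set G) := by
    intro i j hij
    haveI : Fact i.1.Prime := ⟨i.2.1⟩
    haveI : Fact j.1.Prime := ⟨j.2.1⟩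
    have hd : P i ⊓ P j = ⊥ := CfsgLib.Coprime.inf_eq_bot_of_coprime
      (coprime_pgroup (hPE i).2.1 (hPE j).2.1 fun e => hij (Subtype.ext e))
    rw [← commutator_eq_bot_iff_le_centralizer, eq_bot_iff, ← hd]
    exact le_inf (commutator_comm (P i) (P j) ▸
      CfsgLib.Comp.commutator_le_of_le_normalizer ((hPE j).1.trans (hPn i)))
      (CfsgLib.Comp.commutator_le_of_le_normalizer ((hPE i).1.trans (hPn j)))
  refine ⟨⟨⨆ i, P i, iSup_le fun i => (hPE i).1, ?_, ?_, fun x hx hx1 e he => ?_⟩, ?_⟩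
  · intro e he
    rw [← conjMap_eq_self_iff]
    show Subgroup.map _ _ = _
    rw [Subgroup.map_iSup]
    exact iSup_congr fun i => conjMap_eq_self_iff.mpr (hPn i he)
  · have h1 : ∀ i j, P j ≤ centralizer (P i : Set G) := fun i j => by
      rcases eq_or_ne i j with rfl | hij
      · exact fun a ha => mem_centralizer_iff.mpr fun b hb =>
          congrArg Subtype.val ((hPab i).is_comm.comm ⟨b, hb⟩ ⟨a, ha⟩)
      · exact hPle i j hij
    have h2 : (⨆ i, P i) ≤ centralizer ((⨆ i, P i : Subgroup G) : Set G) :=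
      iSup_le fun j => le_centralizer_iff.mp (iSup_le fun i => h1 j i)
    exact ⟨⟨fun a b => Subtype.ext (mem_centralizer_iff.mp (h2 b.2) a a.2)⟩⟩
  · obtain ⟨he1, he2⟩ := mem_inf.mp he
    have hex : Commute e x := mem_centralizer_singleton_iff.mp he2
    refine CfsgLib.StructB.mem_of_forall_primePow _ e fun z hz q k hq hk hzo hqk => ?_
    haveI : Fact q.Prime := ⟨hq⟩
    have hτ : q ∈ Cfsg.tau2 M := mem_tau2_of_fixed hfree he1 hx hx1 hex hq
      ((dvd_pow_self q (by omega)).trans hqk)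
    obtain ⟨c, hc, hcP⟩ := (hPE ⟨q, hτ⟩).exists_conj_le
      (IsPGroup.of_card (n := k) (by rw [Nat.card_zpowers, hzo]) : IsPGroup q (zpowers z))
      (zpowers_le.mpr (zpowers_le.mpr he1 hz))
    exact le_iSup P ⟨q, hτ⟩ ((mem_normalizer_iff.mp (hPn ⟨q, hτ⟩ hc) z).mpr
      (hcP (conj_mem_conjMap (mem_zpowers z))))
  set E₀ := (⨆ i, Y i) ⊔ H with hE₀
  have hE₀E : E₀ ≤ E := sup_le (iSup_le fun i => (hYP i).trans (hPE i).1) hHE
  refine ⟨E₀, hE₀E, fun q hq hqτ hd => hH.2.2 q hq hqτ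
    (hd.trans (relIndex_dvd_of_le_left E le_sup_right)), fun p hp => ?_⟩
  haveI : Fact p.Prime := ⟨hp.1⟩
  set i : Cfsg.tau2 M := ⟨p, hp⟩
  haveI := CfsgLib.Solvable.pPrimeCore_normal p E
  set K := (Cfsg.pPrimeCore p E).map E.subtype with hK
  have hKE : K ≤ E := map_subtype_le _
  have hKn : E ≤ normalizer (K : Set G) := (normal_subgroupOf_iff_le_normalizer hKE).mp (by
    rw [hK, subgroupOf, comap_map_eq_self_of_injective E.subtype_injective]; infer_instance)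
  have hpK : ¬ p ∣ Nat.card K := by
    rw [hK, card_map_of_injective E.subtype_injective]
    exact fun hd => hp.1.ne_one (Nat.eq_one_of_dvd_coprimes (CfsgLib.Solvable.pPrimeCore_coprime p) hd dvd_rfl)
  refine ⟨P i, Y i, hPE i, sylowIn_of_bound ((hPE i).2.1.to_le (hYP i)) (hHY i)
    (sup_le (((hYP i).trans (hPE i).1).trans hKn) (hHE.trans hKn)) hpK
    (fun hd => hH.2.1 p hp.1 hd hp) (le_trans (le_iSup Y i) le_sup_left)
    (sup_le (iSup_le fun j => ?_) (le_sup_right.trans le_sup_right)), hYc i, hYcard i, hfY i⟩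
  rcases eq_or_ne j i with rfl | hji
  · exact le_sup_left.trans le_sup_right
  refine (hYP j).trans (le_trans ?_ le_sup_left)
  haveI : Fact j.1.Prime := ⟨j.2.1⟩
  rw [hK, ← map_subgroupOf_eq_of_le (hPE j).1]
  refine map_mono (le_sSup ⟨(normal_subgroupOf_iff_le_normalizer (hPE j).1).mpr (hPn j), ?_⟩)
  rw [CfsgLib.Coprime.card_subgroupOf (hPE j).1]
  obtain ⟨n, hn⟩ := IsPGroup.iff_card.mp (hPE j).2.1
  rw [hn]
  exact Nat.Coprime.pow_left _ ((Nat.coprime_primes j.2.1 hp.1).mpr fun e => hji (Subtype.ext e))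

theorem frobenius_type (hE : Cfsg.IsComplIn E (Cfsg.sigmaCore M) M)
    (h : ∀ e ∈ E, e ≠ 1 → (∀ p : ℕ, p.Prime → p ∣ orderOf e → p ∈ Cfsg.tau1 M ∪ Cfsg.tau3 M) →
      Cfsg.sigmaCore M ⊓ centralizer ({e} : Set G) = ⊥) :
    (∃ A₀ : Subgroup G, A₀ ≤ E ∧ E ≤ normalizer (A₀ : Set G) ∧ IsMulCommutative A₀ ∧
        ∀ x ∈ Cfsg.sigmaCore M, x ≠ 1 → E ⊓ centralizer ({x} : Set G) ≤ A₀) ∧
      ∃ E₀ : Subgroup G, E₀ ≤ E ∧ Monoid.exponent E₀ = Monoid.exponent E ∧
        ∀ e ∈ E₀, e ≠ 1 → Cfsg.sigmaCore M ⊓ centralizer ({e} : Set G) = ⊥ := by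
  have hfree : FreeOutsideTau2 M E := fun x hx q hq hxo hτ => by
    haveI : Fact q.Prime := ⟨hq⟩
    refine h x hx (fun e => hq.ne_one (by rw [← hxo, e, orderOf_one])) fun r hr hd => ?_
    rw [hxo] at hd
    obtain rfl := (Nat.prime_dvd_prime_iff_eq hr hq).mp hd
    refine tau_cases hG hM hE ?_ hτ
    rw [← hxo, ← Subgroup.orderOf_mk x hx]
    exact orderOf_dvd_natCard _
  suffices key : (∃ B : Subgroup G, B ≤ E ∧ E ≤ normalizer (B : Set G) ∧ IsMulCommutative B ∧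
      ∀ x ∈ Cfsg.sigmaCore M, x ≠ 1 → E ⊓ centralizer ({x} : Set G) ≤ B) ∧ ∃ E₀, GoodSub M E E₀ from
    ⟨key.1, by
      obtain ⟨E₀, hgood⟩ := key.2
      exact ⟨E₀, hgood.1, hgood.exponent_eq, fun e he he1 => hgood.fpf hE.1 hfree he he1⟩⟩
  by_cases hna : ∃ (p : ℕ) (_ : Fact p.Prime) (A A₀ P S : Subgroup G), IsExc p M A A₀ ∧ A ≤ E ∧
      SylowIn p P E ∧ A ≤ P ∧ SylowIn p S ⊤ ∧ P ≤ S ∧ P ≠ S
  · obtain ⟨p, hp, A, A₀, P, S, h1, h2, h3, h4, h5, h6, h7⟩ := hna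
    exact exists_good_nonabelian hG hM hE hfree h1 h2 h3 h4 h5 h6 h7
  · refine exists_good_abelian hG hM hE hfree fun p hp A A₀ P S h1 h2 h3 h4 h5 h6 => ?_
    by_contra h7
    exact hna ⟨p, hp, A, A₀, P, S, h1, h2, h3, h4, h5, h6, h7⟩

end CfsgLib.BG
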