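import Cfsg.Agent.Lib.BG.KappaDecomp

/-!
# A fixed-point-free subgroup of full exponent in `U`
-/

set_option autoImplicit false
set_option linter.style.haveILetI false
set_option linter.unusedSectionVars false

namespace CfsgLib.BG

open Subgroup CfsgLib.PLocal CfsgLib.OddLocal
open scoped commutatorElement

universe u
variable {G : Type u} [Group G] [Finite G] {M K U : Subgroup G}
variable (hG : Cfsg.IsMinSimpleOddOrder G) (hM : IsCoatom M)
include hG hM

/-- For `p ∈ τ₂(M)` some element of largest `p`-order in `U` has a fixed-point-free socle. -/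
theorem exists_free_element (h : Cfsg.IsSigmaDecomposition M K U) {p : ℕ} [hp : Fact p.Prime]
    (hp2 : p ∈ Cfsg.tau2 M) (hU : IsMulCommutative U) :
    ∃ y ∈ U, IsPGroup p (zpowers y) ∧
      (∀ x ∈ U, IsPGroup p (zpowers x) → orderOf x ∣ orderOf y) ∧
      Cfsg.sigmaCore M ⊓ centralizer ({y ^ (orderOf y / p)} : Set G) = ⊥ := by
  obtain ⟨E, hE, hUE, hEU, hUh, -⟩ := exists_compl_decomp hG hM h
  obtain ⟨A, A₀, hAE, hexc⟩ := tau2_square hG hM hE hp2
  have hp2' : p ∉ Cfsg.kappa M := fun hκ => hp2.2.2.2 (prankLE_one_of_kappa hG hM hκ)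
  obtain ⟨P, hP, -⟩ := exists_sylowIn_le (IsPGroup.of_bot (p := p) (G := G)) (bot_le (a := U))
  have hPE : SylowIn p P E := by
    refine ⟨hP.1.trans hUh.1, hP.2.1, fun hd => ?_⟩
    rw [← relIndex_mul_relIndex _ _ _ hP.1 hUh.1] at hd
    exact (hp.out.dvd_mul.mp hd).elim hP.2.2 (hUh.2.2 p hp.out hp2')
  have hPM := sylowIn_of_compl hG hM hE hp2.2.1 hPE
  have hAP : A ≤ P := by
    obtain ⟨e, he, heP⟩ := hPE.exists_conj_le hexc.sq.isPGroup hAE
    rwa [conjMap_eq_self_iff.mpr (hexc.compl_le_normalizer hG hM hE hAE he)] at heP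
  obtain ⟨-, hSyl, -, -, -, A₁, hA₁, hA₁c, hA₁f⟩ :=
    Cfsg.Agent.S1417.result hG M hM p hp2 A ⟨hexc.le, hexc.sq.1, hexc.sq.2⟩
  set SP : Sylow p M := (hPM.2.1.comap_subtype (K := M)).toSylow hPM.2.2 with hSP
  have hSmap : (SP : Subgroup M).map M.subtype = P := map_subgroupOf_eq_of_le hPM.1
  obtain ⟨hΩ, hNP⟩ := (hSyl SP).2 (hSmap.symm ▸ hAP)
  rw [hSmap] at hΩ hNP
  have hab : IsMulCommutative P := ⟨⟨fun a b => Subtype.ext (congrArg Subtype.val
    (hU.is_comm.comm ⟨(a : G), hP.1 a.2⟩ ⟨(b : G), hP.1 b.2⟩) :)⟩⟩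
  obtain ⟨a, ha, hea⟩ := exists_exponent_pow hP.2.1
    (fun e => hexc.sq.ne_bot (le_bot_iff.mp (hAP.trans e.le)))
  set T := powImage P hab (p ^ (a - 1)) with hT
  have hTA : T ≤ A := powImage_top_le hab (fun x hx => (hΩ x hx).mp) ha hea
  -- a fixed-point-free line inside `T`
  obtain ⟨X, hXT, hX, hXf⟩ : ∃ X : Subgroup G, X ≤ T ∧ Nat.card X = p ∧
      Cfsg.sigmaCore M ⊓ centralizer (X : Set G) = ⊥ := by
    obtain ⟨i, hi, hcard⟩ := (Nat.dvd_prime_pow hp.out).mp (hexc.sq.2 ▸ card_dvd_of_le hTA)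
    rcases (show i = 0 ∨ i = 1 ∨ i = 2 by omega) with rfl | rfl | rfl
    · exact absurd (Subgroup.card_eq_one.mp (by rw [hcard, pow_zero])) (powImage_top_ne_bot hab ha hea)
    · refine ⟨T, le_rfl, by rw [hcard, pow_one], ?_⟩
      by_contra hne
      have hTc : Nat.card T = p := by rw [hcard, pow_one]
      obtain ⟨x, hx, hxo⟩ := exists_order_p (isPGroup_of_card_prime hTc) (ne_bot_of_card_prime hTc)
      have hx1 : x ≠ 1 := fun e => hp.out.ne_one (by rw [← hxo, e, orderOf_one])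
      obtain ⟨z, hz, hz1⟩ := (bot_or_exists_ne_one _).resolve_left hne
      obtain ⟨hzσ, hzC⟩ := mem_inf.mp hz
      obtain ⟨h1, h2⟩ := centralizer_tau2_element hG hM (hexc.le (hTA hx)) hx1
        (fun t ht hd => by
          rw [hxo] at hd
          exact ((Nat.prime_dvd_prime_iff_eq ht hp.out).mp hd) ▸ hp2)
        hzσ (fun e => hz1 e) (mem_centralizer_iff.mp hzC x hx)
      rw [← centralizer_zpowers_eq, zpowers_eq_of_card_prime hTc hx hx1] at h1 h2
      refine hNP ((normalizer_le_powImage (hP := hab) (n := p ^ (a - 1))).trans (fun g hg => ?_))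
      refine (conjMap_max_eq_iff hG hM).mp (h2 _ (isCoatom_conjMap hM g) ?_)
      refine le_trans ?_ (conjMap_mono h1)
      intro c hc
      refine ⟨g⁻¹ * c * g, mem_centralizer_iff.mpr fun b hb => ?_, by
        show g * (g⁻¹ * c * g) * g⁻¹ = c; group⟩
      have hb' : g * b * g⁻¹ ∈ T := (mem_normalizer_iff.mp hg b).mp hb
      calc b * (g⁻¹ * c * g) = g⁻¹ * ((g * b * g⁻¹) * c) * g := by group
        _ = g⁻¹ * (c * (g * b * g⁻¹)) * g := by rw [mem_centralizer_iff.mp hc _ hb']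
        _ = _ := by group
    · exact ⟨A₁, hA₁.trans (eq_of_le_of_card_ge hTA (by rw [hcard, hexc.sq.2])).ge, hA₁c, hA₁f⟩
  obtain ⟨x, hx, hxo⟩ := exists_order_p (isPGroup_of_card_prime hX) (ne_bot_of_card_prime hX)
  have hx1 : x ≠ 1 := fun e => hp.out.ne_one (by rw [← hxo, e, orderOf_one])
  obtain ⟨y, hy, hyx⟩ := hXT hx
  have hdvd : ∀ z ∈ P, orderOf z ∣ p ^ a := fun z hz => by
    rw [← hea, ← Subgroup.orderOf_mk z hz]
    exact Monoid.order_dvd_exponent (⟨z, hz⟩ : P)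
  have hyo : orderOf y = p ^ a := by
    obtain ⟨k, hk, hyk⟩ := (Nat.dvd_prime_pow hp.out).mp (hdvd y hy)
    rcases Nat.lt_or_ge k a with hlt | hge
    · refine absurd ?_ hx1
      rw [← hyx, ← orderOf_dvd_iff_pow_eq_one, hyk]
      exact pow_dvd_pow p (by omega)
    · rw [hyk, le_antisymm hk hge]
  have hyp : IsPGroup p (zpowers y) := hP.2.1.to_le (zpowers_le.mpr hy)
  refine ⟨y, hP.1 hy, hyp, fun z hz hzp => ?_, ?_⟩
  · obtain ⟨c, hc, hcP⟩ := hP.exists_conj_le hzp (zpowers_le.mpr hz)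
    rw [hyo, show z = c * z * c⁻¹ by
      rw [show c * z = z * c from congrArg Subtype.val (hU.is_comm.comm ⟨c, hc⟩ ⟨z, hz⟩)]; group]
    exact hdvd _ (hcP ⟨z, mem_zpowers z, rfl⟩)
  · rw [hyo, show p ^ a / p = p ^ (a - 1) by
      rw [show p ^ a = p ^ (a - 1) * p by rw [← pow_succ, Nat.sub_add_cancel ha]]
      exact Nat.mul_div_cancel _ hp.out.pos, hyx, ← centralizer_zpowers_eq,
      zpowers_eq_of_card_prime hX hx hx1]
    exact hXf

/-- An abelian `U` has a subgroup of full exponent meeting `M̂_σ` trivially. -/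
theorem exists_exponent_free (h : Cfsg.IsSigmaDecomposition M K U) (hU : IsMulCommutative U) :
    ∃ U₀ : Subgroup G, U₀ ≤ U ∧ Monoid.exponent U₀ = Monoid.exponent U ∧
      ∀ u ∈ U₀, u ∈ Cfsg.sigmaHat M → u = 1 := by
  have hchoice : ∀ p : ℕ, ∃ y ∈ U, p.Prime → IsPGroup p (zpowers y) ∧
      (∀ x ∈ U, IsPGroup p (zpowers x) → orderOf x ∣ orderOf y) ∧
      (p ∈ Cfsg.tau2 M → Cfsg.sigmaCore M ⊓ centralizer ({y ^ (orderOf y / p)} : Set G) = ⊥) := by
    intro p
    by_cases hp : p.Prime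
    · haveI : Fact p.Prime := ⟨hp⟩
      by_cases h2 : p ∈ Cfsg.tau2 M
      · obtain ⟨y, hy, h1, h3, h4⟩ := exists_free_element hG hM h h2 hU
        exact ⟨y, hy, fun _ => ⟨h1, h3, fun _ => h4⟩⟩
      · obtain ⟨P, hP, -⟩ := exists_sylowIn_le (IsPGroup.of_bot (p := p) (G := G)) (bot_le (a := U))
        obtain ⟨y, hy, hmax⟩ := (Set.toFinite (P : Set G)).exists_maximalFor orderOf (P : Set G) ⟨1, one_mem P⟩
        refine ⟨y, hP.1 hy, fun _ => ⟨hP.2.1.to_le (zpowers_le.mpr hy), fun x hx hxp => ?_, (absurd · h2)⟩⟩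
        obtain ⟨c, hc, hcP⟩ := hP.exists_conj_le hxp (zpowers_le.mpr hx)
        have hxP : x ∈ P := by
          have h1 : c * x * c⁻¹ ∈ P := hcP ⟨x, mem_zpowers x, rfl⟩
          rwa [show c * x = x * c from congrArg Subtype.val (hU.is_comm.comm ⟨c, hc⟩ ⟨x, hx⟩),
            mul_inv_cancel_right] at h1
        obtain ⟨n, hn⟩ := IsPGroup.iff_card.mp hP.2.1
        obtain ⟨i, -, hi⟩ := (Nat.dvd_prime_pow hp).mp (hn ▸ orderOf_dvd_natCard P hxP)
        obtain ⟨j, -, hj⟩ := (Nat.dvd_prime_pow hp).mp (hn ▸ orderOf_dvd_natCard P hy)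
        rw [hi, hj]
        refine pow_dvd_pow p ?_
        by_contra hij
        have hlt : p ^ j < p ^ i := Nat.pow_lt_pow_right hp.one_lt (Nat.lt_of_not_le hij)
        have := hmax hxP (by rw [hi, hj]; exact hlt.le)
        rw [hi, hj] at this
        omega
    · exact ⟨1, one_mem U, fun h => absurd h hp⟩
  choose y hy hyspec using hchoice
  set U₀ := Subgroup.closure {z : G | ∃ p : ℕ, p.Prime ∧ p ∣ Nat.card U ∧ y p = z} with hU₀
  have hle : U₀ ≤ U := (closure_le U).mpr fun _ ⟨p, _, _, he⟩ => he ▸ hy p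
  refine ⟨U₀, hle, Nat.dvd_antisymm (Monoid.exponent_dvd_of_monoidHom (inclusion hle)
    (inclusion_injective hle)) (Monoid.exponent_dvd.mpr fun e => ?_), fun u hu hhat => ?_⟩
  · rw [← Subgroup.orderOf_coe]
    refine (Nat.dvd_iff_prime_pow_dvd_dvd _ _).mpr fun q k hq hqk => ?_
    rcases Nat.eq_zero_or_pos k with rfl | hk
    · simp
    haveI : Fact q.Prime := ⟨hq⟩
    have hxo : orderOf ((e : G) ^ (orderOf (e : G) / q ^ k)) = q ^ k :=
      orderOf_pow_orderOf_div (orderOf_pos (e : G)).ne' hqk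
    have hd : q ∣ Nat.card U :=
      ((dvd_pow_self q (by omega : k ≠ 0)).trans hqk).trans (orderOf_dvd_natCard U e.2)
    have h1 := ((hyspec q hq).2.1 _ (pow_mem e.2 (orderOf (e : G) / q ^ k))
      (IsPGroup.of_card (n := k) (by rw [Nat.card_zpowers, hxo])))
    rw [hxo] at h1
    have hyU₀ : y q ∈ U₀ := subset_closure ⟨q, hq, hd, rfl⟩
    rw [← Subgroup.orderOf_mk (y q) hyU₀] at h1
    exact h1.trans (Monoid.order_dvd_exponent _)
  · by_contra hu1
    obtain ⟨-, z, hz, hz1, huz⟩ := hhat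
    obtain ⟨p, hp, hpd⟩ := Nat.exists_prime_and_dvd (mt orderOf_eq_one_iff.mp hu1)
    haveI : Fact p.Prime := ⟨hp⟩
    set b := u ^ (orderOf u / p) with hb
    have hbo : orderOf b = p := orderOf_pow_orderOf_div (orderOf_pos u).ne' hpd
    have hbfix : z ∈ Cfsg.sigmaCore M ⊓ centralizer ({b} : Set G) := mem_inf.mpr
      ⟨hz, mem_centralizer_singleton_iff.mpr ((show Commute u z from huz).pow_left _).symm.eq⟩
    have hp2 : p ∈ Cfsg.tau2 M := decomp_tau2_of_fixed hG hM h (hle hu) (fun e => hz1 (by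
      rw [← mem_bot, ← e]
      exact mem_inf.mpr ⟨hz, mem_centralizer_singleton_iff.mpr (show Commute u z from huz).symm.eq⟩)) hp hpd
    obtain ⟨hyp, -, hfree⟩ := hyspec p hp
    -- powers by the `p'`-part of `|U|` land in `⟨y p⟩`
    obtain ⟨n, N, hN, hcard⟩ := Nat.exists_eq_pow_mul_and_not_dvd (Nat.card_pos (α := U)).ne' p hp.ne_one
    have hpow : ∀ w ∈ U₀, w ^ N ∈ zpowers (y p) := by
      intro w hw
      induction hw using closure_induction with
      | mem w hw =>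
        obtain ⟨q, hq, hqd, rfl⟩ := hw
        rcases eq_or_ne q p with rfl | hqp
        · exact pow_mem (mem_zpowers _) N
        · haveI : Fact q.Prime := ⟨hq⟩
          obtain ⟨j, hj⟩ := IsPGroup.iff_card.mp (hyspec q hq).1
          rw [Nat.card_zpowers] at hj
          have h2 : orderOf (y q) ∣ p ^ n * N := hcard ▸ orderOf_dvd_natCard U (hy q)
          rw [orderOf_dvd_iff_pow_eq_one.mp ((Nat.Coprime.dvd_mul_left (hj ▸
            Nat.Coprime.pow j n ((Nat.coprime_primes hq hp).mpr hqp))).mp h2)]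
          exact one_mem _
      | one => rw [one_pow]; exact one_mem _
      | mul a b ha hb iha ihb =>
        rw [(show Commute a b from congrArg Subtype.val
          (hU.is_comm.comm ⟨a, hle ha⟩ ⟨b, hle hb⟩)).mul_pow]
        exact mul_mem iha ihb
      | inv a _ ih => rw [inv_pow]; exact inv_mem ih
    have hbY : b ∈ zpowers (y p) := by
      obtain ⟨m, hm⟩ := exists_pow_eq_self_of_coprime (x := b) (n := N)
        (by rw [hbo]; exact (hp.coprime_iff_not_dvd.mpr hN).symm)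
      rw [← hm]
      exact pow_mem (hpow b (pow_mem hu _)) m
    -- the line of `b` is the socle of `⟨y p⟩`
    have hy1 : y p ≠ 1 := fun e => by
      rw [e, zpowers_one_eq_bot, mem_bot] at hbY
      exact hp.ne_one (by rw [← hbo, hbY, orderOf_one])
    obtain ⟨j, hj⟩ := IsPGroup.iff_card.mp hyp
    rw [Nat.card_zpowers] at hj
    have hpy : p ∣ orderOf (y p) := by
      rcases Nat.eq_zero_or_pos j with rfl | hj'
      · exact absurd (orderOf_eq_one_iff.mp (by rw [hj, pow_zero])) hy1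
      · exact hj ▸ dvd_pow_self p (by omega)
    have hsoc : Nat.card (zpowers (y p ^ (orderOf (y p) / p))) = p := by
      rw [Nat.card_zpowers, orderOf_pow_orderOf_div (orderOf_pos _).ne' hpy]
    have heq : zpowers b = zpowers (y p ^ (orderOf (y p) / p)) := eq_of_isCyclic_card
      (T := zpowers (y p)) inferInstance (zpowers_le.mpr hbY)
      (zpowers_le.mpr (pow_mem (mem_zpowers _) _)) (by rw [Nat.card_zpowers, hbo]) hsoc
    refine hz1 (mem_bot.mp (hfree hp2 ▸ ?_))
    rwa [← centralizer_zpowers_eq, ← heq, centralizer_zpowers_eq]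

end CfsgLib.BG
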