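import Cfsg.Agent.Lib.BG.TypeBasic
import Cfsg.Agent.Lib.BG.KappaExponent
import Cfsg.Agent.Lib.BG.FrobeniusTypeMain

/-!
# Groups of Frobenius type inside `G`
-/

set_option autoImplicit false
set_option linter.style.haveILetI false
set_option linter.unusedSectionVars false

namespace CfsgLib.BG

open Subgroup CfsgLib.PLocal CfsgLib.OddLocal
open scoped commutatorElement

universe u
variable {G : Type u} [Group G] [Finite G]

/-- The definition of Frobenius type read inside `G`. -/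
theorem isOfTypeF_of {X H V : Subgroup G} (hsol : Group.IsSolvable X) (hodd : Odd (Nat.card X))
    (hH : Cfsg.fittingHallOf X = H) (hH1 : H ≠ ⊥) (hc : Cfsg.IsComplIn H V X) (hV1 : V ≠ ⊥)
    (hA : ∃ A : Subgroup G, A ≤ V ∧ V ≤ normalizer (A : Set G) ∧ IsMulCommutative A ∧
      ∀ x ∈ H, x ≠ 1 → V ⊓ centralizer ({x} : Set G) ≤ A)
    (hV0 : ∃ V₀ : Subgroup G, V₀ ≤ V ∧ Monoid.exponent V₀ = Monoid.exponent V ∧
      ∀ u ∈ V₀, u ≠ 1 → H ⊓ centralizer ({u} : Set G) = ⊥) :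
    Cfsg.IsOfTypeF ↥X := by
  have hsub : H.subgroupOf X = Cfsg.fittingHall ↥X := hH ▸ subgroupOf_fittingHallOf X
  have hcomp : IsComplement' (H.subgroupOf X) (V.subgroupOf X) := by
    refine isComplement'_of_disjoint_and_mul_eq_univ ?_ (Set.eq_univ_of_forall fun x => ?_)
    · rw [disjoint_iff, eq_bot_iff]
      intro x hx
      have h1 : (x : G) ∈ H ⊓ V := mem_inf.mpr ⟨(mem_inf.mp hx).1, (mem_inf.mp hx).2⟩
      rw [hc.2.2.1, mem_bot] at h1
      exact mem_bot.mpr (Subtype.ext h1)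
    · obtain ⟨a, ha, b, hb, hab⟩ := hc.2.2.2 x x.2
      exact ⟨⟨a, hc.1 ha⟩, ha, ⟨b, hc.2.1 hb⟩, hb, Subtype.ext hab.symm⟩
  refine ⟨hsol, hodd, ?_, ?_, V.subgroupOf X, ?_, hsub ▸ hcomp, ?_, ?_⟩
  · rw [← hsub, Ne, subgroupOf_eq_bot, disjoint_iff, inf_eq_left.mpr hc.1]
    exact hH1
  · intro htop
    rw [← hsub, subgroupOf_eq_top] at htop
    exact hV1 (le_bot_iff.mp (hc.2.2.1 ▸ le_inf (hc.2.1.trans htop) le_rfl))
  · rw [Ne, subgroupOf_eq_bot, disjoint_iff, inf_eq_left.mpr hc.2.1]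
    exact hV1
  · obtain ⟨A, hAV, hVA, hAc, hfix⟩ := hA
    refine ⟨A.subgroupOf X, fun x hx => hAV hx, fun x hx => ?_, ?_, fun x hx hx1 y hy => ?_⟩
    · rw [mem_normalizer_iff]
      intro y
      simp only [mem_subgroupOf]
      exact mem_normalizer_iff.mp (hVA hx) y
    · exact ⟨⟨fun a b => Subtype.ext (Subtype.ext
        (by simpa using congrArg Subtype.val (hAc.is_comm.comm ⟨_, a.2⟩ ⟨_, b.2⟩)))⟩⟩
    · rw [← hsub] at hx
      obtain ⟨hyV, hyx⟩ := mem_inf.mp hy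
      exact hfix x hx (fun e => hx1 (Subtype.ext e)) (mem_inf.mpr ⟨hyV,
        mem_centralizer_singleton_iff.mpr (congrArg Subtype.val (mem_centralizer_singleton_iff.mp hyx))⟩)
  · obtain ⟨V₀, hle, hexp, hfpf⟩ := hV0
    refine ⟨V₀.subgroupOf X, fun x hx => hle hx, ?_, fun u hu hu1 x hx hux => ?_⟩
    · rw [Monoid.exponent_eq_of_mulEquiv (subgroupOfEquivOfLe (hle.trans hc.2.1)),
        Monoid.exponent_eq_of_mulEquiv (subgroupOfEquivOfLe hc.2.1), hexp]
    · rw [← hsub] at hx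
      have h1 : (x : G) ∈ H ⊓ centralizer ({(u : G)} : Set G) :=
        mem_inf.mpr ⟨hx, mem_centralizer_singleton_iff.mpr (congrArg Subtype.val hux).symm⟩
      rw [hfpf u hu (fun e => hu1 (Subtype.ext e)), mem_bot] at h1
      exact Subtype.ext h1

variable {M K U : Subgroup G} (hG : Cfsg.IsMinSimpleOddOrder G) (hM : IsCoatom M)
include hG hM

theorem odd_card_le (X : Subgroup G) : Odd (Nat.card X) := hG.1.of_dvd_nat (card_subgroup_dvd_card X)

/-- `(M')_F = M_σ` when `K ≠ 1` and `M_σ` is nilpotent. -/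
theorem fittingHallOf_derived (h : Cfsg.IsSigmaDecomposition M K U) (hK : K ≠ ⊥)
    (heq : Cfsg.fittingHallOf M = Cfsg.sigmaCore M) :
    Cfsg.fittingHallOf ⁅M, M⁆ = Cfsg.fittingHallOf M := by
  have hder := derived_eq_decomp hG hM h hK
  have hDM : ⁅M, M⁆ ≤ M := (derived_lt hG hM).le
  have hDn : M ≤ normalizer ((⁅M, M⁆ : Subgroup G) : Set G) := hder ▸ decomp_normal hG hM h
  have hSD : Cfsg.sigmaCore M ≤ ⁅M, M⁆ := sigmaCore_le_derived hG hM
  refine le_antisymm ?_ ?_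
  · refine le_fittingHallOf M _ ((fittingHallOf_le _).trans hDM) ?_ (fittingHallOf_isNilpotent _) ?_
    · refine fun m hm => conjMap_eq_self_iff.mp ?_
      have hm' : conjMap m ⁅M, M⁆ = ⁅M, M⁆ := conjMap_eq_self_iff.mpr (hDn hm)
      refine eq_of_le_of_card_ge ?_ (by rw [card_conjMap])
      have hle : conjMap m (Cfsg.fittingHallOf ⁅M, M⁆) ≤ ⁅M, M⁆ :=
        (conjMap_mono (fittingHallOf_le _)).trans hm'.le
      refine le_fittingHallOf _ _ hle ?_ ?_ ?_
      · have h1 := conjMap_mono (g := m) (le_normalizer_fittingHallOf ⁅M, M⁆)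
        rw [conjMap_normalizer, hm'] at h1
        exact h1
      · haveI := fittingHallOf_isNilpotent ⁅M, M⁆
        exact Group.nilpotent_of_mulEquiv
          ((Cfsg.fittingHallOf ⁅M, M⁆).equivMapOfInjective (MulAut.conj m).toMonoidHom (MulAut.conj m).injective)
      · rw [card_conjMap]
        have hrel : (conjMap m (Cfsg.fittingHallOf ⁅M, M⁆)).relIndex (conjMap m ⁅M, M⁆) =
          (Cfsg.fittingHallOf ⁅M, M⁆).relIndex ⁅M, M⁆ := relIndex_map_map_of_injective _ _ (MulAut.conj m).injective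
        rw [hm'] at hrel
        rw [hrel]
        exact fittingHallOf_coprime_relIndex _
    · rw [← relIndex_mul_relIndex _ _ _ (fittingHallOf_le _) hDM]
      refine Nat.Coprime.mul_right (fittingHallOf_coprime_relIndex _) ?_
      refine coprime_of_forall fun t ht h1 h2 => ?_
      obtain ⟨-, hU⟩ := decomp_U_primes hG hM h
      have hcU := coprime_sigmaCore hG hM fun s hs hd => (hU s hs hd).2
      have hSn : U ≤ normalizer (Cfsg.sigmaCore M : Set G) := h.compl.1.trans (le_normalizer_sigmaCore M)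
      have hKD : (Nat.card K).Coprime (Nat.card ↥(⁅M, M⁆)) := by
        rw [hder, sup_comm, card_sup_of_coprime hSn hcU]
        exact Nat.Coprime.mul_right (coprime_sigmaCore hG hM fun s hs hd => (h.hall.2.1 s hs hd).2.2.1)
          (coprime_of_forall fun s hs h1 h2 => (hU s hs h2).1 (h.hall.2.1 s hs h1))
      have hidx : (⁅M, M⁆).relIndex M = Nat.card K := by
        refine Nat.eq_of_mul_eq_mul_left (Nat.card_pos (α := ↥(⁅M, M⁆))) ?_
        rw [CfsgLib.Coprime.card_mul_relIndex hDM]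
        conv_lhs => rw [← decomp_sup_eq hG hM h]
        rw [← hder, card_sup_of_coprime (h.hall.1.trans hDn) hKD]
      exact ht.ne_one (Nat.eq_one_of_dvd_coprimes hKD (hidx ▸ h2) (h1.trans (card_dvd_of_le (fittingHallOf_le _))))
  · rw [heq]
    refine le_fittingHallOf _ _ hSD (hDM.trans (le_normalizer_sigmaCore M))
      (heq ▸ fittingHallOf_isNilpotent M) ?_
    have h1 := fittingHallOf_coprime_relIndex M
    rw [heq, ← relIndex_mul_relIndex _ _ _ hSD hDM] at h1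
    exact h1.coprime_dvd_right (dvd_mul_right _ _)

/-- `M'` has Frobenius type when `U ≠ 1`, `K ≠ 1`. -/
theorem derived_typeF (h : Cfsg.IsSigmaDecomposition M K U) (hK : K ≠ ⊥) (hU1 : U ≠ ⊥)
    (heq : Cfsg.fittingHallOf M = Cfsg.sigmaCore M)
    (hc : Cfsg.IsComplIn (Cfsg.fittingHallOf M) U ⁅M, M⁆) : Cfsg.IsOfTypeF ↥⁅M, M⁆ := by
  have hUab := decomp_U_abelian hG hM h hK
  obtain ⟨U₀, hle, hexp, hfpf⟩ := exists_exponent_free hG hM h hUab
  refine isOfTypeF_of (isSolvable_of_le_max hG hM (derived_lt hG hM).le) (odd_card_le hG hM _)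
    (fittingHallOf_derived hG hM h hK heq) (heq ▸ sigmaCore_ne_bot hG hM) hc hU1
    ⟨U, le_rfl, le_normalizer, hUab, fun _ _ _ => inf_le_left⟩ ⟨U₀, hle, hexp, fun u hu hu1 => ?_⟩
  rw [heq, eq_bot_iff]
  intro y hy
  rw [mem_bot]
  by_contra hy1
  exact hu1 (hfpf u hu ⟨h.compl.1 (hle hu), y, (mem_inf.mp hy).1, hy1,
    (mem_centralizer_singleton_iff.mp (mem_inf.mp hy).2).symm⟩)

/-- `M` has Frobenius type when `K = 1`. -/
theorem typeF_of_bot (h : Cfsg.IsSigmaDecomposition M K U) (hK : K = ⊥) (hU1 : U ≠ ⊥)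
    (heq : Cfsg.fittingHallOf M = Cfsg.sigmaCore M) : Cfsg.IsOfTypeF ↥M := by
  obtain ⟨E, hE, hUE, -, -, -⟩ := exists_compl_decomp hG hM h
  rw [hK, sup_bot_eq] at hUE
  subst hUE
  obtain ⟨hA, hE0⟩ := frobenius_type hG hM hE fun e he he1 hτ => by
    by_contra hne
    obtain ⟨t, ht, htd⟩ := Nat.exists_prime_and_dvd (mt orderOf_eq_one_iff.mp he1)
    haveI : Fact t.Prime := ⟨ht⟩
    have hκ : t ∈ Cfsg.kappa M := by
      refine mem_kappa_of_fixed hG hM (hτ t ht htd) (X := zpowers (e ^ (orderOf e / t)))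
        (zpowers_le.mpr (pow_mem (hE.1 he) _)) ?_ fun e' => hne ?_
      · rw [Nat.card_zpowers, orderOf_pow_orderOf_div (orderOf_pos e).ne' htd]
      · rw [centralizer_zpowers_eq] at e'
        exact le_bot_iff.mp (e' ▸ inf_centralizer_pow_le _ e _)
    exact h.hall.2.2 t ht hκ (by rw [hK, relIndex_bot_left]; exact hκ.2.1)
  have hc : Cfsg.IsComplIn (Cfsg.sigmaCore M) U M := by
    refine ⟨sigmaCore_le M, hE.1, inf_comm U (Cfsg.sigmaCore M) ▸ hE.2.2.1, fun m hm => ?_⟩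
    obtain ⟨a, ha, b, hb, rfl⟩ := hE.2.2.2 m hm
    exact ⟨a * b * a⁻¹, (mem_normalizer_iff.mp (le_normalizer_sigmaCore M (hE.1 ha)) b).mp hb, a, ha,
      by group⟩
  exact isOfTypeF_of (isSolvable_of_le_max hG hM le_rfl) (odd_card_le hG hM _) heq
    (sigmaCore_ne_bot hG hM) hc hU1 hA hE0

end CfsgLib.BG
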