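import Cfsg.Agent.Lib.BG.TypePConstruct
import Cfsg.Agent.Lib.BG.TypeFrobenius

/-!
# Which type a maximal subgroup has
-/

set_option autoImplicit false
set_option linter.style.haveILetI false
set_option linter.unusedSectionVars false

namespace CfsgLib.BG

open Subgroup CfsgLib.PLocal CfsgLib.OddLocal
open scoped commutatorElement

universe u
variable {G : Type u} [Group G] [Finite G] {M K U : Subgroup G}
variable (hG : Cfsg.IsMinSimpleOddOrder G) (hM : IsCoatom M)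
include hG hM

/-- The index of `M'` in a group of type P. -/
theorem typeP_card {W₁ V W₂ : Subgroup G} (hP : Cfsg.IsTypePWith M W₁ V W₂) :
    Nat.card M = Nat.card ↥(⁅M, M⁆) * Nat.card W₁ ∧
      (Nat.card W₁).Coprime (Nat.card ↥(⁅M, M⁆)) := by
  have hc := card_eq_mul_of_isComplIn hP.W₁_compl
  refine ⟨hc, ?_⟩
  have h := CfsgLib.Coprime.card_mul_relIndex hP.W₁_compl.2.1
  rw [hc, mul_comm (Nat.card ↥(⁅M, M⁆))] at h
  exact Nat.eq_of_mul_eq_mul_left Nat.card_pos h ▸ hP.W₁_hall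

/-- A group of type P has `κ(M)` nonempty. -/
theorem K_ne_bot_of_typeP (h : Cfsg.IsSigmaDecomposition M K U) {W₁ V W₂ : Subgroup G}
    (hP : Cfsg.IsTypePWith M W₁ V W₂) : K ≠ ⊥ := by
  intro hK
  obtain ⟨hc, hcop⟩ := typeP_card hG hM hP
  obtain ⟨p, hp, hpd⟩ := Nat.exists_prime_and_dvd (fun e => hP.W₁_ne (Subgroup.card_eq_one.mp e))
  haveI : Fact p.Prime := ⟨hp⟩
  have hpD : ¬ p ∣ Nat.card ↥(⁅M, M⁆) := fun hd => hp.ne_one (Nat.eq_one_of_dvd_coprimes hcop hpd hd)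
  have hpM : p ∣ Nat.card M := hc ▸ hpd.mul_left _
  have hpσ : p ∉ Cfsg.sigma M := fun hσ => by
    have h1 := CfsgLib.Coprime.card_mul_relIndex (sigmaCore_le M)
    rw [← h1] at hpM
    exact (hp.dvd_mul.mp hpM).elim (fun h' => hpD (h'.trans (card_dvd_of_le (sigmaCore_le_derived hG hM))))
      ((sigmaCore_hall hG hM).2.2 p hp hσ)
  have hW₁M := hP.W₁_compl.2.1
  obtain ⟨x, hxo⟩ := exists_prime_orderOf_dvd_card' (G := W₁) p hpd
  have hxo' : orderOf (x : G) = p := by rw [Subgroup.orderOf_coe, hxo]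
  have hx1 : (x : G) ≠ 1 := fun e => hp.ne_one (by rw [← hxo', e, orderOf_one])
  obtain ⟨c, hc', hc1⟩ := (bot_or_exists_ne_one W₂).resolve_left hP.selfNormalizing.2.1
  have hcσ : c ∈ Cfsg.sigmaCore M := CfsgLib.BG14.fittingHallOf_le_sigmaCore hG hM
    (mem_inf.mp (hP.W₂_le hc')).1
  have hrank : Cfsg.PRankLE p 1 M := by
    by_contra hno
    obtain ⟨B, hBM, hB⟩ := exists_sq_le_of_not_prankLE le_rfl hno
    obtain ⟨R, hR, -⟩ := exists_sylowIn_le (IsPGroup.of_bot (p := p) (G := G)) (bot_le (a := W₁))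
    have hRM : SylowIn p R M := by
      refine ⟨hR.1.trans hW₁M, hR.2.1, fun hd => ?_⟩
      rw [← relIndex_mul_relIndex _ _ _ hR.1 hW₁M] at hd
      exact (hp.dvd_mul.mp hd).elim hR.2.2 fun h' =>
        hp.ne_one (Nat.eq_one_of_dvd_coprimes hP.W₁_hall hpd h')
    obtain ⟨m, hm, hmR⟩ := hRM.exists_conj_le hB.isPGroup hBM
    haveI := hP.W₁_cyclic
    exact (hB.conjMap m).not_isCyclic (Subgroup.isCyclic_of_le (hmR.trans hR.1))
  have hκ : p ∈ Cfsg.kappa M := by
    refine mem_kappa_of_fixed hG hM (Or.inl ⟨hp, hpσ, hpM, hpD, hrank⟩)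
      (X := zpowers (x : G)) (zpowers_le.mpr (hW₁M x.2)) ?_ fun e => hc1 ?_
    · rw [Nat.card_zpowers, hxo']
    · rw [← mem_bot, ← e, centralizer_zpowers_eq]
      have hcx : c ∈ ⁅M, M⁆ ⊓ centralizer ({(x : G)} : Set G) := by
        rw [hP.W₂_centralizer x x.2 hx1]; exact hc'
      exact mem_inf.mpr ⟨hcσ, (mem_inf.mp hcx).2⟩
  exact h.hall.2.2 p hp hκ (by rw [hK, relIndex_bot_left]; exact hpM)

/-- A group of Type I has `κ(M)` empty. -/
theorem K_eq_bot_of_typeI (h : Cfsg.IsSigmaDecomposition M K U) (hI : Cfsg.IsOfTypeI M) : K = ⊥ := by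
  by_contra hK
  obtain ⟨-, -, -, -, V, -, hVc, -, V₀, hV₀, hexp, hfpf⟩ := hI.1
  obtain ⟨k, hk, hkp⟩ := CfsgLib.BG14.exists_prime_element hK
  set r := orderOf k with hr
  haveI : Fact r.Prime := ⟨hkp⟩
  have hκ := h.hall.2.1 r hkp (orderOf_dvd_natCard K hk)
  have hFS := CfsgLib.BG14.fittingHallOf_le_sigmaCore hG hM
  have hrV : r ∣ Nat.card V := by
    have hd := hκ.2.1
    rw [← hVc.card_mul] at hd
    refine (hkp.dvd_mul.mp hd).resolve_left fun h' => hκ.2.2.1 (mem_sigma_of_dvd_sigmaCore hkp ?_)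
    refine h'.trans ?_
    rw [← Subgroup.card_map_of_injective M.subtype_injective]
    exact card_dvd_of_le hFS
  obtain ⟨v, hv⟩ := exists_prime_orderOf_dvd_card' (G := V) r hrV
  have hre : r ∣ Monoid.exponent V₀ := by rw [hexp, ← hv]; exact Monoid.order_dvd_exponent v
  obtain ⟨u, huo⟩ := exists_prime_orderOf_dvd_card' (G := V₀) r
    (hre.trans Group.exponent_dvd_nat_card)
  have huo' : orderOf ((u : M) : G) = r := by rw [Subgroup.orderOf_coe, Subgroup.orderOf_coe, huo]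
  obtain ⟨R, hR, -⟩ := exists_sylowIn_le (IsPGroup.of_bot (p := r) (G := G)) (bot_le (a := K))
  have hRM : SylowIn r R M := by
    refine ⟨hR.1.trans h.hall.1, hR.2.1, fun hd => ?_⟩
    rw [← relIndex_mul_relIndex _ _ _ hR.1 h.hall.1] at hd
    exact (hkp.dvd_mul.mp hd).elim hR.2.2 (h.hall.2.2 r hkp hκ)
  obtain ⟨m, hm, hmR⟩ := hRM.exists_conj_le
    (isPGroup_of_card_prime (p := r) (by rw [Nat.card_zpowers, huo']))
    (zpowers_le.mpr (u : M).2)
  have hmu : m * ((u : M) : G) * m⁻¹ ∈ K := hR.1 (hmR (conj_mem_conjMap (mem_zpowers _)))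
  obtain ⟨c, hc, hc1⟩ := (bot_or_exists_ne_one _).resolve_left
    (Cfsg.Agent.S1354.result hG M hM K h.cyclic h.hall).1
  obtain ⟨-, hsF, -⟩ := star_cyclic hG hM h hK
  have hy : m⁻¹ * c * m ∈ Cfsg.fittingHallOf M := by
    have := (mem_normalizer_iff.mp (le_normalizer_fittingHallOf M (inv_mem hm)) c).mp (hsF hc)
    rwa [inv_inv] at this
  obtain ⟨y, hyF, hye⟩ := hy
  have hcomm := mem_centralizer_iff.mp (mem_inf.mp hc).2 _ hmu
  have hu1 : (u : M) ≠ 1 := fun e => hkp.ne_one (by rw [← huo', e, Subgroup.coe_one, orderOf_one])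
  have := hfpf u u.2 hu1 y hyF (Subtype.ext (by
    show ((u : M) : G) * (y : G) = (y : G) * ((u : M) : G)
    rw [show (y : G) = m⁻¹ * c * m from hye]
    calc ((u : M) : G) * (m⁻¹ * c * m) = m⁻¹ * (m * ((u : M) : G) * m⁻¹ * c) * m := by group
      _ = m⁻¹ * (c * (m * ((u : M) : G) * m⁻¹)) * m := by rw [hcomm]
      _ = m⁻¹ * c * m * ((u : M) : G) := by group))
  rw [this, map_one] at hye
  refine hc1 ?_
  calc c = m * (m⁻¹ * c * m) * m⁻¹ := by group
    _ = 1 := by rw [← show (1 : G) = m⁻¹ * c * m from hye]; group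

/-- The type-P complement `V` is trivial exactly when `U = 1` and `M_F = M_σ`. -/
theorem typeP_V_bot_iff (h : Cfsg.IsSigmaDecomposition M K U) {W₁ V W₂ : Subgroup G}
    (hP : Cfsg.IsTypePWith M W₁ V W₂) :
    V = ⊥ ↔ U = ⊥ ∧ Cfsg.fittingHallOf M = Cfsg.sigmaCore M := by
  have hK := K_ne_bot_of_typeP hG hM h hP
  have hder := derived_eq_decomp hG hM h hK
  have hsup := isComplIn_sup hP.U_compl
  have hFS := CfsgLib.BG14.fittingHallOf_le_sigmaCore hG hM
  constructor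
  · intro e
    rw [e, sup_bot_eq, hder] at hsup
    have hS : Cfsg.fittingHallOf M = Cfsg.sigmaCore M := le_antisymm hFS (le_sup_right.trans hsup.ge)
    refine ⟨le_bot_iff.mp ?_, hS⟩
    rw [← inf_sigmaCore_eq_bot hG hM (X := U) fun t ht hd => ((decomp_U_primes hG hM h).2 t ht hd).2]
    exact le_inf le_rfl (le_sup_left.trans (hsup.ge.trans hS.le))
  · rintro ⟨hU, hS⟩
    rw [eq_bot_iff, ← hP.U_compl.2.2.1]
    refine le_inf (hP.U_compl.2.1.trans ?_) le_rfl
    rw [hder, hU, bot_sup_eq, hS]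

/-- For `U ≠ 1` the type-P complement is conjugate to `U` in `M`. -/
theorem typeP_V_conj (h : Cfsg.IsSigmaDecomposition M K U) {W₁ V W₂ : Subgroup G}
    (hP : Cfsg.IsTypePWith M W₁ V W₂) (hU1 : U ≠ ⊥) :
    ∃ m ∈ M, conjMap m V = U := by
  have hK := K_ne_bot_of_typeP hG hM h hP
  have hder := derived_eq_decomp hG hM h hK
  have heq : Cfsg.fittingHallOf M = Cfsg.sigmaCore M := by
    by_contra hne
    exact hU1 (Cfsg.Agent.S1437.result hG M hM K U h hne).1
  obtain ⟨E, hE, hUK, hEU, -, -⟩ := exists_compl_decomp hG hM h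
  have hVM : V ≤ M := hP.U_compl.2.1.trans (derived_lt hG hM).le
  have hdisj : V ⊓ Cfsg.sigmaCore M = ⊥ := by
    rw [inf_comm, ← heq]; exact hP.U_compl.2.2.1
  obtain ⟨-, hU⟩ := decomp_U_primes hG hM h
  have hcU := coprime_sigmaCore hG hM fun t ht hd => (hU t ht hd).2
  have hcardD : Nat.card ↥(⁅M, M⁆) = Nat.card (Cfsg.sigmaCore M) * Nat.card U := by
    rw [hder, sup_comm, card_sup_of_coprime (h.compl.1.trans (le_normalizer_sigmaCore M)) hcU]
  have hcV : Nat.card V = Nat.card U := by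
    have h1 := card_eq_mul_of_isComplIn hP.U_compl
    rw [hcardD, heq] at h1
    exact (Nat.eq_of_mul_eq_mul_left Nat.card_pos h1).symm
  obtain ⟨c, hc, hcE⟩ := exists_conj_le_compl hG hM hE hVM fun t ht hd => (hU t ht (hcV ▸ hd)).2
  refine ⟨c, sigmaCore_le M hc, eq_of_le_of_card_ge (fun x hx => ?_) (by rw [card_conjMap, hcV])⟩
  have hxE : x ∈ E := hcE hx
  have hxD : x ∈ ⁅M, M⁆ := by
    have hn : M ≤ normalizer ((⁅M, M⁆ : Subgroup G) : Set G) := hder ▸ decomp_normal hG hM h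
    have h' := conjMap_mono (g := c) hP.U_compl.2.1 hx
    rwa [conjMap_eq_self_iff.mpr (hn (sigmaCore_le M hc))] at h'
  rw [← hUK] at hxE
  obtain ⟨u, hu, k, hk, rfl⟩ := (CfsgLib.Coprime.mem_sup_of_le_normalizer h.normal).mp hxE
  have hcK : (Nat.card ↥(⁅M, M⁆)).Coprime (Nat.card K) := by
    rw [hcardD]
    exact Nat.Coprime.mul_left
      (coprime_sigmaCore hG hM fun t ht hd => (h.hall.2.1 t ht hd).2.2.1).symm
      (coprime_of_forall fun t ht h1 h2 => (hU t ht h1).1 (h.hall.2.1 t ht h2))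
  have hk' : k ∈ ⁅M, M⁆ ⊓ K :=
    mem_inf.mpr ⟨(mul_mem_cancel_left (decomp_U_le_derived hG hM h hK hu)).mp hxD, hk⟩
  rw [CfsgLib.Coprime.inf_eq_bot_of_coprime hcK, mem_bot] at hk'
  rw [hk', mul_one]
  exact hu

/-- A nontrivial nilpotent Hall subgroup inside `M_σ` has normalizer in `M`. -/
theorem normalizer_le_of_hall_core {V : Subgroup G} (hV : V ≤ Cfsg.sigmaCore M) (hV1 : V ≠ ⊥)
    (hn : Group.IsNilpotent V) (hh : (Nat.card V).Coprime (V.relIndex (Cfsg.sigmaCore M))) :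
    normalizer (V : Set G) ≤ M := by
  obtain ⟨r, hr, hrd⟩ := Nat.exists_prime_and_dvd (fun e => hV1 (Subgroup.card_eq_one.mp e))
  haveI : Fact r.Prime := ⟨hr⟩
  have hrσ : r ∈ Cfsg.sigma M := mem_sigma_of_dvd_sigmaCore hr (hrd.trans (card_dvd_of_le hV))
  obtain ⟨R, hR, -⟩ := exists_sylowIn_le (IsPGroup.of_bot (p := r) (G := G)) (bot_le (a := V))
  have hRM : SylowIn r R M := by
    refine ⟨hR.1.trans (hV.trans (sigmaCore_le M)), hR.2.1, fun hd => ?_⟩
    rw [← relIndex_mul_relIndex _ _ _ hR.1 (hV.trans (sigmaCore_le M)),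
      ← relIndex_mul_relIndex _ _ _ hV (sigmaCore_le M)] at hd
    rcases hr.dvd_mul.mp hd with h' | h'
    · exact hR.2.2 h'
    rcases hr.dvd_mul.mp h' with h'' | h''
    · exact hr.ne_one (Nat.eq_one_of_dvd_coprimes hh hrd h'')
    · exact (sigmaCore_hall hG hM).2.2 r hr hrσ h''
  refine le_trans (fun g hg => conjMap_eq_self_iff.mp ?_) (normalizer_sylow_le hrσ hRM)
  have hVR : V ≤ normalizer (R : Set G) := le_normalizer_of_hall_nilpotent hG hn (π := {r})
    ⟨hR.1, fun t ht hd => prime_dvd_pgroup_card hR.2.1 ht hd, fun t ht htr => by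
      rw [Set.mem_singleton_iff] at htr; subst htr; exact hR.2.2⟩
  refine eq_of_le_of_card_ge (fun x hx => ?_) (by rw [card_conjMap])
  have hxV : x ∈ V := by
    have h' := conjMap_mono (g := g) hR.1 hx
    rwa [conjMap_eq_self_iff.mpr hg] at h'
  refine CfsgLib.Solvable.mem_of_coprime_relIndex
    ((normal_subgroupOf_iff_le_normalizer hR.1).mpr hVR) hxV (coprime_of_forall fun t ht h1 h2 => ?_)
  obtain rfl : t = r := prime_dvd_pgroup_card (hR.2.1.map (MulAut.conj g).toMonoidHom) ht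
    (h1.trans ((conjMap g R).orderOf_dvd_natCard hx))
  exact hR.2.2 h2

/-- For `U = 1` the type-P complement has its normalizer in `M`. -/
theorem typeP_V_normalizer (h : Cfsg.IsSigmaDecomposition M K U) {W₁ V W₂ : Subgroup G}
    (hP : Cfsg.IsTypePWith M W₁ V W₂) (hU : U = ⊥) (hV1 : V ≠ ⊥) : normalizer (V : Set G) ≤ M := by
  have hder := derived_eq_decomp hG hM h (K_ne_bot_of_typeP hG hM h hP)
  rw [hU, bot_sup_eq] at hder
  have hc := hP.U_compl
  rw [hder] at hc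
  have hcard := card_eq_mul_of_isComplIn hc
  have hFS := hc.1
  refine normalizer_le_of_hall_core hG hM hc.2.1 hV1 hP.U_nilpotent ?_
  have h1 := CfsgLib.Coprime.card_mul_relIndex hc.2.1
  rw [hcard, mul_comm (Nat.card (Cfsg.fittingHallOf M))] at h1
  have h2 := CfsgLib.Coprime.card_mul_relIndex hFS
  rw [hcard] at h2
  rw [Nat.eq_of_mul_eq_mul_left Nat.card_pos h1, ← Nat.eq_of_mul_eq_mul_left Nat.card_pos h2]
  exact ((fittingHallOf_coprime_relIndex M).coprime_dvd_right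
    ⟨_, (relIndex_mul_relIndex _ _ _ hFS (sigmaCore_le M)).symm⟩).symm

/-- A failure of TI for `M_F` gives intersecting conjugates of `F(M)`. -/
theorem exists_inter_of_not_TI (hTI : ¬ Cfsg.IsTISubset (Cfsg.fittingHallOf M : Set G)) :
    ∃ g : G, g ∉ M ∧
      Cfsg.fittingOf M ⊓ (Cfsg.fittingOf M).map (MulAut.conj g).toMonoidHom ≠ ⊥ := by
  simp only [Cfsg.IsTISubset, not_forall] at hTI
  obtain ⟨g, hg, x, hx, hgx, hx1⟩ := hTI
  refine ⟨g, fun hgm => hg (le_normalizer_fittingHallOf M hgm), fun e => ?_⟩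
  have h1 : g * x * g⁻¹ ∈ (⊥ : Subgroup G) :=
    e ▸ mem_inf.mpr ⟨fittingHallOf_le_fittingOf M hgx, ⟨x, fittingHallOf_le_fittingOf M hx, by simp⟩⟩
  exact hx1 (conj_eq_one_iff.mp (mem_bot.mp h1))

end CfsgLib.BG
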