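import Cfsg.Agent.Lib.BG.Kappa
import Cfsg.Agent.Lib.BG.FrobeniusTypeMain
import Cfsg.Agent.Lib.OddLocal.TypeP

/-!
# The factorisation `M = K U M_σ`
-/

set_option autoImplicit false
set_option linter.style.haveILetI false
set_option linter.unusedSectionVars false

namespace CfsgLib.BG

open Subgroup CfsgLib.PLocal CfsgLib.OddLocal
open scoped commutatorElement

universe u
variable {G : Type u} [Group G] [Finite G] {M E K U : Subgroup G}
variable (hG : Cfsg.IsMinSimpleOddOrder G) (hM : IsCoatom M)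
include hG hM

omit hG hM in
/-- Factors of coprime orders of a product are unique. -/
theorem card_sup_of_coprime {A N : Subgroup G} (hA : A ≤ normalizer (N : Set G))
    (h : (Nat.card A).Coprime (Nat.card N)) : Nat.card ↥(N ⊔ A) = Nat.card N * Nat.card A :=
  CfsgLib.Coprime.card_sup_of_inf_eq_bot hA (CfsgLib.Coprime.inf_eq_bot_of_coprime h)

/-- `|U| |K| = |M : M_σ|` and `U` involves neither `σ(M)` nor `κ(M)`. -/
theorem decomp_U_primes (h : Cfsg.IsSigmaDecomposition M K U) :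
    Nat.card U * Nat.card K = (Cfsg.sigmaCore M).relIndex M ∧
      ∀ t : ℕ, t.Prime → t ∣ Nat.card U → t ∉ Cfsg.kappa M ∧ t ∉ Cfsg.sigma M := by
  have hKn : K ≤ normalizer (Cfsg.sigmaCore M : Set G) := h.hall.1.trans (le_normalizer_sigmaCore M)
  have hcop : (Nat.card K).Coprime (Nat.card (Cfsg.sigmaCore M)) :=
    coprime_sigmaCore hG hM fun t ht hd => (h.hall.2.1 t ht hd).2.2.1
  have hM' : Nat.card M = Nat.card U * (Nat.card (Cfsg.sigmaCore M) * Nat.card K) := by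
    rw [card_eq_mul_of_isComplIn h.compl, sup_comm, card_sup_of_coprime hKn hcop]
  have hσ := CfsgLib.Coprime.card_mul_relIndex (sigmaCore_le M)
  have h1 : Nat.card U * Nat.card K = (Cfsg.sigmaCore M).relIndex M := by
    refine Nat.eq_of_mul_eq_mul_left (Nat.card_pos (α := Cfsg.sigmaCore M)) ?_
    rw [hσ, hM']
    ring
  refine ⟨h1, fun t ht hd => ⟨fun hκ => h.hall.2.2 t ht hκ ?_,
    fun hs => (sigmaCore_hall hG hM).2.2 t ht hs (h1 ▸ hd.mul_right _)⟩⟩
  have h2 : Nat.card K * (Nat.card U * Nat.card (Cfsg.sigmaCore M)) = Nat.card K * K.relIndex M := by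
    rw [CfsgLib.Coprime.card_mul_relIndex h.hall.1, hM']
    ring
  exact Nat.eq_of_mul_eq_mul_left Nat.card_pos h2 ▸ hd.mul_right _

/-- The factors `U` and `K` make up a complement of `M_σ`. -/
theorem exists_compl_decomp (h : Cfsg.IsSigmaDecomposition M K U) :
    ∃ E : Subgroup G, Cfsg.IsComplIn E (Cfsg.sigmaCore M) M ∧ U ⊔ K = E ∧
      E ≤ normalizer (U : Set G) ∧ Cfsg.IsPiHallOf {q | q ∉ Cfsg.kappa M} U E ∧
      Cfsg.IsPiHallOf (Cfsg.kappa M) K E := by
  obtain ⟨hcard, hU⟩ := decomp_U_primes hG hM h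
  have hcop : (Nat.card K).Coprime (Nat.card U) := coprime_of_forall fun t ht h1 h2 =>
    (hU t ht h2).1 (h.hall.2.1 t ht h1)
  have hUK : Nat.card ↥(U ⊔ K) = Nat.card U * Nat.card K := card_sup_of_coprime h.normal hcop
  obtain ⟨E, hE, hle⟩ := exists_compl_ge hG hM (sup_le h.compl.1 h.hall.1) fun t ht hd => by
    rcases ht.dvd_mul.mp (hUK ▸ hd) with h' | h'
    · exact (hU t ht h').2
    · exact (h.hall.2.1 t ht h').2.2.1
  have heq : U ⊔ K = E := eq_of_le_of_card_ge hle (by rw [hUK, hcard, card_compl hG hM hE])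
  have hKidx : K.relIndex E = Nat.card U := by
    refine Nat.eq_of_mul_eq_mul_left (Nat.card_pos (α := K)) ?_
    rw [CfsgLib.Coprime.card_mul_relIndex (le_sup_right.trans hle), ← heq, hUK, mul_comm]
  have hUidx : U.relIndex E = Nat.card K := by
    refine Nat.eq_of_mul_eq_mul_left (Nat.card_pos (α := U)) ?_
    rw [CfsgLib.Coprime.card_mul_relIndex (le_sup_left.trans hle), ← heq, hUK]
  refine ⟨E, hE, heq, ?_, ⟨le_sup_left.trans hle, fun t ht hd => (hU t ht hd).1,
    fun t ht htκ hd => htκ (h.hall.2.1 t ht (hUidx ▸ hd))⟩,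
    le_sup_right.trans hle, h.hall.2.1, fun t ht htκ hd => (hU t ht (hKidx ▸ hd)).1 htκ⟩
  rw [← heq]
  exact sup_le le_normalizer h.normal

/-- A factorisation exists for every cyclic Hall `κ(M)`-subgroup. -/
theorem exists_decomposition (hKc : IsCyclic K) (hK : Cfsg.IsPiHallOf (Cfsg.kappa M) K M) :
    ∃ U : Subgroup G, Cfsg.IsSigmaDecomposition M K U := by
  obtain ⟨E, hE, hKE⟩ := exists_compl_ge hG hM hK.1 fun t ht hd => (hK.2.1 t ht hd).2.2.1
  obtain ⟨U, hU, -⟩ := CfsgLib.Coprime.exists_invariant_hall (A := (⊥ : Subgroup G)) (G := E) bot_le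
    (by rw [Subgroup.card_bot]; exact Nat.coprime_one_left _)
    (isSolvable_of_le_max hG hM hE.1) {q | q ∉ Cfsg.kappa M}
  have hKU : K ≤ normalizer (U : Set G) := hKE.trans (hall_kappa'_normal hG hM hE hU)
  have hcop : (Nat.card K).Coprime (Nat.card U) := coprime_of_forall fun t ht h1 h2 =>
    hU.2.1 t ht h2 (hK.2.1 t ht h1)
  have hsup : U ⊔ K = E := by
    refine eq_of_le_of_card_ge (sup_le hU.1 hKE) (Nat.le_of_dvd Nat.card_pos ?_)
    rw [card_sup_of_coprime hKU hcop, ← CfsgLib.Coprime.card_mul_relIndex hU.1]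
    refine mul_dvd_mul_left _ ?_
    refine Nat.Coprime.dvd_of_dvd_mul_right (n := K.relIndex M) ?_ ?_
    · refine coprime_of_forall fun t ht h1 h2 => ?_
      by_cases htκ : t ∈ Cfsg.kappa M
      · exact hK.2.2 t ht htκ h2
      · exact hU.2.2 t ht htκ h1
    · rw [CfsgLib.Coprime.card_mul_relIndex hK.1, ← CfsgLib.Coprime.card_mul_relIndex hE.1,
        ← CfsgLib.Coprime.card_mul_relIndex hU.1]
      exact (dvd_mul_left _ _).mul_right _
  refine ⟨U, hKc, hK, ?_, hKU⟩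
  refine ⟨hU.1.trans hE.1, sup_le hK.1 (sigmaCore_le M), ?_, fun m hm => ?_⟩
  · refine CfsgLib.Coprime.inf_eq_bot_of_coprime (coprime_of_forall fun t ht h1 h2 => ?_)
    rw [sup_comm, card_sup_of_coprime (hK.1.trans (le_normalizer_sigmaCore M))
      (coprime_sigmaCore hG hM fun u hu hd => (hK.2.1 u hu hd).2.2.1)] at h2
    rcases ht.dvd_mul.mp h2 with h' | h'
    · exact not_sigma_of_dvd_compl hG hM hE ht (h1.trans (card_dvd_of_le hU.1))
        (mem_sigma_of_dvd_sigmaCore ht h')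
    · exact hU.2.1 t ht h1 (hK.2.1 t ht h')
  · obtain ⟨e, he, s, hs, rfl⟩ := hE.2.2.2 m hm
    rw [← hsup] at he
    obtain ⟨a, ha, b, hb, rfl⟩ := (CfsgLib.Coprime.mem_sup_of_le_normalizer hKU).mp he
    exact ⟨a, ha, b * s, mul_mem (mem_sup_left hb) (mem_sup_right hs), by group⟩

/-- `U M_σ` is normal in `M`. -/
theorem decomp_normal (h : Cfsg.IsSigmaDecomposition M K U) :
    M ≤ normalizer ((U ⊔ Cfsg.sigmaCore M : Subgroup G) : Set G) := by
  obtain ⟨E, hE, -, hEU, -, -⟩ := exists_compl_decomp hG hM h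
  refine (isComplIn_sup hE).ge.trans (sup_le ?_ ?_)
  · exact CfsgLib.Comp.le_normalizer_sup hEU (hE.1.trans (le_normalizer_sigmaCore M))
  · exact (le_sup_right : Cfsg.sigmaCore M ≤ U ⊔ Cfsg.sigmaCore M).trans le_normalizer

/-- `K` acts on `U` without fixed points. -/
theorem decomp_regular (h : Cfsg.IsSigmaDecomposition M K U) {k : G} (hk : k ∈ K) (hk1 : k ≠ 1) :
    U ⊓ centralizer ({k} : Set G) = ⊥ := by
  obtain ⟨-, hU⟩ := decomp_U_primes hG hM h
  by_contra hne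
  obtain ⟨r, hr, hrd⟩ := Nat.exists_prime_and_dvd (mt orderOf_eq_one_iff.mp hk1)
  obtain ⟨s, hs, hsd⟩ := Nat.exists_prime_and_dvd (fun e => hne (Subgroup.card_eq_one.mp e))
  haveI : Fact r.Prime := ⟨hr⟩
  haveI : Fact s.Prime := ⟨hs⟩
  obtain ⟨y, hyo⟩ := exists_prime_orderOf_dvd_card' (G := ↥(U ⊓ centralizer ({k} : Set G))) s hsd
  obtain ⟨hyU, hyk⟩ := mem_inf.mp y.2
  have hR : Nat.card (zpowers (k ^ (orderOf k / r))) = r := by
    rw [Nat.card_zpowers, orderOf_pow_orderOf_div (orderOf_pos k).ne' hrd]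
  have hY : Nat.card (zpowers (y : G)) = s := by rw [Nat.card_zpowers, Subgroup.orderOf_coe, hyo]
  have hU' := hU s hs (hY ▸ card_dvd_of_le (zpowers_le.mpr hyU))
  refine kappa_regular hG hM (h.hall.2.1 r hr (hrd.trans (orderOf_dvd_natCard K hk))) hU'.1 hU'.2
    (zpowers_le.mpr (pow_mem (h.hall.1 hk) _)) hR (zpowers_le.mpr (h.compl.1 hyU)) hY ?_
  rw [zpowers_le, centralizer_zpowers_eq]
  exact mem_centralizer_singleton_iff.mpr
    ((show Commute (y : G) k from mem_centralizer_singleton_iff.mp hyk).pow_right _).eq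

/-- With `K ≠ 1` the factor `U` is abelian. -/
theorem decomp_U_abelian (h : Cfsg.IsSigmaDecomposition M K U) (hK : K ≠ ⊥) :
    IsMulCommutative U := by
  obtain ⟨r, hr, hrd⟩ := Nat.exists_prime_and_dvd (fun e => hK (Subgroup.card_eq_one.mp e))
  haveI : Fact r.Prime := ⟨hr⟩
  obtain ⟨k, hko⟩ := exists_prime_orderOf_dvd_card' (G := K) r hrd
  have hk1 : (k : G) ≠ 1 := fun e => hr.ne_one (by rw [← hko, ← Subgroup.orderOf_coe, e, orderOf_one])
  refine isMulCommutative_of_nilpotent hG hM h.compl.1 ?_ fun t ht hd =>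
    ((decomp_U_primes hG hM h).2 t ht hd).2
  refine isNilpotent_of_fpf_line (X := zpowers (k : G)) (p := r)
    (by rw [Nat.card_zpowers, Subgroup.orderOf_coe, hko]) ((zpowers_le.mpr k.2).trans h.normal) ?_
  rw [centralizer_zpowers_eq]
  exact decomp_regular hG hM h k.2 hk1

/-- Elements of `U` with fixed points in `M_σ` are `τ₂(M)`-elements. -/
theorem decomp_tau2_of_fixed (h : Cfsg.IsSigmaDecomposition M K U) {u : G} (hu : u ∈ U)
    (hfix : Cfsg.sigmaCore M ⊓ centralizer ({u} : Set G) ≠ ⊥) {t : ℕ} (ht : t.Prime)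
    (htd : t ∣ orderOf u) : t ∈ Cfsg.tau2 M := by
  haveI : Fact t.Prime := ⟨ht⟩
  obtain ⟨E, hE, -, -, hU, -⟩ := exists_compl_decomp hG hM h
  by_contra h2
  have hd : t ∣ Nat.card U := htd.trans (orderOf_dvd_natCard U hu)
  refine hU.2.1 t ht hd (mem_kappa_of_fixed hG hM (tau_cases hG hM hE
    (hd.trans (card_dvd_of_le hU.1)) h2) (X := zpowers (u ^ (orderOf u / t)))
    (zpowers_le.mpr (pow_mem (h.compl.1 hu) _)) ?_ fun e => hfix ?_)
  · rw [Nat.card_zpowers, orderOf_pow_orderOf_div (orderOf_pos u).ne' htd]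
  · rw [centralizer_zpowers_eq] at e
    exact le_bot_iff.mp (e ▸ inf_centralizer_pow_le _ u _)

/-- The elements of `U` with fixed points in `M_σ` generate an abelian group. -/
theorem decomp_fixed_abelian (h : Cfsg.IsSigmaDecomposition M K U) :
    IsMulCommutative (Subgroup.closure ((U : Set G) ∩ Cfsg.sigmaHat M)) := by
  suffices ∃ A : Subgroup G, IsMulCommutative A ∧ (U : Set G) ∩ Cfsg.sigmaHat M ⊆ A by
    obtain ⟨A, hA, hsub⟩ := this
    have hle : Subgroup.closure ((U : Set G) ∩ Cfsg.sigmaHat M) ≤ A := (closure_le A).mpr hsub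
    refine ⟨⟨fun a b => Subtype.ext ?_⟩⟩
    have h1 := congrArg (fun z : A => (z : G)) (hA.is_comm.comm ⟨a, hle a.2⟩ ⟨b, hle b.2⟩)
    simpa using h1
  rcases eq_or_ne K ⊥ with hK | hK
  · obtain ⟨E, hE, hUE, -, -, -⟩ := exists_compl_decomp hG hM h
    have hκ : ∀ t, t ∉ Cfsg.kappa M := fun t htκ => h.hall.2.2 t htκ.1 htκ (by
      rw [hK, relIndex_bot_left]
      exact htκ.2.1)
    obtain ⟨⟨A, -, -, hA, hfix⟩, -⟩ := frobenius_type hG hM hE fun e he he1 hτ => by
      by_contra hne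
      obtain ⟨t, ht, htd⟩ := Nat.exists_prime_and_dvd (mt orderOf_eq_one_iff.mp he1)
      haveI : Fact t.Prime := ⟨ht⟩
      refine hκ t (mem_kappa_of_fixed hG hM (hτ t ht htd) (X := zpowers (e ^ (orderOf e / t)))
        (zpowers_le.mpr (pow_mem (hE.1 he) _)) ?_ fun e' => hne ?_)
      · rw [Nat.card_zpowers, orderOf_pow_orderOf_div (orderOf_pos e).ne' htd]
      · rw [centralizer_zpowers_eq] at e'
        exact le_bot_iff.mp (e' ▸ inf_centralizer_pow_le _ e _)
    refine ⟨A, hA, fun a ⟨haU, _, y, hy, hy1, hay⟩ => hfix y hy hy1 (mem_inf.mpr ⟨?_, ?_⟩)⟩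
    · rw [← hUE]
      exact mem_sup_left haU
    · exact mem_centralizer_singleton_iff.mpr hay
  · exact ⟨U, decomp_U_abelian hG hM h hK, Set.inter_subset_left⟩

/-- A subgroup of `U` with fixed points in `M_σ` pins `M` by its centralizer. -/
theorem decomp_onlyMax (h : Cfsg.IsSigmaDecomposition M K U) {X : Subgroup G} (hXU : X ≤ U)
    (hX : X ≠ ⊥) (hfix : Cfsg.sigmaCore M ⊓ centralizer (X : Set G) ≠ ⊥) :
    OnlyMax (centralizer (X : Set G)) M := by
  obtain ⟨y, hy, hy1⟩ := (bot_or_exists_ne_one _).resolve_left hfix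
  obtain ⟨hyσ, hyX⟩ := mem_inf.mp hy
  have hτ2 : ∀ x ∈ X, x ≠ 1 → ∀ t : ℕ, t.Prime → t ∣ orderOf x → t ∈ Cfsg.tau2 M :=
    fun x hx _ t ht htd => decomp_tau2_of_fixed hG hM h (hXU hx) (fun e => hy1 (mem_bot.mp (e ▸
      mem_inf.mpr ⟨hyσ, mem_centralizer_singleton_iff.mpr (mem_centralizer_iff.mp hyX x hx).symm⟩))) ht htd
  obtain ⟨E, hE, hUE, -, -, -⟩ := exists_compl_decomp hG hM h
  have hXE : X ≤ E := hXU.trans (le_sup_left.trans hUE.le)
  obtain ⟨x₁, hx₁, hx₁1⟩ := (bot_or_exists_ne_one X).resolve_left hX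
  obtain ⟨t, ht, htd⟩ := Nat.exists_prime_and_dvd (mt orderOf_eq_one_iff.mp hx₁1)
  haveI : Fact t.Prime := ⟨ht⟩
  obtain ⟨A, A₀, hAE, hexc⟩ := tau2_square hG hM hE (hτ2 x₁ hx₁ hx₁1 t ht htd)
  have hAX : A ≤ centralizer (X : Set G) := by
    refine le_centralizer_iff.mp (le_of_inv_sylows (A := (⊥ : Subgroup G)) bot_le
      (by rw [Subgroup.card_bot]; exact Nat.coprime_one_left _)
      (Or.inr (isSolvable_of_le_max hG hM (hXE.trans hE.1))) fun s hs R hR hR1 _ => ?_)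
    haveI : Fact s.Prime := ⟨hs⟩
    obtain ⟨z, hz, hzo⟩ := exists_order_p hR.2.1 hR1
    have hs2 : s ∈ Cfsg.tau2 M := hτ2 z (hR.1 hz) (fun e => hs.ne_one (by rw [← hzo, e, orderOf_one]))
      s hs (hzo ▸ dvd_rfl)
    obtain ⟨Q, hQ, hRQ⟩ := exists_sylowIn_le hR.2.1 (hR.1.trans hXE)
    refine hRQ.trans ?_
    rcases eq_or_ne t s with rfl | hts
    · obtain ⟨P, hP, hAP⟩ := exists_sylowIn_le hexc.sq.isPGroup hAE
      have hA : A ≤ Q := by
        obtain ⟨e, he, heQ⟩ := hP.exists_conj_eq hQ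
        rw [← conjMap_inv_conjMap e Q, heQ, ← conjMap_eq_self_iff.mpr
          (inv_mem (hexc.compl_le_normalizer hG hM hE hAE he))]
        exact conjMap_mono hAP
      exact hexc.sylow_center hG hM (sylowIn_of_compl hG hM hE hexc.not_sigma hQ) hA
    · obtain ⟨B, B₀, hBE, h'⟩ := tau2_square hG hM hE hs2
      exact hexc.centralizes_other hG hM h' hts hE hAE hBE hQ
  refine onlyMax_of_forall hG hM (fun e => hX ?_) fun L hL hle => ?_
  · by_contra hX1
    exact minSimple_centralizer_singleton_ne_top hG hx₁1 (top_le_iff.mp (e.ge.trans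
      (Subgroup.centralizer_le (Set.singleton_subset_iff.mpr hx₁))))
  by_contra hne
  exact hfix (le_bot_iff.mp (hexc.inf_other hG hM hL hne (hAX.trans hle) ▸ inf_le_inf_left _ hle))

end CfsgLib.BG
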