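import Cfsg.Agent.Lib.BG.Tools
import Cfsg.Agent.Lib.Solvable.Products

/-!
# Elementary abelian subgroups of order `p ^ 2` through a given element
-/

set_option autoImplicit false
set_option linter.style.haveILetI false
set_option linter.unusedSectionVars false

namespace CfsgLib.BG

open Subgroup CfsgLib.PLocal CfsgLib.OddLocal

universe u
variable {G : Type u} [Group G] [Finite G] {q : ℕ} [hq : Fact q.Prime]

/-- An element of order `q` of a noncyclic `q`-group (`q` odd) lies in a square. -/
theorem exists_sq_mem (hq2 : q ≠ 2) {U : Subgroup G} (hU : IsPGroup q U) (hnc : ¬ IsCyclic U)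
    {x : G} (hxU : x ∈ U) (hxo : orderOf x = q) :
    ∃ A, A ≤ U ∧ IsSq q A ∧ x ∈ A := by
  have hx1 : x ≠ 1 := fun h => hq.out.ne_one (by rw [← hxo, h, orderOf_one])
  have hxe : Cfsg.IsElementaryAbelian q (zpowers x) := elemAb_zpowers (hxo ▸ pow_orderOf_eq_one x)
  have key : ∀ y ∈ U, y ^ q = 1 → Commute x y → y ∉ zpowers x →
      ∃ A, A ≤ U ∧ IsSq q A ∧ x ∈ A := by
    intro y hy hyq hc hny
    have hye : Cfsg.IsElementaryAbelian q (zpowers y) := elemAb_zpowers hyq
    have hcent : zpowers y ≤ centralizer (zpowers x : Set G) := by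
      rw [zpowers_le, mem_centralizer_iff]
      intro z hz
      obtain ⟨k, rfl⟩ := mem_zpowers_iff.mp hz
      exact (hc.zpow_left k).eq
    have he := elemAb_sup hxe hye (le_centralizer_iff.mp hcent)
    have hyo : orderOf y = q := orderOf_eq_prime hyq fun h => hny (h ▸ one_mem _)
    have hlt : q < Nat.card ↥(zpowers x ⊔ zpowers y) := by
      refine lt_of_le_of_ne ?_ ?_
      · rw [← hxo, ← Nat.card_zpowers]
        exact card_le_of_le le_sup_left
      · intro heq
        have := eq_of_le_of_card_ge (le_sup_left : zpowers x ≤ zpowers x ⊔ zpowers y)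
          (by rw [Nat.card_zpowers, hxo, ← heq])
        exact hny (this ▸ mem_sup_right (mem_zpowers y))
    refine ⟨_, sup_le (zpowers_le.mpr hxU) (zpowers_le.mpr hy), ⟨he, ?_⟩, mem_sup_left (mem_zpowers x)⟩
    obtain ⟨n, hn⟩ := IsPGroup.iff_card.mp (elemAb_isPGroup he)
    have hle : Nat.card ↥(zpowers x ⊔ zpowers y) ≤ q * q := by
      have h1 := CfsgLib.Solvable.card_mul_set_mul_card_inf (zpowers x) (zpowers y)
      rw [← coe_mul_of_right_le_normalizer_left (zpowers x) (zpowers y)
        (hcent.trans (centralizer_le_normalizer _))] at h1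
      rw [Nat.card_zpowers, Nat.card_zpowers, hxo, hyo] at h1
      rw [← h1]
      exact Nat.le_mul_of_pos_right _ Nat.card_pos
    rw [hn] at hlt hle ⊢
    rw [← pow_two] at hle
    have h2 : n ≤ 2 := (Nat.pow_le_pow_iff_right hq.out.one_lt).mp hle
    have h3 : 1 < n := (Nat.pow_lt_pow_iff_right hq.out.one_lt).mp (by rwa [pow_one])
    rw [show n = 2 by omega]
  obtain ⟨A', hA'U, hA'⟩ := exists_sq_of_not_isCyclic hq2 hU hnc
  haveI : Nontrivial U := nontrivial_iff_ne_bot U |>.mpr fun h => hx1 (mem_bot.mp (h ▸ hxU))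
  haveI := hU.center_nontrivial
  obtain ⟨z, ⟨⟨y, hyc, rfl⟩, hzo⟩⟩ := exists_order_p (P := (center U).map U.subtype)
    ((hU.to_subgroup _).map U.subtype) (by
      rw [Ne, map_eq_bot_iff_of_injective _ U.subtype_injective]
      exact (nontrivial_iff_ne_bot _).mp inferInstance)
  have hycomm : ∀ a ∈ U, Commute a (U.subtype y) := fun a ha =>
    congrArg Subtype.val (mem_center_iff.mp hyc ⟨a, ha⟩)
  by_cases hz : U.subtype y ∈ zpowers x
  · -- `x` is central
    have hzx : zpowers (U.subtype y) = zpowers x :=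
      eq_of_le_of_card_ge (zpowers_le.mpr hz) (by rw [Nat.card_zpowers, Nat.card_zpowers, hxo, hzo])
    obtain ⟨w, hw, hwn⟩ := SetLike.not_le_iff_exists.mp (show ¬ A' ≤ zpowers x from fun h => by
      have := card_le_of_le h
      rw [Nat.card_zpowers, hxo, hA'.2] at this
      nlinarith [hq.out.one_lt])
    have hxz : x ∈ zpowers (U.subtype y) := hzx ▸ mem_zpowers x
    obtain ⟨k, hk⟩ := mem_zpowers_iff.mp hxz
    exact key w (hA'U hw) (hA'.1.2 w hw) (hk ▸ ((hycomm w (hA'U hw)).symm.zpow_left k)) hwn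
  · exact key _ y.2 (hzo ▸ pow_orderOf_eq_one _) (hycomm x hxU) hz

end CfsgLib.BG
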