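import Cfsg.Agent.Lib.OddLocal.MinSimple
import Cfsg.Agent.Lib.OddLocal.PiCore
import Cfsg.Agent.Lib.Coprime.Sylow
import Cfsg.Agent.Lib.Coprime.Generation
import Cfsg.Agent.Lib.PLocal.SylowIn
import Cfsg.Agent.Lib.PLocal.Basic
import Cfsg.Agent.Lib.Transfer.UniqueOrderP
import Cfsg.Agent.Lib.Complement.FpfNilpotent

/-!
# General tools for the maximal-subgroup analysis of a minimal simple group of odd order

Elementary abelian subgroups of order `p ^ 2` and their lines, ranks of subgroups, Sylow subgroups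
of subgroups, coprime action corollaries.
-/

set_option autoImplicit false

namespace CfsgLib.BG

open Subgroup CfsgLib.PLocal

universe u
variable {G : Type u} [Group G]

/-- `A` is elementary abelian of order `p ^ 2`. -/
def IsSq (p : ℕ) (A : Subgroup G) : Prop := Cfsg.IsElementaryAbelian p A ∧ Nat.card A = p ^ 2

/-- `X` is a line (subgroup of order `p`) of `A`. -/
def IsLine (p : ℕ) (A X : Subgroup G) : Prop := X ≤ A ∧ Nat.card X = p

theorem coprime_of_forall {m n : ℕ} (h : ∀ r : ℕ, r.Prime → r ∣ m → r ∣ n → False) :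
    m.Coprime n :=
  Nat.coprime_of_dvd fun r hr h1 h2 => h r hr h1 h2

theorem prime_dvd_pgroup_card [Finite G] {p r : ℕ} [hp : Fact p.Prime] {P : Subgroup G}
    (hP : IsPGroup p P) (hr : r.Prime) (h : r ∣ Nat.card P) : r = p := by
  obtain ⟨n, hn⟩ := IsPGroup.iff_card.mp hP
  rw [hn] at h
  exact (Nat.prime_dvd_prime_iff_eq hr hp.out).mp (hr.dvd_of_dvd_pow h)

theorem dvd_card_of_pgroup_ne_bot [Finite G] {p : ℕ} [hp : Fact p.Prime] {P : Subgroup G}
    (hP : IsPGroup p P) (h1 : P ≠ ⊥) : p ∣ Nat.card P := by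
  obtain ⟨n, hn⟩ := IsPGroup.iff_card.mp hP
  rcases n with _ | n
  · exact absurd (Subgroup.card_eq_one.mp (by simpa using hn)) h1
  · exact hn ▸ dvd_pow_self p (Nat.succ_ne_zero n)

theorem coprime_pgroup_of_not_dvd [Finite G] {p : ℕ} [hp : Fact p.Prime] {P H : Subgroup G}
    (hP : IsPGroup p P) (h : ¬ p ∣ Nat.card H) : (Nat.card P).Coprime (Nat.card H) :=
  coprime_of_forall fun _ hr h1 h2 => h (prime_dvd_pgroup_card hP hr h1 ▸ h2)

theorem coprime_pgroup [Finite G] {p q : ℕ} [hp : Fact p.Prime] [hq : Fact q.Prime] {P Q : Subgroup G}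
    (hP : IsPGroup p P) (hQ : IsPGroup q Q) (h : p ≠ q) : (Nat.card P).Coprime (Nat.card Q) :=
  coprime_of_forall fun _ hr h1 h2 =>
    h ((prime_dvd_pgroup_card hP hr h1).symm.trans (prime_dvd_pgroup_card hQ hr h2))

theorem isPGroup_of_prime_dvd [Finite G] {p : ℕ} [hp : Fact p.Prime] {P : Subgroup G}
    (h : ∀ r : ℕ, r.Prime → r ∣ Nat.card P → r = p) : IsPGroup p P :=
  IsPGroup.of_card (Nat.eq_prime_pow_of_unique_prime_dvd Nat.card_pos.ne' fun {r} hr hd => h r hr hd)

theorem isPGroup_of_card_prime [Finite G] {p : ℕ} [hp : Fact p.Prime] {X : Subgroup G}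
    (hX : Nat.card X = p) : IsPGroup p X :=
  IsPGroup.of_card (n := 1) (by rw [hX, pow_one])

theorem ne_bot_of_card_prime {p : ℕ} [hp : Fact p.Prime] {X : Subgroup G}
    (hX : Nat.card X = p) : X ≠ ⊥ := fun h => hp.out.ne_one (by rw [← hX, h, Subgroup.card_bot])

/-- A nontrivial `p`-subgroup contains a subgroup of order `p`. -/
theorem exists_order_p [Finite G] {p : ℕ} [hp : Fact p.Prime] {P : Subgroup G}
    (hP : IsPGroup p P) (h1 : P ≠ ⊥) : ∃ x ∈ P, orderOf x = p := by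
  obtain ⟨x, hx⟩ := exists_prime_orderOf_dvd_card' p (dvd_card_of_pgroup_ne_bot hP h1)
  exact ⟨x, x.2, by rw [Subgroup.orderOf_coe, hx]⟩

theorem zpowers_eq_of_card_prime [Finite G] {p : ℕ} [hp : Fact p.Prime] {X : Subgroup G}
    (hX : Nat.card X = p) {x : G} (hx : x ∈ X) (h1 : x ≠ 1) : zpowers x = X := by
  refine eq_of_le_of_card_ge (zpowers_le.mpr hx) ?_
  rw [Nat.card_zpowers, hX]
  refine le_of_eq (((Nat.dvd_prime hp.out).mp ?_).resolve_left ?_).symm
  · rw [← hX, ← Subgroup.orderOf_mk x hx]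
    exact orderOf_dvd_natCard _
  · rwa [orderOf_eq_one_iff]

/-! ### Ranks -/

theorem not_prankLE_iff {p k : ℕ} {H : Subgroup G} :
    ¬ Cfsg.PRankLE p k H ↔ ∃ E : Subgroup G, E ≤ H ∧ Cfsg.IsElementaryAbelian p E ∧ p ^ k < Nat.card E := by
  constructor
  · intro h
    simp only [Cfsg.PRankLE, not_forall, not_le] at h
    obtain ⟨E, hc, he, hlt⟩ := h
    exact ⟨E.map H.subtype, map_subtype_le E, elemAb_map H.subtype ⟨hc, he⟩,
      by rwa [card_map_of_injective H.subtype_injective]⟩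
  · rintro ⟨E, hEH, hE, hlt⟩ h
    have he : Cfsg.IsElementaryAbelian p (E.subgroupOf H) :=
      elemAb_comap_of_injective H.subtype_injective hE
    have := h (E.subgroupOf H) he.1 he.2
    rw [Nat.card_congr (subgroupOfEquivOfLe hEH).toEquiv] at this
    omega

theorem prankLE_mono {p k : ℕ} {H K : Subgroup G} (h : H ≤ K) (hK : Cfsg.PRankLE p k K) :
    Cfsg.PRankLE p k H := by
  by_contra hH
  obtain ⟨E, hE, he, hlt⟩ := not_prankLE_iff.mp hH
  exact not_prankLE_iff.mpr ⟨E, hE.trans h, he, hlt⟩ hK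

theorem not_rankLE_of_not_prankLE {p k : ℕ} {H : Subgroup G} (hp : p.Prime)
    (h : ¬ Cfsg.PRankLE p k H) : ¬ Cfsg.RankLE k H := fun h' => h (h' p hp)

theorem elemAb_card_le {p k : ℕ} {E H : Subgroup G} (hE : Cfsg.IsElementaryAbelian p E)
    (h : E ≤ H) (hr : Cfsg.PRankLE p k H) : Nat.card E ≤ p ^ k :=
  le_of_not_gt fun hlt => not_prankLE_iff.mpr ⟨E, h, hE, hlt⟩ hr

/-- Inside an elementary abelian group there is a subgroup of every smaller order. -/
theorem exists_elemAb_card [Finite G] {p k : ℕ} [hp : Fact p.Prime] {E : Subgroup G}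
    (hE : Cfsg.IsElementaryAbelian p E) (h : p ^ k ≤ Nat.card E) :
    ∃ F : Subgroup G, F ≤ E ∧ Cfsg.IsElementaryAbelian p F ∧ Nat.card F = p ^ k := by
  have hP : IsPGroup p E := elemAb_isPGroup hE
  obtain ⟨n, hn⟩ := IsPGroup.iff_card.mp hP
  obtain ⟨F, hF⟩ := Sylow.exists_subgroup_card_pow_prime (G := E) p (n := k)
    (by rw [hn]; exact pow_dvd_pow p ((Nat.pow_le_pow_iff_right hp.out.one_lt).mp (hn ▸ h)))
  exact ⟨F.map E.subtype, map_subtype_le _, elemAb_mono hE (map_subtype_le _),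
    by rw [card_map_of_injective E.subtype_injective, hF]⟩

theorem exists_sq_le_of_not_prankLE [Finite G] {p k : ℕ} [hp : Fact p.Prime] {H : Subgroup G}
    (hk : 1 ≤ k) (h : ¬ Cfsg.PRankLE p k H) : ∃ A, A ≤ H ∧ IsSq p A := by
  obtain ⟨E, hEH, hE, hlt⟩ := not_prankLE_iff.mp h
  obtain ⟨F, hFE, hF, hFc⟩ := exists_elemAb_card (k := 2) hE (by
    obtain ⟨n, hn⟩ := IsPGroup.iff_card.mp (elemAb_isPGroup hE)
    rw [hn] at hlt ⊢
    exact Nat.pow_le_pow_right hp.out.pos (by
      have := (Nat.pow_lt_pow_iff_right hp.out.one_lt).mp hlt; omega))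
  exact ⟨F, hFE.trans hEH, hF, hFc⟩

/-- A noncyclic `p`-subgroup (`p` odd) contains an elementary abelian subgroup of order `p ^ 2`. -/
theorem exists_sq_of_not_isCyclic [Finite G] {p : ℕ} [hp : Fact p.Prime] (hp2 : p ≠ 2)
    {P : Subgroup G} (hP : IsPGroup p P) (hnc : ¬ IsCyclic P) : ∃ A, A ≤ P ∧ IsSq p A := by
  obtain ⟨A, -, hc, he, hA⟩ := CfsgLib.Transfer.exists_normal_elementary_sq hp2 hP hnc
  exact ⟨A.map P.subtype, map_subtype_le _, elemAb_map P.subtype ⟨hc, he⟩,
    by rw [card_map_of_injective P.subtype_injective, hA]⟩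

section Sq

variable {p : ℕ} {A : Subgroup G}

theorem IsSq.isPGroup (hA : IsSq p A) : IsPGroup p A := elemAb_isPGroup hA.1

theorem IsSq.comm (hA : IsSq p A) : IsMulCommutative A := hA.1.1

theorem IsSq.le_centralizer (hA : IsSq p A) : A ≤ centralizer (A : Set G) :=
  elemAb_le_centralizer hA.1

theorem IsSq.map {G' : Type*} [Group G'] (hA : IsSq p A) {f : G →* G'} (hf : Function.Injective f) :
    IsSq p (A.map f) :=
  ⟨elemAb_map f hA.1, by rw [card_map_of_injective hf, hA.2]⟩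

theorem IsSq.conjMap (hA : IsSq p A) (g : G) : IsSq p (conjMap g A) := hA.map (MulAut.conj g).injective

variable [hp : Fact p.Prime]

theorem IsSq.ne_bot (hA : IsSq p A) : A ≠ ⊥ := fun h => by
  have := hA.2
  rw [h, Subgroup.card_bot] at this
  exact absurd this (Nat.one_lt_pow two_ne_zero hp.out.one_lt).ne

theorem IsSq.not_prankLE_one (hA : IsSq p A) {H : Subgroup G} (h : A ≤ H) :
    ¬ Cfsg.PRankLE p 1 H := fun hr => by
  have := elemAb_card_le hA.1 h hr
  rw [hA.2, pow_one] at this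
  nlinarith [hp.out.one_lt]

theorem IsSq.not_rankLE_one (hA : IsSq p A) {H : Subgroup G} (h : A ≤ H) : ¬ Cfsg.RankLE 1 H :=
  not_rankLE_of_not_prankLE hp.out (hA.not_prankLE_one h)

variable [Finite G]

theorem IsSq.not_isCyclic (hA : IsSq p A) : ¬ IsCyclic A := fun h => by
  have hexp : Monoid.exponent A ∣ p := Monoid.exponent_dvd_of_forall_pow_eq_one fun a =>
    Subtype.ext (hA.1.2 a a.2)
  rw [IsCyclic.exponent_eq_card (α := A), hA.2] at hexp
  have := Nat.le_of_dvd hp.out.pos hexp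
  nlinarith [hp.out.one_lt]

theorem IsSq.card_zpowers (hA : IsSq p A) {a : G} (ha : a ∈ A) (h1 : a ≠ 1) :
    IsLine p A (zpowers a) :=
  ⟨zpowers_le.mpr ha, by rw [Nat.card_zpowers]; exact orderOf_eq_prime (hA.1.2 a ha) h1⟩

theorem IsLine.sup_eq (hA : IsSq p A) {X Y : Subgroup G} (hX : IsLine p A X) (hY : IsLine p A Y)
    (hne : X ≠ Y) : X ⊔ Y = A := by
  refine eq_of_le_of_card_ge (sup_le hX.1 hY.1) ?_
  have hn : Y ≤ normalizer (X : Set G) := hY.1.trans (le_trans hA.le_centralizer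
    ((centralizer_le hX.1).trans (centralizer_le_normalizer _)))
  have hinf : Y ⊓ X = ⊥ := by
    by_contra h
    apply hne
    have hc : Nat.card (Y ⊓ X : Subgroup G) = p := by
      refine ((Nat.dvd_prime hp.out).mp (hY.2 ▸ card_dvd_of_le inf_le_left)).resolve_left ?_
      exact fun h' => h (card_eq_one.mp h')
    have e1 : Y ⊓ X = X := eq_of_le_of_card_ge inf_le_right (by rw [hc, hX.2])
    have e2 : Y ⊓ X = Y := eq_of_le_of_card_ge inf_le_left (by rw [hc, hY.2])
    exact e1.symm.trans e2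
  rw [CfsgLib.Coprime.card_sup_of_inf_eq_bot hn hinf, hX.2, hY.2, hA.2, sq]

theorem IsLine.isPGroup {X : Subgroup G} (hX : IsLine p A X) : IsPGroup p X :=
  isPGroup_of_card_prime hX.2

theorem IsSq.exists_line (hA : IsSq p A) : ∃ X, IsLine p A X := by
  obtain ⟨a, ha, h1⟩ := (bot_or_exists_ne_one A).resolve_left hA.ne_bot
  exact ⟨_, hA.card_zpowers ha h1⟩

/-- Coprime generation by the centralizers of lines. -/
theorem IsSq.le_of_forall_line (hA : IsSq p A) {H K : Subgroup G}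
    (hn : A ≤ normalizer (H : Set G)) (hH : ¬ p ∣ Nat.card H)
    (h : ∀ X, IsLine p A X → H ⊓ centralizer (X : Set G) ≤ K) : H ≤ K := by
  rw [← CfsgLib.Coprime.iSup_centralizer_eq hA.comm hA.not_isCyclic hn
    (coprime_pgroup_of_not_dvd hA.isPGroup hH)]
  refine iSup_le fun a => ?_
  refine le_trans (inf_le_inf_left H ?_) (h _ (hA.card_zpowers a.2.1 a.2.2))
  intro x hx
  rw [mem_centralizer_iff] at hx ⊢
  rintro y ⟨k, rfl⟩
  exact (Commute.zpow_left (hx _ rfl) k)

theorem IsSq.exists_line_ne_bot (hA : IsSq p A) {H : Subgroup G}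
    (hn : A ≤ normalizer (H : Set G)) (hH : ¬ p ∣ Nat.card H) (h1 : H ≠ ⊥) :
    ∃ X, IsLine p A X ∧ H ⊓ centralizer (X : Set G) ≠ ⊥ := by
  by_contra hno
  push Not at hno
  exact h1 (eq_bot_iff.mpr (hA.le_of_forall_line hn hH fun X hX => (hno X hX).le))

end Sq

/-! ### Fixed-point-free actions -/

/-- A subgroup with a fixed-point-free normalizing subgroup of prime order is nilpotent. -/
theorem isNilpotent_of_fpf_line [Finite G] {p : ℕ} [hp : Fact p.Prime] {H X : Subgroup G}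
    (hX : Nat.card X = p) (hn : X ≤ normalizer (H : Set G))
    (hfpf : H ⊓ centralizer (X : Set G) = ⊥) : Group.IsNilpotent H := by
  obtain ⟨x, hx, hx1⟩ := (bot_or_exists_ne_one X).resolve_left (ne_bot_of_card_prime hX)
  have hz := zpowers_eq_of_card_prime hX hx hx1
  have hxo : orderOf x = p := by rw [← Nat.card_zpowers, hz, hX]
  let φ : MulAut H := Subgroup.normalizerMonoidHom H ⟨x, hn hx⟩
  refine CfsgLib.Complement.isNilpotent_of_fpf H φ p hp.out ?_ fun y hy => ?_
  · have hxp : (⟨x, hn hx⟩ : normalizer (H : Set G)) ^ p = 1 := by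
      apply Subtype.ext
      show x ^ p = 1
      rw [← hxo]; exact pow_orderOf_eq_one x
    show Subgroup.normalizerMonoidHom H ⟨x, hn hx⟩ ^ p = 1
    rw [← map_pow, hxp, map_one]
  · have hy' : x * y * x⁻¹ = y := congrArg Subtype.val hy
    apply Subtype.ext
    show (y : G) = 1
    have : (y : G) ∈ H ⊓ centralizer (X : Set G) := by
      refine ⟨y.2, ?_⟩
      rw [← hz]
      refine mem_centralizer_iff.mpr ?_
      rintro _ ⟨k, rfl⟩
      exact Commute.zpow_left (mul_inv_eq_iff_eq_mul.mp hy') k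
    rwa [hfpf, mem_bot] at this

end CfsgLib.BG
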