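import Cfsg.Agent.Lib.BG.SigmaHall
import Cfsg.Agent.Lib.Coprime.Complements
import Cfsg.Agent.Lib.Solvable.NilpotentHall
import Cfsg.Agent.S1451

/-!
# Basic facts on a maximal subgroup `M`, `σ(M)`, `α(M)` and complements of `M_σ`
-/

set_option autoImplicit false
set_option linter.style.haveILetI false
set_option linter.unusedSectionVars false

namespace CfsgLib.BG

open Subgroup CfsgLib.PLocal CfsgLib.OddLocal
open scoped commutatorElement

universe u
variable {G : Type u} [Group G]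

theorem conjMap_eq_of_mem {g : G} {M : Subgroup G} (hg : g ∈ M) : conjMap g M = M :=
  conjMap_eq_self_iff.mpr (le_normalizer hg)

theorem isComplIn_sup {A B M : Subgroup G} (h : Cfsg.IsComplIn A B M) : A ⊔ B = M :=
  le_antisymm (sup_le h.1 h.2.1) fun m hm => by
    obtain ⟨a, ha, b, hb, rfl⟩ := h.2.2.2 m hm
    exact mul_mem (mem_sup_left ha) (mem_sup_right hb)

theorem conjMap_piCoreOf [Finite G] (π : Set ℕ) (X : Subgroup G) (g : G) :
    conjMap g (Cfsg.piCoreOf π X) = Cfsg.piCoreOf π (conjMap g X) := by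
  have key : ∀ (g : G) (X : Subgroup G),
      conjMap g (Cfsg.piCoreOf π X) ≤ Cfsg.piCoreOf π (conjMap g X) := by
    intro g X
    refine le_piCoreOf (conjMap_mono (piCoreOf_le π X)) ?_ fun p hp h => piCoreOf_spec π X p hp (by
      rwa [card_conjMap] at h)
    rw [← conjMap_normalizer]
    exact conjMap_mono (le_normalizer.trans (le_normalizer_piCoreOf π X))
  refine le_antisymm (key g X) ?_
  have h := conjMap_mono (g := g) (key g⁻¹ (conjMap g X))
  rwa [conjMap_conjMap_inv, conjMap_inv_conjMap] at h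

theorem isCoatom_conjMap {M : Subgroup G} (hM : IsCoatom M) (g : G) : IsCoatom (conjMap g M) := by
  refine ⟨fun h => hM.1 (by rw [← conjMap_inv_conjMap g M, h, conjMap_top]), fun L hL => ?_⟩
  have hlt : M < conjMap g⁻¹ L := by
    refine lt_of_le_of_ne ?_ ?_
    · have := conjMap_mono (g := g⁻¹) hL.le
      rwa [conjMap_inv_conjMap] at this
    · intro h
      exact hL.ne (by rw [h, conjMap_conjMap_inv])
  rw [← conjMap_conjMap_inv g L, hM.2 _ hlt, conjMap_top]

variable [Finite G] {M : Subgroup G}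

theorem mem_sigma_conjMap_of (g : G) {p : ℕ} (hp : p ∈ Cfsg.sigma M) :
    p ∈ Cfsg.sigma (conjMap g M) := by
  haveI : Fact p.Prime := ⟨hp.1⟩
  obtain ⟨T, hT, -⟩ := exists_sylowIn_le (IsPGroup.of_bot (p := p) (G := G)) (bot_le (a := M))
  refine mem_sigma_of_normalizer_le (by rw [card_conjMap]; exact hp.2.1) (hT.conj g) ?_
  rw [← conjMap_normalizer]
  exact conjMap_mono (normalizer_sylow_le hp hT)

theorem sigma_conjMap (g : G) : Cfsg.sigma (conjMap g M) = Cfsg.sigma M := by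
  refine Set.ext fun p => ⟨fun h => ?_, mem_sigma_conjMap_of g⟩
  have := mem_sigma_conjMap_of g⁻¹ h
  rwa [conjMap_inv_conjMap] at this

theorem sigmaCore_conjMap (g : G) :
    Cfsg.sigmaCore (conjMap g M) = conjMap g (Cfsg.sigmaCore M) := by
  show Cfsg.piCoreOf (Cfsg.sigma (conjMap g M)) (conjMap g M) = _
  rw [sigma_conjMap, ← conjMap_piCoreOf]
  rfl

variable (hG : Cfsg.IsMinSimpleOddOrder G) (hM : IsCoatom M)
include hG

omit [Finite G] in
theorem prime_ne_two {p : ℕ} (hp : p ∣ Nat.card G) : p ≠ 2 := by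
  rintro rfl
  exact (Nat.not_even_iff_odd.mpr hG.1) (even_iff_two_dvd.mpr hp)

theorem prime_ne_two_of_pgroup {p : ℕ} [Fact p.Prime] {P : Subgroup G} (hP : IsPGroup p P)
    (h1 : P ≠ ⊥) : p ≠ 2 :=
  prime_ne_two hG ((dvd_card_of_pgroup_ne_bot hP h1).trans (card_subgroup_dvd_card P))

include hM

omit [Finite G] in
theorem isSolvable_of_le_max {H : Subgroup G} (hH : H ≤ M) : Group.IsSolvable H :=
  minSimple_isSolvable hG fun h => hM.1 (top_le_iff.mp (h ▸ hH))

omit [Finite G] in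
theorem normalizer_eq_max {N : Subgroup G} (h1 : N ≠ ⊥) (hNM : N ≤ M)
    (hn : M ≤ normalizer (N : Set G)) : normalizer (N : Set G) = M :=
  ((hM.le_iff).mp hn).resolve_left
    (minSimple_normalizer_ne_top hG h1 fun h => hM.1 (top_le_iff.mp (h ▸ hNM)))

theorem le_sigmaCore_of_pi {X : Subgroup G} (hX : X ≤ M)
    (hπ : ∀ p : ℕ, p.Prime → p ∣ Nat.card X → p ∈ Cfsg.sigma M) : X ≤ Cfsg.sigmaCore M := by
  intro x hx
  refine CfsgLib.Solvable.mem_of_coprime_relIndex
    ((normal_subgroupOf_iff_le_normalizer (sigmaCore_le M)).mpr (le_normalizer_sigmaCore M)) (hX hx) ?_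
  exact (CfsgLib.Coprime.coprime_of_pi hπ (sigmaCore_hall hG hM).2.2).coprime_dvd_left
    (X.orderOf_dvd_natCard hx)

theorem alphaCore_le_sigmaCore : Cfsg.alphaCore M ≤ Cfsg.sigmaCore M :=
  (Cfsg.Agent.S1405.result hG M hM).2.2.1

theorem dvd_card_of_mem_alpha {p : ℕ} (hp : p ∈ Cfsg.alpha M) : p ∣ Nat.card M := by
  haveI : Fact p.Prime := ⟨hp.1⟩
  obtain ⟨E, hEM, hE, hlt⟩ := not_prankLE_iff.mp hp.2
  have h1 : E ≠ ⊥ := fun h => by
    rw [h, Subgroup.card_bot] at hlt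
    exact absurd hlt (not_lt.mpr (Nat.one_le_pow _ _ hp.1.pos))
  exact (dvd_card_of_pgroup_ne_bot (elemAb_isPGroup hE) h1).trans (card_dvd_of_le hEM)

theorem alpha_subset_sigma : Cfsg.alpha M ⊆ Cfsg.sigma M := by
  intro p hp
  obtain ⟨⟨hle, -, hidx⟩, -, hασ, -, -⟩ := Cfsg.Agent.S1405.result hG M hM
  refine mem_sigma_of_dvd_sigmaCore hp.1 (Dvd.dvd.trans ?_ (card_dvd_of_le hασ))
  have h := dvd_card_of_mem_alpha hG hM hp
  rw [← CfsgLib.Coprime.card_mul_relIndex hle] at h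
  exact (hp.1.dvd_mul.mp h).resolve_right (hidx p hp.1 hp)

theorem prankLE_two_of_not_alpha {p : ℕ} [hp : Fact p.Prime] (h : p ∉ Cfsg.alpha M) :
    Cfsg.PRankLE p 2 M := by
  by_contra hr
  exact h ⟨hp.out, hr⟩

theorem prankLE_two_of_not_sigma {p : ℕ} [Fact p.Prime] (h : p ∉ Cfsg.sigma M) :
    Cfsg.PRankLE p 2 M :=
  prankLE_two_of_not_alpha hG hM fun h' => h (alpha_subset_sigma hG hM h')

theorem mem_tau2_of_sq {p : ℕ} [hp : Fact p.Prime] (h : p ∉ Cfsg.sigma M) {A : Subgroup G}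
    (hAM : A ≤ M) (hA : IsSq p A) : p ∈ Cfsg.tau2 M :=
  ⟨hp.out, h, prankLE_two_of_not_sigma hG hM h, hA.not_prankLE_one hAM⟩

theorem rankLE_two_of_alpha_empty (h : Cfsg.alphaCore M = ⊥) : Cfsg.RankLE 2 M := by
  intro p hp
  by_contra hr
  have hα : p ∈ Cfsg.alpha M := ⟨hp, hr⟩
  have hd := dvd_card_of_mem_alpha hG hM hα
  obtain ⟨-, -, hidx⟩ := (Cfsg.Agent.S1405.result hG M hM).1
  have h2 := hidx p hp hα
  rw [h, relIndex_bot_left] at h2
  exact h2 hd

theorem max_ne_bot : M ≠ ⊥ := by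
  intro h
  subst h
  haveI := hG.2.1
  obtain ⟨x, hx⟩ := exists_ne (1 : G)
  have hz : zpowers x = ⊤ := hM.2 _ (bot_lt_iff_ne_bot.mpr (zpowers_ne_bot.mpr hx))
  refine minSimple_not_commutative hG ⟨⟨fun a b => ?_⟩⟩
  obtain ⟨i, rfl⟩ : a ∈ zpowers x := hz ▸ mem_top a
  obtain ⟨j, rfl⟩ : b ∈ zpowers x := hz ▸ mem_top b
  exact (Commute.zpow_zpow_self x i j).eq

/-- If `M` has rank at most 2 the largest prime of `#M` lies in `σ(M)`. -/
theorem max_prime_mem_sigma (hr : Cfsg.RankLE 2 M) {q : ℕ} [hq : Fact q.Prime]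
    (hqM : q ∣ Nat.card M) (hmax : ∀ r : ℕ, r.Prime → r ∣ Nat.card M → r ≤ q) :
    q ∈ Cfsg.sigma M := by
  haveI : Group.IsSolvable M := isSolvable_of_le_max hG hM le_rfl
  obtain ⟨-, -, hchar⟩ := Cfsg.Agent.S1451.result (G := ↥M) (minSimple_odd hG M) (Or.inl hr)
  obtain ⟨N, hNc, hNπ, hNidx⟩ := hchar (q - 1)
  have hqq : q ∈ {r : ℕ | r.Prime ∧ q - 1 < r} := ⟨hq.out, Nat.sub_lt hq.out.pos one_pos⟩
  have hT : SylowIn q (N.map M.subtype) M := by
    refine ⟨map_subtype_le _, isPGroup_of_prime_dvd fun r hr hrd => ?_, ?_⟩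
    · rw [card_map_of_injective M.subtype_injective] at hrd
      have h1 : r ≤ q := hmax r hr (hrd.trans (card_subgroup_dvd_card N))
      have h2 := (hNπ r hr hrd).2
      omega
    · rw [relIndex, subgroupOf, comap_map_eq_self_of_injective M.subtype_injective]
      exact hNidx q hq.out hqq
  have hT1 : N.map M.subtype ≠ ⊥ := fun h => by
    have h2 := hT.2.2
    rw [h, relIndex_bot_left] at h2
    exact h2 hqM
  haveI := hNc
  have hMn : M ≤ normalizer (N.map M.subtype : Set G) := by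
    refine (normal_subgroupOf_iff_le_normalizer (map_subtype_le _)).mp ?_
    rw [subgroupOf, comap_map_eq_self_of_injective M.subtype_injective]
    infer_instance
  exact mem_sigma_of_normalizer_le hqM hT
    (normalizer_eq_max hG hM hT1 (map_subtype_le _) hMn).le

theorem exists_max_prime : ∃ q : ℕ, q.Prime ∧ q ∣ Nat.card M ∧
    ∀ r : ℕ, r.Prime → r ∣ Nat.card M → r ≤ q := by
  have hne : (Nat.card M).primeFactors.Nonempty :=
    Nat.nonempty_primeFactors.mpr ((Subgroup.one_lt_card_iff_ne_bot M).mpr (max_ne_bot hG hM))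
  have hq := (Nat.card M).primeFactors.max'_mem hne
  rw [Nat.mem_primeFactors] at hq
  exact ⟨_, hq.1, hq.2.1, fun r hr hd => (Nat.card M).primeFactors.le_max' r
    (Nat.mem_primeFactors.mpr ⟨hr, hd, Nat.card_pos.ne'⟩)⟩

/-- `M_σ ≠ 1`. -/
theorem sigmaCore_ne_bot : Cfsg.sigmaCore M ≠ ⊥ := by
  intro hbot
  have hα : Cfsg.alphaCore M = ⊥ := le_bot_iff.mp (hbot ▸ alphaCore_le_sigmaCore hG hM)
  obtain ⟨q, hq, hqM, hmax⟩ := exists_max_prime hG hM
  haveI : Fact q.Prime := ⟨hq⟩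
  have hσ := max_prime_mem_sigma hG hM (rankLE_two_of_alpha_empty hG hM hα) hqM hmax
  have := (sigmaCore_hall hG hM).2.2 q hq hσ
  rw [hbot, relIndex_bot_left] at this
  exact this hqM

theorem normalizer_sigmaCore : normalizer (Cfsg.sigmaCore M : Set G) = M :=
  normalizer_eq_max hG hM (sigmaCore_ne_bot hG hM) (sigmaCore_le M) (le_normalizer_sigmaCore M)

theorem normalizer_max : normalizer (M : Set G) = M :=
  normalizer_eq_max hG hM (fun h => sigmaCore_ne_bot hG hM (le_bot_iff.mp (h ▸ sigmaCore_le M)))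
    le_rfl le_normalizer

theorem conjMap_max_eq_iff {g : G} : conjMap g M = M ↔ g ∈ M := by
  rw [conjMap_eq_self_iff, normalizer_max hG hM]

theorem sigmaCore_le_derived : Cfsg.sigmaCore M ≤ ⁅M, M⁆ := by
  rw [← relIndex_eq_one]
  by_contra hne
  obtain ⟨p, hp, hd⟩ := Nat.exists_prime_and_dvd hne
  haveI : Fact p.Prime := ⟨hp⟩
  have hσ : p ∈ Cfsg.sigma M := mem_sigma_of_dvd_sigmaCore hp
    (hd.trans (relIndex_dvd_card _ _))
  obtain ⟨T, hT, -⟩ := exists_sylowIn_le (IsPGroup.of_bot (p := p) (G := G))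
    (bot_le (a := Cfsg.sigmaCore M))
  have hTM : SylowIn p T M := by
    refine ⟨hT.1.trans (sigmaCore_le M), hT.2.1, ?_⟩
    rw [← relIndex_mul_relIndex _ _ _ hT.1 (sigmaCore_le M)]
    exact fun hd => (hp.dvd_mul.mp hd).elim hT.2.2 ((sigmaCore_hall hG hM).2.2 p hp hσ)
  exact hT.2.2 (hd.trans (relIndex_dvd_of_le_left _ (sylowIn_le_derived hG hM hσ hTM)))

end CfsgLib.BG
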