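import Cfsg.Agent.Lib.BG.SigmaBase
import Cfsg.Agent.Lib.Coprime.Complements
import Cfsg.Agent.Lib.OddLocal.PLength
import Cfsg.Agent.Lib.Comp.Normalize
import Cfsg.Agent.S1403
import Cfsg.Agent.S1450

/-!
# Conjugates of `M` over a `σ(M)`-subgroup `X` are conjugate under `C_G(X)`
-/

set_option autoImplicit false
set_option linter.style.haveILetI false
set_option linter.unusedSectionVars false

namespace CfsgLib.BG

open Subgroup CfsgLib.PLocal CfsgLib.OddLocal
open scoped commutatorElement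

universe u
variable {G : Type u} [Group G] [Finite G] {M : Subgroup G} {p : ℕ} [hp : Fact p.Prime]

variable (hG : Cfsg.IsMinSimpleOddOrder G)
include hG

theorem isCoatom_conjMap' (hM : IsCoatom M) (g : G) : IsCoatom (conjMap g M) := by
  refine ⟨fun h => hM.1 ?_, fun L hL => ?_⟩
  · rw [← conjMap_inv_conjMap g M, h, conjMap_top]
  · have h1 : M < conjMap g⁻¹ L := by
      refine lt_of_le_of_ne ?_ fun e => hL.ne ?_
      · have := conjMap_mono (g := g⁻¹) hL.le
        rwa [conjMap_inv_conjMap] at this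
      · rw [e, conjMap_conjMap_inv]
    rw [← conjMap_conjMap_inv g L, hM.2 _ h1, conjMap_top]

/-- A `p`-subgroup of rank at least three has one maximal subgroup over it. -/
theorem eq_of_not_prankLE {X M L : Subgroup G} (hX : ¬ Cfsg.PRankLE p 2 X) (hM : IsCoatom M)
    (hXM : X ≤ M) (hL : IsCoatom L) (hXL : X ≤ L) : L = M := by
  have h : ∀ k ≤ 2, ¬ Cfsg.RankLE k X := fun k hk hr => hX (fun E hc he =>
    (hr p hp.out E hc he).trans (Nat.pow_le_pow_right hp.out.pos hk))
  have hU := Cfsg.Agent.S1403.result hG X (fun e => hM.1 (top_le_iff.mp (e ▸ hXM)))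
    (h 1 one_le_two) (Or.inl (h 2 le_rfl))
  exact hU.unique ⟨hL, hXL⟩ ⟨hM, hXM⟩

/-- `X` lies in `M^a`, `M^b`: some element of `C_G(X)` conjugates one to the other. -/
theorem exists_centralizer_conj (hM : IsCoatom M) (hσ : p ∈ Cfsg.sigma M) :
    ∀ n : ℕ, ∀ X : Subgroup G, IsPGroup p X → X ≠ ⊥ → Nat.card M - Nat.card X ≤ n →
      ∀ a b : G, X ≤ conjMap a M → X ≤ conjMap b M →
        ∃ c ∈ centralizer (X : Set G), conjMap c (conjMap a M) = conjMap b M := by
  intro n
  induction n using Nat.strong_induction_on with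
  | _ n ih =>
  intro X hX hX1 hn a b hXa hXb
  obtain ⟨P, hP, -⟩ := exists_sylowIn_le (IsPGroup.of_bot (p := p) (G := G)) (bot_le (a := M))
  by_cases hsyl : Nat.card P ≤ Nat.card X
  · have hXS : ∀ e : G, X ≤ conjMap e M → SylowIn p (conjMap e⁻¹ X) M := fun e he => by
      refine hP.of_card_le (hX.map _) ?_ (by rwa [card_conjMap])
      have := conjMap_mono (g := e⁻¹) he
      rwa [conjMap_inv_conjMap] at this
    obtain ⟨m, hm, hmX⟩ := (hXS b hXb).exists_conj_eq (hXS a hXa)
    rw [conjMap_conjMap] at hmX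
    refine ⟨1, one_mem _, ?_⟩
    have hy : b * (m * a⁻¹) ∈ normalizer (X : Set G) := by
      rw [← conjMap_eq_self_iff, ← conjMap_conjMap, hmX, conjMap_conjMap_inv]
    have hy' : a⁻¹ * (b * (m * a⁻¹)) * a ∈ normalizer (conjMap a⁻¹ X : Set G) := by
      rw [← conjMap_normalizer, mem_conjMap]
      simpa [mul_assoc] using hy
    have hM' := normalizer_sylow_le hσ (hXS a hXa) hy'
    simp only [mul_assoc, inv_mul_cancel, mul_one] at hM'
    have habM : a⁻¹ * b ∈ M := (mul_mem_cancel_right hm).mp (by simpa [mul_assoc] using hM')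
    rw [conjMap_eq_self_iff.mpr (one_mem _)]
    rw [show b = a * (a⁻¹ * b) by group, ← conjMap_conjMap, conjMap_eq_self_iff.mpr (le_normalizer habM)]
  push Not at hsyl
  set H := normalizer (X : Set G) with hH
  have hsmall : ∀ Y : Subgroup G, IsPGroup p Y → Nat.card X < Nat.card Y → Y ≠ ⊥ →
      ∀ a b : G, Y ≤ conjMap a M → Y ≤ conjMap b M →
        ∃ c ∈ centralizer (Y : Set G), conjMap c (conjMap a M) = conjMap b M := by
    intro Y hY hlt hY1 a b ha hb
    refine ih (Nat.card M - Nat.card Y) ?_ Y hY hY1 le_rfl a b ha hb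
    have := card_le_of_le ha
    rw [card_conjMap] at this
    omega
  have hgrow : ∀ e : G, X ≤ conjMap e M → ∃ R : Subgroup G, IsPGroup p R ∧ X < R ∧ R ≤ H ∧ R ≤ conjMap e M := by
    intro e he
    obtain ⟨Q, hQ, hXQ⟩ := exists_sylowIn_le hX he
    have hc : Nat.card P ≤ Nat.card Q := by
      rw [← card_conjMap e P]
      exact hQ.card_le (hP.2.1.map _) (conjMap_mono hP.1)
    have hXltQ : X < Q := lt_of_le_of_ne hXQ fun e' => absurd (e' ▸ hc) (not_le.mpr hsyl)
    have hlt := card_lt_card_inf_normalizer hQ.2.1 hXltQ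
    refine ⟨Q ⊓ H, hQ.2.1.to_le inf_le_left, lt_of_le_of_ne (le_inf hXQ le_normalizer) fun e' => ?_,
      inf_le_right, inf_le_left.trans hQ.1⟩
    exact absurd (congrArg (fun K : Subgroup G => Nat.card K) e') hlt.ne
  obtain ⟨Ra, hRa, hXRa, hRaH, hRaM⟩ := hgrow a hXa
  obtain ⟨Rb, hRb, hXRb, hRbH, hRbM⟩ := hgrow b hXb
  obtain ⟨S, hS, hRaS⟩ := exists_sylowIn_le hRa hRaH
  have hXS : X < S := lt_of_lt_of_le hXRa hRaS
  obtain ⟨s, hSs⟩ : ∃ s : G, S ≤ conjMap s M := by
    obtain ⟨k, -, hk⟩ := (sylowIn_top hσ hP).exists_conj_le hS.2.1 le_top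
    refine ⟨k⁻¹, ?_⟩
    have := conjMap_mono (g := k⁻¹) (hk.trans hP.1)
    rwa [conjMap_inv_conjMap] at this
  have hHne : H ≠ ⊤ := minSimple_normalizer_ne_top hG hX1
    fun e => (isCoatom_conjMap' hG hM a).1 (top_le_iff.mp (e ▸ hXa))
  have hcard : ∀ {R : Subgroup G}, X < R → Nat.card X < Nat.card R := fun h =>
    lt_of_le_of_ne (card_le_of_le h.le) fun e => h.ne (eq_of_le_of_card_ge h.le e.ge)
  have hne : ∀ {R : Subgroup G}, X < R → R ≠ ⊥ := fun h e => hX1 (le_bot_iff.mp (e ▸ h.le))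
  -- `H` permutes the conjugates of `M` over `X` inside one `C(X)`-orbit
  have hkey : ∀ h ∈ H, ∃ c ∈ centralizer (X : Set G),
      conjMap c (conjMap s M) = conjMap (h * s) M := by
    intro h hh
    by_cases hr : Cfsg.PRankLE p 2 H
    swap
    · obtain ⟨E, hEH, hE, hlt⟩ := not_prankLE_iff.mp hr
      obtain ⟨k, -, hkS⟩ := hS.exists_conj_le (elemAb_isPGroup hE) hEH
      have hEr : ¬ Cfsg.PRankLE p 2 S := not_prankLE_iff.mpr
        ⟨_, hkS, elemAb_map (MulAut.conj k).toMonoidHom hE, by rwa [card_conjMap]⟩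
      obtain ⟨L, hL, hHL⟩ := (eq_top_or_exists_le_coatom H).resolve_left hHne
      have heq : L = conjMap s M :=
        eq_of_not_prankLE hG hEr (isCoatom_conjMap' hG hM s) hSs hL (hS.1.trans hHL)
      refine ⟨1, one_mem _, ?_⟩
      rw [conjMap_eq_self_iff.mpr (one_mem _), ← conjMap_conjMap]
      exact (conjMap_eq_self_iff.mpr (le_normalizer (heq ▸ hHL hh))).symm
    have hdvd : p ∣ Nat.card H := by
      obtain ⟨k, hk⟩ := IsPGroup.iff_card.mp hS.2.1
      refine Dvd.dvd.trans ?_ (card_dvd_of_le hS.1)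
      rw [hk]
      refine dvd_pow_self p fun h0 => ?_
      rw [h0, pow_zero] at hk
      exact (hne hXS) (eq_bot_of_card_eq _ hk)
    haveI : Group.IsSolvable H := minSimple_isSolvable hG hHne
    obtain ⟨-, -, -, -, -, hidx⟩ := Cfsg.Agent.S1450.result (minSimple_odd hG H) p hdvd hr
    let S' : Sylow p H := (hS.2.1.comap_subtype).toSylow hS.2.2
    haveI := CfsgLib.Solvable.pPrimeCore_normal p H
    -- `S' ≤ O_{p',p}(H)`, so `H = O_{p'}(H) N_H(S')`
    have hnorm : (Cfsg.pPrimeCore p H ⊔ (S' : Subgroup H)).Normal := by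
      have hpc : Cfsg.pPrimePCore p H ≤ Cfsg.pPrimeCore p H ⊔ (S' : Subgroup H) ∧
          (S' : Subgroup H) ≤ Cfsg.pPrimePCore p H := by
        set f := QuotientGroup.mk' (Cfsg.pPrimeCore p H) with hf
        set T := Cfsg.pCore p (H ⧸ Cfsg.pPrimeCore p H) with hT
        have hTp : IsPGroup p T := CfsgLib.Solvable.pCore_isPGroup p
        have hTidx : T.index.Coprime p := by
          rwa [← index_comap_of_surjective T (QuotientGroup.mk'_surjective _)]
        haveI : T.Normal := CfsgLib.Solvable.pCore_normal p _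
        have hST : (S' : Subgroup H).map f ≤ T := by
          have hsup : IsPGroup p ↥((S' : Subgroup H).map f ⊔ T) := (S'.2.map f).to_sup_of_normal_right hTp
          have h1 : T = (S' : Subgroup H).map f ⊔ T := by
            refine eq_of_le_of_card_ge le_sup_right ?_
            obtain ⟨j, hj⟩ := IsPGroup.iff_card.mp hsup
            have hd : T.relIndex ((S' : Subgroup H).map f ⊔ T) ∣ T.index :=
              relIndex_dvd_index_of_normal T _
            have hd' : T.relIndex ((S' : Subgroup H).map f ⊔ T) ∣ p ^ j := hj ▸ relIndex_dvd_card _ _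
            have h2 : T.relIndex ((S' : Subgroup H).map f ⊔ T) = 1 :=
              Nat.eq_one_of_dvd_coprimes (hTidx.pow_right j) hd hd'
            rw [← CfsgLib.Coprime.card_mul_relIndex (le_sup_right : T ≤ _), h2, mul_one]
          exact h1 ▸ le_sup_left
        have hTS : T ≤ (S' : Subgroup H).map f :=
          ((S'.mapSurjective (QuotientGroup.mk'_surjective _)).3 hTp hST).le
        refine ⟨?_, map_le_iff_le_comap.mp hST⟩
        intro x hx
        obtain ⟨s', hs', hsx⟩ := hTS hx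
        have h1 : s'⁻¹ * x ∈ Cfsg.pPrimeCore p H := (QuotientGroup.eq.mp hsx)
        rw [show x = s' * (s'⁻¹ * x) by group]
        exact mul_mem (mem_sup_right hs') (mem_sup_left h1)
      have heq : Cfsg.pPrimeCore p H ⊔ (S' : Subgroup H) = Cfsg.pPrimePCore p H :=
        le_antisymm (sup_le (fun x hx => by
          show QuotientGroup.mk' (Cfsg.pPrimeCore p H) x ∈ Cfsg.pCore p (H ⧸ Cfsg.pPrimeCore p H)
          rw [show QuotientGroup.mk' (Cfsg.pPrimeCore p H) x = 1 from
            (QuotientGroup.eq_one_iff x).mpr hx]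
          exact one_mem _) hpc.2) hpc.1
      rw [heq]
      exact Normal.comap (CfsgLib.Solvable.pCore_normal p _) _
    have hle : (S' : Subgroup H) ≤ Cfsg.pPrimeCore p H ⊔ (S' : Subgroup H) := le_sup_right
    haveI := hnorm
    have hfr : Cfsg.pPrimeCore p H ⊔ normalizer ((S' : Subgroup H) : Set H) = ⊤ := by
      rw [eq_top_iff, ← Sylow.normalizer_sup_eq_top' (N := Cfsg.pPrimeCore p H ⊔ (S' : Subgroup H)) S' hle, sup_le_iff]
      exact ⟨le_sup_right, sup_le le_sup_left (le_normalizer.trans le_sup_right)⟩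
    have hmem : (⟨h, hh⟩ : H) ∈ Cfsg.pPrimeCore p H ⊔ normalizer ((S' : Subgroup H) : Set H) :=
      hfr ▸ mem_top _
    obtain ⟨k, hk, v, hv, hkv⟩ :=
      (CfsgLib.Coprime.mem_sup_of_le_normalizer (N := Cfsg.pPrimeCore p H)
        (A := normalizer ((S' : Subgroup H) : Set H))
        (le_top.trans (Subgroup.normalizer_eq_top (Cfsg.pPrimeCore p H)).ge)).mp hmem
    have hkX : (k : G) ∈ centralizer (X : Set G) := by
      rw [mem_centralizer_iff]
      intro x hx
      have hxH : x ∈ H := le_normalizer hx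
      have h1 : k * ⟨x, hxH⟩ * k⁻¹ * (⟨x, hxH⟩ : H)⁻¹ ∈ Cfsg.pPrimeCore p H := by
        rw [mul_assoc, mul_assoc]
        refine mul_mem hk ?_
        rw [← mul_assoc]
        exact (inferInstance : (Cfsg.pPrimeCore p H).Normal).conj_mem _ (inv_mem hk) _
      have h2 : (k : G) * x * (k : G)⁻¹ * x⁻¹ ∈ X :=
        mul_mem ((mem_normalizer_iff.mp k.2 x).mp hx) (inv_mem hx)
      have h3 := eq_one_of_mem_pPrimeCore_of_mem_pgroup
        (hX.comap_subtype (K := H)) h1 h2
      have h4 : (k : G) * x * (k : G)⁻¹ * x⁻¹ = 1 := congrArg Subtype.val h3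
      rw [mul_inv_eq_one, mul_inv_eq_iff_eq_mul] at h4
      exact h4.symm
    have hvS : conjMap (v : G) S = S := by
      refine eq_of_le_of_card_ge ?_ (by rw [card_conjMap])
      rintro _ ⟨y, hy, rfl⟩
      exact (mem_normalizer_iff.mp hv ⟨y, hS.1 hy⟩).mp hy
    obtain ⟨c, hc, hcS⟩ := hsmall S hS.2.1 (hcard hXS) (hne hXS) s ((v : G) * s) hSs (by
      rw [← conjMap_conjMap, ← hvS]
      exact conjMap_mono hSs)
    refine ⟨(k : G) * c, mul_mem hkX (Subgroup.centralizer_le hXS.le hc), ?_⟩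
    rw [show h * s = (k : G) * ((v : G) * s) by rw [← mul_assoc, ← Subgroup.coe_mul, hkv],
      ← conjMap_conjMap (k : G) c, hcS, conjMap_conjMap]
  obtain ⟨c₁, hc₁, hc₁M⟩ := hsmall Ra hRa (hcard hXRa) (hne hXRa) a s hRaM (hRaS.trans hSs)
  obtain ⟨Sb, hSb, hRbSb⟩ := exists_sylowIn_le hRb hRbH
  obtain ⟨h, hh, hhS⟩ := hSb.exists_conj_eq hS
  obtain ⟨c₂, hc₂, hc₂M⟩ := hkey h hh
  obtain ⟨c₃, hc₃, hc₃M⟩ := hsmall Rb hRb (hcard hXRb) (hne hXRb) (h * s) b (by
    refine hRbSb.trans ?_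
    rw [← hhS, ← conjMap_conjMap]
    exact conjMap_mono hSs) hRbM
  refine ⟨c₃ * c₂ * c₁, mul_mem (mul_mem (Subgroup.centralizer_le hXRb.le hc₃) hc₂)
    (Subgroup.centralizer_le hXRa.le hc₁), ?_⟩
  rw [← conjMap_conjMap, hc₁M, ← conjMap_conjMap, hc₂M, hc₃M]

/-- Fusion of a `σ(M)`-subgroup into `M`. -/
theorem exists_mul_centralizer (hM : IsCoatom M) (hσ : p ∈ Cfsg.sigma M) {X : Subgroup G}
    (hX : IsPGroup p X) (hX1 : X ≠ ⊥) (hXM : X ≤ M) {g : G} (hg : conjMap g X ≤ M) :
    ∃ m ∈ M, ∃ c ∈ centralizer (X : Set G), g = m * c := by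
  obtain ⟨c, hc, hcM⟩ := exists_centralizer_conj hG hM hσ (Nat.card M) X hX hX1 (Nat.sub_le _ _) g⁻¹ 1
    (by
      have := conjMap_mono (g := g⁻¹) hg
      rwa [conjMap_inv_conjMap] at this)
    (by rwa [conjMap_eq_self_iff.mpr (one_mem _)])
  rw [conjMap_conjMap, conjMap_eq_self_iff.mpr (one_mem _), conjMap_eq_self_iff] at hcM
  have hmax : normalizer (M : Set G) = M := by
    rcases eq_or_ne (normalizer (M : Set G)) M with h | h
    · exact h
    exact absurd (hM.2 _ (lt_of_le_of_ne le_normalizer (Ne.symm h)))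
      (minSimple_normalizer_ne_top hG (fun e => hX1 (le_bot_iff.mp (e ▸ hXM))) hM.1)
  rw [hmax] at hcM
  exact ⟨(c * g⁻¹)⁻¹, inv_mem hcM, c, hc, by group⟩

end CfsgLib.BG
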