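import Cfsg.Agent.Lib.BG.Tau
import Cfsg.Agent.Lib.BG.Squares
import Cfsg.Agent.Lib.OddLocal.Transitivity
import Cfsg.Agent.Lib.Coprime.Sylow
import Cfsg.Agent.S1403
import Cfsg.Agent.S1443

/-!
# Squares and central elements at primes outside `σ(M)` and in `α(M)'`
-/

set_option autoImplicit false
set_option linter.style.haveILetI false
set_option linter.unusedSectionVars false

namespace CfsgLib.BG

open Subgroup CfsgLib.PLocal CfsgLib.OddLocal
open scoped commutatorElement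

universe u
variable {G : Type u} [Group G] [Finite G] {M : Subgroup G}
variable (hG : Cfsg.IsMinSimpleOddOrder G) (hM : IsCoatom M)
include hG

omit hG in
theorem centralizer_zpowers_eq (x : G) :
    centralizer (zpowers x : Set G) = centralizer ({x} : Set G) := by
  refine le_antisymm (Subgroup.centralizer_le (Set.singleton_subset_iff.mpr (mem_zpowers x)))
    fun a ha => mem_centralizer_iff.mpr fun y hy => ?_
  obtain ⟨k, rfl⟩ := mem_zpowers_iff.mp hy
  exact ((show Commute x a from (mem_centralizer_singleton_iff.mp ha).symm).zpow_left k).eq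

theorem unique_of_square {q : ℕ} [hq : Fact q.Prime] {A : Subgroup G} (hA : IsSq q A) (hAtop : A ≠ ⊤)
    (hr : ¬ Cfsg.PRankLE q 2 ↥(centralizer (A : Set G))) : Cfsg.InUniqueMaximal A :=
  Cfsg.Agent.S1403.result hG A hAtop (hA.not_rankLE_one le_rfl)
    (Or.inr (not_rankLE_of_not_prankLE hq.out hr))

include hM

theorem inUniqueMaximal_of_le {X : Subgroup G} (hXM : X ≤ M)
    (h : ∀ L : Subgroup G, IsCoatom L → X ≤ L → L = M) : Cfsg.InUniqueMaximal X :=
  ⟨M, ⟨hM, hXM⟩, fun L hL => h L hL.1 hL.2⟩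

theorem inUniqueMaximal_alphaCore_centralizer {X : Subgroup G} (hXM : X ≤ M)
    (hXα : ∀ p : ℕ, p.Prime → p ∣ Nat.card X → p ∉ Cfsg.alpha M)
    (hr : ¬ Cfsg.RankLE 1 ↥(Cfsg.alphaCore M ⊓ centralizer (X : Set G))) :
    Cfsg.InUniqueMaximal (M ⊓ centralizer (X : Set G)) := by
  refine inUniqueMaximal_of_le hG hM inf_le_left fun L hL hle => ?_
  obtain ⟨q, E, hq, hEle, hE, hlt⟩ := exists_elementary_of_not_rankLE hr
  haveI : Fact q.Prime := ⟨hq⟩
  obtain ⟨A, hAE, hAe, hAc⟩ := exists_elemAb_card (k := 2) hE (by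
    obtain ⟨n, hn⟩ := IsPGroup.iff_card.mp (elemAb_isPGroup hE)
    rw [hn] at hlt ⊢
    exact Nat.pow_le_pow_right hq.pos ((Nat.pow_lt_pow_iff_right hq.one_lt).mp hlt))
  have hA : IsSq q A := ⟨hAe, hAc⟩
  have hAN : A ≤ Cfsg.alphaCore M := hAE.trans (hEle.trans inf_le_left)
  have hAX : A ≤ centralizer (X : Set G) := hAE.trans (hEle.trans inf_le_right)
  obtain ⟨⟨hNM, hNπ, hNidx⟩, -, -⟩ := Cfsg.Agent.S1405.result hG M hM
  have hqα : q ∈ Cfsg.alpha M :=
    hNπ q hq ((dvd_card_of_pgroup_ne_bot hA.isPGroup hA.ne_bot).trans (card_dvd_of_le hAN))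
  have hAM : A ≤ M := hAN.trans hNM
  have hAL : A ≤ L := (le_inf hAM hAX).trans hle
  by_cases hr3 : Cfsg.PRankLE q 2 ↥(centralizer (A : Set G))
  swap
  · exact (unique_of_square hG hA (fun e => hM.1 (top_le_iff.mp (e ▸ hAM))) hr3).unique
      ⟨hL, hAL⟩ ⟨hM, hAM⟩
  have hn : X ≤ normalizer (Cfsg.alphaCore M : Set G) :=
    hXM.trans (le_normalizer.trans (le_normalizer_piCoreOf (Cfsg.alpha M) M))
  have hcop : (Nat.card X).Coprime (Nat.card (Cfsg.alphaCore M)) :=
    coprime_of_forall fun r hr' h1 h2 => hXα r hr' h1 (hNπ r hr' h2)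
  obtain ⟨S, hAS, hSn⟩ := CfsgLib.Coprime.exists_invariant_sylow_ge hn hcop
    (Or.inl (isSolvable_of_le_max hG hM hXM)) hA.isPGroup hAN
    ((le_centralizer_iff.mp hAX).trans (centralizer_le_normalizer _))
  set Q := (S : Subgroup (Cfsg.alphaCore M)).map (Cfsg.alphaCore M).subtype with hQdef
  have hQ := sylowIn_map S
  have hQM : SylowIn q Q M := by
    refine ⟨hQ.1.trans hNM, hQ.2.1, ?_⟩
    rw [← relIndex_mul_relIndex _ _ _ hQ.1 hNM]
    exact fun hd => (hq.dvd_mul.mp hd).elim hQ.2.2 (hNidx q hq hqα)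
  have hqX : (Nat.card X).Coprime q :=
    (hq.coprime_iff_not_dvd.mpr fun hd => hXα q hq hd hqα).symm
  have hQX : X ≤ centralizer (Q : Set G) := by
    refine Cfsg.Agent.S1443.result q (prime_ne_two_of_pgroup hG hA.isPGroup hA.ne_bot) Q A X hQ.2.1
      hAS hAe hSn hqX fun x hx hxo => ?_
    have hxA : x ∈ A := by
      by_contra hxA
      have hxq : x ^ q = 1 := hxo ▸ pow_orderOf_eq_one x
      have hB := elemAb_sup hAe (elemAb_zpowers hxq) (by
        rw [le_centralizer_iff, zpowers_le]; exact (mem_inf.mp hx).2)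
      have h2 : Nat.card A < Nat.card ↥(A ⊔ zpowers x) := lt_of_le_of_ne (card_le_of_le le_sup_left)
        fun e => hxA ((eq_of_le_of_card_ge le_sup_left e.ge).symm ▸ mem_sup_right (mem_zpowers x))
      rw [hAc] at h2
      exact absurd (elemAb_card_le hB (sup_le hA.le_centralizer (zpowers_le.mpr (mem_inf.mp hx).2)) hr3)
        (not_le.mpr h2)
    intro a ha
    rw [mem_centralizer_singleton_iff]
    exact (mem_centralizer_iff.mp (hAX hxA) a ha)
  obtain ⟨B, hBM, hB, hBlt⟩ := not_prankLE_iff.mp hqα.2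
  obtain ⟨m, -, hm⟩ := hQM.exists_conj_le (elemAb_isPGroup hB) hBM
  refine eq_of_not_prankLE (p := q) hG (X := Q) ?_ hM hQM.1 hL ((le_inf hQM.1 (le_centralizer_iff.mp hQX)).trans hle)
  exact not_prankLE_iff.mpr ⟨_, hm, elemAb_map (MulAut.conj m).toMonoidHom hB, by rwa [card_conjMap]⟩

theorem exists_central_not_pin {p : ℕ} [hp : Fact p.Prime] (hpM : p ∣ Nat.card M)
    (hσ : p ∉ Cfsg.sigma M) {P : Subgroup G} (hP : SylowIn p P M) :
    ∃ x, x ∈ P ∧ x ∈ centralizer (P : Set G) ∧ orderOf x = p ∧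
      IsZGroup ↥(Cfsg.alphaCore M ⊓ centralizer ({x} : Set G)) ∧
      ¬ (centralizer ({x} : Set G) ≤ M ∧
        ∀ L : Subgroup G, IsCoatom L → centralizer ({x} : Set G) ≤ L → L = M) := by
  have hP1 : P ≠ ⊥ := fun e => hP.2.2 (by rw [e, relIndex_bot_left]; exact hpM)
  obtain ⟨y, hyN, hyM⟩ := SetLike.not_le_iff_exists.mp
    (fun hle => hσ (mem_sigma_of_normalizer_le hpM hP hle) : ¬ normalizer (P : Set G) ≤ M)
  haveI : Nontrivial P := nontrivial_iff_ne_bot P |>.mpr hP1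
  haveI := hP.2.1.center_nontrivial
  obtain ⟨z, ⟨⟨w, hwc, rfl⟩, hzo⟩⟩ := exists_order_p (P := (center P).map P.subtype)
    ((hP.2.1.to_subgroup _).map P.subtype) (by
      rw [Ne, map_eq_bot_iff_of_injective _ P.subtype_injective]
      exact (nontrivial_iff_ne_bot _).mp inferInstance)
  have hzC : P.subtype w ∈ centralizer (P : Set G) := mem_centralizer_iff.mpr fun a ha =>
    congrArg Subtype.val (mem_center_iff.mp hwc ⟨a, ha⟩)
  have hPα : p ∉ Cfsg.alpha M := fun h => hσ (alpha_subset_sigma hG hM h)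
  suffices h : ∃ x, x ∈ P ∧ x ∈ centralizer (P : Set G) ∧ orderOf x = p ∧
      ¬ (centralizer ({x} : Set G) ≤ M ∧
        ∀ L : Subgroup G, IsCoatom L → centralizer ({x} : Set G) ≤ L → L = M) by
    obtain ⟨x, hx, hxC, hxo, hnot⟩ := h
    have hxc : Nat.card (zpowers x) = p := by rw [Nat.card_zpowers, hxo]
    refine ⟨x, hx, hxC, hxo, ?_, hnot⟩
    by_contra hZ
    have hr : ¬ Cfsg.RankLE 1 ↥(Cfsg.alphaCore M ⊓ centralizer (zpowers x : Set G)) := by
      rw [centralizer_zpowers_eq]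
      exact fun hr => hZ (isZGroup_of_prankLE_one hG fun r hr' _ => hr r hr')
    have hU := inUniqueMaximal_alphaCore_centralizer hG hM (zpowers_le.mpr (hP.1 hx)) (fun r hr' hd => by
      rw [hxc] at hd
      exact ((Nat.prime_dvd_prime_iff_eq hr' hp.out).mp hd) ▸ hPα) hr
    rw [centralizer_zpowers_eq] at hU
    have hx1 : x ≠ 1 := fun h => hp.out.ne_one (by rw [← hxo, h, orderOf_one])
    obtain ⟨L, hL, hle⟩ := (eq_top_or_exists_le_coatom (centralizer ({x} : Set G))).resolve_left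
      (minSimple_centralizer_singleton_ne_top hG hx1)
    have huniq : ∀ L : Subgroup G, IsCoatom L → centralizer ({x} : Set G) ≤ L → L = M := fun L hL hle =>
      hU.unique ⟨hL, inf_le_right.trans hle⟩ ⟨hM, inf_le_left⟩
    exact hnot ⟨huniq L hL hle ▸ hle, huniq⟩
  by_contra hall
  push Not at hall
  set z := P.subtype w with hz
  obtain ⟨hCz, -⟩ := hall z w.2 hzC hzo
  have hconjC : y * z * y⁻¹ ∈ centralizer (P : Set G) :=
    (mem_normalizer_iff.mp (CfsgLib.Comp.le_normalizer_centralizer le_rfl hyN) z).mp hzC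
  obtain ⟨-, huniq⟩ := hall (y * z * y⁻¹) ((mem_normalizer_iff.mp hyN z).mp w.2) hconjC
    ((MulEquiv.orderOf_eq (MulAut.conj y) z).trans hzo)
  have hle : centralizer ({y * z * y⁻¹} : Set G) ≤ conjMap y M := by
    intro a ha
    refine mem_conjMap.mpr (hCz ?_)
    rw [mem_centralizer_singleton_iff] at ha ⊢
    have h1 : a * (y * z * y⁻¹) = y * z * y⁻¹ * a := ha
    calc y⁻¹ * a * y * z = y⁻¹ * (a * (y * z * y⁻¹)) * y := by group
      _ = y⁻¹ * (y * z * y⁻¹ * a) * y := by rw [h1]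
      _ = z * (y⁻¹ * a * y) := by group
  exact hyM ((conjMap_max_eq_iff hG hM).mp (huniq _ (isCoatom_conjMap hM y) hle))

theorem square_maximal {p : ℕ} [hp : Fact p.Prime] (hr2 : Cfsg.PRankLE p 2 M) {A : Subgroup G}
    (hA : IsSq p A) (hAM : A ≤ M) :
    ∀ B : Subgroup G, Cfsg.IsElementaryAbelian p B → A ≤ B → B = A := by
  intro B hB hAB
  have hBC : B ≤ centralizer (A : Set G) :=
    (elemAb_le_centralizer hB).trans (Subgroup.centralizer_le hAB)
  by_cases hr3 : Cfsg.PRankLE p 2 ↥(centralizer (A : Set G))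
  · exact (eq_of_le_of_card_ge hAB (hA.2 ▸ elemAb_card_le hB hBC hr3)).symm
  have hU := unique_of_square hG hA (fun e => hM.1 (top_le_iff.mp (e ▸ hAM))) hr3
  obtain ⟨L, hL, hle⟩ := (eq_top_or_exists_le_coatom (centralizer (A : Set G))).resolve_left
    (minSimple_centralizer_ne_top hG hA.ne_bot)
  have hLM : L = M := hU.unique ⟨hL, hA.le_centralizer.trans hle⟩ ⟨hM, hAM⟩
  subst hLM
  exact absurd (prankLE_mono hle hr2) hr3

theorem not_ideal_of_square {p : ℕ} [hp : Fact p.Prime] (hr2 : Cfsg.PRankLE p 2 M) {A : Subgroup G}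
    (hA : IsSq p A) (hAM : A ≤ M) : ¬ Cfsg.IsIdealPrime p G := by
  rintro ⟨-, -, hid⟩
  obtain ⟨S, hAS⟩ := hA.isPGroup.exists_le_sylow
  obtain ⟨B, -, hB, hlt⟩ := hid S A hAS hA.1 hA.2
  exact hlt.ne' (square_maximal hG hM hr2 hA hAM B hB hlt.le)

theorem exists_square_of_normalizer_le {p : ℕ} [hp : Fact p.Prime] (hσ : p ∉ Cfsg.sigma M)
    {X : Subgroup G} (hX : Nat.card X = p) (hNX : normalizer (X : Set G) ≤ M) :
    (Cfsg.PRankLE p 2 M ∧ ¬ Cfsg.PRankLE p 1 M) ∧ ¬ Cfsg.IsIdealPrime p G ∧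
      ∃ A : Subgroup G, Cfsg.IsElementaryAbelian p A ∧ Nat.card A = p ^ 2 ∧ X ≤ A := by
  have hXM : X ≤ M := le_normalizer.trans hNX
  obtain ⟨P, hP, hXP⟩ := exists_sylowIn_le (isPGroup_of_card_prime hX) hXM
  have hX1 := ne_bot_of_card_prime hX
  have hP1 : P ≠ ⊥ := fun e => hX1 (le_bot_iff.mp (hXP.trans e.le))
  have hp2 : p ≠ 2 := prime_ne_two_of_pgroup hG hP.2.1 hP1
  have hnc : ¬ IsCyclic P := by
    intro hc
    refine hσ (mem_sigma_of_normalizer_le ((dvd_card_of_pgroup_ne_bot hP.2.1 hP1).trans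
      (card_dvd_of_le hP.1)) hP (le_trans (fun g hg => ?_) hNX))
    rw [← conjMap_eq_self_iff]
    refine eq_of_le_of_card_ge ?_ (by rw [card_conjMap])
    by_contra hne
    have hdis : conjMap g X ⊓ X = ⊥ := by
      rw [← inf_comm]
      refine card_eq_one.mp (((Nat.dvd_prime hp.out).mp (hX ▸ card_dvd_of_le inf_le_left)).resolve_right
        fun h => hne ?_)
      exact (eq_of_le_of_card_ge (inf_le_right : X ⊓ conjMap g X ≤ _)
        (by rw [h, card_conjMap, hX])).symm.le.trans inf_le_left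
    have hgP : conjMap g X ≤ P := (conjMap_mono hXP).trans (conjMap_eq_self_iff.mpr hg).le
    haveI : IsCyclic ↥(conjMap g X ⊔ X) := isCyclic_of_le (sup_le hgP hXP)
    have hcomm : conjMap g X ≤ centralizer (X : Set G) := fun a ha => mem_centralizer_iff.mpr fun b hb =>
      congrArg Subtype.val ((IsCyclic.isMulCommutative (α := ↥(conjMap g X ⊔ X))).is_comm.comm
        ⟨b, mem_sup_right hb⟩ ⟨a, mem_sup_left ha⟩)
    have hel : ∀ Y : Subgroup G, Nat.card Y = p → Cfsg.IsElementaryAbelian p Y := fun Y hY => by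
      obtain ⟨a, ha, hao⟩ := exists_order_p (isPGroup_of_card_prime hY) (ne_bot_of_card_prime hY)
      rw [← zpowers_eq_of_card_prime hY ha fun h => hp.out.ne_one (by rw [← hao, h, orderOf_one])]
      exact elemAb_zpowers (hao ▸ pow_orderOf_eq_one a)
    have hB := elemAb_sup (hel _ (by rw [card_conjMap, hX])) (hel X hX) hcomm
    have hexp : Monoid.exponent ↥(conjMap g X ⊔ X) ∣ p := Monoid.exponent_dvd_of_forall_pow_eq_one
      fun a => Subtype.ext (hB.2 a a.2)
    rw [IsCyclic.exponent_eq_card] at hexp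
    have := eq_of_le_of_card_ge (le_sup_right : X ≤ conjMap g X ⊔ X)
      (hX ▸ Nat.le_of_dvd hp.out.pos hexp)
    exact hne (le_sup_left.trans this.ge)
  obtain ⟨x, hxX, hxo⟩ := exists_order_p (isPGroup_of_card_prime hX) hX1
  obtain ⟨A, hAP, hA, hxA⟩ := exists_sq_mem hp2 hP.2.1 hnc (hXP hxX) hxo
  have hr2 := prankLE_two_of_not_sigma hG hM hσ
  refine ⟨⟨hr2, hA.not_prankLE_one (hAP.trans hP.1)⟩, not_ideal_of_square hG hM hr2 hA (hAP.trans hP.1),
    A, hA.1, hA.2, ?_⟩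
  rw [← zpowers_eq_of_card_prime hX hxX fun h => hp.out.ne_one (by rw [← hxo, h, orderOf_one])]
  exact zpowers_le.mpr hxA

end CfsgLib.BG
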