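import Cfsg.Agent.Lib.BG.Ten
import Cfsg.Agent.Lib.PLength.Series
import Cfsg.Agent.S1407
import Cfsg.Agent.S1444
import Cfsg.Agent.S1459

/-!
# Proper subgroups have `p`-length one
-/

set_option autoImplicit false
set_option linter.style.haveILetI false
set_option linter.unusedSectionVars false

namespace CfsgLib.BG

open Subgroup CfsgLib.PLocal CfsgLib.OddLocal
open scoped commutatorElement

universe u
variable {G : Type u} [Group G] [Finite G] {p : ℕ} [hp : Fact p.Prime]

omit [Finite G] in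
theorem pSeriesLE_one_of_prankLE_two {H : Type u} [Group H] [Finite H] [Group.IsSolvable H]
    (hodd : Odd (Nat.card H)) (hr : Cfsg.PRankLE p 2 H) : CfsgLib.PLength.PSeriesLE p 1 H := by
  haveI := CfsgLib.Solvable.pPrimeCore_normal p H
  refine CfsgLib.PLength.PSeriesLE.of_quotient_pPrime (Cfsg.pPrimeCore p H)
    (CfsgLib.Solvable.pPrimeCore_coprime p) ?_
  by_cases hpH : p ∣ Nat.card H
  · obtain ⟨-, -, -, -, -, hidx⟩ := Cfsg.Agent.S1450.result hodd p hpH hr
    haveI := CfsgLib.Solvable.pCore_normal p (H ⧸ Cfsg.pPrimeCore p H)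
    refine CfsgLib.PLength.PSeriesLE.of_quotient_pgroup (k := 0) (Cfsg.pCore p (H ⧸ Cfsg.pPrimeCore p H))
      (CfsgLib.Solvable.pCore_isPGroup p) (CfsgLib.PLength.pSeriesLE_zero.mpr ?_)
    rw [← index_eq_card, ← index_comap_of_surjective _ (QuotientGroup.mk'_surjective _)]
    exact hidx
  · refine CfsgLib.PLength.PSeriesLE.mono (CfsgLib.PLength.pSeriesLE_zero.mpr ?_) zero_le_one
    exact ((hp.out.coprime_iff_not_dvd.mpr fun hd =>
      hpH (hd.trans (card_quotient_dvd_card _)))).symm

theorem pLengthLE_one_max (hG : Cfsg.IsMinSimpleOddOrder G) {M : Subgroup G} (hM : IsCoatom M) :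
    CfsgLib.PLength.PSeriesLE p 1 M := by
  haveI hsol : Group.IsSolvable M := minSimple_isSolvable hG hM.1
  by_cases hr : Cfsg.PRankLE p 2 M
  · exact pSeriesLE_one_of_prankLE_two (minSimple_odd hG M) hr
  have hpα : p ∈ Cfsg.alpha M := ⟨hp.out, hr⟩
  obtain ⟨⟨hNM, hNπ, hNidx⟩, -, hNσ, -, -⟩ := Cfsg.Agent.S1405.result hG M hM
  set K := Cfsg.piCore (Cfsg.alpha M) ↥M with hK
  have hpK : ¬ p ∣ K.index := by
    intro hd
    refine hNidx p hp.out hpα ?_
    rwa [Cfsg.alphaCore, relIndex, subgroupOf, comap_map_eq_self_of_injective M.subtype_injective]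
  have hKc : (Nat.card K).Coprime K.index := coprime_of_forall fun r hr' h1 h2 => by
    refine hNidx r hr' (piCore_spec (Cfsg.alpha M) r hr' h1) ?_
    rwa [Cfsg.alphaCore, relIndex, subgroupOf, comap_map_eq_self_of_injective M.subtype_injective]
  have hα0 : Cfsg.alphaCore M ≠ ⊥ := by
    intro h0
    apply hNidx p hp.out hpα
    rw [h0, relIndex_bot_left]
    exact dvd_card_of_mem_alpha hG hM hpα
  -- a prime outside `σ(M)`
  obtain ⟨q, hq, hqd⟩ : ∃ q : ℕ, q.Prime ∧ q ∣ (commutator ↥M).index := by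
    refine Nat.exists_prime_and_dvd fun h1 => ?_
    have hM1 : M ≠ ⊥ := fun e => hα0 (le_bot_iff.mp (hNM.trans e.le))
    haveI : Nontrivial M := nontrivial_iff_ne_bot M |>.mpr hM1
    exact (Group.IsSolvable.commutator_lt_top_of_nontrivial (G := ↥M)).ne (index_eq_one.mp h1)
  haveI : Fact q.Prime := ⟨hq⟩
  have hqσ : q ∉ Cfsg.sigma M := by
    intro hσ
    obtain ⟨T, hT, -⟩ := exists_sylowIn_le (IsPGroup.of_bot (p := q) (G := G)) (bot_le (a := M))
    refine hT.2.2 (Dvd.dvd.trans ?_ (relIndex_dvd_of_le_left M (sylowIn_le_derived hG hM hσ hT)))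
    rwa [← Subgroup.map_subtype_commutator, relIndex, subgroupOf,
      comap_map_eq_self_of_injective M.subtype_injective]
  have hqM : q ∣ Nat.card M := hqd.trans (index_dvd_card _)
  obtain ⟨S⟩ : Nonempty (Sylow q M) := inferInstance
  obtain ⟨x, hxS, hxo, hZ, -⟩ := Cfsg.Agent.S1407.result hG M hM hα0 q hqM hqσ S
  obtain ⟨w, hw, hwx⟩ := hxS
  obtain ⟨R, hR, -, hxR⟩ := CfsgLib.Coprime.exists_invariant_hall_ge (A := (⊥ : Subgroup ↥M))
    (G := (⊤ : Subgroup ↥M)) (U := zpowers w) bot_le
    (by rw [Subgroup.card_bot]; exact Nat.coprime_one_left _) inferInstance le_top bot_le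
    (π := {r | r ∉ Cfsg.alpha M}) (by
      intro r hr' hd
      rw [Nat.card_zpowers, show orderOf w = q from by rw [← hxo, ← hwx, ← Subgroup.orderOf_coe]; rfl] at hd
      rw [(Nat.prime_dvd_prime_iff_eq hr' hq).mp hd]
      exact fun h => hqσ (alpha_subset_sigma hG hM h))
  have hcompl : K.IsComplement' R := by
    refine isComplement'_of_coprime ?_ (coprime_of_forall fun r hr' h1 h2 =>
      hR.2.1 r hr' h2 (piCore_spec (Cfsg.alpha M) r hr' h1))
    have hKR : K.index = Nat.card R := by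
      have h1 := card_mul_index R
      rw [← card_mul_index K] at h1
      have hRidx : R.index.Coprime K.index := coprime_of_forall fun r hr' h1 h2 => by
        by_cases hrα : r ∈ Cfsg.alpha M
        · refine hNidx r hr' hrα ?_
          rwa [Cfsg.alphaCore, relIndex, subgroupOf, comap_map_eq_self_of_injective M.subtype_injective]
        · refine hR.2.2 r hr' hrα ?_
          rwa [relIndex_top_right]
      have hKR' : (Nat.card K).Coprime (Nat.card R) := coprime_of_forall fun r hr' h1 h2 =>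
        hR.2.1 r hr' h2 (piCore_spec (Cfsg.alpha M) r hr' h1)
      refine Nat.dvd_antisymm ?_ ?_
      · exact (hRidx.symm).dvd_of_dvd_mul_right (h1 ▸ dvd_mul_left _ _)
      · exact (hKR'.symm).dvd_of_dvd_mul_left (h1 ▸ dvd_mul_right _ _)
    rw [← hKR, card_mul_index]
  haveI : IsZGroup ↥(K ⊓ centralizer (zpowers w : Set ↥M)) := by
    haveI := hZ
    let f : ↥(K ⊓ centralizer (zpowers w : Set ↥M)) →*
        ↥(Cfsg.alphaCore M ⊓ centralizer ({x} : Set G)) :=
      { toFun := fun a => ⟨((a : M) : G), mem_inf.mpr ⟨mem_map_of_mem M.subtype (mem_inf.mp a.2).1, by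
          rw [mem_centralizer_singleton_iff, ← hwx]
          exact congrArg Subtype.val
            (mem_centralizer_iff.mp (mem_inf.mp a.2).2 w (mem_zpowers w)).symm⟩⟩
        map_one' := rfl
        map_mul' := fun _ _ => rfl }
    exact IsZGroup.of_injective (f := f) fun a b h =>
      Subtype.ext (Subtype.ext (congrArg Subtype.val h :))
  have hw0 : (Nat.card (zpowers w)).Prime := by
    rw [Nat.card_zpowers, show orderOf w = q from by rw [← hxo, ← hwx, ← Subgroup.orderOf_coe]; rfl]
    exact hq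
  have hlen := Cfsg.Agent.S1444.result (minSimple_odd hG M) K R (zpowers w) hKc hcompl hxR hw0
    inferInstance p
  have hKcomm : K ≤ commutator ↥M := by
    intro y hy
    have h1 : (y : G) ∈ ⁅M, M⁆ := sigmaCore_le_derived hG hM (hNσ (mem_map_of_mem M.subtype hy))
    rw [← Subgroup.map_subtype_commutator] at h1
    obtain ⟨z, hz, hzy⟩ := h1
    exact M.subtype_injective hzy ▸ hz
  obtain ⟨h1, -⟩ := Cfsg.Agent.S1459.result (G := ↥M)
  rw [← (h1 K R inferInstance hKc hcompl hKcomm).1, CfsgLib.PLength.pLengthLE_iff] at hlen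
  refine CfsgLib.PLength.PSeriesLE.of_normal (a := 1) (b := 0) K hlen
    (CfsgLib.PLength.pSeriesLE_zero.mpr ?_)
  rw [← index_eq_card]
  exact (hp.out.coprime_iff_not_dvd.mpr hpK).symm

theorem pLengthLE_one (hG : Cfsg.IsMinSimpleOddOrder G) {H : Subgroup G} (hH : H ≠ ⊤) :
    Cfsg.PLengthLE p 1 H := by
  obtain ⟨M, hM, hHM⟩ := (eq_top_or_exists_le_coatom H).resolve_left hH
  exact CfsgLib.PLength.pLengthLE_iff.mpr
    ((pLengthLE_one_max hG hM).of_injective (inclusion hHM) (inclusion_injective hHM))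

end CfsgLib.BG
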