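import Cfsg.Agent.Lib.BG.PLengthOne
import Cfsg.Agent.S1404
import Cfsg.Agent.S1410
import Cfsg.Agent.S1448
import Cfsg.Agent.S1459
import Cfsg.Agent.S1461

/-!
# Sylow subgroups of `G` and fusion in their normalizers
-/

set_option autoImplicit false
set_option linter.style.haveILetI false
set_option linter.unusedSectionVars false

namespace CfsgLib.BG

open Subgroup CfsgLib.PLocal CfsgLib.OddLocal
open scoped commutatorElement

universe u
variable {G : Type u} [Group G] [Finite G] {p : ℕ} [hp : Fact p.Prime]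
variable (hG : Cfsg.IsMinSimpleOddOrder G) {P : Subgroup G} (hP : SylowIn p P ⊤)
include hG hP

/-- A maximal subgroup over `N_G(P)`. -/
theorem exists_max_sylow (hP1 : P ≠ ⊥) (hPtop : P ≠ ⊤) :
    ∃ M : Subgroup G, IsCoatom M ∧ normalizer (P : Set G) ≤ M ∧ SylowIn p P M ∧ p ∈ Cfsg.sigma M := by
  obtain ⟨M, hM, hNM⟩ := (eq_top_or_exists_le_coatom (normalizer (P : Set G))).resolve_left
    (minSimple_normalizer_ne_top hG hP1 hPtop)
  have hPM : SylowIn p P M := by
    refine ⟨le_normalizer.trans hNM, hP.2.1, fun hd => hP.2.2 (hd.trans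
      ⟨M.relIndex ⊤, (relIndex_mul_relIndex _ _ _ (le_normalizer.trans hNM) le_top).symm⟩)⟩
  exact ⟨M, hM, hNM, hPM,
    mem_sigma_of_normalizer_le ((dvd_card_of_pgroup_ne_bot hP.2.1 hP1).trans (card_dvd_of_le hPM.1)) hPM hNM⟩

theorem sylow_ne_top (hP1 : P ≠ ⊥) : P ≠ ⊤ := by
  intro e
  have hpG : IsPGroup p G := by
    intro x
    obtain ⟨n, hn⟩ := hP.2.1 ⟨x, e ▸ mem_top x⟩
    exact ⟨n, congrArg Subtype.val hn⟩
  haveI : Nontrivial G := Nontrivial.mk (by
    obtain ⟨a, ha⟩ := Subgroup.ne_bot_iff_exists_ne_one.mp hP1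
    exact ⟨a, 1, fun h => ha (Subtype.ext h)⟩)
  haveI := hpG.center_nontrivial
  exact (nontrivial_iff_ne_bot (center G)).mp inferInstance (minSimple_center_eq_bot hG)

/-- `P ≤ N_G(P)'`. -/
theorem sylow_le_derived_normalizer' : P ≤ ⁅normalizer (P : Set G), normalizer (P : Set G)⁆ := by
  rcases eq_or_ne P ⊥ with h | hP1
  · exact h.le.trans bot_le
  obtain ⟨M, hM, hNM, hPM, hσ⟩ := exists_max_sylow hG hP hP1 (sylow_ne_top hG hP hP1)
  haveI : Group.IsSolvable M := minSimple_isSolvable hG hM.1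
  let S : Sylow p M := (hPM.2.1.comap_subtype).toSylow hPM.2.2
  obtain ⟨h1, -, -⟩ := Cfsg.Agent.S1461.result p (Cfsg.Agent.S1410.result hG p M hM.1) S
  have hSd : (S : Subgroup M) ≤ commutator ↥M := by
    intro y hy
    have h2 : (y : G) ∈ ⁅M, M⁆ := sylowIn_le_derived hG hM hσ hPM hy
    rw [← Subgroup.map_subtype_commutator] at h2
    obtain ⟨z, hz, hzy⟩ := h2
    exact M.subtype_injective hzy ▸ hz
  have h3 := map_mono (f := M.subtype) (h1 hSd)
  rw [map_commutator] at h3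
  refine (le_of_eq ?_).trans (h3.trans ?_)
  · show P = (P.subgroupOf M).map M.subtype
    rw [map_subgroupOf_eq_of_le hPM.1]
  · have hmap : (normalizer ((S : Subgroup M) : Set M)).map M.subtype ≤ normalizer (P : Set G) := by
      rintro _ ⟨g, hg, rfl⟩
      rw [mem_normalizer_iff]
      intro x
      constructor
      · intro hx
        exact (mem_normalizer_iff.mp hg ⟨x, hPM.1 hx⟩).mp hx
      · intro hx
        have hxM : x ∈ M := by
          have := mul_mem (mul_mem (inv_mem g.2) (hPM.1 hx)) g.2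
          simpa [mul_assoc] using this
        exact (mem_normalizer_iff.mp hg ⟨x, hxM⟩).mpr hx
    exact commutator_mono hmap hmap

theorem sylow_eq_commutator_compl {V : Subgroup G}
    (hV : Cfsg.IsComplIn P V (normalizer (P : Set G))) : P = ⁅P, V⁆ := by
  set N := normalizer (P : Set G) with hN
  obtain ⟨hPN, hVN, hdis, hall⟩ := hV
  rcases eq_or_ne P ⊥ with h | hP1
  · rw [h]; simp
  haveI : Group.IsSolvable N := minSimple_isSolvable hG
    (minSimple_normalizer_ne_top hG hP1 (sylow_ne_top hG hP hP1))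
  have hcop : (Nat.card (P.subgroupOf N)).Coprime (P.subgroupOf N).index := by
    rw [CfsgLib.Coprime.card_subgroupOf hPN]
    obtain ⟨n, hn⟩ := IsPGroup.iff_card.mp hP.2.1
    rw [hn]
    exact Nat.Coprime.pow_left _ (hp.out.coprime_iff_not_dvd.mpr fun h => hP.2.2 (h.trans
      ⟨N.relIndex ⊤, (relIndex_mul_relIndex _ _ _ hPN le_top).symm⟩))
  haveI hn : (P.subgroupOf N).Normal := normal_subgroupOf_iff_le_normalizer hPN |>.mpr le_rfl
  have hc : (P.subgroupOf N).IsComplement' (V.subgroupOf N) := by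
    refine isComplement'_of_disjoint_and_mul_eq_univ ?_ ?_
    · rw [disjoint_iff, eq_bot_iff]
      intro y hy
      obtain ⟨h1, h2⟩ := mem_inf.mp hy
      have : (y : G) ∈ P ⊓ V := mem_inf.mpr ⟨h1, h2⟩
      rw [hdis, mem_bot] at this
      exact mem_bot.mpr (Subtype.ext this)
    · refine Set.eq_univ_of_forall fun x => ?_
      obtain ⟨a, ha, b, hb, hab⟩ := hall x x.2
      exact ⟨⟨a, hPN ha⟩, ha, ⟨b, hVN hb⟩, hb, Subtype.ext hab.symm⟩
  have hle : P.subgroupOf N ≤ commutator N := by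
    intro y hy
    have h2 : (y : G) ∈ ⁅N, N⁆ := sylow_le_derived_normalizer' hG hP hy
    rw [← Subgroup.map_subtype_commutator] at h2
    obtain ⟨z, hz, hzy⟩ := h2
    exact N.subtype_injective hzy ▸ hz
  have h := congrArg (Subgroup.map N.subtype)
    ((Cfsg.Agent.S1459.result (G := ↥N)).1 _ _ hn hcop hc hle).1
  rwa [map_commutator, map_subgroupOf_eq_of_le hPN, map_subgroupOf_eq_of_le hVN] at h

/-- Fusion of subgroups of `P` takes place in `N_G(P)`. -/
theorem exists_normalizer_conj {Q : Subgroup G} {x : G} (hQ : Q ≤ P) (hQx : conjMap x Q ≤ P) :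
    ∃ y ∈ normalizer (P : Set G), conjMap x Q = conjMap y Q := by
  rcases eq_or_ne Q ⊥ with rfl | hQ1
  · exact ⟨1, one_mem _, by show Subgroup.map _ _ = Subgroup.map _ _; rw [Subgroup.map_bot, Subgroup.map_bot]⟩
  have hP1 : P ≠ ⊥ := fun e => hQ1 (le_bot_iff.mp (hQ.trans e.le))
  obtain ⟨M, hM, -, hPM, hσ⟩ := exists_max_sylow hG hP hP1 (sylow_ne_top hG hP hP1)
  obtain ⟨hfus, -⟩ := Cfsg.Agent.S1404.result hG M hM p hσ Q (hP.2.1.to_le hQ) hQ1 (hQ.trans hPM.1)
  obtain ⟨m, hm, c, hc, rfl⟩ := hfus x (hQx.trans hPM.1)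
  have hmQ : conjMap (m * c) Q = conjMap m Q := by
    rw [← conjMap_conjMap, conjMap_eq_self_iff.mpr (centralizer_le_normalizer _ hc)]
  rw [hmQ] at hQx ⊢
  haveI : Group.IsSolvable M := minSimple_isSolvable hG hM.1
  let S : Sylow p M := (hPM.2.1.comap_subtype).toSylow hPM.2.2
  obtain ⟨-, h2, -⟩ := Cfsg.Agent.S1461.result p (Cfsg.Agent.S1410.result hG p M hM.1) S
  obtain ⟨g, hg, d, hd, hgd⟩ := h2 ((Q.subgroupOf M : Subgroup M) : Set M) ⟨m, hm⟩
    (fun y hy => hQ hy) (by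
      rintro _ ⟨y, hy, rfl⟩
      exact hQx (conj_mem_conjMap hy))
  have hgN : (g : G) ∈ normalizer (P : Set G) := by
    rw [mem_normalizer_iff]
    intro z
    constructor
    · intro hz
      exact (mem_normalizer_iff.mp hg ⟨z, hPM.1 hz⟩).mp hz
    · intro hz
      have hzM : z ∈ M := by
        have := mul_mem (mul_mem (inv_mem g.2) (hPM.1 hz)) g.2
        simpa [mul_assoc] using this
      exact (mem_normalizer_iff.mp hg ⟨z, hzM⟩).mpr hz
  have hdC : (d : G) ∈ centralizer (Q : Set G) := mem_centralizer_iff.mpr fun q hq =>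
    congrArg Subtype.val (mem_centralizer_iff.mp hd ⟨q, hPM.1 (hQ hq)⟩ hq)
  refine ⟨g, hgN, ?_⟩
  rw [show m = (g : G) * d from congrArg Subtype.val hgd.symm, ← conjMap_conjMap,
    conjMap_eq_self_iff.mpr (centralizer_le_normalizer _ hdC)]

/-- `N_P(Q)` is a Sylow subgroup of `N_G(Q)`. -/
theorem sylow_normalizer_inf {Q : Subgroup G} (hQ : Q ≤ P) :
    ¬ p ∣ (P ⊓ normalizer (Q : Set G)).relIndex (normalizer (Q : Set G)) := by
  set H := normalizer (Q : Set G) with hH
  obtain ⟨S, hS, hle⟩ := exists_sylowIn_le (hP.2.1.to_le (inf_le_left : P ⊓ H ≤ P)) inf_le_right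
  obtain ⟨Q', hQ', hQS⟩ := exists_sylowIn_le (hP.2.1.to_le hQ) (le_normalizer : Q ≤ H)
  obtain ⟨k, hk, hkQ⟩ := hS.exists_conj_eq hQ'
  have hQS' : Q ≤ S := by
    rw [← conjMap_eq_self_iff.mpr hk, ← hkQ]
    exact conjMap_mono hQS
  obtain ⟨x, -, hx⟩ := hP.exists_conj_le hS.2.1 le_top
  obtain ⟨y, hy, hxy⟩ := exists_normalizer_conj hG hP hQ ((conjMap_mono hQS').trans hx)
  have hz : y⁻¹ * x ∈ H := by
    rw [hH, ← conjMap_eq_self_iff, ← conjMap_conjMap, hxy, conjMap_inv_conjMap]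
  have hT : conjMap (y⁻¹ * x) S ≤ P ⊓ H := by
    refine le_inf ?_ ((conjMap_mono hS.1).trans (conjMap_eq_self_iff.mpr (le_normalizer hz)).le)
    rw [← conjMap_conjMap]
    exact (conjMap_mono hx).trans (conjMap_eq_self_iff.mpr (inv_mem hy)).le
  have heq : P ⊓ H = S := eq_of_le_of_card_ge hle (by
    rw [← card_conjMap (y⁻¹ * x) S]; exact card_le_of_le hT)
  rw [heq]
  exact hS.2.2

theorem normalizer_le_of_weakly_closed {R Q : Subgroup G} (hR : IsPGroup p R) (hQ : Q ≤ P ⊓ R)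
    (hN : normalizer (P : Set G) ≤ normalizer (Q : Set G)) :
    normalizer (R : Set G) ≤ normalizer (Q : Set G) := by
  obtain ⟨x, -, hx⟩ := hP.exists_conj_le hR le_top
  have key : ∀ u : G, conjMap u Q ≤ P → conjMap u Q = Q := fun u hu => by
    obtain ⟨y, hy, huy⟩ := exists_normalizer_conj hG hP (hQ.trans inf_le_left) hu
    rw [huy, conjMap_eq_self_iff.mpr (hN hy)]
  intro g hg
  have h1 : conjMap x Q = Q := key x ((conjMap_mono (hQ.trans inf_le_right)).trans hx)
  have h2 : conjMap (x * g) Q = Q := key _ (by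
    rw [← conjMap_conjMap]
    exact (conjMap_mono ((conjMap_mono (hQ.trans inf_le_right)).trans
      (conjMap_eq_self_iff.mpr hg).le)).trans hx)
  rw [← conjMap_eq_self_iff, ← conjMap_inv_conjMap x (conjMap g Q), conjMap_conjMap x g, h2]
  nth_rewrite 1 [← h1]
  rw [conjMap_inv_conjMap]

theorem rank_two_sylow (hr : Cfsg.PRankLE p 2 P) :
    IsMulCommutative P ∨ ∃ P₁ P₂ : Subgroup G, P₁ ⊔ P₂ = P ∧ (∀ a ∈ P₁, ∀ b ∈ P₂, a * b = b * a) ∧
      ¬ IsMulCommutative P₁ ∧ Nat.card P₁ = p ^ 3 ∧ Monoid.exponent P₁ = p ∧ IsCyclic P₂ ∧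
      Subgroup.closure {x : G | x ∈ P₂ ∧ x ^ p = 1} = P₁ ⊓ Subgroup.centralizer (P₁ : Set G) := by
  rcases eq_or_ne P ⊥ with rfl | hP1
  · exact Or.inl inferInstance
  have hidx : ¬ p ∣ P.index := by rw [← relIndex_top_right]; exact hP.2.2
  set N := normalizer (P : Set G) with hN
  have hp2 : p ≠ 2 := by
    rintro rfl
    exact (Nat.not_even_iff_odd.mpr hG.1) (even_iff_two_dvd.mpr
      ((dvd_card_of_pgroup_ne_bot hP.2.1 hP1).trans (card_subgroup_dvd_card _)))
  have hcop : (Nat.card (P.subgroupOf N)).Coprime (P.subgroupOf N).index := by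
    rw [CfsgLib.Coprime.card_subgroupOf le_normalizer]
    obtain ⟨n, hn⟩ := IsPGroup.iff_card.mp hP.2.1
    rw [hn]
    exact Nat.Coprime.pow_left _ (hp.out.coprime_iff_not_dvd.mpr fun h => hP.2.2 (h.trans
      ⟨N.relIndex ⊤, (relIndex_mul_relIndex _ _ _ le_normalizer le_top).symm⟩))
  haveI : (P.subgroupOf N).Normal := normal_subgroupOf_iff_le_normalizer le_normalizer |>.mpr le_rfl
  obtain ⟨W, hW⟩ := exists_right_complement'_of_coprime hcop
  have hV : Cfsg.IsComplIn P (W.map N.subtype) N := by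
    refine ⟨le_normalizer, map_subtype_le _, ?_, fun x hx => ?_⟩
    · refine (Subgroup.eq_bot_iff_forall _).mpr ?_
      rintro _ ⟨hx, y, hy, rfl⟩
      have : y ∈ P.subgroupOf N ⊓ W := mem_inf.mpr ⟨hx, hy⟩
      rw [disjoint_iff.mp hW.disjoint, mem_bot] at this
      rw [this, map_one]
    · obtain ⟨⟨a, b⟩, hab, -⟩ := hW.existsUnique ⟨x, hx⟩
      exact ⟨_, a.2, _, ⟨b, b.2, rfl⟩, (congrArg Subtype.val hab).symm⟩
  have hcopV : (Nat.card (W.map N.subtype)).Coprime p := by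
    have hd : Nat.card W = (P.subgroupOf N).index := hW.symm.index_eq_card.symm
    rw [card_map_of_injective N.subtype_injective, hd]
    exact (hp.out.coprime_iff_not_dvd.mpr fun h => hP.2.2 (h.trans
      ⟨N.relIndex ⊤, (relIndex_mul_relIndex _ _ _ le_normalizer le_top).symm⟩)).symm
  obtain ⟨-, h⟩ := Cfsg.Agent.S1448.result p hp2 P (W.map N.subtype) hP.2.1 hP1 hr hV.2.1 hcopV
    (minSimple_odd hG _) (sylow_eq_commutator_compl hG hP hV).symm
  refine h.imp id fun ⟨P₁, P₂, hsup, hcomm, hna, hc, he, hcyc, hΩ⟩ =>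
    ⟨P₁, P₂, hsup, hcomm, hna, hc, he, hcyc, hΩ.trans ?_⟩
  -- `[P₁, P₁] = Z(P₁)`
  have hZeq : P₁ ⊓ centralizer (P₁ : Set G) = (center P₁).map P₁.subtype := by
    ext x
    constructor
    · intro hx
      obtain ⟨hx1, hx2⟩ := mem_inf.mp hx
      exact ⟨⟨x, hx1⟩, mem_center_iff.mpr fun a => Subtype.ext (mem_centralizer_iff.mp hx2 a a.2), rfl⟩
    · rintro ⟨y, hy, rfl⟩
      exact mem_inf.mpr ⟨y.2, mem_centralizer_iff.mpr fun a ha =>
        congrArg Subtype.val (mem_center_iff.mp hy ⟨a, ha⟩)⟩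
  rw [hZeq, ← Subgroup.map_subtype_commutator]
  congr 1
  have hp1 : IsPGroup p P₁ := IsPGroup.of_card hc
  haveI : Nontrivial P₁ := by
    rw [← Finite.one_lt_card_iff_nontrivial, hc]
    exact Nat.one_lt_pow (by norm_num) hp.out.one_lt
  haveI := hp1.center_nontrivial
  obtain ⟨k, hk⟩ := IsPGroup.iff_card.mp (hp1.to_subgroup (center P₁))
  have hk0 : k ≠ 0 := by
    intro h0
    have := Finite.one_lt_card (α := center P₁)
    rw [hk, h0, pow_zero] at this
    exact lt_irrefl _ this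
  have hne2 : ∀ (hd : Nat.card (P₁ ⧸ center P₁) ∣ p), False := fun hd => by
    refine hna ?_
    haveI : IsCyclic (P₁ ⧸ center P₁) := by
      rcases (Nat.dvd_prime hp.out).mp hd with h1 | h1
      · haveI := (Nat.card_eq_one_iff_unique.mp h1).1; infer_instance
      · exact isCyclic_of_prime_card h1
    exact (QuotientGroup.mk' (center P₁)).isMulCommutative_of_isCyclic_of_ker_le_center
      (QuotientGroup.ker_mk' _).le
  have hmul := card_eq_card_quotient_mul_card_subgroup (center P₁)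
  rw [hc, hk] at hmul
  have hk1 : k = 1 := by
    by_contra hk1
    refine hne2 ?_
    have h1 : p ^ 2 ∣ p ^ k := pow_dvd_pow p (by omega)
    obtain ⟨c, hcc⟩ := h1
    refine ⟨c, ?_⟩
    refine Nat.eq_of_mul_eq_mul_right (pow_pos hp.out.pos 2) ?_
    calc p * p ^ 2 = p ^ 3 := by ring
      _ = Nat.card (P₁ ⧸ center P₁) * (p ^ 2 * c) := by rw [← hcc]; exact hmul
      _ = Nat.card (P₁ ⧸ center P₁) * c * p ^ 2 := by ring
  subst hk1
  have hq : Nat.card (P₁ ⧸ center P₁) = p ^ 2 :=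
    Nat.eq_of_mul_eq_mul_right (pow_pos hp.out.pos 1) (by rw [← hmul]; ring)
  haveI : IsMulCommutative (P₁ ⧸ center P₁) := IsPGroup.isMulCommutative_of_card_eq_prime_sq hq
  have hle : commutator P₁ ≤ center P₁ := by
    rw [← QuotientGroup.ker_mk' (center P₁)]
    rw [_root_.commutator_def, commutator_le]
    intro a _ b _
    rw [MonoidHom.mem_ker, map_commutatorElement, commutatorElement_eq_one_iff_mul_comm]
    exact mul_comm' _ _
  refine eq_of_le_of_card_ge hle ?_
  rw [hk, pow_one]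
  refine Nat.le_of_dvd Nat.card_pos (dvd_card_of_pgroup_ne_bot (hp1.to_subgroup _) fun h0 => hna ?_)
  refine ⟨⟨fun a b => ?_⟩⟩
  have hm : ⁅a, b⁆ ∈ commutator P₁ := by
    rw [_root_.commutator_def]; exact commutator_mem_commutator (mem_top _) (mem_top _)
  rw [h0, mem_bot] at hm
  exact commutatorElement_eq_one_iff_mul_comm.mp hm

end CfsgLib.BG
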