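import Cfsg.Agent.Lib.BG.Narrow
import Cfsg.Agent.Lib.BG.SylowNormalizer
import Cfsg.Agent.Lib.BG.Sigma
import Cfsg.Agent.Lib.Solvable.NilpotentHall
import Cfsg.Agent.Lib.Transfer.Basic
import Cfsg.Agent.Lib.OddLocal.FixedPointLemma
import Cfsg.Agent.S1455

/-!
# Narrow Sylow subgroups, normal `p`-complements and the Hall subgroup `M_β`
-/

set_option autoImplicit false
set_option linter.style.haveILetI false
set_option linter.unusedSectionVars false

namespace CfsgLib.BG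

open Subgroup CfsgLib.PLocal CfsgLib.OddLocal
open scoped commutatorElement

universe u
variable {G : Type u} [Group G] [Finite G] {p : ℕ} [hp : Fact p.Prime]

theorem IsSq.exists_line_ne {A X Y : Subgroup G} (hA : IsSq p A) (hX : IsLine p A X)
    (hY : IsLine p A Y) : ∃ R, IsLine p A R ∧ R ≠ X ∧ R ≠ Y := by
  obtain ⟨x, hx, hx1⟩ := (bot_or_exists_ne_one X).resolve_left (ne_bot_of_card_prime hX.2)
  obtain ⟨y, hy, hy1⟩ := (bot_or_exists_ne_one Y).resolve_left (ne_bot_of_card_prime hY.2)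
  rcases eq_or_ne X Y with rfl | hne
  · obtain ⟨a, ha, hna⟩ := SetLike.not_le_iff_exists.mp (show ¬ A ≤ X from fun h => by
      have := card_le_of_le h
      rw [hA.2, hX.2] at this
      nlinarith [hp.out.one_lt])
    have ha1 : a ≠ 1 := fun h => hna (h ▸ one_mem X)
    refine ⟨_, hA.card_zpowers ha ha1, ?_, ?_⟩ <;> exact fun h => hna (h ▸ mem_zpowers a)
  · have h1 : x * y ∉ X := fun h => hne (eq_of_le_of_card_ge (show Y ≤ X by
      rw [← zpowers_eq_of_card_prime hY.2 hy hy1]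
      exact zpowers_le.mpr ((mul_mem_cancel_left hx).mp h)) (by rw [hX.2, hY.2])).symm
    have h2 : x * y ∉ Y := fun h => hne (eq_of_le_of_card_ge (show X ≤ Y by
      rw [← zpowers_eq_of_card_prime hX.2 hx hx1]
      exact zpowers_le.mpr ((mul_mem_cancel_right hy).mp h)) (by rw [hX.2, hY.2]))
    exact ⟨_, hA.card_zpowers (mul_mem (hX.1 hx) (hY.1 hy)) (fun h => h1 (h ▸ one_mem X)),
      fun h => h1 (h ▸ mem_zpowers _), fun h => h2 (h ▸ mem_zpowers _)⟩

theorem isNarrow_of_injective {R : Type u} [Group R] (f : R →* G) (hf : Function.Injective f)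
    {R₀ R₁ : Subgroup G} (h₀ : R₀ ≤ f.range) (h₁ : R₁ ≤ f.range) (hc : Nat.card R₀ = p)
    (hcyc : IsCyclic R₁) (hinf : R₀ ⊓ R₁ = ⊥) (hcomm : R₁ ≤ centralizer (R₀ : Set G))
    (hsup : R₀ ⊔ R₁ = f.range ⊓ centralizer (R₀ : Set G)) : Cfsg.IsNarrow p R := by
  refine Or.inr ⟨R₀.comap f, R₁.comap f, ?_, ?_, ?_, fun a ha b hb => hf ?_, ?_⟩
  · rw [← card_map_of_injective hf, map_comap_eq_self h₀, hc]
  · haveI := hcyc
    exact isCyclic_of_injective (f.subgroupComap R₁) fun a b h =>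
      Subtype.ext (hf (congrArg Subtype.val h))
  · rw [← comap_inf, hinf, MonoidHom.comap_bot]
    exact (MonoidHom.ker_eq_bot_iff f).mpr hf
  · rw [map_mul, map_mul]
    exact mem_centralizer_iff.mp (hcomm hb) _ ha
  · refine map_injective hf ?_
    rw [Subgroup.map_sup, map_comap_eq_self h₀, map_comap_eq_self h₁, hsup]
    ext x
    constructor
    · rintro ⟨⟨y, rfl⟩, hx⟩
      exact ⟨y, mem_centralizer_iff.mpr fun a ha => hf (by
        rw [map_mul, map_mul]; exact mem_centralizer_iff.mp hx _ ha), rfl⟩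
    · rintro ⟨y, hy, rfl⟩
      refine ⟨⟨y, rfl⟩, mem_centralizer_iff.mpr fun a ha => ?_⟩
      obtain ⟨b, rfl⟩ := h₀ ha
      rw [← map_mul, ← map_mul, mem_centralizer_iff.mp hy b ha]

/-- A Sylow subgroup of rank at least 3 at a non-ideal prime splits a centralizer of a line. -/
theorem exists_narrow_split (hG : Cfsg.IsMinSimpleOddOrder G) {T : Subgroup G} (hT : SylowIn p T ⊤)
    (hr : ¬ Cfsg.PRankLE p 2 T) (hid : ¬ Cfsg.IsIdealPrime p G) :
    ∃ R₀ R₁ : Subgroup G, R₀ ≤ T ∧ R₁ ≤ T ∧ Nat.card R₀ = p ∧ IsCyclic R₁ ∧ R₀ ⊓ R₁ = ⊥ ∧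
      R₁ ≤ centralizer (R₀ : Set G) ∧ R₀ ⊔ R₁ = T ⊓ centralizer (R₀ : Set G) := by
  obtain ⟨E, hET, hE, hElt⟩ := not_prankLE_iff.mp hr
  obtain ⟨P, A₀, hA₀P, hA₀, hA₀c, hmax⟩ : ∃ (P : Sylow p G) (A : Subgroup G), A ≤ (P : Subgroup G) ∧
      Cfsg.IsElementaryAbelian p A ∧ Nat.card A = p ^ 2 ∧
      ∀ B : Subgroup G, B ≤ (P : Subgroup G) → Cfsg.IsElementaryAbelian p B → ¬ A < B := by
    by_contra hno
    refine hid ⟨hp.out, fun h => absurd (h E hE.1 hE.2) (not_le.mpr hElt), fun P A h1 h2 h3 => ?_⟩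
    by_contra hB
    exact hno ⟨P, A, h1, h2, h3, fun B hB1 hB2 hB3 => hB ⟨B, hB1, hB2, hB3⟩⟩
  obtain ⟨k, -, hk⟩ := hT.exists_conj_eq (CfsgLib.PLocal.sylowIn_top P)
  set A := conjMap k A₀ with hAdef
  have hA : IsSq p A := IsSq.conjMap ⟨hA₀, hA₀c⟩ k
  have hAT : A ≤ T := hk ▸ conjMap_mono hA₀P
  have hmaxT : ∀ B : Subgroup G, B ≤ T → Cfsg.IsElementaryAbelian p B → A ≤ B → B = A := by
    intro B hBT hB hAB
    have h1 : conjMap k⁻¹ B ≤ P := by
      have := conjMap_mono (g := k⁻¹) hBT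
      rwa [← hk, conjMap_inv_conjMap] at this
    have h2 : A₀ ≤ conjMap k⁻¹ B := by
      have := conjMap_mono (g := k⁻¹) hAB
      rwa [hAdef, conjMap_inv_conjMap] at this
    have h3 : A₀ = conjMap k⁻¹ B := eq_of_le_of_not_lt h2 (hmax _ h1 (elemAb_map _ hB))
    refine (eq_of_le_of_card_ge hAB ?_).symm
    rw [hAdef, h3, card_conjMap, card_conjMap]
  have hMS : IsMaxSq p A := by
    refine ⟨hA, fun B hB hAB => ?_⟩
    have hBN : B ≤ normalizer (A : Set G) :=
      ((elemAb_le_centralizer hB).trans (Subgroup.centralizer_le hAB)).trans (centralizer_le_normalizer _)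
    have hS : SylowIn p (T ⊓ normalizer (A : Set G)) (normalizer (A : Set G)) :=
      ⟨inf_le_right, hT.2.1.to_le inf_le_left, sylow_normalizer_inf hG hT hAT⟩
    obtain ⟨n, hn, hnB⟩ := hS.exists_conj_le (elemAb_isPGroup hB) hBN
    have hnA : conjMap n A = A := conjMap_eq_self_iff.mpr hn
    have h1 := hmaxT (conjMap n B) (hnB.trans inf_le_left) (elemAb_map _ hB) (hnA ▸ conjMap_mono hAB)
    refine (eq_of_le_of_card_ge hAB ?_).symm
    rw [← card_conjMap n B, h1]
  have hna : ¬ IsMulCommutative T := by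
    intro hc
    have hEA : E ≤ centralizer (A : Set G) := fun e he => mem_centralizer_iff.mpr fun a ha =>
      congrArg Subtype.val (hc.is_comm.comm ⟨a, hAT ha⟩ ⟨e, hET he⟩)
    have h1 := hMS.2 _ (elemAb_sup hA.1 hE (le_centralizer_iff.mp hEA)) le_sup_left
    have h2 := card_le_of_le (le_sup_right.trans h1.le : E ≤ A)
    rw [hA.2] at h2
    omega
  have hT1 : T ≠ ⊥ := fun e => hA.ne_bot (le_bot_iff.mp (hAT.trans e.le))
  haveI : Nontrivial T := nontrivial_iff_ne_bot T |>.mpr hT1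
  haveI := hT.2.1.center_nontrivial
  obtain ⟨z, ⟨⟨w, hwc, rfl⟩, hzo⟩⟩ := exists_order_p (P := (center T).map T.subtype)
    ((hT.2.1.to_subgroup _).map T.subtype) (by
      rw [Ne, map_eq_bot_iff_of_injective _ T.subtype_injective]
      exact (nontrivial_iff_ne_bot _).mp inferInstance)
  set z := T.subtype w with hz
  have hzC : z ∈ centralizer (T : Set G) := mem_centralizer_iff.mpr fun a ha =>
    congrArg Subtype.val (mem_center_iff.mp hwc ⟨a, ha⟩)
  have hzA : z ∈ A := hMS.mem_of_pow_eq_one (Subgroup.centralizer_le hAT hzC)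
    (hzo ▸ pow_orderOf_eq_one z)
  have hZ : IsLine p A (zpowers z) :=
    hA.card_zpowers hzA fun h => hp.out.ne_one (by rw [← hzo, h, orderOf_one])
  have hC : ∀ R, IsLine p A R → R ≠ zpowers z →
      T ⊓ centralizer (R : Set G) = T ⊓ centralizer (A : Set G) := by
    intro R hR hne
    refine le_antisymm (le_inf inf_le_left ?_) (inf_le_inf_left _ (Subgroup.centralizer_le hR.1))
    rw [le_centralizer_iff]
    conv_lhs => rw [← IsLine.sup_eq hA hR hZ hne]
    refine sup_le (le_centralizer_iff.mp inf_le_right) (zpowers_le.mpr ?_)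
    exact Subgroup.centralizer_le inf_le_left hzC
  obtain ⟨Y, hY, hYC, hAY⟩ := (hMS.centralizer_sylow hG hT hAT).2 hna
  rcases eq_or_ne Y ⊥ with rfl | hY1
  · obtain ⟨R, hR, hne, -⟩ := hA.exists_line_ne hZ hZ
    refine ⟨R, zpowers z, hR.1.trans hAT, hZ.1.trans hAT, hR.2, inferInstance, ?_, ?_, ?_⟩
    · refine card_eq_one.mp (((Nat.dvd_prime hp.out).mp (hR.2 ▸ card_dvd_of_le inf_le_left)).resolve_right
        fun h => hne ?_)
      have e1 : R ⊓ zpowers z = R := eq_of_le_of_card_ge inf_le_left (by rw [h, hR.2])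
      exact eq_of_le_of_card_ge (e1 ▸ inf_le_right) (by rw [hR.2, hZ.2])
    · exact (hZ.1.trans hA.le_centralizer).trans (Subgroup.centralizer_le hR.1)
    · rw [hC R hR hne, ← hAY, sup_bot_eq, IsLine.sup_eq hA hR hZ hne]
  · obtain ⟨y, hyY, hyo⟩ := exists_order_p (hT.2.1.to_le (hYC.trans inf_le_left)) hY1
    have hyA : y ∈ A := hMS.mem_of_pow_eq_one (hYC hyY).2 (hyo ▸ pow_orderOf_eq_one y)
    have hL : IsLine p A (zpowers y) :=
      hA.card_zpowers hyA fun h => hp.out.ne_one (by rw [← hyo, h, orderOf_one])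
    obtain ⟨R, hR, hne, hneL⟩ := hA.exists_line_ne hZ hL
    refine ⟨R, Y, hR.1.trans hAT, hYC.trans inf_le_left, hR.2, hY, ?_, ?_, ?_⟩
    · refine card_eq_one.mp (((Nat.dvd_prime hp.out).mp (hR.2 ▸ card_dvd_of_le inf_le_left)).resolve_right
        fun h => ?_)
      have e1 : R ⊓ Y = R := eq_of_le_of_card_ge inf_le_left (by rw [h, hR.2])
      haveI := hY
      exact hA.not_isCyclic (isCyclic_of_le (show A ≤ Y by
        rw [← IsLine.sup_eq hA hR hL hneL]
        exact sup_le (e1 ▸ inf_le_right) (zpowers_le.mpr hyY)))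
    · exact (hYC.trans inf_le_right).trans (Subgroup.centralizer_le hR.1)
    · rw [hC R hR hne, ← hAY, ← IsLine.sup_eq hA hR hL hneL, sup_assoc,
        sup_eq_right.mpr (zpowers_le.mpr hyY)]

variable {M : Subgroup G}

theorem isNarrow_sylow_of_not_beta (hG : Cfsg.IsMinSimpleOddOrder G) (hM : IsCoatom M)
    (hβ : p ∉ Cfsg.beta M) (S : Sylow p M) : Cfsg.IsNarrow p ↥(S : Subgroup M) := by
  set f := M.subtype.comp (S : Subgroup M).subtype with hf
  have hinj : Function.Injective f := M.subtype_injective.comp (Subgroup.subtype_injective _)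
  set T := (S : Subgroup M).map M.subtype with hTdef
  have hrange : f.range = T := by rw [hf, MonoidHom.range_comp, range_subtype]
  by_cases hr : Cfsg.PRankLE p 2 T
  · refine Or.inl fun E hEc hEe => ?_
    haveI := hEc
    rw [← card_map_of_injective hinj]
    exact elemAb_card_le (elemAb_map f ⟨hEc, hEe⟩) ((map_le_range f E).trans hrange.le) hr
  have hT : SylowIn p T M := sylowIn_map S
  have hα : p ∈ Cfsg.alpha M := ⟨hp.out, fun h => hr (prankLE_mono hT.1 h)⟩
  obtain ⟨R₀, R₁, h0, h1, hc, hcyc, hinf, hcomm, hsup⟩ :=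
    exists_narrow_split hG (sylowIn_top (mem_sigma_of_mem_alpha hG hM hα) hT) hr fun hid => hβ ⟨hα, hid⟩
  exact isNarrow_of_injective f hinj (h0.trans hrange.ge) (h1.trans hrange.ge) hc hcyc hinf hcomm
    (hrange ▸ hsup)

/-- Consequences of narrowness for `M`. -/
theorem normalPComplement_of_not_beta (hG : Cfsg.IsMinSimpleOddOrder G) (hM : IsCoatom M)
    (hpM : p ∣ Nat.card M) (hβ : p ∉ Cfsg.beta M) :
    Cfsg.HasNormalPComplement p ↥⁅M, M⁆ ∧ Cfsg.HasNormalPComplement p ↥(Cfsg.sigmaCore M) ∧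
      ∀ q : ℕ, q.Prime → q ∣ (Cfsg.pPrimeCore p ↥M).index → q ≤ p := by
  haveI : Group.IsSolvable M := minSimple_isSolvable hG hM.1
  obtain ⟨S⟩ : Nonempty (Sylow p M) := inferInstance
  obtain ⟨hidx, -, hc, -⟩ := Cfsg.Agent.S1455.result (minSimple_odd hG M) p hpM S
    (isNarrow_sylow_of_not_beta hG hM hβ S) fun _ => Cfsg.Agent.S1410.result hG p M hM.1
  have hd : Cfsg.HasNormalPComplement p ↥⁅M, M⁆ := by
    have h1 : (commutator ↥M).map M.subtype = ⁅M, M⁆ := map_subtype_commutator M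
    exact CfsgLib.Transfer.hasNormalPComplement_of_injective
      (((MulEquiv.subgroupCongr h1.symm).trans
        (equivMapOfInjective _ _ M.subtype_injective).symm).toMonoidHom)
      (MulEquiv.injective _) hc
  exact ⟨hd, CfsgLib.Transfer.hasNormalPComplement_of_injective
    (inclusion (sigmaCore_le_derived hG hM)) (inclusion_injective _) hd, hidx⟩

variable (hG : Cfsg.IsMinSimpleOddOrder G) (hM : IsCoatom M)
include hG hM

theorem exists_nilpotent_hall_not_beta {D : Subgroup G} (hD : D ≤ ⁅M, M⁆) :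
    ∃ H : Subgroup G, Cfsg.IsPiHallOf {q | q.Prime ∧ q ∉ Cfsg.beta M} H D ∧ Group.IsNilpotent H := by
  have hDM : D ≤ M := hD.trans (commutator_le_self M)
  obtain ⟨H, hH, -⟩ := CfsgLib.Coprime.exists_invariant_hall (A := (⊥ : Subgroup G)) (G := D) bot_le
    (by rw [Subgroup.card_bot]; exact Nat.coprime_one_left _) (isSolvable_of_le_max hG hM hDM)
    {q | q.Prime ∧ q ∉ Cfsg.beta M}
  refine ⟨H, hH, CfsgLib.Solvable.isNilpotent_of_forall_hasNormalPComplement fun r hr => ?_⟩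
  haveI : Fact r.Prime := ⟨hr⟩
  by_cases hrd : r ∣ Nat.card H
  · exact CfsgLib.Transfer.hasNormalPComplement_of_injective
      (inclusion (hH.1.trans hD)) (inclusion_injective _)
      (normalPComplement_of_not_beta hG hM (hrd.trans (card_dvd_of_le (hH.1.trans hDM)))
        (hH.2.1 r hr hrd).2).1
  · rw [CfsgLib.Transfer.hasNormalPComplement_iff_coprime_pResidual]
    exact ((hr.coprime_iff_not_dvd.mpr fun h => hrd (h.trans (card_subgroup_dvd_card _)))).symm

/-- `O_π(M)` contains the `π`-subgroups of `M'` of prime power order, for `β(M) ⊆ π`. -/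
theorem le_piCoreOf_of_derived {π : Set ℕ} (hπ : Cfsg.beta M ⊆ π) {q : ℕ} [hq : Fact q.Prime]
    (hqπ : q ∈ π) {T : Subgroup G} (hT : IsPGroup q T) (hTD : T ≤ ⁅M, M⁆) :
    T ≤ Cfsg.piCoreOf π M := by
  set D := ⁅M, M⁆ with hD
  have hDM : D ≤ M := commutator_le_self M
  let ι := {r : ℕ // r.Prime ∧ r ∣ Nat.card D ∧ r ∉ π}
  have hN : ∀ r : ι, ∃ N : Subgroup D, ∃ _ : N.Normal,
      (Nat.card N).Coprime r.1 ∧ IsPGroup r.1 (D ⧸ N) := fun r => by
    haveI : Fact r.1.Prime := ⟨r.2.1⟩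
    exact CfsgLib.Transfer.hasNormalPComplement_iff_exists.mp
      (normalPComplement_of_not_beta hG hM (r.2.2.1.trans (card_dvd_of_le hDM)) fun h => r.2.2.2 (hπ h)).1
  choose N hNn hNc hNq using hN
  set J := ⨅ r : ι, N r with hJ
  haveI : J.Normal := Subgroup.normal_iInf_normal hNn
  have hJπ : ∀ r : ℕ, r.Prime → r ∣ Nat.card J → r ∈ π := fun r hr hrd => by
    by_contra hrπ
    let i : ι := ⟨r, hr, hrd.trans (card_subgroup_dvd_card J), hrπ⟩
    exact (hr.coprime_iff_not_dvd.mp (hNc i).symm) (hrd.trans (card_dvd_of_le (iInf_le N i)))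
  have hJM : J.map D.subtype ≤ Cfsg.piCoreOf π M := by
    refine le_trans (map_mono (le_piCore inferInstance hJπ)) ?_
    refine le_piCoreOf ((map_subtype_le _).trans hDM) ?_ (piCoreOf_spec π D)
    refine le_trans ?_ (le_normalizer_piCoreOf π D)
    exact le_normalizer_commutator le_normalizer le_normalizer
  refine le_trans ?_ hJM
  intro x hx
  refine ⟨⟨x, hTD hx⟩, ?_, rfl⟩
  rw [hJ, SetLike.mem_coe, mem_iInf]
  intro r
  haveI := hNn r
  haveI : Fact r.1.Prime := ⟨r.2.1⟩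
  rw [← QuotientGroup.eq_one_iff]
  obtain ⟨n, hn⟩ := hT ⟨x, hx⟩
  obtain ⟨m, hm⟩ := hNq r (QuotientGroup.mk' (N r) ⟨x, hTD hx⟩)
  have h1 : (QuotientGroup.mk' (N r) ⟨x, hTD hx⟩) ^ (q ^ n) = 1 := by
    rw [← map_pow]
    have h0 : (⟨x, hTD hx⟩ : D) ^ (q ^ n) = 1 := Subtype.ext (by
      simpa using congrArg Subtype.val hn)
    rw [h0, map_one]
  have hqr : q ≠ r.1 := fun e => r.2.2.2 (e ▸ hqπ)
  have h2 := (pow_gcd_eq_one).mpr ⟨h1, hm⟩
  rwa [Nat.coprime_iff_gcd_eq_one.mp (Nat.Coprime.pow n m ((Nat.coprime_primes hq.out r.2.1).mpr hqr)),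
    pow_one] at h2

theorem betaCore_hall :
    Cfsg.IsPiHallOf (Cfsg.beta M) (Cfsg.piCoreOf (Cfsg.beta M) M) M := by
  refine ⟨map_subtype_le _, piCoreOf_spec _ _, fun q hq hqβ hd => ?_⟩
  haveI : Fact q.Prime := ⟨hq⟩
  obtain ⟨T, hT, -⟩ := exists_sylowIn_le (IsPGroup.of_bot (p := q) (G := G)) (bot_le (a := M))
  exact hT.2.2 (hd.trans (relIndex_dvd_of_le_left M (le_piCoreOf_of_derived hG hM subset_rfl hqβ hT.2.1
    (sylowIn_le_derived hG hM (mem_sigma_of_mem_alpha hG hM hqβ.1) hT))))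

theorem betaCore_hall_top : Cfsg.IsPiHall (Cfsg.beta M) (Cfsg.piCoreOf (Cfsg.beta M) M) := by
  have hall := betaCore_hall hG hM
  refine ⟨hall.2.1, fun q hq hqβ hd => ?_⟩
  haveI : Fact q.Prime := ⟨hq⟩
  obtain ⟨T, hT, -⟩ := exists_sylowIn_le (IsPGroup.of_bot (p := q) (G := G)) (bot_le (a := M))
  rw [← relIndex_mul_index hall.1] at hd
  rcases hq.dvd_mul.mp hd with h | h
  · exact hall.2.2 q hq hqβ h
  · have := (sylowIn_top (mem_sigma_of_mem_alpha hG hM hqβ.1) hT).2.2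
    rw [relIndex_top_right, ← relIndex_mul_index hT.1] at this
    exact this (dvd_mul_of_dvd_right h _)

end CfsgLib.BG
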