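import Cfsg.Agent.Lib.BG.Sigma
import Cfsg.Agent.Lib.BG.Tools
import Cfsg.Agent.Lib.BG.Squares
import Cfsg.Agent.Lib.Solvable.Products
import Cfsg.Agent.Lib.OddLocal.CNBasic
import Cfsg.Agent.S1403
import Cfsg.Agent.S1414

/-!
# The primes of `β(M)`: nilpotency off `β`, centralizers of `β`-elements
-/

set_option autoImplicit false
set_option linter.style.haveILetI false
set_option linter.unusedSectionVars false

namespace CfsgLib.BG

open Subgroup CfsgLib.PLocal CfsgLib.OddLocal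
open scoped commutatorElement

universe u
variable {G : Type u} [Group G] [Finite G] {M : Subgroup G}

/-- Elements of coprime orders in a nilpotent subgroup commute. -/
theorem le_centralizer_of_nilpotent {N X Y : Subgroup G} (hN : Group.IsNilpotent N) (hX : X ≤ N)
    (hY : Y ≤ N) (hcop : (Nat.card X).Coprime (Nat.card Y)) : X ≤ centralizer (Y : Set G) := by
  intro x hx
  rw [mem_centralizer_iff]
  intro y hy
  have hx' : orderOf (⟨x, hX hx⟩ : N) ∣ Nat.card X := by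
    rw [← Subgroup.orderOf_coe]
    exact Subgroup.orderOf_dvd_natCard X hx
  have hy' : orderOf (⟨y, hY hy⟩ : N) ∣ Nat.card Y := by
    rw [← Subgroup.orderOf_coe]
    exact Subgroup.orderOf_dvd_natCard Y hy
  exact (congrArg Subtype.val (commute_of_coprime_of_isNilpotent hN
    ((hcop.coprime_dvd_left hx').coprime_dvd_right hy')).eq).symm

variable (hG : Cfsg.IsMinSimpleOddOrder G) (hM : IsCoatom M)
include hG hM

theorem mem_sigma_of_mem_beta {p : ℕ} (h : p ∈ Cfsg.beta M) : p ∈ Cfsg.sigma M :=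
  alpha_subset_sigma hG hM h.1

/-- A subgroup of `M'` of order prime to `β(M)` is nilpotent. -/
theorem nilpotent_of_not_beta {H : Subgroup G} (hH : H ≤ ⁅M, M⁆)
    (hπ : ∀ q : ℕ, q.Prime → q ∣ Nat.card H → q ∉ Cfsg.beta M) : Group.IsNilpotent H := by
  obtain ⟨-, -, ⟨N, hN, hnil⟩, -, -⟩ := Cfsg.Agent.S1414.result hG M hM
  have hs : Group.IsSolvable ↥⁅M, M⁆ :=
    isSolvable_of_le_max hG hM (commutator_le.mpr fun a ha b hb =>
      M.mul_mem (M.mul_mem (M.mul_mem ha hb) (M.inv_mem ha)) (M.inv_mem hb))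
  obtain ⟨K, hK, -, hHK⟩ := CfsgLib.Coprime.exists_invariant_hall_ge (A := (⊥ : Subgroup G)) bot_le
    (by rw [Subgroup.card_bot]; exact Nat.coprime_one_left _) hs hH bot_le
    (π := {q | q.Prime ∧ q ∉ Cfsg.beta M}) fun q hq hd => ⟨hq, hπ q hq hd⟩
  obtain ⟨g, -, hg⟩ := CfsgLib.Coprime.exists_conj_of_isPiHallOf hs hN hK
  haveI : Group.IsNilpotent ↥(N.map (MulAut.conj g).toMonoidHom) := by
    haveI := hnil
    exact Group.nilpotent_of_mulEquiv (N.equivMapOfInjective _ (MulAut.conj g).injective)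
  exact isNilpotent_of_le inferInstance (hHK.trans hg.ge)

/-- A `q`- and an `r`-subgroup of `M'` normalizing suitably, both primes off `β(M)`, commute. -/
theorem le_centralizer_of_not_beta {q r : ℕ} [hq : Fact q.Prime] [hr : Fact r.Prime] {X Y : Subgroup G}
    (hX : IsPGroup q X) (hY : IsPGroup r Y) (hqr : q ≠ r) (hXY : X ≤ normalizer (Y : Set G))
    (hXM : X ≤ ⁅M, M⁆) (hYM : Y ≤ ⁅M, M⁆) (hqb : q ∉ Cfsg.beta M) (hrb : r ∉ Cfsg.beta M) :
    X ≤ centralizer (Y : Set G) := by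
  refine le_centralizer_of_nilpotent (nilpotent_of_not_beta hG hM (sup_le hXM hYM) ?_) le_sup_left
    le_sup_right (coprime_pgroup hX hY hqr)
  intro s hs hd
  have h1 : Nat.card ↥(X ⊔ Y) ∣ Nat.card X * Nat.card Y := by
    refine ⟨Nat.card ↥(X ⊓ Y), ?_⟩
    rw [← CfsgLib.Solvable.card_mul_set_mul_card_inf X Y, ← coe_mul_of_left_le_normalizer_right X Y hXY]
    rfl
  rcases hs.dvd_mul.mp (hd.trans h1) with h | h
  · exact (prime_dvd_pgroup_card hX hs h) ▸ hqb
  · exact (prime_dvd_pgroup_card hY hs h) ▸ hrb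

/-- A subgroup of rank at least 3 lies in no maximal subgroup but one. -/
theorem eq_of_rank_three {q : ℕ} [hq : Fact q.Prime] {B : Subgroup G} (hBe : Cfsg.IsElementaryAbelian q B)
    (hB : q ^ 3 ≤ Nat.card B) (hBM : B ≤ M) {L : Subgroup G} (hL : IsCoatom L) (hBL : B ≤ L) :
    L = M := by
  have h3 : ∀ k : ℕ, k ≤ 2 → ¬ Cfsg.RankLE k B := fun k hk => not_rankLE_of_not_prankLE hq.out
    (not_prankLE_iff.mpr ⟨B, le_rfl, hBe, lt_of_lt_of_le
      (Nat.pow_lt_pow_right hq.out.one_lt (by omega)) hB⟩)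
  have hU := Cfsg.Agent.S1403.result hG B (fun h => hM.1 (top_le_iff.mp (h ▸ hBM))) (h3 1 one_le_two)
    (Or.inl (h3 2 le_rfl))
  exact hU.unique ⟨hL, hBL⟩ ⟨hM, hBM⟩

/-- The centralizer of a nontrivial `q`-element of `M`, `q ∈ β(M)`, lies in `M`. -/
theorem centralizer_le_of_beta {q : ℕ} [hq : Fact q.Prime] (hqb : q ∈ Cfsg.beta M) {X : Subgroup G}
    (hX : IsPGroup q X) (hX1 : X ≠ ⊥) (hXM : X ≤ M) : centralizer (X : Set G) ≤ M := by
  obtain ⟨x, hxX, hxo⟩ := exists_order_p hX hX1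
  have hx1 : x ≠ 1 := fun h => hq.out.ne_one (by rw [← hxo, h, orderOf_one])
  obtain ⟨U, hU, hXU⟩ := exists_sylowIn_le hX hXM
  have htop := sylowIn_top (mem_sigma_of_mem_beta hG hM hqb) hU
  have hidx : ¬ q ∣ U.index := by rw [← relIndex_top_right]; exact htop.2.2
  let S : Sylow q G := htop.2.1.toSylow hidx
  have hq2 : q ≠ 2 := prime_ne_two_of_pgroup hG hX hX1
  have hnc : ¬ IsCyclic U := by
    intro hc
    obtain ⟨E, hEM, hE, hlt⟩ := not_prankLE_iff.mp hqb.1.2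
    obtain ⟨g, -, hg⟩ := hU.exists_conj_le (elemAb_isPGroup hE) hEM
    haveI : IsCyclic ↥(conjMap g E) := isCyclic_of_le hg
    have hexp : Monoid.exponent ↥(conjMap g E) ∣ q := Monoid.exponent_dvd_of_forall_pow_eq_one fun a =>
      Subtype.ext ((elemAb_map (MulAut.conj g).toMonoidHom hE).2 a a.2)
    rw [IsCyclic.exponent_eq_card, card_conjMap] at hexp
    exact absurd ((Nat.le_of_dvd hq.out.pos hexp).trans (Nat.le_self_pow two_ne_zero q)) (not_le.mpr hlt)
  -- a square of `U` containing `x`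
  obtain ⟨A, hAU, hA, hxA⟩ := exists_sq_mem hq2 hU.2.1 hnc (hXU hxX) hxo
  obtain ⟨B, hBU, hB, hAB⟩ := hqb.2.2.2 S A hAU hA.1 hA.2
  have hB3 : q ^ 3 ≤ Nat.card B := by
    obtain ⟨n, hn⟩ := IsPGroup.iff_card.mp (elemAb_isPGroup hB)
    have hlt : q ^ 2 < Nat.card B := hA.2 ▸ lt_of_le_of_ne (card_le_of_le hAB.le)
      fun h => hAB.ne (eq_of_le_of_card_ge hAB.le h.ge)
    rw [hn] at hlt ⊢
    exact Nat.pow_le_pow_right hq.out.pos ((Nat.pow_lt_pow_iff_right hq.out.one_lt).mp hlt)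
  have hC : centralizer (X : Set G) ≤ centralizer ({x} : Set G) :=
    Subgroup.centralizer_le (Set.singleton_subset_iff.mpr hxX)
  obtain ⟨L, hL, hCL⟩ := (eq_top_or_exists_le_coatom (centralizer ({x} : Set G))).resolve_left
    (minSimple_centralizer_singleton_ne_top hG hx1)
  have hBC : B ≤ centralizer ({x} : Set G) := by
    intro b hb
    rw [mem_centralizer_iff]
    rintro _ rfl
    exact (elemAb_comm hB (hAB.le hxA) hb)
  exact hC.trans (hCL.trans (eq_of_rank_three hG hM hB hB3 (hBU.trans hU.1) hL (hBC.trans hCL)).le)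

/-- `β(M)`-primes in `σ(L)` force conjugacy. -/
theorem eq_conj_of_alpha {L : Subgroup G} (hL : IsCoatom L) {q : ℕ} [hq : Fact q.Prime]
    (hqM : q ∈ Cfsg.sigma M) (hqL : q ∈ Cfsg.alpha L) : ∃ g : G, conjMap g L = M := by
  obtain ⟨E, hEL, hE, hlt⟩ := not_prankLE_iff.mp hqL.2
  obtain ⟨Q, hQ, -⟩ := exists_sylowIn_le (IsPGroup.of_bot (p := q) (G := G)) (bot_le (a := M))
  obtain ⟨g, -, hg⟩ := (sylowIn_top hqM hQ).exists_conj_le (elemAb_isPGroup hE) le_top
  refine ⟨g, eq_of_rank_three hG hM (B := conjMap g E) (elemAb_map (MulAut.conj g).toMonoidHom hE) ?_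
    (hg.trans hQ.1) (isCoatom_conjMap hL g) (conjMap_mono hEL)⟩
  rw [card_conjMap]
  obtain ⟨n, hn⟩ := IsPGroup.iff_card.mp (elemAb_isPGroup hE)
  rw [hn] at hlt ⊢
  exact Nat.pow_le_pow_right hq.out.pos ((Nat.pow_lt_pow_iff_right hq.out.one_lt).mp hlt)

end CfsgLib.BG
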