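import Cfsg.Agent.Lib.BG.Tools
import Cfsg.Agent.Lib.Coprime.Generation

/-!
# Lines of a square, invariant complements and invariant cyclic subgroups
-/

set_option autoImplicit false
set_option linter.style.haveILetI false
set_option linter.unusedSectionVars false

namespace CfsgLib.BG

open Subgroup CfsgLib.PLocal

universe u v
variable {G : Type u} [Group G]

/-- The elements of `G` fixing every line of `A`. -/
def linesFixer (p : ℕ) (A : Subgroup G) : Subgroup G :=
  ⨅ X : {X : Subgroup G // IsLine p A X}, normalizer (X.1 : Set G)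

theorem mem_linesFixer {p : ℕ} {A : Subgroup G} {n : G} :
    n ∈ linesFixer p A ↔ ∀ X, IsLine p A X → n ∈ normalizer (X : Set G) := by
  rw [linesFixer, mem_iInf]
  exact ⟨fun h X hX => h ⟨X, hX⟩, fun h X => h X.1 X.2⟩

theorem IsSq.centralizer_le_linesFixer {p : ℕ} {A : Subgroup G} (_hA : IsSq p A) :
    centralizer (A : Set G) ≤ linesFixer p A := fun _ hn => mem_linesFixer.mpr fun _ hX =>
  centralizer_le_normalizer _ (Subgroup.centralizer_le hX.1 hn)

variable [Finite G] {p : ℕ} [hp : Fact p.Prime] {A : Subgroup G}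

theorem IsLine.inf_eq_bot {X Y : Subgroup G} (hX : IsLine p A X) (hY : IsLine p A Y) (hne : X ≠ Y) :
    X ⊓ Y = ⊥ := by
  refine card_eq_one.mp (((Nat.dvd_prime hp.out).mp (hX.2 ▸ card_dvd_of_le inf_le_left)).resolve_right
    fun h => hne ?_)
  have e1 : X ⊓ Y = X := eq_of_le_of_card_ge inf_le_left (by rw [h, hX.2])
  exact eq_of_le_of_card_ge (e1 ▸ inf_le_right) (by rw [hX.2, hY.2])

theorem IsSq.exists_decomp (hA : IsSq p A) {X Y : Subgroup G} (hX : IsLine p A X) (hY : IsLine p A Y)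
    (hne : X ≠ Y) {v : G} (hv : v ∈ A) : ∃ x ∈ X, ∃ y ∈ Y, x * y = v := by
  have hn : Y ≤ normalizer (X : Set G) :=
    hY.1.trans ((hA.le_centralizer.trans (Subgroup.centralizer_le hX.1)).trans (centralizer_le_normalizer _))
  exact (CfsgLib.Coprime.mem_sup_of_le_normalizer hn).mp ((IsLine.sup_eq hA hX hY hne).symm ▸ hv)

theorem IsSq.exists_line_ne' (hA : IsSq p A) {X : Subgroup G} (hX : IsLine p A X) :
    ∃ Z, IsLine p A Z ∧ Z ≠ X ∧ Z ≠ ⊥ := by
  obtain ⟨b, hb, hnb⟩ := SetLike.not_le_iff_exists.mp (show ¬ A ≤ X from fun h => by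
    have := card_le_of_le h
    rw [hA.2, hX.2] at this
    nlinarith [hp.out.one_lt])
  have hl := hA.card_zpowers hb fun e => hnb (e ▸ one_mem X)
  exact ⟨_, hl, fun e => hnb (e ▸ mem_zpowers b), ne_bot_of_card_prime hl.2⟩

/-- An element fixing three lines fixes all of them. -/
theorem IsSq.mem_linesFixer_of_three (hA : IsSq p A) {h : G} {X Y Z : Subgroup G}
    (hX : IsLine p A X) (hY : IsLine p A Y) (hZ : IsLine p A Z) (hXY : X ≠ Y) (hXZ : X ≠ Z)
    (hYZ : Y ≠ Z) (hhX : h ∈ normalizer (X : Set G)) (hhY : h ∈ normalizer (Y : Set G))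
    (hhZ : h ∈ normalizer (Z : Set G)) : h ∈ linesFixer p A := by
  obtain ⟨z, hz, hz1⟩ := (bot_or_exists_ne_one Z).resolve_left (ne_bot_of_card_prime hZ.2)
  obtain ⟨x, hx, y, hy, hxy⟩ := hA.exists_decomp hX hY hXY (hZ.1 hz)
  have hzs := zpowers_eq_of_card_prime hZ.2 hz hz1
  have hx1 : x ≠ 1 := fun e => hYZ (by
    rw [e, one_mul] at hxy
    rw [← hzs, ← zpowers_eq_of_card_prime hY.2 (hxy ▸ hy) hz1])
  have hy1 : y ≠ 1 := fun e => hXZ (by
    rw [e, mul_one] at hxy
    rw [← hzs, ← zpowers_eq_of_card_prime hX.2 (hxy ▸ hx) hz1])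
  have hxs := zpowers_eq_of_card_prime hX.2 hx hx1
  have hys := zpowers_eq_of_card_prime hY.2 hy hy1
  obtain ⟨a, ha⟩ := mem_zpowers_iff.mp (hxs.symm ▸ (mem_normalizer_iff.mp hhX x).mp hx)
  obtain ⟨b, hb⟩ := mem_zpowers_iff.mp (hys.symm ▸ (mem_normalizer_iff.mp hhY y).mp hy)
  obtain ⟨c, hc⟩ := mem_zpowers_iff.mp (hzs.symm ▸ (mem_normalizer_iff.mp hhZ z).mp hz)
  have hcom : Commute x y := elemAb_comm hA.1 (hX.1 hx) (hY.1 hy)
  have h1 : x ^ a * y ^ b = x ^ c * y ^ c := by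
    rw [← hcom.mul_zpow, hxy, hc, ← hxy, ha, hb]; group
  have h2 : x ^ (a - c) = y ^ (c - b) := by
    calc x ^ (a - c) = x ^ (-c) * (x ^ a * y ^ b) * y ^ (-b) := by
          rw [← mul_assoc, ← zpow_add, mul_assoc, ← zpow_add, add_neg_cancel, zpow_zero, mul_one,
            neg_add_eq_sub]
      _ = x ^ (-c) * (x ^ c * y ^ c) * y ^ (-b) := by rw [h1]
      _ = y ^ (c - b) := by
          rw [← mul_assoc, ← zpow_add, neg_add_cancel, zpow_zero, one_mul, ← zpow_add, sub_eq_add_neg]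
  have h3 : x ^ (a - c) = 1 := mem_bot.mp (IsLine.inf_eq_bot hX hY hXY ▸
    mem_inf.mpr ⟨zpow_mem hx _, h2 ▸ zpow_mem hy _⟩)
  have hax : x ^ a = x ^ c := by rwa [zpow_sub, mul_inv_eq_one] at h3
  have hby : y ^ b = y ^ c := mul_left_cancel (hax ▸ h1)
  have key : ∀ v ∈ A, h * v * h⁻¹ = v ^ c := by
    intro v hv
    obtain ⟨x', hx', y', hy', rfl⟩ := hA.exists_decomp hX hY hXY hv
    obtain ⟨i, rfl⟩ := mem_zpowers_iff.mp (hxs.symm ▸ hx')
    obtain ⟨j, rfl⟩ := mem_zpowers_iff.mp (hys.symm ▸ hy')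
    calc h * (x ^ i * y ^ j) * h⁻¹ = (h * x * h⁻¹) ^ i * (h * y * h⁻¹) ^ j := by
          rw [conj_zpow, conj_zpow]; group
      _ = (x ^ c) ^ i * (y ^ c) ^ j := by rw [← ha, ← hb, hax, hby]
      _ = (x ^ i * y ^ j) ^ c := by
          rw [(hcom.zpow_zpow i j).mul_zpow, ← zpow_mul, ← zpow_mul, ← zpow_mul, ← zpow_mul,
            mul_comm c i, mul_comm c j]
  refine mem_linesFixer.mpr fun W hW => conjMap_eq_self_iff.mp (eq_of_le_of_card_ge ?_ (by rw [card_conjMap]))
  rintro _ ⟨w, hw, rfl⟩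
  show h * w * h⁻¹ ∈ W
  rw [key w (hW.1 hw)]
  exact zpow_mem hw c

/-- An element of odd order permuting at most two lines fixes them. -/
theorem fixes_of_small {Φ : Subgroup G → Prop} {n : G} (hodd : Odd (orderOf n))
    (hn : ∀ X, Φ X → Φ (conjMap n X))
    (hsmall : ∀ X Y Z, Φ X → Φ Y → Φ Z → X ≠ Y → X ≠ Z → Y ≠ Z → False)
    {X : Subgroup G} (hX : Φ X) : n ∈ normalizer (X : Set G) := by
  by_contra hnot
  have hne : X ≠ conjMap n X := fun e => hnot (conjMap_eq_self_iff.mp e.symm)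
  have hne' : conjMap n X ≠ conjMap n (conjMap n X) := fun e => hne (by
    have := congrArg (conjMap n⁻¹) e
    rwa [conjMap_inv_conjMap, conjMap_inv_conjMap] at this)
  by_cases h2 : X = conjMap n (conjMap n X)
  · refine hnot (pow_mem_of_pow_two' hodd (conjMap_eq_self_iff.mp ?_))
    rw [pow_two, ← conjMap_conjMap]
    exact h2.symm
  · exact hsmall _ _ _ hX (hn _ hX) (hn _ (hn _ hX)) hne h2 hne'
where
  pow_mem_of_pow_two' {H : Subgroup G} {g : G} (hodd : Odd (orderOf g)) (h : g ^ 2 ∈ H) : g ∈ H := by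
    obtain ⟨k, hk⟩ := hodd
    have h1 : g ^ orderOf g = 1 := pow_orderOf_eq_one g
    have : g = (g ^ 2) ^ (k + 1) := by
      rw [← pow_mul, show 2 * (k + 1) = orderOf g + 1 by omega, pow_succ, h1, one_mul]
    rw [this]
    exact pow_mem h _

/-- There are `p + 1` lines. -/
theorem IsSq.card_lines (hA : IsSq p A) :
    Nat.card {X : Subgroup G // IsLine p A X} = p + 1 := by
  obtain ⟨X, hX⟩ := hA.exists_line
  obtain ⟨a, ha, hna⟩ := SetLike.not_le_iff_exists.mp (show ¬ A ≤ X from fun h => by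
    have := card_le_of_le h
    rw [hA.2, hX.2] at this
    nlinarith [hp.out.one_lt])
  have hne : ∀ z : X, a * (z : G) ∉ X := fun z h => hna ((mul_mem_cancel_right z.2).mp h)
  have hline : ∀ z : X, IsLine p A (zpowers (a * (z : G))) := fun z =>
    hA.card_zpowers (mul_mem ha (hX.1 z.2)) fun h => hne z (h ▸ one_mem X)
  let ι : Option X → {W : Subgroup G // IsLine p A W} := fun o =>
    o.elim ⟨X, hX⟩ fun z => ⟨_, hline z⟩
  have hbij : Function.Bijective ι := by
    constructor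
    · rintro (_ | z) (_ | z') h
      · rfl
      · exact absurd ((show X = zpowers (a * (z' : G)) from congrArg Subtype.val h).ge (mem_zpowers _)) (hne z')
      · exact absurd ((show zpowers (a * (z : G)) = X from congrArg Subtype.val h).le (mem_zpowers _)) (hne z)
      · have h' : zpowers (a * (z : G)) = zpowers (a * (z' : G)) := congrArg Subtype.val h
        have hmem : (z : G)⁻¹ * z' ∈ zpowers (a * (z : G)) ⊓ X := by
          refine mem_inf.mpr ⟨?_, mul_mem (inv_mem z.2) z'.2⟩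
          have := mul_mem (inv_mem (mem_zpowers (a * (z : G)))) (h'.ge (mem_zpowers (a * (z' : G))))
          simpa [mul_assoc] using this
        rw [IsLine.inf_eq_bot (hline z) hX fun e => hne z (e.le (mem_zpowers _)), mem_bot,
          inv_mul_eq_one] at hmem
        exact congrArg some (Subtype.ext hmem)
    · rintro ⟨W, hW⟩
      rcases eq_or_ne W X with rfl | hWX
      · exact ⟨none, rfl⟩
      obtain ⟨w, hw, x, hx, hwx⟩ := hA.exists_decomp hW hX hWX ha
      refine ⟨some ⟨x⁻¹, inv_mem hx⟩, Subtype.ext ?_⟩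
      show zpowers (a * x⁻¹) = W
      refine zpowers_eq_of_card_prime hW.2 ?_ fun e => hne ⟨x⁻¹, inv_mem hx⟩ (e ▸ one_mem X)
      rw [← hwx, mul_inv_cancel_right]
      exact hw
  rw [← Nat.card_eq_of_bijective ι hbij, Finite.card_option, hX.2]

/-- An `r`-element fixes a line unless `r ∣ p + 1`. -/
theorem IsSq.exists_fixed_line (hA : IsSq p A) {r : ℕ} [hr : Fact r.Prime] {h : G}
    (hh : IsPGroup r (zpowers h)) (hhA : h ∈ normalizer (A : Set G)) (hrp : ¬ r ∣ p + 1) :
    ∃ X, IsLine p A X ∧ h ∈ normalizer (X : Set G) := by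
  have hmem : ∀ (g : zpowers h) (X : {X : Subgroup G // IsLine p A X}),
      IsLine p A (CfsgLib.PLocal.conjMap (g : G) X.1) := fun g X => by
    refine ⟨(conjMap_mono X.2.1).trans (conjMap_eq_self_iff.mpr (zpowers_le.mpr hhA g.2)).le, ?_⟩
    rw [card_conjMap, X.2.2]
  letI : MulAction (zpowers h) {X : Subgroup G // IsLine p A X} :=
    { smul := fun g X => ⟨CfsgLib.PLocal.conjMap (g : G) X.1, hmem g X⟩
      one_smul := fun X => Subtype.ext (CfsgLib.PLocal.conjMap_one X.1)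
      mul_smul := fun g g' X => Subtype.ext (CfsgLib.PLocal.conjMap_conjMap (g : G) (g' : G) X.1).symm }
  obtain ⟨X, hX⟩ := hh.nonempty_fixed_point_of_prime_not_dvd_card
    {X : Subgroup G // IsLine p A X} (by rwa [hA.card_lines])
  exact ⟨X.1, X.2, conjMap_eq_self_iff.mp (congrArg Subtype.val
    (MulAction.mem_fixedPoints.mp hX ⟨h, mem_zpowers h⟩))⟩

/-- A fixed-point-free `r`-action on a group of order `p` gives `r ∣ p - 1`. -/
theorem dvd_pred_of_line {r : ℕ} [hr : Fact r.Prime] {h : G} {X : Subgroup G} (hX : Nat.card X = p)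
    (hh : IsPGroup r (zpowers h)) (hhX : h ∈ normalizer (X : Set G))
    (hnc : ¬ X ≤ centralizer ({h} : Set G)) : p % r = 1 % r := by
  letI : MulAction (zpowers h) X :=
    MulAction.compHom X (CfsgLib.Coprime.conjHom (zpowers_le.mpr hhX))
  have hfix : Nat.card (MulAction.fixedPoints (zpowers h) X) = 1 := by
    rw [Nat.card_eq_one_iff_unique]
    refine ⟨⟨fun a b => ?_⟩, ⟨⟨1, fun g => map_one (CfsgLib.Coprime.conjHom (zpowers_le.mpr hhX) g)⟩⟩⟩
    have key : ∀ c : MulAction.fixedPoints (zpowers h) X, (c : X) = 1 := by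
      rintro ⟨c, hc⟩
      by_contra hc1
      refine hnc ?_
      rw [← zpowers_eq_of_card_prime hX c.2 fun e => hc1 (Subtype.ext e), zpowers_le,
        mem_centralizer_singleton_iff]
      have h1 : h * (c : G) * h⁻¹ = c := congrArg Subtype.val (hc ⟨h, mem_zpowers h⟩)
      exact (mul_inv_eq_iff_eq_mul.mp h1).symm
    exact Subtype.ext ((key a).trans (key b).symm)
  have h2 := hh.card_modEq_card_fixedPoints X
  rwa [hfix, hX] at h2

/-- An invariant direct factor containing `W`, complementary to `K`. -/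
theorem exists_invariant_factor {V : Type v} [CommGroup V] [Finite V] {X : Type*} [Group X] [Finite X]
    (ρ : X →* MulAut V) {W K C₀ : Subgroup V} (hcop : (Nat.card X).Coprime (Nat.card K))
    (hKi : ∀ x : X, ∀ k ∈ K, ρ x k ∈ K) (hWi : ∀ x : X, ∀ w ∈ W, ρ x w ∈ W)
    (hd : C₀ ⊓ K = ⊥) (hs : C₀ ⊔ K = ⊤) (hW : W ≤ C₀) :
    ∃ C : Subgroup V, W ≤ C ∧ C ⊓ K = ⊥ ∧ C ⊔ K = ⊤ ∧ ∀ x : X, ∀ c ∈ C, ρ x c ∈ C := by
  classical
  have := Fintype.ofFinite X
  let f : C₀ × K →* V := MonoidHom.coprod C₀.subtype K.subtype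
  have hf : Function.Bijective f := by
    constructor
    · rw [injective_iff_map_eq_one]
      rintro ⟨⟨c, hc⟩, ⟨k, hk⟩⟩ h
      have h' : c * k = 1 := h
      have hc1 : c = 1 := by
        refine mem_bot.1 (hd ▸ mem_inf.mpr ⟨hc, ?_⟩)
        rw [eq_inv_of_mul_eq_one_left h']
        exact K.inv_mem hk
      have hk1 : k = 1 := by rw [hc1, one_mul] at h'; exact h'
      exact Prod.ext (Subtype.ext hc1) (Subtype.ext hk1)
    · intro v
      obtain ⟨c, hc, k, hk, rfl⟩ := mem_sup.1 (hs.symm ▸ mem_top v : v ∈ C₀ ⊔ K)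
      exact ⟨(⟨c, hc⟩, ⟨k, hk⟩), rfl⟩
  let e := MulEquiv.ofBijective f hf
  let π : V →* V := K.subtype.comp ((MonoidHom.snd C₀ K).comp e.symm.toMonoidHom)
  have hπK : ∀ t, π t ∈ K := fun t => Subtype.prop _
  have hπ : ∀ t, t ∈ K → π t = t := by
    intro t ht
    have : e.symm t = (1, ⟨t, ht⟩) := by
      rw [MulEquiv.symm_apply_eq]
      simp [e, f]
    simp [π, this]
  have hπW : ∀ t, t ∈ W → π t = 1 := by
    intro t ht
    have : e.symm t = (⟨t, hW ht⟩, 1) := by
      rw [MulEquiv.symm_apply_eq]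
      simp [e, f]
    simp [π, this]
  let g : V →* V := ∏ x : X, (ρ x).toMonoidHom.comp (π.comp (ρ x⁻¹).toMonoidHom)
  have hg : ∀ t, g t = ∏ x : X, ρ x (π (ρ x⁻¹ t)) := fun t => by simp [g]
  have hgK : ∀ t, g t ∈ K := fun t => by
    rw [hg]
    exact K.prod_mem fun x _ => hKi x _ (hπK _)
  have hgk : ∀ t, t ∈ K → g t = t ^ Nat.card X := by
    intro t ht
    rw [hg, Finset.prod_eq_pow_card (b := t), Finset.card_univ, Nat.card_eq_fintype_card]
    intro x _
    rw [hπ _ (hKi x⁻¹ _ ht), ← MulAut.mul_apply, ← map_mul, mul_inv_cancel, map_one, MulAut.one_apply]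
  have hcop' : (Nat.card K).Coprime (Nat.card X) := hcop.symm
  refine ⟨g.ker, fun w hw => ?_, ?_, ?_, fun y c hc => ?_⟩
  · rw [MonoidHom.mem_ker, hg]
    exact Finset.prod_eq_one fun x _ => by rw [hπW _ (hWi x⁻¹ _ hw), map_one]
  · rw [eq_bot_iff]
    intro t ht
    obtain ⟨h1, h2⟩ := mem_inf.mp ht
    rw [MonoidHom.mem_ker, hgk t h2] at h1
    exact mem_bot.mpr (congrArg Subtype.val ((powCoprime hcop').injective
      (a₁ := (⟨t, h2⟩ : K)) (a₂ := 1) (Subtype.ext (by simpa using h1))))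
  · rw [eq_top_iff]
    intro v _
    set k : K := (powCoprime hcop').symm ⟨g v, hgK v⟩ with hk
    have hkv : (k : V) ^ Nat.card X = g v :=
      congrArg Subtype.val ((powCoprime hcop').apply_symm_apply ⟨g v, hgK v⟩)
    have h1 : v * (k : V)⁻¹ ∈ g.ker := by
      rw [MonoidHom.mem_ker, map_mul, map_inv, hgk _ k.2, hkv, mul_inv_cancel]
    have h2 := mul_mem (mem_sup_left (T := K) h1) (mem_sup_right (S := g.ker) k.2)
    rwa [inv_mul_cancel_right] at h2
  · rw [MonoidHom.mem_ker] at hc ⊢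
    have : g (ρ y c) = ρ y (g c) := by
      rw [hg, hg, map_prod]
      refine (Fintype.prod_equiv (Equiv.mulLeft y) _ _ fun x => ?_).symm
      simp only [Equiv.coe_mulLeft]
      rw [← MulAut.mul_apply, ← map_mul]
      congr 2
      rw [← MulAut.mul_apply, ← map_mul, mul_inv_rev, inv_mul_cancel_right]
    rw [this, hc, map_one]

/-- Version of `exists_invariant_factor` inside an abelian subgroup of `G`. -/
theorem exists_invariant_factor_in {H V W K C₀ : Subgroup G} (hV : IsMulCommutative V)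
    (hHV : H ≤ normalizer (V : Set G)) (hHW : H ≤ normalizer (W : Set G))
    (hHK : H ≤ normalizer (K : Set G)) (hKV : K ≤ V) (hCV : C₀ ≤ V)
    (hd : C₀ ⊓ K = ⊥) (hs : C₀ ⊔ K = V) (hW : W ≤ C₀) (hcop : (Nat.card H).Coprime (Nat.card K)) :
    ∃ C : Subgroup G, W ≤ C ∧ C ≤ V ∧ C ⊓ K = ⊥ ∧ C ⊔ K = V ∧ H ≤ normalizer (C : Set G) := by
  letI : CommGroup V := { (inferInstance : Group V) with mul_comm := fun a b => hV.is_comm.comm a b }
  obtain ⟨C, hWC, hCK, hCtop, hCi⟩ := exists_invariant_factor (CfsgLib.Coprime.conjHom hHV)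
    (W := W.subgroupOf V) (K := K.subgroupOf V) (C₀ := C₀.subgroupOf V)
    (by rwa [CfsgLib.Coprime.card_subgroupOf hKV])
    (fun x k hk => (mem_normalizer_iff.mp (hHK x.2) k).mp hk)
    (fun x k hk => (mem_normalizer_iff.mp (hHW x.2) k).mp hk)
    (by
      show C₀.comap V.subtype ⊓ K.comap V.subtype = ⊥
      rw [← comap_inf, hd, MonoidHom.comap_bot]
      exact V.ker_subtype)
    (by
      refine map_injective V.subtype_injective ?_
      rw [Subgroup.map_sup, map_subgroupOf_eq_of_le hCV, map_subgroupOf_eq_of_le hKV, hs,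
        ← MonoidHom.range_eq_map, range_subtype])
    (comap_mono hW)
  refine ⟨C.map V.subtype, ?_, map_subtype_le _, ?_, ?_, fun x hx => ?_⟩
  · have := map_mono (f := V.subtype) hWC
    rwa [map_subgroupOf_eq_of_le (hW.trans hCV)] at this
  · rw [← map_subgroupOf_eq_of_le hKV, ← map_inf _ _ _ V.subtype_injective, hCK, Subgroup.map_bot]
  · rw [← map_subgroupOf_eq_of_le hKV, ← Subgroup.map_sup, hCtop, ← MonoidHom.range_eq_map,
      range_subtype]
  · refine conjMap_eq_self_iff.mp (eq_of_le_of_card_ge ?_ (by rw [card_conjMap]))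
    rintro _ ⟨_, ⟨c, hc, rfl⟩, rfl⟩
    exact ⟨_, hCi ⟨x, hx⟩ c hc, rfl⟩

/-- The `n`-th powers of an abelian subgroup. -/
def powImage (P : Subgroup G) (hP : IsMulCommutative P) (n : ℕ) : Subgroup G where
  carrier := {x | ∃ y ∈ P, y ^ n = x}
  one_mem' := ⟨1, one_mem P, one_pow n⟩
  mul_mem' := by
    rintro _ _ ⟨y, hy, rfl⟩ ⟨z, hz, rfl⟩
    exact ⟨y * z, mul_mem hy hz,
      (show Commute y z from congrArg Subtype.val (hP.is_comm.comm ⟨y, hy⟩ ⟨z, hz⟩)).mul_pow n⟩
  inv_mem' := by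
    rintro _ ⟨y, hy, rfl⟩
    exact ⟨y⁻¹, inv_mem hy, inv_pow y n⟩

theorem powImage_le {P : Subgroup G} {hP : IsMulCommutative P} {n : ℕ} : powImage P hP n ≤ P := by
  rintro _ ⟨y, hy, rfl⟩
  exact pow_mem hy n

theorem normalizer_le_powImage {P : Subgroup G} {hP : IsMulCommutative P} {n : ℕ} :
    normalizer (P : Set G) ≤ normalizer (powImage P hP n : Set G) := fun g hg => by
  refine conjMap_eq_self_iff.mp (eq_of_le_of_card_ge ?_ (by rw [card_conjMap]))
  rintro _ ⟨_, ⟨y, hy, rfl⟩, rfl⟩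
  exact ⟨g * y * g⁻¹, (mem_normalizer_iff.mp hg y).mp hy, conj_pow⟩

/-- A `p`-subgroup all of whose elements of order `p` lie in a line is cyclic. -/
theorem isCyclic_of_pow_le (hp2 : p ≠ 2) {V X : Subgroup G} (hV : IsPGroup p V) (hX : Nat.card X = p)
    (h : ∀ x ∈ V, x ^ p = 1 → x ∈ X) : IsCyclic V := by
  by_contra hnc
  obtain ⟨B, hBV, hB⟩ := exists_sq_of_not_isCyclic hp2 hV hnc
  have h1 := card_le_of_le (show B ≤ X from fun b hb => h b (hBV hb) (hB.1.2 b hb))
  rw [hB.2, hX] at h1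
  nlinarith [hp.out.one_lt]

/-- Lifting an invariant line to an invariant cyclic subgroup of maximal order. -/
theorem exists_invariant_cyclic (hp2 : p ≠ 2) (hA : IsSq p A) {P H X : Subgroup G}
    (hP : IsMulCommutative P) (hPp : IsPGroup p P) (hAP : A ≤ P) (hΩ : ∀ x ∈ P, x ^ p = 1 → x ∈ A)
    (hHP : H ≤ normalizer (P : Set G)) (hHX : H ≤ normalizer (X : Set G)) (hX : IsLine p A X)
    (hcop : (Nat.card H).Coprime p) {a : ℕ} (ha : 1 ≤ a) (hXT : X ≤ powImage P hP (p ^ (a - 1))) :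
    ∃ Y : Subgroup G, Y ≤ P ∧ IsCyclic Y ∧ H ≤ normalizer (Y : Set G) ∧ Nat.card Y = p ^ a ∧ X ≤ Y := by
  have hAn : H ≤ normalizer (A : Set G) := fun g hg => by
    refine conjMap_eq_self_iff.mp (eq_of_le_of_card_ge ?_ (by rw [card_conjMap]))
    rintro _ ⟨x, hx, rfl⟩
    refine hΩ _ ((mem_normalizer_iff.mp (hHP hg) x).mp (hAP hx)) ?_
    show (g * x * g⁻¹) ^ p = 1
    rw [conj_pow, hA.1.2 x hx]; group
  -- an invariant line complementary to `X`
  obtain ⟨Z, hZ, hZX, -⟩ : ∃ Z, IsLine p A Z ∧ Z ≠ X ∧ Z ≠ X := by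
    obtain ⟨b, hb, hnb⟩ := SetLike.not_le_iff_exists.mp (show ¬ A ≤ X from fun h => by
      have := card_le_of_le h
      rw [hA.2, hX.2] at this
      nlinarith [hp.out.one_lt])
    exact ⟨_, hA.card_zpowers hb fun e => hnb (e ▸ one_mem X), fun e => hnb (e ▸ mem_zpowers b),
      fun e => hnb (e ▸ mem_zpowers b)⟩
  obtain ⟨X', -, hX'A, hX'X, hX's, hHX'⟩ := exists_invariant_factor_in (H := H) (V := A)
    (W := ⊥) (K := X) (C₀ := Z) hA.comm hAn (by rw [normalizer_eq_top]; exact le_top) hHX hX.1 hZ.1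
    (IsLine.inf_eq_bot hZ hX hZX) (IsLine.sup_eq hA hZ hX hZX) bot_le (by rwa [hX.2])
  have hX' : IsLine p A X' := by
    refine ⟨hX'A, Nat.eq_of_mul_eq_mul_right (hp.out.pos) ?_⟩
    have hn : X ≤ normalizer (X' : Set G) :=
      hX.1.trans ((hA.le_centralizer.trans (Subgroup.centralizer_le hX'A)).trans (centralizer_le_normalizer _))
    rw [← sq, ← hA.2, ← hX's, CfsgLib.Coprime.card_sup_of_inf_eq_bot hn (inf_comm X' X ▸ hX'X), hX.2]
  suffices key : ∀ j, 1 ≤ j → j ≤ a → ∃ W : Subgroup G, IsCyclic W ∧ H ≤ normalizer (W : Set G) ∧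
      Nat.card W = p ^ j ∧ X ≤ W ∧ W ≤ powImage P hP (p ^ (a - j)) by
    obtain ⟨W, h1, h2, h3, h4, h5⟩ := key a ha le_rfl
    exact ⟨W, h5.trans powImage_le, h1, h2, h3, h4⟩
  intro j hj
  induction j, hj using Nat.le_induction with
  | base =>
    exact fun _ => ⟨X, isCyclic_of_prime_card hX.2, hHX, by rw [hX.2, pow_one], le_rfl, hXT⟩
  | succ j hj ih =>
    intro hja
    obtain ⟨W, hWc, hWn, hWcard, hXW, hWT⟩ := ih (by omega)
    set T := powImage P hP (p ^ (a - (j + 1))) with hT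
    have hTP : T ≤ P := powImage_le
    have hWT' : W ≤ T := fun w hw => by
      obtain ⟨y, hy, rfl⟩ := hWT hw
      refine ⟨y ^ p, pow_mem hy p, ?_⟩
      rw [← pow_mul, ← pow_succ']
      congr 2; omega
    have hcomm : ∀ x ∈ P, ∀ y ∈ P, Commute x y := fun x hx y hy =>
      congrArg Subtype.val (hP.is_comm.comm ⟨x, hx⟩ ⟨y, hy⟩)
    let V : Subgroup G :=
      { carrier := {z | z ∈ T ∧ z ^ p ∈ W}
        one_mem' := ⟨one_mem T, by rw [one_pow]; exact one_mem W⟩
        mul_mem' := fun {x y} hx hy =>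
          ⟨mul_mem hx.1 hy.1, by rw [(hcomm x (hTP hx.1) y (hTP hy.1)).mul_pow]; exact mul_mem hx.2 hy.2⟩
        inv_mem' := fun {x} hx => ⟨inv_mem hx.1, by rw [inv_pow]; exact inv_mem hx.2⟩ }
    have hVP : V ≤ P := fun z hz => hTP hz.1
    have hWV : W ≤ V := fun w hw => ⟨hWT' hw, pow_mem hw p⟩
    have hVn : H ≤ normalizer (V : Set G) := fun g hg => by
      refine conjMap_eq_self_iff.mp (eq_of_le_of_card_ge ?_ (by rw [card_conjMap]))
      rintro _ ⟨z, hz, rfl⟩
      refine ⟨(mem_normalizer_iff.mp (normalizer_le_powImage (hHP hg)) z).mp hz.1, ?_⟩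
      show (g * z * g⁻¹) ^ p ∈ W
      rw [conj_pow]
      exact (mem_normalizer_iff.mp (hWn hg) _).mp hz.2
    -- the `p`-th power map `V → W`
    let φ : V →* W :=
      { toFun := fun z => ⟨(z : G) ^ p, z.2.2⟩
        map_one' := Subtype.ext (one_pow p)
        map_mul' := fun x y => Subtype.ext ((hcomm _ (hVP x.2) _ (hVP y.2)).mul_pow p) }
    have hsur : Function.Surjective φ := fun w => by
      obtain ⟨y, hy, hyw⟩ := hWT w.2
      refine ⟨⟨y ^ p ^ (a - (j + 1)), ⟨y, hy, rfl⟩, ?_⟩, Subtype.ext ?_⟩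
      · rw [← pow_mul, ← pow_succ, show a - (j + 1) + 1 = a - j by omega, hyw]; exact w.2
      · show (y ^ p ^ (a - (j + 1))) ^ p = w
        rw [← pow_mul, ← pow_succ, show a - (j + 1) + 1 = a - j by omega, hyw]
    have hker : φ.ker = A.subgroupOf V := by
      ext z
      rw [MonoidHom.mem_ker, mem_subgroupOf]
      exact ⟨fun h => hΩ _ (hVP z.2) (congrArg Subtype.val h), fun h => Subtype.ext (hA.1.2 _ h)⟩
    have hVcard : Nat.card ↥(A ⊓ V) * p ^ j = Nat.card V := by
      have h1 := φ.ker.card_mul_index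
      rw [index_ker, MonoidHom.range_eq_top.mpr hsur, Subgroup.card_top, hWcard, hker] at h1
      rw [← h1, ← card_map_of_injective V.subtype_injective (K := A.subgroupOf V), subgroupOf_map_subtype]
    have hXV : X ≤ A ⊓ V := le_inf hX.1 (hXW.trans hWV)
    by_cases hAV : A ⊓ V = X
    · refine ⟨V, isCyclic_of_pow_le hp2 (hPp.to_le hVP) hX.2 fun x hx hxp => hAV ▸
        mem_inf.mpr ⟨hΩ x (hVP hx) hxp, hx⟩, hVn, ?_, hXW.trans hWV, fun z hz => hz.1⟩
      rw [← hVcard, hAV, hX.2, ← pow_succ']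
    · have hAV' : A ⊓ V = A := by
        refine eq_of_le_of_card_ge inf_le_left ?_
        have hd := card_dvd_of_le (inf_le_left (a := A) (b := V))
        rw [hA.2] at hd ⊢
        obtain ⟨i, hi, hcard⟩ := (Nat.dvd_prime_pow hp.out).mp hd
        rw [hcard]
        refine Nat.pow_le_pow_right hp.out.pos ?_
        by_contra hi2
        refine hAV (eq_of_le_of_card_ge hXV ?_).symm
        rw [hcard, hX.2]
        exact (Nat.pow_le_pow_right hp.out.pos (show i ≤ 1 by omega)).trans (pow_one p).le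
      have hVc : Nat.card V = p ^ (j + 2) := by
        rw [← hVcard, hAV', hA.2, ← pow_add, add_comm]
      obtain ⟨w, hw⟩ := hWc.exists_generator
      obtain ⟨v, hv⟩ := hsur w
      have hW' : zpowers (w : G) = W := le_antisymm (zpowers_le.mpr w.2) fun x hx => by
        obtain ⟨k, hk⟩ := mem_zpowers_iff.mp (hw ⟨x, hx⟩)
        exact ⟨k, congrArg Subtype.val hk⟩
      have hvw : (v : G) ^ p = w := congrArg Subtype.val hv
      set C₀ := zpowers (v : G) with hC₀
      have hWC : W ≤ C₀ := by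
        rw [← hW', zpowers_le, ← hvw]
        exact pow_mem (mem_zpowers _) p
      have hvo : Nat.card C₀ = p ^ (j + 1) := by
        have hwo : orderOf ((v : G) ^ p) = p ^ j := by rw [hvw, ← Nat.card_zpowers, hW', hWcard]
        rw [hC₀, Nat.card_zpowers]
        obtain ⟨i, hi⟩ := IsPGroup.iff_orderOf.mp hPp ⟨v, hVP v.2⟩
        rw [Subgroup.orderOf_mk] at hi
        rcases Nat.eq_zero_or_pos i with rfl | hipos
        · rw [pow_zero, orderOf_eq_one_iff] at hi
          rw [hi, one_pow, orderOf_one] at hwo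
          exact absurd hwo (Nat.one_lt_pow (by omega) hp.out.one_lt).ne
        · obtain ⟨i, rfl⟩ : ∃ k, i = k + 1 := ⟨i - 1, by omega⟩
          rw [orderOf_pow' _ hp.out.ne_zero, hi, Nat.gcd_eq_right (dvd_pow_self p (Nat.succ_ne_zero i)),
            pow_succ, Nat.mul_div_cancel _ hp.out.pos] at hwo
          rw [hi, Nat.pow_right_injective hp.out.two_le hwo]
      have hX'V : X' ≤ V := hX'A.trans (hAV' ▸ inf_le_right)
      have hXne : X' ≠ X := fun e => ne_bot_of_card_prime hX.2 (by rw [← hX'X, e, inf_idem])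
      have hd : C₀ ⊓ X' = ⊥ := by
        refine card_eq_one.mp (((Nat.dvd_prime hp.out).mp (hX'.2 ▸ card_dvd_of_le inf_le_right)).resolve_right
          fun h => ?_)
        have e1 : C₀ ⊓ X' = X' := eq_of_le_of_card_ge inf_le_right (by rw [h, hX'.2])
        haveI : IsCyclic C₀ := inferInstance
        exact hA.not_isCyclic (isCyclic_of_le (show A ≤ C₀ from
          (IsLine.sup_eq hA hX' hX hXne).ge.trans (sup_le (e1 ▸ inf_le_left) (hXW.trans hWC))))
      have hn : X' ≤ normalizer (C₀ : Set G) := fun x hx => centralizer_le_normalizer _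
        (mem_centralizer_iff.mpr fun y hy => hcomm y (hVP (zpowers_le.mpr v.2 hy)) x (hVP (hX'V hx)))
      have hs : C₀ ⊔ X' = V := by
        refine eq_of_le_of_card_ge (sup_le (zpowers_le.mpr v.2) hX'V) ?_
        rw [CfsgLib.Coprime.card_sup_of_inf_eq_bot hn (inf_comm C₀ X' ▸ hd), hvo, hX'.2, hVc, ← pow_succ]
      obtain ⟨C, hWCC, hCV, hCd, hCs, hCn⟩ := exists_invariant_factor_in
        ⟨⟨fun x y => Subtype.ext (hcomm _ (hVP x.2) _ (hVP y.2))⟩⟩ hVn hWn hHX' hX'V
        (zpowers_le.mpr v.2) hd hs hWC (by rwa [hX'.2])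
      refine ⟨C, isCyclic_of_pow_le hp2 (hPp.to_le (hCV.trans hVP)) hX.2 fun x hx hxp => ?_, hCn, ?_,
        hXW.trans hWCC, fun z hz => (hCV hz).1⟩
      · have hxA : x ∈ A := hΩ x (hVP (hCV hx)) hxp
        obtain ⟨y, hy, z, hz, rfl⟩ := hA.exists_decomp hX hX' hXne.symm hxA
        have : z ∈ C ⊓ X' := mem_inf.mpr ⟨(mul_mem_cancel_left (hWCC (hXW hy))).mp hx, hz⟩
        rw [hCd, mem_bot] at this
        rw [this, mul_one]; exact hy
      · have hn' : X' ≤ normalizer (C : Set G) := fun x hx => centralizer_le_normalizer _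
          (mem_centralizer_iff.mpr fun y hy => hcomm y (hVP (hCV hy)) x (hVP (hX'V hx)))
        refine Nat.eq_of_mul_eq_mul_right hp.out.pos ?_
        have h1 := CfsgLib.Coprime.card_sup_of_inf_eq_bot hn' (inf_comm C X' ▸ hCd)
        rw [hCs, hVc, hX'.2] at h1
        rw [← h1, ← pow_succ]

end CfsgLib.BG
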