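import Cfsg.Agent.Lib.BG.Tau2Sylow
import Cfsg.Agent.Lib.Solvable.Fitting

/-!
# The structure of `M` around `τ₂(M)`
-/

set_option autoImplicit false
set_option linter.style.haveILetI false
set_option linter.unusedSectionVars false

namespace CfsgLib.BG

open Subgroup CfsgLib.PLocal CfsgLib.OddLocal
open scoped commutatorElement

universe u
variable {G : Type u} [Group G] [Finite G] {M E : Subgroup G} {p : ℕ} [hp : Fact p.Prime]
  {A A₀ : Subgroup G}

/-- An element moving the line `X` but fixing the line `Z` of `A` permutes the others transitively. -/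
theorem exists_zpowers_conj (hA : IsSq p A) {x : G} (hxA : x ∈ normalizer (A : Set G))
    (hxp : ∃ k : ℕ, orderOf x = p ^ k) {X Y Z : Subgroup G} (hX : IsLine p A X) (hY : IsLine p A Y)
    (hZ : IsLine p A Z) (hxZ : conjMap x Z = Z) (hxX : conjMap x X ≠ X) (hXZ : X ≠ Z) (hYZ : Y ≠ Z) :
    ∃ u ∈ zpowers x, conjMap u X = Y := by
  classical
  obtain ⟨a, ha, ha1⟩ := (bot_or_exists_ne_one X).resolve_left (ne_bot_of_card_prime hX.2)
  have haZ : a ∉ Z := fun h =>
    hXZ ((zpowers_eq_of_card_prime hX.2 ha ha1).symm.trans (zpowers_eq_of_card_prime hZ.2 h ha1))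
  let S : Type u := {W : Subgroup G // IsLine p A W ∧ W ≠ Z}
  have hW : ∀ W : S, ∃ z : Z, a * (z : G) ∈ W.1 := by
    rintro ⟨W, hW, hWZ⟩
    have hn : W ≤ normalizer (Z : Set G) :=
      hW.1.trans ((hA.le_centralizer.trans (Subgroup.centralizer_le hZ.1)).trans
        (centralizer_le_normalizer _))
    obtain ⟨z, hz, w, hw, hzw⟩ := (CfsgLib.Coprime.mem_sup_of_le_normalizer hn).mp
      ((IsLine.sup_eq hA hZ hW hWZ.symm).symm ▸ hX.1 ha)
    refine ⟨⟨z⁻¹, inv_mem hz⟩, ?_⟩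
    show a * z⁻¹ ∈ W
    have hc : Commute z w := elemAb_comm hA.1 (hZ.1 hz) (hW.1 hw)
    rw [show a = z * w from hzw.symm, hc.eq, mul_inv_cancel_right]
    exact hw
  choose f hf using hW
  have hinj : Function.Injective f := by
    intro W W' heq
    have h1 := hf W
    rw [heq] at h1
    have hne : a * (f W' : G) ≠ 1 := fun e => haZ (by
      rw [mul_eq_one_iff_eq_inv.mp e]; exact inv_mem (f W').2)
    exact Subtype.ext ((zpowers_eq_of_card_prime W.2.1.2 h1 hne).symm.trans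
      (zpowers_eq_of_card_prime W'.2.1.2 (hf W') hne))
  have hxn : ∀ i : ℕ, x ^ i ∈ normalizer (A : Set G) := fun i => pow_mem hxA i
  have hmem : ∀ i : ℕ, IsLine p A (conjMap (x ^ i) X) ∧ conjMap (x ^ i) X ≠ Z := fun i => by
    refine ⟨⟨(conjMap_mono hX.1).trans (conjMap_eq_self_iff.mpr (hxn i)).le,
      by rw [card_conjMap, hX.2]⟩, fun e => hXZ ?_⟩
    have hZi : conjMap (x ^ i) Z = Z := conjMap_eq_self_iff.mpr (pow_mem (conjMap_eq_self_iff.mp hxZ) i)
    rw [← conjMap_inv_conjMap (x ^ i) X, e]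
    nth_rewrite 1 [← hZi]
    rw [conjMap_inv_conjMap]
  let g : Fin p → S := fun i => ⟨conjMap (x ^ (i : ℕ)) X, hmem i⟩
  have hginj : Function.Injective g := by
    intro i j hij
    by_contra hne
    wlog hlt : (i : ℕ) < j generalizing i j
    · exact this hij.symm (Ne.symm hne) (lt_of_le_of_ne (not_lt.mp hlt) fun e => hne (Fin.ext e.symm))
    have heq : conjMap (x ^ ((j : ℕ) - i)) X = X := by
      have h1 : conjMap (x ^ (i : ℕ)) X = conjMap (x ^ (j : ℕ)) X := congrArg Subtype.val hij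
      rw [show x ^ (j : ℕ) = x ^ (i : ℕ) * x ^ ((j : ℕ) - i) by
        rw [← pow_add, Nat.add_sub_cancel' hlt.le], ← conjMap_conjMap] at h1
      have := congrArg (conjMap (x ^ (i : ℕ))⁻¹) h1
      rw [conjMap_inv_conjMap, conjMap_inv_conjMap] at this
      exact this.symm
    obtain ⟨k, hk⟩ := hxp
    obtain ⟨l, hl⟩ := exists_pow_eq_self_of_coprime (n := (j : ℕ) - i) (x := x) (by
      rw [hk]
      refine Nat.Coprime.pow_right k (Nat.Coprime.symm (hp.out.coprime_iff_not_dvd.mpr fun hd => ?_))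
      have h1 := Nat.le_of_dvd (by omega) hd
      have h2 := j.2
      omega)
    refine hxX (conjMap_eq_self_iff.mpr ?_)
    rw [← hl]
    exact pow_mem (conjMap_eq_self_iff.mp heq) l
  haveI : Finite S := Finite.of_injective f hinj
  have hbij : Function.Bijective g := by
    rw [Nat.bijective_iff_injective_and_card]
    refine ⟨hginj, le_antisymm (Nat.card_le_card_of_injective g hginj) ?_⟩
    rw [Nat.card_fin]
    exact (Nat.card_le_card_of_injective f hinj).trans hZ.2.le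
  obtain ⟨i, hi⟩ := hbij.2 ⟨Y, hY, hYZ⟩
  exact ⟨x ^ (i : ℕ), pow_mem (mem_zpowers x) _, congrArg Subtype.val hi⟩

variable (hG : Cfsg.IsMinSimpleOddOrder G) (hM : IsCoatom M)
include hG hM

theorem tau2_square (hE : Cfsg.IsComplIn E (Cfsg.sigmaCore M) M) {r : ℕ} [Fact r.Prime]
    (hr : r ∈ Cfsg.tau2 M) : ∃ B B₀, B ≤ E ∧ IsExc r M B B₀ := by
  obtain ⟨B, hBM, hB⟩ := exists_sq_le_of_not_prankLE le_rfl hr.2.2.2
  obtain ⟨c, hc, hcE⟩ := exists_conj_le_compl hG hM hE hBM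
    fun t ht htd => (prime_dvd_pgroup_card hB.isPGroup ht htd) ▸ hr.2.1
  obtain ⟨B₀, h⟩ := exists_exc hG hM hr.2.1 (hB.conjMap c) (hcE.trans hE.1)
  exact ⟨_, B₀, hcE, h⟩

/-- Nilpotent `σ(M)'`-subgroups of `M` are abelian. -/
theorem isMulCommutative_of_nilpotent {N : Subgroup G} (hN : N ≤ M) (hnil : Group.IsNilpotent N)
    (hπ : ∀ r : ℕ, r.Prime → r ∣ Nat.card N → r ∉ Cfsg.sigma M) : IsMulCommutative N := by
  have hsol : Group.IsSolvable N := isSolvable_of_le_max hG hM hN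
  have hbot : (⊥ : Subgroup G) ≤ normalizer (N : Set G) := bot_le
  have hcop : (Nat.card (⊥ : Subgroup G)).Coprime (Nat.card N) := by
    rw [Subgroup.card_bot]; exact Nat.coprime_one_left _
  suffices h : N ≤ centralizer (N : Set G) from
    ⟨⟨fun a b => Subtype.ext (mem_centralizer_iff.mp (h b.2) a a.2)⟩⟩
  refine le_of_inv_sylows hbot hcop (Or.inr hsol) fun r hr R hR hR1 _ => le_centralizer_iff.mp ?_
  haveI : Fact r.Prime := ⟨hr⟩
  refine le_of_inv_sylows hbot hcop (Or.inr hsol) fun s hs R' hR' _ _ => ?_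
  haveI : Fact s.Prime := ⟨hs⟩
  rcases eq_or_ne s r with rfl | hsr
  · obtain ⟨k, hk, hkR⟩ := hR.exists_conj_eq hR'
    have hn : N ≤ normalizer (R' : Set G) := le_normalizer_of_hall_nilpotent hG hnil (π := {s})
      ⟨hR'.1, fun t ht htd => prime_dvd_pgroup_card hR'.2.1 ht htd,
        fun t _ hts => (Set.mem_singleton_iff.mp hts) ▸ hR'.2.2⟩
    rw [conjMap_eq_self_iff.mpr (hn hk)] at hkR
    subst hkR
    have hσ : s ∉ Cfsg.sigma M :=
      hπ s hs ((dvd_card_of_pgroup_ne_bot hR'.2.1 hR1).trans (card_dvd_of_le hR'.1))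
    have hab : IsMulCommutative R' := by
      by_cases h1 : Cfsg.PRankLE s 1 M
      · haveI := isCyclic_pgroup_of_prankLE_one hG hR'.2.1 (hR'.1.trans hN) h1
        exact IsCyclic.isMulCommutative
      obtain ⟨B, hBM, hB⟩ := exists_sq_le_of_not_prankLE le_rfl h1
      obtain ⟨B₀, h⟩ := exists_exc hG hM hσ hB hBM
      obtain ⟨P, hP, hRP⟩ := exists_sylowIn_le hR'.2.1 (hR'.1.trans hN)
      obtain ⟨m, hm, hmP⟩ := hP.exists_conj_le hB.isPGroup hBM
      have h' := h.conj m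
      rw [conjMap_eq_of_mem hm] at h'
      exact ⟨⟨fun a b => Subtype.ext (congrArg Subtype.val
        ((h'.sylow_abelian hG hM hP hmP).1.is_comm.comm ⟨a, hRP a.2⟩ ⟨b, hRP b.2⟩) :)⟩⟩
    intro a ha
    exact mem_centralizer_iff.mpr fun b hb => congrArg Subtype.val (hab.is_comm.comm ⟨b, hb⟩ ⟨a, ha⟩)
  · exact le_centralizer_of_nilpotent hnil hR'.1 hR.1 (coprime_pgroup hR'.2.1 hR.2.1 hsr)

/-- A noncyclic `p`-subgroup of `M`, `p ∈ σ(M)`, has its normalizer in `M`. -/
theorem normalizer_le_of_not_isCyclic (hσ : p ∈ Cfsg.sigma M) {P : Subgroup G} (hP : IsPGroup p P)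
    (hPM : P ≤ M) (hnc : ¬ IsCyclic P) : normalizer (P : Set G) ≤ M := by
  have hP1 : P ≠ ⊥ := fun e => hnc (e ▸ inferInstance)
  obtain ⟨A, hAP, hA⟩ := exists_sq_of_not_isCyclic (prime_ne_two_of_pgroup hG hP hP1) hP hnc
  rw [(Cfsg.Agent.S1404.result hG M hM p hσ P hP hP1 hPM).2]
  exact sup_le inf_le_left
    ((Subgroup.centralizer_le hAP).trans (centralizer_le_max hG hM hA (hAP.trans hPM)))

/-- A `τ₂(M)`-element centralizing an element of `M_σ` pins `M`. -/
theorem centralizer_tau2_element {x : G} (hxM : x ∈ M) (hx1 : x ≠ 1)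
    (hπ : ∀ r : ℕ, r.Prime → r ∣ orderOf x → r ∈ Cfsg.tau2 M) {y : G} (hy : y ∈ Cfsg.sigmaCore M)
    (hy1 : y ≠ 1) (hxy : x * y = y * x) :
    centralizer ({x} : Set G) ≤ M ∧
      ∀ L : Subgroup G, IsCoatom L → centralizer ({x} : Set G) ≤ L → L = M := by
  have hxc : Nat.card (zpowers x) = orderOf x := Nat.card_zpowers x
  obtain ⟨E, hE, hxE⟩ := exists_compl_ge hG hM (zpowers_le.mpr hxM)
    fun r hr hd => (hπ r hr (hxc ▸ hd)).2.1
  obtain ⟨r, hr, hrd⟩ := Nat.exists_prime_and_dvd (mt orderOf_eq_one_iff.mp hx1)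
  haveI : Fact r.Prime := ⟨hr⟩
  obtain ⟨A, A₀, hAE, h⟩ := tau2_square hG hM hE (hπ r hr hrd)
  have hxA : zpowers x ≤ centralizer (A : Set G) := by
    refine le_of_inv_sylows (A := (⊥ : Subgroup G)) bot_le
      (by rw [Subgroup.card_bot]; exact Nat.coprime_one_left _)
      (Or.inr (isSolvable_of_le_max hG hM (zpowers_le.mpr hxM))) fun s hs R hR hR1 _ => ?_
    haveI : Fact s.Prime := ⟨hs⟩
    have hsd : s ∣ orderOf x :=
      hxc ▸ (dvd_card_of_pgroup_ne_bot hR.2.1 hR1).trans (card_dvd_of_le hR.1)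
    obtain ⟨Q, hQ, hRQ⟩ := exists_sylowIn_le hR.2.1 (hR.1.trans hxE)
    refine hRQ.trans ?_
    rcases eq_or_ne r s with rfl | hrs
    · obtain ⟨P, hP, hAP⟩ := exists_sylowIn_le h.sq.isPGroup hAE
      have hA : A ≤ Q := by
        obtain ⟨e, he, heQ⟩ := hP.exists_conj_eq hQ
        rw [← conjMap_inv_conjMap e Q, heQ, ← conjMap_eq_self_iff.mpr
          (inv_mem (h.compl_le_normalizer hG hM hE hAE he))]
        exact conjMap_mono hAP
      exact h.sylow_center hG hM (sylowIn_of_compl hG hM hE h.not_sigma hQ) hA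
    · obtain ⟨B, B₀, hBE, h'⟩ := tau2_square hG hM hE (hπ s hs hsd)
      exact h.centralizes_other hG hM h' hrs hE hAE hBE hQ
  have hAC : A ≤ centralizer ({x} : Set G) := (le_centralizer_iff.mp hxA).trans
    (Subgroup.centralizer_le (Set.singleton_subset_iff.mpr (mem_zpowers x)))
  have hyC : y ∈ centralizer ({x} : Set G) := mem_centralizer_singleton_iff.mpr hxy.symm
  refine onlyMax_of_forall hG hM (minSimple_centralizer_singleton_ne_top hG hx1) fun L hL hle => ?_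
  by_contra hne
  have : y ∈ (⊥ : Subgroup G) := h.inf_other hG hM hL hne (hAC.trans hle) ▸ mem_inf.mpr ⟨hy, hle hyC⟩
  exact hy1 (mem_bot.mp this)

/-- With nonabelian Sylow `p`-subgroups: `A₀` centralizes `M_σ`, every other line is fixed-point-free. -/
theorem IsExc.nonabelian_lines (h : IsExc p M A A₀) {P S : Subgroup G} (hP : SylowIn p P M)
    (hAP : A ≤ P) (hS : SylowIn p S ⊤) (hPS : P ≤ S) (hne : P ≠ S) :
    A ⊓ centralizer (Cfsg.sigmaCore M : Set G) = A₀ ∧
      ∀ X, IsLine p A X → X ≠ A₀ →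
        Cfsg.sigmaCore M ⊓ centralizer (X : Set G) = ⊥ ∧ ¬ centralizer (X : Set G) ≤ M := by
  obtain ⟨g, hgS, hgA, -, hgM⟩ := h.exists_move_sylow hG hM hP hAP hS hPS hne
  have hSne : S ≠ ⊥ := fun e => h.sq.ne_bot (le_bot_iff.mp ((hAP.trans hPS).trans e.le))
  haveI : Nontrivial S := nontrivial_iff_ne_bot S |>.mpr hSne
  haveI := hS.2.1.center_nontrivial
  obtain ⟨z, ⟨⟨y, hyc, rfl⟩, hzo⟩⟩ := exists_order_p (P := (center S).map S.subtype)
    ((hS.2.1.to_subgroup _).map S.subtype) (by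
      rw [Ne, map_eq_bot_iff_of_injective _ S.subtype_injective]
      exact (nontrivial_iff_ne_bot _).mp inferInstance)
  have hcomm : ∀ a ∈ S, Commute a (S.subtype y) := fun a ha =>
    congrArg Subtype.val (mem_center_iff.mp hyc ⟨a, ha⟩)
  have hzA : S.subtype y ∈ A := (h.isMaxSq hG hM).mem_of_pow_eq_one
    (mem_centralizer_iff.mpr fun a ha => (hcomm a (hPS (hAP ha))).eq) (hzo ▸ pow_orderOf_eq_one _)
  set Z := zpowers (S.subtype y) with hZdef
  have hZ : IsLine p A Z := ⟨zpowers_le.mpr hzA, by rw [hZdef, Nat.card_zpowers, hzo]⟩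
  have hSZ : S ≤ centralizer (Z : Set G) := by
    intro a ha
    rw [mem_centralizer_iff]
    intro w hw
    obtain ⟨k, rfl⟩ := mem_zpowers_iff.mp hw
    exact ((hcomm a ha).zpow_right k).eq.symm
  have hgZ : conjMap g Z = Z := conjMap_eq_self_iff.mpr (centralizer_le_normalizer _ (hSZ hgS))
  have hSM : ¬ centralizer (Z : Set G) ≤ M := fun hle => hgM (hle (hSZ hgS))
  have hfZ : Cfsg.sigmaCore M ⊓ centralizer (Z : Set G) = ⊥ := by
    by_contra h1
    exact hSM (h.onlyMax_centralizer hG hM hZ h1).1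
  have hgA₀ : conjMap g A₀ ≠ A₀ := fun e => hgM (h.norm (conjMap_eq_self_iff.mp e))
  have hA₀Z : A₀ ≠ Z := fun e => hgA₀ (e ▸ hgZ)
  have hgp : ∃ k, orderOf g = p ^ k := by
    obtain ⟨k, hk⟩ := IsPGroup.iff_orderOf.mp hS.2.1 ⟨g, hgS⟩
    exact ⟨k, by rwa [Subgroup.orderOf_mk] at hk⟩
  have hother : ∀ X, IsLine p A X → X ≠ A₀ →
      Cfsg.sigmaCore M ⊓ centralizer (X : Set G) = ⊥ ∧
        (Cfsg.sigmaCore M ≤ centralizer (A₀ : Set G) → ¬ centralizer (X : Set G) ≤ M) := by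
    intro X hX hXA₀
    rcases eq_or_ne X Z with rfl | hXZ
    · exact ⟨hfZ, fun _ => hSM⟩
    obtain ⟨u, hu, huX⟩ := exists_zpowers_conj h.sq hgA hgp h.line hX hZ hgZ hgA₀ hA₀Z hXZ
    have huA : conjMap u A = A := conjMap_eq_self_iff.mpr (zpowers_le.mpr hgA hu)
    have huM : u ∉ M := by
      intro huM
      have huP : u ∈ P := by
        rw [← (h.sylow_eq_inf hG hM hP hAP hS hPS).1]
        exact mem_inf.mpr ⟨zpowers_le.mpr hgS hu, huM⟩
      have hc := h.sylow_center hG hM hP hAP huP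
      exact hXA₀ (huX.symm.trans (conjMap_eq_self_iff.mpr
        (centralizer_le_normalizer _ (Subgroup.centralizer_le h.line.1 hc))))
    have hAu : A ≤ conjMap u M := huA.ge.trans (conjMap_mono h.le)
    refine ⟨huX ▸ h.fpf_conj hG hM huM hAu, fun hA₀ hle => sigmaCore_ne_bot hG hM ?_⟩
    have h1 : conjMap u (Cfsg.sigmaCore M) ≤ centralizer (X : Set G) := by
      rw [← huX, le_centralizer_iff]
      rintro _ ⟨a, ha, rfl⟩
      rw [SetLike.mem_coe] at ha
      refine mem_centralizer_iff.mpr ?_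
      rintro _ ⟨w, hw, rfl⟩
      show (MulAut.conj u).toMonoidHom w * (MulAut.conj u).toMonoidHom a = _
      rw [← map_mul, mem_centralizer_iff.mp (le_centralizer_iff.mp hA₀ ha) w hw, map_mul]
    have hui : u⁻¹ ∉ M := fun hm => huM (inv_mem_iff.mp hm)
    have hσM : Cfsg.sigmaCore M ≤ conjMap u⁻¹ M := by
      have := conjMap_mono (g := u⁻¹) (h1.trans hle)
      rwa [conjMap_inv_conjMap] at this
    have hAui : A ≤ conjMap u⁻¹ M := by
      have := conjMap_mono (g := u⁻¹) h.le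
      rwa [conjMap_eq_self_iff.mpr (inv_mem (conjMap_eq_self_iff.mp huA))] at this
    exact le_bot_iff.mp ((le_inf le_rfl hσM).trans (h.inf_conj hG hM hui hAui).le)
  have hA₀c : Cfsg.sigmaCore M ≤ centralizer (A₀ : Set G) := by
    refine h.sq.le_of_forall_line (h.le.trans (le_normalizer_sigmaCore M))
      (not_dvd_sigmaCore hG hM h.not_sigma) fun X hX => ?_
    rcases eq_or_ne X A₀ with rfl | hXA₀
    · exact inf_le_right
    · exact (hother X hX hXA₀).1.le.trans bot_le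
  refine ⟨?_, fun X hX hXA₀ => ⟨(hother X hX hXA₀).1, (hother X hX hXA₀).2 hA₀c⟩⟩
  refine (eq_of_le_of_card_ge (le_inf h.line.1 (le_centralizer_iff.mp hA₀c)) ?_).symm
  rw [h.line.2]
  have hd := card_dvd_of_le (inf_le_left : A ⊓ centralizer (Cfsg.sigmaCore M : Set G) ≤ A)
  rw [h.sq.2] at hd
  obtain ⟨j, hj, hcard⟩ := (Nat.dvd_prime_pow hp.out).mp hd
  rw [hcard]
  rcases (show j ≤ 1 ∨ j = 2 by omega) with hj1 | rfl
  · exact (Nat.pow_le_pow_right hp.out.pos hj1).trans (pow_one p).le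
  exact absurd (inf_eq_left.mp (eq_of_le_of_card_ge inf_le_left (by rw [hcard, h.sq.2])))
    (not_centralizes hG hM h.not_sigma h.sq h.le)

/-- With nonabelian Sylow `p`-subgroups: `F(M) = M_σ × A₀`. -/
theorem IsExc.fittingOf_eq (h : IsExc p M A A₀) {P S : Subgroup G} (hP : SylowIn p P M)
    (hAP : A ≤ P) (hS : SylowIn p S ⊤) (hPS : P ≤ S) (hne : P ≠ S)
    (hτ : Cfsg.tau2 M = {p}) :
    Cfsg.fittingOf M = Cfsg.sigmaCore M ⊔ A₀ := by
  obtain ⟨hA₀eq, -⟩ := h.nonabelian_lines hG hM hP hAP hS hPS hne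
  set N := Cfsg.sigmaCore M with hN
  have hA₀N : A₀ ≤ centralizer (N : Set G) := hA₀eq.ge.trans inf_le_right
  obtain ⟨E, hE, hAE⟩ := exists_compl_ge hG hM h.le
    fun r hr hd => (prime_dvd_pgroup_card h.sq.isPGroup hr hd) ▸ h.not_sigma
  have hA₀n : M ≤ normalizer (A₀ : Set G) := by
    rw [← isComplIn_sup hE, sup_le_iff]
    refine ⟨?_, (le_centralizer_iff.mp hA₀N).trans (centralizer_le_normalizer _)⟩
    rw [← hA₀eq]
    exact CfsgLib.Comp.le_normalizer_inf (h.compl_le_normalizer hG hM hE hAE)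
      (CfsgLib.Comp.le_normalizer_centralizer (hE.1.trans (le_normalizer_sigmaCore M)))
  have hle : ∀ K : Subgroup G, K ≤ M → M ≤ normalizer (K : Set G) → Group.IsNilpotent K →
      K ≤ Cfsg.fittingOf M := by
    intro K hKM hKn hKnil
    have h' : K.subgroupOf M ≤ Cfsg.fittingSubgroup M := CfsgLib.Solvable.le_fittingSubgroup
      ((Subgroup.normal_subgroupOf_iff_le_normalizer hKM).mpr hKn)
      ((Group.isNilpotent_congr (Subgroup.subgroupOfEquivOfLe hKM)).mpr hKnil)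
    have := Subgroup.map_mono (f := M.subtype) h'
    rwa [Subgroup.map_subgroupOf_eq_of_le hKM] at this
  refine le_antisymm ?_ (sup_le (hle N (sigmaCore_le M) (le_normalizer_sigmaCore M) (h.nilpotent hG hM))
    (hle A₀ (h.line.1.trans h.le) hA₀n h.line.isPGroup.isNilpotent))
  have hFM : Cfsg.fittingOf M ≤ M := fittingOf_le M
  have hFn : Group.IsNilpotent (Cfsg.fittingOf M) := fittingOf_isNilpotent M
  refine le_of_inv_sylows (A := (⊥ : Subgroup G)) bot_le
    (by rw [Subgroup.card_bot]; exact Nat.coprime_one_left _)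
    (Or.inr (isSolvable_of_le_max hG hM hFM)) fun r hr R hR hR1 _ => ?_
  haveI : Fact r.Prime := ⟨hr⟩
  have hRM : R ≤ M := hR.1.trans hFM
  by_cases hrσ : r ∈ Cfsg.sigma M
  · exact (le_sigmaCore_of_pi hG hM hRM fun t ht htd =>
      (prime_dvd_pgroup_card hR.2.1 ht htd) ▸ hrσ).trans le_sup_left
  -- `R` is a normal subgroup of `M` centralizing `M_σ`
  have hFnorm : M ≤ normalizer (Cfsg.fittingOf M : Set G) := by
    intro m hm
    rw [mem_normalizer_iff]
    intro x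
    constructor
    · rintro ⟨w, hw, rfl⟩
      exact ⟨⟨m, hm⟩ * w * ⟨m, hm⟩⁻¹,
        (CfsgLib.Solvable.fittingSubgroup_normal (G := M)).conj_mem w hw _, rfl⟩
    · rintro ⟨w, hw, hwx⟩
      refine ⟨⟨m, hm⟩⁻¹ * w * ⟨m, hm⟩, by simpa using
        (CfsgLib.Solvable.fittingSubgroup_normal (G := M)).conj_mem w hw (⟨m, hm⟩ : M)⁻¹, ?_⟩
      show m⁻¹ * M.subtype w * m = x
      rw [hwx]; group
  have hRn : M ≤ normalizer (R : Set G) := by
    intro m hm
    have hH : Cfsg.IsPiHallOf {r} R (Cfsg.fittingOf M) :=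
      ⟨hR.1, fun t ht htd => prime_dvd_pgroup_card hR.2.1 ht htd,
        fun t _ htr => (Set.mem_singleton_iff.mp htr) ▸ hR.2.2⟩
    obtain ⟨k, hk, hke⟩ := CfsgLib.Coprime.exists_conj_of_isPiHallOf
      (isSolvable_of_le_max hG hM hFM) hH (CfsgLib.Coprime.isPiHallOf_map_conj hH (hFnorm hm))
    rw [CfsgLib.Coprime.mem_normalizer_iff_map_conj, ← hke,
      CfsgLib.Coprime.map_conj_of_mem_normalizer (le_normalizer_of_hall_nilpotent hG hFn hH hk)]
  have hRc : R ≤ centralizer (N : Set G) := by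
    rw [← commutator_eq_bot_iff_le_centralizer, ← le_bot_iff]
    refine le_trans (le_inf (CfsgLib.Comp.commutator_le_of_le_normalizer ((sigmaCore_le M).trans hRn)) ?_)
      (inf_sigmaCore_eq_bot hG hM (X := R) fun t ht htd =>
        (prime_dvd_pgroup_card hR.2.1 ht htd) ▸ hrσ).le
    rw [commutator_comm]
    exact CfsgLib.Comp.commutator_le_of_le_normalizer (hRM.trans (le_normalizer_sigmaCore M))
  haveI hcyc : IsCyclic R := by
    by_contra hnc
    obtain ⟨B, hBR, hB⟩ := exists_sq_of_not_isCyclic (prime_ne_two_of_pgroup hG hR.2.1 hR1) hR.2.1 hnc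
    exact not_centralizes hG hM hrσ hB (hBR.trans hRM) (hBR.trans hRc)
  obtain ⟨x, hxR, hxo⟩ := exists_order_p hR.2.1 hR1
  have hXn : M ≤ normalizer (zpowers x : Set G) := by
    intro m hm
    rw [← conjMap_eq_self_iff, conjMap, MonoidHom.map_zpowers]
    haveI : IsCyclic R := hcyc
    have hy : m * x * m⁻¹ ∈ R := (mem_normalizer_iff.mp (hRn hm) x).mp hxR
    have ho : orderOf (m * x * m⁻¹) = orderOf x := MulEquiv.orderOf_eq (MulAut.conj m) x
    refine eq_of_le_of_card_ge ?_ (le_of_eq ?_)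
    · rw [zpowers_le]
      show m * x * m⁻¹ ∈ zpowers x
      classical
      have := Fintype.ofFinite R
      let T : Finset R := Finset.univ.filter fun w => w ^ r = 1
      let T' : Finset R := Finset.univ.filter fun w => (w : G) ∈ zpowers x
      have hTT : T' ⊆ T := fun w hw => by
        simp only [T, T', Finset.mem_filter, Finset.mem_univ, true_and] at hw ⊢
        obtain ⟨k, hk⟩ := mem_zpowers_iff.mp hw
        refine Subtype.ext ?_
        rw [SubmonoidClass.coe_pow, ← hk, ← zpow_natCast, ← zpow_mul, mul_comm, zpow_mul, zpow_natCast,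
          ← hxo, pow_orderOf_eq_one, one_zpow]
        rfl
      have hT'c : T'.card = r := by
        rw [← hxo, ← Nat.card_zpowers x, ← CfsgLib.Coprime.card_subgroupOf (zpowers_le.mpr hxR),
          Nat.card_eq_fintype_card, Fintype.card_subtype]
        simp only [T', mem_subgroupOf]
      have heq := Finset.eq_of_subset_of_card_le hTT (hT'c.symm ▸ IsCyclic.card_pow_eq_one_le hr.pos)
      have hm' : (⟨_, hy⟩ : R) ∈ T := by
        simp only [T, Finset.mem_filter, Finset.mem_univ, true_and]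
        refine Subtype.ext ?_
        show (m * x * m⁻¹) ^ r = 1
        rw [← hxo, ← ho, pow_orderOf_eq_one]
      rw [← heq] at hm'
      simpa [T'] using hm'
    · show Nat.card (zpowers x) = Nat.card (zpowers (m * x * m⁻¹))
      rw [Nat.card_zpowers, Nat.card_zpowers, ho]
  have hX1 : zpowers x ≠ ⊥ := ne_bot_of_card_prime (p := r) (by rw [Nat.card_zpowers, hxo])
  obtain ⟨⟨hr2, hr1⟩, -⟩ := Cfsg.Agent.S1409.result hG M hM r hrσ (zpowers x)
    (by rw [Nat.card_zpowers, hxo])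
    (normalizer_eq_max hG hM hX1 (zpowers_le.mpr (hRM hxR)) hXn).le
  have hrτ : r ∈ Cfsg.tau2 M := ⟨hr, hrσ, hr2, hr1⟩
  rw [hτ, Set.mem_singleton_iff] at hrτ
  subst hrτ
  refine le_trans ?_ le_sup_right
  obtain ⟨k, hk, hkR⟩ := hP.exists_conj_le hR.2.1 hRM
  rw [conjMap_eq_self_iff.mpr (hRn hk)] at hkR
  have hΩ := (h.sylow_abelian hG hM hP hAP).2.1
  intro y hy
  rw [← hA₀eq, mem_inf]
  refine ⟨(hΩ y (hkR hy)).mp ?_, hRc hy⟩
  by_contra hyp
  obtain ⟨g, hgS, hgA, hgP, hgM⟩ := h.exists_move_sylow hG hM hP hAP hS hPS hne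
  obtain ⟨habP, hY⟩ := (h.isMaxSq hG hM).centralizer_sylow hG hS (hAP.trans hPS)
  obtain ⟨Y, hYc, -, hAY⟩ := hY (fun hab => hne (le_antisymm hPS (by
    rw [← (h.sylow_eq_inf hG hM hP hAP hS hPS).2]
    exact le_inf le_rfl fun s hs => mem_centralizer_iff.mpr fun a ha =>
      congrArg Subtype.val (hab.is_comm.comm ⟨a, hPS (hAP ha)⟩ ⟨s, hs⟩))))
  rw [(h.sylow_eq_inf hG hM hP hAP hS hPS).2] at hAY
  have hpow : ∀ w ∈ P, w ^ r ∈ Y := by
    intro w hw
    have hn : Y ≤ normalizer (A : Set G) :=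
      ((le_sup_right.trans hAY.le).trans (h.sylow_center hG hM hP hAP)).trans (centralizer_le_normalizer _)
    obtain ⟨a, ha, b, hb, rfl⟩ := (CfsgLib.Coprime.mem_sup_of_le_normalizer hn).mp (hAY ▸ hw)
    have hc : Commute a b := mem_centralizer_iff.mp
      (h.sylow_center hG hM hP hAP (hAY.le (mem_sup_right hb))) a ha
    rw [hc.mul_pow, h.sq.1.2 a ha, one_mul]
    exact pow_mem hb r
  -- a `p`-th power of order `p`
  obtain ⟨w, hwR, hwr, hw1⟩ : ∃ w ∈ R, (w ^ r) ^ r = 1 ∧ w ^ r ≠ 1 := by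
    obtain ⟨j, hj⟩ := IsPGroup.iff_orderOf.mp hR.2.1 ⟨y, hy⟩
    rw [Subgroup.orderOf_mk] at hj
    have hj2 : 2 ≤ j := by
      by_contra hlt
      apply hyp
      rcases (show j = 0 ∨ j = 1 by omega) with rfl | rfl
      · rw [pow_zero, orderOf_eq_one_iff] at hj
        rw [hj, one_pow]
      · rw [pow_one] at hj
        rw [← hj, pow_orderOf_eq_one]
    refine ⟨y ^ (r ^ (j - 2)), pow_mem hy _, ?_, ?_⟩
    · rw [← pow_mul, ← pow_mul, ← mul_assoc, ← pow_succ, ← pow_succ, show j - 2 + 1 + 1 = j by omega, ← hj,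
        pow_orderOf_eq_one]
    · rw [← pow_mul, ← pow_succ]
      intro e
      have := orderOf_dvd_of_pow_eq_one e
      rw [hj, Nat.pow_dvd_pow_iff_le_right hr.one_lt] at this
      omega
  have hv : ∀ v ∈ P, (v ^ r) ^ r = 1 → v ^ r ∈ A₀ := by
    have hwA₀ : w ^ r ∈ A₀ := by
      rw [← hA₀eq, mem_inf]
      exact ⟨(hΩ _ (pow_mem (hkR hwR) r)).mp hwr, hRc (pow_mem hwR r)⟩
    have hAYc : Nat.card ↥(A ⊓ Y) ≤ r := by
      haveI : IsCyclic ↥(A ⊓ Y) := isCyclic_of_le inf_le_right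
      have hexp : Monoid.exponent ↥(A ⊓ Y) ∣ r := Monoid.exponent_dvd_of_forall_pow_eq_one fun a =>
        Subtype.ext (h.sq.1.2 a (mem_inf.mp a.2).1)
      rw [IsCyclic.exponent_eq_card] at hexp
      exact Nat.le_of_dvd hr.pos hexp
    intro v hv hv2
    have hwAY : w ^ r ∈ A ⊓ Y := mem_inf.mpr ⟨h.line.1 hwA₀, hpow w (hkR hwR)⟩
    have hvAY : v ^ r ∈ A ⊓ Y := mem_inf.mpr ⟨(hΩ _ (pow_mem hv r)).mp hv2, hpow v hv⟩
    have hle : zpowers (w ^ r) ≤ A ⊓ Y := zpowers_le.mpr hwAY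
    have heq := eq_of_le_of_card_ge hle (by
      rw [Nat.card_zpowers, orderOf_eq_prime hwr hw1]; exact hAYc)
    exact zpowers_le.mpr hwA₀ (heq ▸ hvAY)
  refine hgM (h.norm (conjMap_eq_self_iff.mp (eq_of_le_of_card_ge ?_ (by rw [card_conjMap]))))
  have hwA₀ : w ^ r ∈ A₀ := hv w (hkR hwR) hwr
  rw [← zpowers_eq_of_card_prime h.line.2 hwA₀ hw1, conjMap, MonoidHom.map_zpowers, zpowers_le]
  rw [zpowers_eq_of_card_prime h.line.2 hwA₀ hw1]
  show g * w ^ r * g⁻¹ ∈ A₀
  rw [← conj_pow]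
  exact hv _ ((mem_normalizer_iff.mp hgP w).mp (hkR hwR)) (by rw [conj_pow, conj_pow, hwr]; group)

end CfsgLib.BG
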