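import Cfsg.Agent.Lib.BG.BetaHall
import Cfsg.Agent.Lib.BG.Beta
import Cfsg.Agent.Lib.BG.Tau2Facts
import Cfsg.Agent.Lib.BG.SquareLines
import Cfsg.Agent.S1412

/-!
# A nonabelian `p`-subgroup lies in a unique maximal subgroup
-/

set_option autoImplicit false
set_option linter.style.haveILetI false
set_option linter.unusedSectionVars false

namespace CfsgLib.BG

open Subgroup CfsgLib.PLocal CfsgLib.OddLocal
open scoped commutatorElement

universe u
variable {G : Type u} [Group G] [Finite G] {p : ℕ} [hp : Fact p.Prime]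

theorem IsPGroup.center_line {P₁ P₂ : Subgroup G} (hP₁ : IsPGroup p P₁) (hne : P₁ ≠ ⊥)
    (hexp : Monoid.exponent P₁ = p) (hcyc : IsCyclic P₂)
    (hΩ : closure {x : G | x ∈ P₂ ∧ x ^ p = 1} = P₁ ⊓ centralizer (P₁ : Set G)) :
    Nat.card ↥(P₁ ⊓ centralizer (P₁ : Set G)) = p := by
  haveI : Nontrivial P₁ := nontrivial_iff_ne_bot P₁ |>.mpr hne
  haveI := hP₁.center_nontrivial
  set Z := P₁ ⊓ centralizer (P₁ : Set G) with hZ
  have hZ1 : Z ≠ ⊥ := by
    obtain ⟨w, hw⟩ := Subgroup.ne_bot_iff_exists_ne_one.mp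
      ((nontrivial_iff_ne_bot (center P₁)).mp inferInstance)
    intro e
    have h1 : ((w : P₁) : G) ∈ Z := mem_inf.mpr ⟨(w : P₁).2, mem_centralizer_iff.mpr fun a ha =>
      congrArg Subtype.val (mem_center_iff.mp w.2 ⟨a, ha⟩)⟩
    rw [e, mem_bot] at h1
    exact hw (Subtype.ext (Subtype.ext h1))
  have hZp : IsPGroup p Z := hP₁.to_le inf_le_left
  haveI := hcyc
  haveI : IsCyclic Z := isCyclic_of_le (show Z ≤ P₂ by
    rw [← hΩ, closure_le]
    exact fun x hx => hx.1)
  have hdvd : Monoid.exponent Z ∣ p := Monoid.exponent_dvd_of_forall_pow_eq_one fun x => by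
    have := Monoid.pow_exponent_eq_one (⟨x, (mem_inf.mp x.2).1⟩ : P₁)
    rw [hexp] at this
    exact Subtype.ext (congrArg Subtype.val this :)
  rw [IsCyclic.exponent_eq_card] at hdvd
  exact ((Nat.dvd_prime hp.out).mp hdvd).resolve_left fun h => hZ1 (card_eq_one.mp h)

variable (hG : Cfsg.IsMinSimpleOddOrder G) {M L : Subgroup G} (hM : IsCoatom M)
include hG hM

/-- The Frattini decomposition over `M_β`. -/
theorem exists_beta_mul_normalizer {S : Subgroup G} (hS : SylowIn p S M) (hp' : p ∈ Cfsg.sigma M)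
    {l : G} (hl : l ∈ M) :
    ∃ b ∈ Cfsg.piCoreOf (Cfsg.beta M) M, ∃ n ∈ M ⊓ normalizer (S : Set G), b * n = l := by
  set π := Cfsg.beta M ∪ {p} with hπ
  set W := Cfsg.piCoreOf π M with hW
  set B := Cfsg.piCoreOf (Cfsg.beta M) M with hB
  have hWM : W ≤ M := map_subtype_le _
  have hBn : M ≤ normalizer (B : Set G) := le_normalizer.trans (le_normalizer_piCoreOf _ M)
  have hWn : M ≤ normalizer (W : Set G) := le_normalizer.trans (le_normalizer_piCoreOf _ M)
  have hpπ : p ∈ π := Set.mem_union_right _ (Set.mem_singleton p)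
  have hβπ : Cfsg.beta M ⊆ π := Set.subset_union_left
  have hSd : S ≤ ⁅M, M⁆ := sylowIn_le_derived hG hM hp' hS
  have hSW : S ≤ W := le_piCoreOf_of_derived (π := π) hG hM hβπ (q := p) hpπ hS.2.1 hSd
  have hBW : B ≤ W := le_piCoreOf (map_subtype_le _) hBn fun q hq hd =>
    Or.inl (piCoreOf_spec _ M q hq hd)
  have hBSW : B ⊔ S = W := by
    refine eq_of_le_of_card_ge (sup_le hBW hSW) (le_of_eq ?_)
    have h1 : (B ⊔ S).relIndex W = 1 := by
      by_contra hne
      obtain ⟨q, hq, hd⟩ := Nat.exists_prime_and_dvd hne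
      have hqd : q ∣ Nat.card W := by
        rw [← CfsgLib.Coprime.card_mul_relIndex (sup_le hBW hSW)]
        exact dvd_mul_of_dvd_right hd _
      rcases piCoreOf_spec π M q hq hqd with hβ | hqp
      · exact (betaCore_hall hG hM).2.2 q hq hβ ((hd.trans (relIndex_dvd_of_le_left W le_sup_left)).trans
          ⟨W.relIndex M, (relIndex_mul_relIndex _ _ _ hBW hWM).symm⟩)
      · rw [Set.mem_singleton_iff] at hqp
        subst hqp
        exact hS.2.2 ((hd.trans (relIndex_dvd_of_le_left W le_sup_right)).trans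
          ⟨W.relIndex M, (relIndex_mul_relIndex _ _ _ hSW hWM).symm⟩)
    rw [← CfsgLib.Coprime.card_mul_relIndex (sup_le hBW hSW), h1, mul_one]
  have hSW' : SylowIn p S W := ⟨hSW, hS.2.1, fun hd => hS.2.2 (hd.trans
    ⟨W.relIndex M, (relIndex_mul_relIndex _ _ _ hSW hWM).symm⟩)⟩
  have hSl : SylowIn p (conjMap l S) W := by
    have hle : conjMap l S ≤ W := (conjMap_mono hSW).trans (conjMap_eq_self_iff.mpr (hWn hl)).le
    refine ⟨hle, hS.2.1.map _, fun hd => hSW'.2.2 ?_⟩
    have h1 := CfsgLib.Coprime.card_mul_relIndex hle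
    rw [card_conjMap, ← CfsgLib.Coprime.card_mul_relIndex hSW] at h1
    rwa [← Nat.eq_of_mul_eq_mul_left Nat.card_pos h1]
  obtain ⟨k, hk, hke⟩ := hSl.exists_conj_eq hSW'
  rw [← hBSW] at hk
  obtain ⟨b, hb, s, hs, rfl⟩ := (CfsgLib.Coprime.mem_sup_of_le_normalizer (hS.1.trans hBn)).mp hk
  have hbn : b⁻¹ * l ∈ normalizer (S : Set G) := by
    rw [← conjMap_eq_self_iff, ← conjMap_conjMap, ← hke, conjMap_conjMap,
      inv_mul_cancel_left, conjMap_eq_self_iff.mpr (le_normalizer hs)]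
  exact ⟨b, hb, b⁻¹ * l, mem_inf.mpr
    ⟨mul_mem (inv_mem (map_subtype_le _ hb)) hl, hbn⟩, mul_inv_cancel_left b l⟩

/-- Some line of every square pins `M`. -/
theorem exists_pin_line (hL : IsCoatom L) (hne : M ≠ L) {S A : Subgroup G} (hS : SylowIn p S ⊤)
    (hSnc : ¬ IsCyclic S) (hSM : S ≤ M) (hSL : S ≤ L) (hpL : p ∈ Cfsg.sigma L) (hA : IsSq p A)
    (hAM : A ≤ M) : ∃ X, IsLine p A X ∧ OnlyMax (normalizer (X : Set G)) M := by
  by_contra hno
  push Not at hno
  obtain ⟨hσ, -, hnil, -⟩ := no_pin hG hM hA hAM hno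
  have hSσ : S ≤ Cfsg.sigmaCore M := le_sigmaCore_of_pi hG hM hSM fun t ht htd =>
    (prime_dvd_pgroup_card hS.2.1 ht htd) ▸ hσ
  have hSn : M ≤ normalizer (S : Set G) := sylow_le_normalizer_of_nilpotent hG hM
    (isNilpotent_of_le hnil (sigmaCore_le_derived hG hM)) (sylowIn_of_le hS hSσ le_top)
  have hML := hSn.trans (normalizer_le_of_not_isCyclic hG hL hpL hS.2.1 hSL hSnc)
  exact hne ((hM.le_iff.mp hML).resolve_left hL.1).symm

/-- The configuration in which the central line pins `M` is impossible. -/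
theorem false_of_pin_center (hL : IsCoatom L) (hne : M ≠ L) {S P₁ P₂ : Subgroup G}
    (hS : SylowIn p S ⊤) (hrS : Cfsg.PRankLE p 2 S) (hSM : S ≤ M) (hSL : S ≤ L)
    (hpM : p ∈ Cfsg.sigma M) (hpL : p ∈ Cfsg.sigma L) (hsup : P₁ ⊔ P₂ = S)
    (hcomm : ∀ a ∈ P₁, ∀ b ∈ P₂, a * b = b * a) (hP₁ : Nat.card P₁ = p ^ 3)
    (hexp : Monoid.exponent P₁ = p) (hna : ¬ IsMulCommutative P₁)
    (hZc : Nat.card ↥(P₁ ⊓ centralizer (P₁ : Set G)) = p)
    (hpin : OnlyMax (normalizer ((P₁ ⊓ centralizer (P₁ : Set G) : Subgroup G) : Set G)) M) : False := by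
  set Z := P₁ ⊓ centralizer (P₁ : Set G) with hZ
  have hP₁S : P₁ ≤ S := le_sup_left.trans hsup.le
  have hP₂S : P₂ ≤ S := le_sup_right.trans hsup.le
  have hP₁p : IsPGroup p P₁ := hS.2.1.to_le hP₁S
  have hSnc : ¬ IsCyclic S := fun h => hna (by
    haveI := h
    haveI : IsCyclic P₁ := isCyclic_of_le hP₁S
    exact IsCyclic.isMulCommutative)
  have hSC : S ≤ centralizer (Z : Set G) := by
    rw [← hsup, sup_le_iff]
    refine ⟨le_centralizer_iff.mp inf_le_right, fun b hb => mem_centralizer_iff.mpr fun a ha => ?_⟩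
    exact hcomm a (mem_inf.mp ha).1 b hb
  have hpow : ∀ a ∈ P₁, a ^ p = 1 := fun a ha => by
    have := Monoid.pow_exponent_eq_one (⟨a, ha⟩ : P₁)
    rw [hexp] at this
    exact congrArg Subtype.val this
  have hZe : Cfsg.IsElementaryAbelian p Z := by
    obtain ⟨z, hz, hzo⟩ := exists_order_p (isPGroup_of_card_prime hZc) (ne_bot_of_card_prime hZc)
    rw [← zpowers_eq_of_card_prime hZc hz fun h => hp.out.ne_one (by rw [← hzo, h, orderOf_one])]
    exact elemAb_zpowers (hzo ▸ pow_orderOf_eq_one z)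
  -- noncentral elements
  have hnonc : ∀ a ∈ P₁, a ∉ Z → centralizer ({a} : Set G) ≤ L ∧
      IsSq p (zpowers a ⊔ Z) := by
    intro a ha haZ
    have ha1 : a ≠ 1 := fun e => haZ (e ▸ one_mem Z)
    have hao : orderOf a = p := orderOf_eq_prime (hpow a ha) ha1
    set A := zpowers a ⊔ Z with hAdef
    have hle : Z ≤ centralizer (zpowers a : Set G) := by
      rw [le_centralizer_iff, zpowers_le]
      exact hSC (hP₁S ha)
    have hA : IsSq p A := by
      refine ⟨elemAb_sup (elemAb_zpowers (hpow a ha)) hZe (le_centralizer_iff.mp hle), ?_⟩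
      rw [CfsgLib.Coprime.card_sup_of_inf_eq_bot (hle.trans (centralizer_le_normalizer _)) ?_,
        Nat.card_zpowers, hao, hZc, sq]
      refine card_eq_one.mp (((Nat.dvd_prime hp.out).mp (hZc ▸ card_dvd_of_le inf_le_left)).resolve_right
        fun h => haZ ?_)
      have e1 : Z ⊓ zpowers a = Z := eq_of_le_of_card_ge inf_le_left (by rw [h, hZc])
      have e2 : Z = zpowers a := eq_of_le_of_card_ge (e1 ▸ inf_le_right)
        (by rw [Nat.card_zpowers, hao, hZc])
      exact e2 ▸ mem_zpowers a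
    have hAP : A ≤ P₁ := sup_le (zpowers_le.mpr ha) inf_le_left
    have hZl : IsLine p A Z := ⟨le_sup_right, hZc⟩
    obtain ⟨X, hX, hpX⟩ := exists_pin_line hG hL hM hne.symm hS hSnc hSL hSM hpM hA
      ((hAP.trans hP₁S).trans hSL)
    have hXZ : X ≠ Z := fun e => hne ((hpX.2 M hM (e ▸ hpin.1)))
    refine ⟨?_, hA⟩
    -- an element of `P₁` moving `X`
    have hlt : A < P₁ := lt_of_le_of_ne hAP fun e => by
      have h1 : Nat.card A = p ^ 3 := e ▸ hP₁
      rw [hA.2] at h1
      exact absurd (Nat.pow_right_injective hp.out.two_le h1) (by norm_num)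
    have hPA : P₁ ≤ normalizer (A : Set G) := by
      have h1 := card_lt_card_inf_normalizer hP₁p hlt
      have hd := card_dvd_of_le (inf_le_left (a := P₁) (b := normalizer (A : Set G)))
      rw [hA.2] at h1
      rw [hP₁] at hd
      obtain ⟨i, hi, hcard⟩ := (Nat.dvd_prime_pow hp.out).mp hd
      rw [hcard] at h1
      have h2 := (Nat.pow_lt_pow_iff_right hp.out.one_lt).mp h1
      exact (eq_of_le_of_card_ge inf_le_left (by rw [hcard, hP₁, show i = 3 by omega])).ge.trans inf_le_right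
    obtain ⟨x, hx, hx1⟩ := (bot_or_exists_ne_one X).resolve_left (ne_bot_of_card_prime hX.2)
    have hxs := zpowers_eq_of_card_prime hX.2 hx hx1
    obtain ⟨b, hb, hbX⟩ : ∃ b ∈ P₁, conjMap b X ≠ X := by
      by_contra hno
      push Not at hno
      refine hXZ (eq_of_le_of_card_ge (le_inf (hX.1.trans hAP) ?_) (by rw [hZc, hX.2]))
      rw [le_centralizer_iff]
      intro b hb
      by_contra hbc
      have hbp : IsPGroup p (zpowers b) := hP₁p.to_le (zpowers_le.mpr hb)
      have h1 := dvd_pred_of_line hX.2 hbp (conjMap_eq_self_iff.mp (hno b hb)) fun hle =>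
        hbc (mem_centralizer_iff.mpr fun y hy => mem_centralizer_singleton_iff.mp (hle hy))
      rw [Nat.mod_self, Nat.one_mod_eq_one.mpr hp.out.ne_one] at h1
      exact zero_ne_one h1
    have hbp : ∃ k : ℕ, orderOf b = p ^ k := by
      obtain ⟨k, hk⟩ := IsPGroup.iff_orderOf.mp hP₁p ⟨b, hb⟩
      exact ⟨k, by rwa [Subgroup.orderOf_mk] at hk⟩
    have hal : IsLine p A (zpowers a) := ⟨le_sup_left, by rw [Nat.card_zpowers, hao]⟩
    obtain ⟨v, hv, hvX⟩ := exists_zpowers_conj hA (hPA hb) hbp hX hal hZl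
      (conjMap_eq_self_iff.mpr (centralizer_le_normalizer _ (hSC (hP₁S hb)))) hbX hXZ
      fun e => haZ (e ▸ mem_zpowers a)
    have hvL : v ∈ L := hSL (hP₁S (zpowers_le.mpr hb hv))
    refine le_trans (le_trans ?_ (centralizer_le_normalizer _)) (?_ : normalizer (zpowers a : Set G) ≤ L)
    · rw [centralizer_zpowers_eq]
    · rw [← hvX, ← conjMap_normalizer]
      exact (conjMap_mono hpX.1).trans (conjMap_eq_self_iff.mpr (le_normalizer hvL)).le
  have hSM' : SylowIn p S M := sylowIn_of_le hS hSM le_top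
  have hSL' : SylowIn p S L := sylowIn_of_le hS hSL le_top
  have hNS := normalizer_le_of_not_isCyclic hG hL hpL hS.2.1 hSL hSnc
  -- a prime of `β(M)`
  obtain ⟨u, hu, huβ⟩ : ∃ u : ℕ, u.Prime ∧ u ∈ Cfsg.beta M := by
    by_contra hno
    push Not at hno
    refine hne ((hM.le_iff.mp (fun m hm => ?_)).resolve_left hL.1).symm
    obtain ⟨b, hb, n, hn, rfl⟩ := exists_beta_mul_normalizer hG hM hSM' hpM hm
    have hb1 : Cfsg.piCoreOf (Cfsg.beta M) M = ⊥ := by
      by_contra h1
      obtain ⟨q, hq, hqd⟩ := exists_prime_dvd_of_ne_bot hG h1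
      exact hno q hq (piCoreOf_spec _ M q hq hqd)
    rw [hb1, mem_bot] at hb
    rw [hb, one_mul]
    exact hNS hn.2
  haveI : Fact u.Prime := ⟨hu⟩
  have hpα : ∀ K : Subgroup G, p ∉ Cfsg.alpha K := fun K hα => by
    obtain ⟨E, hEK, hE, hlt⟩ := not_prankLE_iff.mp hα.2
    obtain ⟨k, -, hk⟩ := hS.exists_conj_le (elemAb_isPGroup hE) le_top
    refine absurd (elemAb_card_le (elemAb_map (MulAut.conj k).toMonoidHom hE) hk hrS) (not_le.mpr ?_)
    rwa [card_conjMap]
  have hup : u ≠ p := fun e => hpα M (e ▸ huβ.1)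
  set Mb := Cfsg.piCoreOf (Cfsg.beta M) M with hMb
  have hMbM : Mb ≤ M := map_subtype_le _
  have hMbn : S ≤ normalizer (Mb : Set G) := hSM.trans (le_normalizer.trans (le_normalizer_piCoreOf _ M))
  have hpMb : ¬ p ∣ Nat.card Mb := fun hd => hpα M (piCoreOf_spec _ M p hp.out hd).1
  have hcop := coprime_pgroup_of_not_dvd hS.2.1 hpMb
  have hsol : Group.IsSolvable Mb := isSolvable_of_le_max hG hM hMbM
  obtain ⟨RC, hRC, -⟩ := exists_sylowIn_le (IsPGroup.of_bot (p := u) (G := G))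
    (bot_le (a := Mb ⊓ centralizer (S : Set G)))
  obtain ⟨U', hRCU, hUn⟩ := CfsgLib.Coprime.exists_invariant_sylow_ge hMbn hcop (Or.inr hsol) hRC.2.1
    (hRC.1.trans inf_le_left)
    ((le_centralizer_iff.mp (hRC.1.trans inf_le_right)).trans (centralizer_le_normalizer _))
  set U := (U' : Subgroup Mb).map Mb.subtype with hUdef
  have hU : SylowIn u U Mb := sylowIn_map U'
  have hRCS : RC ≤ centralizer (S : Set G) := hRC.1.trans inf_le_right
  have hUp : ¬ p ∣ Nat.card U := fun hd => hpMb (hd.trans (card_dvd_of_le hU.1))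
  -- `u ∉ β(L)`
  have huL : u ∉ Cfsg.beta L := by
    intro h
    obtain ⟨g, hg⟩ := eq_conj_of_alpha hG hM hL (mem_sigma_of_mem_beta hG hM huβ) h.1
    have hgS : conjMap g S ≤ M := hg ▸ conjMap_mono hSL
    have hgS' : SylowIn p (conjMap g S) M := by
      refine ⟨hgS, hS.2.1.map _, fun hd => hSM'.2.2 ?_⟩
      have h1 := CfsgLib.Coprime.card_mul_relIndex hgS
      rw [card_conjMap, ← CfsgLib.Coprime.card_mul_relIndex hSM] at h1
      rwa [← Nat.eq_of_mul_eq_mul_left Nat.card_pos h1]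
    obtain ⟨m, hm, hme⟩ := hSM'.exists_conj_eq hgS'
    rw [conjMap_conjMap, conjMap_eq_self_iff] at hme
    apply hne
    calc M = conjMap m M := (conjMap_eq_self_iff.mpr (le_normalizer hm)).symm
      _ = conjMap (m * g) L := by rw [← hg, conjMap_conjMap]
      _ = L := conjMap_eq_self_iff.mpr (le_normalizer (hNS hme))
  -- centralizers of noncentral elements in `U`
  have hfix : ∀ a ∈ P₁, a ∉ Z → U ⊓ centralizer ({a} : Set G) ≤ RC := by
    intro a ha haZ
    set R := U ⊓ centralizer ({a} : Set G) with hR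
    have hCa := (hnonc a ha haZ).1
    have hRCR : RC ≤ R := le_inf hRCU fun x hx => mem_centralizer_singleton_iff.mpr
      (mem_centralizer_iff.mp (hRCS hx) a (hP₁S ha)).symm
    refine (eq_of_le_of_card_ge hRCR ?_).ge
    set Lb := Cfsg.piCoreOf (Cfsg.beta L) L with hLb
    set K := Lb ⊓ centralizer ({a} : Set G) with hK
    set X := L ⊓ normalizer (S : Set G) ⊓ centralizer ({a} : Set G) with hX
    set D := L ⊓ centralizer ({a} : Set G) with hD
    have hLbn : L ≤ normalizer (Lb : Set G) := le_normalizer.trans (le_normalizer_piCoreOf _ L)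
    have hKn : X ≤ normalizer (K : Set G) := CfsgLib.Comp.le_normalizer_inf
      ((inf_le_left.trans inf_le_left).trans hLbn) (inf_le_right.trans le_normalizer)
    have hdec : D ≤ K ⊔ X := by
      intro l hl
      obtain ⟨hlL, hla⟩ := mem_inf.mp hl
      obtain ⟨b, hb, n, hn, rfl⟩ := exists_beta_mul_normalizer hG hL hSL' hpL hlL
      have hla' : b * n * a = a * (b * n) := mem_centralizer_singleton_iff.mp hla
      have haS := hP₁S ha
      have h1 : n * a * n⁻¹ * a⁻¹ ∈ Lb ⊓ S := by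
        refine mem_inf.mpr ⟨?_, mul_mem ((mem_normalizer_iff.mp (mem_inf.mp hn).2 a).mp haS) (inv_mem haS)⟩
        have h2 : n * a * n⁻¹ = b⁻¹ * a * b := by
          calc n * a * n⁻¹ = b⁻¹ * (b * n * a) * n⁻¹ := by group
            _ = b⁻¹ * (a * (b * n)) * n⁻¹ := by rw [hla']
            _ = b⁻¹ * a * b := by group
        rw [h2, show b⁻¹ * a * b * a⁻¹ = b⁻¹ * (a * b * a⁻¹) by group]
        exact mul_mem (inv_mem hb) ((mem_normalizer_iff.mp (hLbn (hSL haS)) b).mp hb)
      have h3 : Lb ⊓ S = ⊥ := CfsgLib.Coprime.inf_eq_bot_of_coprime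
        (coprime_pgroup_of_not_dvd hS.2.1 fun hd => hpα L (piCoreOf_spec _ L p hp.out hd).1).symm
      rw [h3, mem_bot, mul_inv_eq_one, mul_inv_eq_iff_eq_mul] at h1
      have hna' : n ∈ centralizer ({a} : Set G) := mem_centralizer_singleton_iff.mpr h1
      refine mul_mem (mem_sup_left (mem_inf.mpr ⟨hb, ?_⟩)) (mem_sup_right (mem_inf.mpr ⟨hn, hna'⟩))
      exact (mul_mem_cancel_right hna').mp hla
    obtain ⟨Q, hQ, -⟩ := exists_sylowIn_le (IsPGroup.of_bot (p := u) (G := G)) (bot_le (a := X))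
    have hXD : X ≤ D := le_inf (inf_le_left.trans inf_le_left) inf_le_right
    have hQD : SylowIn u Q D := by
      refine ⟨hQ.1.trans hXD, hQ.2.1, fun hd => ?_⟩
      have h1 : Nat.card Q * Q.relIndex D ∣ Nat.card Q * (Nat.card K * Q.relIndex X) := by
        rw [CfsgLib.Coprime.card_mul_relIndex (hQ.1.trans hXD),
          show Nat.card Q * (Nat.card K * Q.relIndex X) = Nat.card K * (Nat.card Q * Q.relIndex X) by ring,
          CfsgLib.Coprime.card_mul_relIndex hQ.1]
        refine (card_dvd_of_le hdec).trans ⟨Nat.card ↥(K ⊓ X), ?_⟩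
        rw [← CfsgLib.Solvable.card_mul_set_mul_card_inf K X,
          ← coe_mul_of_right_le_normalizer_left K X hKn]
        rfl
      rcases hu.dvd_mul.mp (hd.trans (Nat.dvd_of_mul_dvd_mul_left Nat.card_pos h1)) with h | h
      · exact huL (piCoreOf_spec _ L u hu (h.trans (card_dvd_of_le inf_le_left)))
      · exact hQ.2.2 h
    obtain ⟨d, hd, hdQ⟩ := hQD.exists_conj_le (hU.2.1.to_le inf_le_left : IsPGroup u R)
      (le_inf (inf_le_right.trans hCa) inf_le_right)
    have hQN : Q ≤ normalizer (S : Set G) := hQ.1.trans (inf_le_left.trans inf_le_right)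
    have hQM : Q ≤ M := hQN.trans (normalizer_le_of_not_isCyclic hG hM hpM hS.2.1 hSM hSnc)
    have hQMb : Q ≤ Mb := fun x hx => CfsgLib.Solvable.mem_of_coprime_relIndex
      ((normal_subgroupOf_iff_le_normalizer hMbM).mpr (le_normalizer.trans (le_normalizer_piCoreOf _ M)))
      (hQM hx) (by
        obtain ⟨i, hi⟩ := IsPGroup.iff_orderOf.mp hQ.2.1 ⟨x, hx⟩
        rw [Subgroup.orderOf_mk] at hi
        rw [hi]
        exact Nat.Coprime.pow_left _ (hu.coprime_iff_not_dvd.mpr ((betaCore_hall hG hM).2.2 u hu huβ)))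
    have hQS : Q ≤ centralizer (S : Set G) := by
      rw [← commutator_eq_bot_iff_le_centralizer, eq_bot_iff,
        ← CfsgLib.Coprime.inf_eq_bot_of_coprime hcop.symm]
      refine le_inf ((commutator_mono hQMb le_rfl).trans (CfsgLib.Comp.commutator_le_of_le_normalizer hMbn))
        (commutator_comm Q S ▸ CfsgLib.Comp.commutator_le_of_le_normalizer hQN)
    obtain ⟨c, -, hcR⟩ := hRC.exists_conj_le hQ.2.1 (le_inf hQMb hQS)
    have h1 := card_le_of_le hdQ
    have h2 := card_le_of_le hcR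
    rw [card_conjMap] at h1 h2
    exact h1.trans h2
  -- `U` centralizes `Z`
  obtain ⟨a₀, ha₀, ha₀Z⟩ : ∃ a ∈ P₁, a ∉ Z := by
    by_contra hno
    push Not at hno
    have := card_le_of_le (show P₁ ≤ Z from hno)
    rw [hP₁, hZc] at this
    exact absurd this (not_le.mpr (lt_self_pow₀ hp.out.one_lt (by norm_num)))
  have hA := (hnonc a₀ ha₀ ha₀Z).2
  set A := zpowers a₀ ⊔ Z
  have hAP : A ≤ P₁ := sup_le (zpowers_le.mpr ha₀) inf_le_left
  have hAU : A ≤ normalizer (U : Set G) := (hAP.trans hP₁S).trans hUn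
  have hUZ : U ≤ centralizer (Z : Set G) := by
    refine hA.le_of_forall_line hAU hUp fun X hX => ?_
    rcases eq_or_ne X Z with rfl | hXZ
    · exact inf_le_right
    obtain ⟨x, hx, hx1⟩ := (bot_or_exists_ne_one X).resolve_left (ne_bot_of_card_prime hX.2)
    have hxs := zpowers_eq_of_card_prime hX.2 hx hx1
    have hxZ : x ∉ Z := fun h => hXZ (hxs.symm.trans (zpowers_eq_of_card_prime hZc h hx1))
    rw [← hxs, centralizer_zpowers_eq]
    exact (hfix x (hAP (hX.1 hx)) hxZ).trans (hRCS.trans (Subgroup.centralizer_le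
      (inf_le_left.trans hP₁S : Z ≤ S)))
  -- pass to `N(Z) / Z`
  set N := normalizer (Z : Set G) with hN
  have hP₁N : P₁ ≤ N := (hP₁S.trans hSC).trans (centralizer_le_normalizer _)
  have hUN : U ≤ N := hUZ.trans (centralizer_le_normalizer _)
  haveI : (Z.subgroupOf N).Normal :=
    (normal_subgroupOf_iff_le_normalizer le_normalizer).mpr le_rfl
  set f := QuotientGroup.mk' (Z.subgroupOf N) with hf
  set P' := (P₁.subgroupOf N).map f with hP'
  set U₀ := U.subgroupOf N with hU₀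
  have hUinf : ∀ K : Subgroup G, K ≤ U → Nat.card ((K.subgroupOf N).map f) = Nat.card K := fun K hKU => by
    rw [← CfsgLib.Coprime.card_subgroupOf (hKU.trans hUN)]
    refine Nat.card_congr (Equiv.ofBijective
      (fun x : K.subgroupOf N => (⟨f x, mem_map_of_mem f x.2⟩ : (K.subgroupOf N).map f)) ⟨?_, ?_⟩).symm
    · intro x y hxy
      have h1 : f x = f y := congrArg Subtype.val hxy
      rw [← inv_mul_eq_one, ← map_inv, ← map_mul, hf, QuotientGroup.mk'_apply,
        QuotientGroup.eq_one_iff, mem_subgroupOf] at h1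
      have h2 : ((x : N)⁻¹ * (y : N) : G) ∈ U ⊓ Z :=
        mem_inf.mpr ⟨hKU (mul_mem (inv_mem x.2) y.2), h1⟩
      rw [CfsgLib.Coprime.inf_eq_bot_of_coprime
        (coprime_pgroup hU.2.1 (isPGroup_of_card_prime hZc) hup), mem_bot] at h2
      exact Subtype.ext (Subtype.ext (inv_mul_eq_one.mp h2))
    · rintro ⟨_, x, hx, rfl⟩
      exact ⟨⟨x, hx⟩, rfl⟩
  have hP'c : Nat.card P' = p ^ 2 := by
    have h1 := ((f.comp (P₁.subgroupOf N).subtype).ker).card_mul_index
    rw [index_ker, MonoidHom.range_comp, range_subtype, CfsgLib.Coprime.card_subgroupOf hP₁N, hP₁] at h1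
    have hk : Nat.card (f.comp (P₁.subgroupOf N).subtype).ker = p := by
      rw [← MonoidHom.comap_ker, hf, QuotientGroup.ker_mk', ← hZc,
        ← card_map_of_injective (P₁.subgroupOf N).subtype_injective,
        Subgroup.map_comap_eq, range_subtype, ← card_map_of_injective N.subtype_injective,
        map_inf _ _ _ N.subtype_injective, map_subgroupOf_eq_of_le hP₁N,
        map_subgroupOf_eq_of_le le_normalizer, inf_eq_right.mpr inf_le_left]
    rw [hk] at h1
    refine Nat.eq_of_mul_eq_mul_left hp.out.pos ?_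
    rw [h1, ← pow_succ']
  have hP'ab : IsMulCommutative P' := IsPGroup.isMulCommutative_of_card_eq_prime_sq hP'c
  have hP'nc : ¬ IsCyclic P' := fun hc => by
    have hd : Monoid.exponent P' ∣ p := Monoid.exponent_dvd_of_forall_pow_eq_one fun x => by
      obtain ⟨y, hy, hyx⟩ := x.2
      apply Subtype.ext
      show (x : N ⧸ Z.subgroupOf N) ^ p = 1
      rw [← hyx, ← map_pow, show (y : N) ^ p = 1 from Subtype.ext (by
        show ((y : N) : G) ^ p = 1
        exact hpow _ hy), map_one]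
    rw [IsCyclic.exponent_eq_card, hP'c] at hd
    have := Nat.le_of_dvd hp.out.pos hd
    nlinarith [hp.out.one_lt]
  have hP'n : P' ≤ normalizer ((U₀.map f : Subgroup _) : Set _) := by
    refine le_trans (map_mono ?_) (le_normalizer_map f)
    intro x hx
    rw [mem_normalizer_iff]
    intro y
    exact mem_normalizer_iff.mp (hUn (hP₁S hx)) y
  have hcop' : (Nat.card P').Coprime (Nat.card (U₀.map f)) := by
    rw [hP'c, hUinf U le_rfl]
    exact Nat.Coprime.pow_left _ (hp.out.coprime_iff_not_dvd.mpr hUp)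
  have hle : U₀.map f ≤ (RC.subgroupOf N).map f := by
    rw [← CfsgLib.Coprime.iSup_centralizer_eq hP'ab hP'nc hP'n hcop']
    refine iSup_le fun ⟨a', ⟨a, ha, haa⟩, ha1⟩ => ?_
    have haZ : (a : G) ∉ Z := fun h => ha1 (haa ▸ (QuotientGroup.eq_one_iff a).mpr h)
    have hsa : zpowers a ≤ normalizer ((U₀ : Subgroup N) : Set N) := by
      rw [zpowers_le, mem_normalizer_iff]
      intro y
      exact mem_normalizer_iff.mp (hUn (hP₁S ha)) y
    have hca : (Nat.card (zpowers a)).Coprime (Nat.card U₀) := by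
      rw [Nat.card_zpowers, ← Subgroup.orderOf_coe, CfsgLib.Coprime.card_subgroupOf hUN,
        orderOf_eq_prime (x := ((a : N) : G)) (hpow _ ha) fun e => haZ (by rw [show ((a : N) : G) = 1 from e]; exact one_mem Z)]
      exact hp.out.coprime_iff_not_dvd.mpr hUp
    have h1 := CfsgLib.Coprime.map_inf_centralizer f hsa hca
      (Or.inl (by haveI := isSolvable_of_comm (G := zpowers a) mul_comm'; infer_instance))
    rw [MonoidHom.map_zpowers, haa, centralizer_zpowers_eq, centralizer_zpowers_eq] at h1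
    show _ ⊓ centralizer ({a'} : Set _) ≤ _
    rw [← h1]
    refine map_mono fun y hy => ?_
    refine hfix a ha haZ (mem_inf.mpr ⟨(mem_inf.mp hy).1, mem_centralizer_singleton_iff.mpr ?_⟩)
    exact congrArg Subtype.val (mem_centralizer_singleton_iff.mp (mem_inf.mp hy).2)
  have hUR : U = RC := (eq_of_le_of_card_ge hRCU (by
    rw [← hUinf U le_rfl, ← hUinf RC hRCU]
    exact card_le_of_le hle)).symm
  -- `U` would lie in `L`
  have hUL : U ≤ L := by
    refine le_trans (fun x hx => ?_) (hnonc a₀ ha₀ ha₀Z).1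
    exact mem_centralizer_singleton_iff.mpr
      (mem_centralizer_iff.mp (hRCS (hUR ▸ hx)) a₀ (hP₁S ha₀)).symm
  obtain ⟨E, hEM, hE, hlt⟩ := not_prankLE_iff.mp huβ.1.2
  have hUM : SylowIn u U M := ⟨hU.1.trans hMbM, hU.2.1, fun hd => by
    rw [← relIndex_mul_relIndex _ _ _ hU.1 hMbM] at hd
    exact (hu.dvd_mul.mp hd).elim hU.2.2 ((betaCore_hall hG hM).2.2 u hu huβ)⟩
  obtain ⟨k, -, hk⟩ := hUM.exists_conj_le (elemAb_isPGroup hE) hEM
  refine hne (eq_of_rank_three hG hM (elemAb_map (MulAut.conj k).toMonoidHom hE) ?_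
    (hk.trans (hU.1.trans hMbM)) hL (hk.trans hUL)).symm
  rw [card_conjMap]
  obtain ⟨n, hn⟩ := IsPGroup.iff_card.mp (elemAb_isPGroup hE)
  rw [hn] at hlt ⊢
  exact Nat.pow_le_pow_right hu.pos ((Nat.pow_lt_pow_iff_right hu.one_lt).mp hlt)

omit hM in
theorem unique_of_nonabelian {P : Subgroup G} (hP : IsPGroup p P) (hna : ¬ IsMulCommutative P) :
    Cfsg.InUniqueMaximal P := by
  have hP1 : P ≠ ⊥ := fun e => hna (e ▸ inferInstance)
  have hPtop : P ≠ ⊤ := fun e => sylow_ne_top hG (P := P)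
    ⟨le_top, hP, by rw [e, relIndex_self, Nat.dvd_one]; exact hp.out.ne_one⟩ hP1 e
  obtain ⟨M, hM, hPM⟩ := (eq_top_or_exists_le_coatom P).resolve_left hPtop
  refine ⟨M, ⟨hM, hPM⟩, fun L ⟨hL, hPL⟩ => ?_⟩
  by_contra hne
  have hnc : ¬ IsCyclic P := fun h => hna (by haveI := h; exact IsCyclic.isMulCommutative)
  have hσ : ∀ K : Subgroup G, IsCoatom K → P ≤ K → p ∈ Cfsg.sigma K := fun K hK hPK => by
    by_contra h
    exact hna (isMulCommutative_of_nilpotent hG hK hPK hP.isNilpotent fun r hr hd =>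
      (prime_dvd_pgroup_card hP hr hd) ▸ h)
  obtain ⟨T, hT, hPT⟩ := exists_sylowIn_le hP (le_inf hPM hPL)
  have hTnc : ¬ IsCyclic T := fun h => hnc (by haveI := h; exact isCyclic_of_le hPT)
  have hN : normalizer (T : Set G) ≤ M ⊓ L :=
    le_inf (normalizer_le_of_not_isCyclic hG hM (hσ M hM hPM) hT.2.1 (hT.1.trans inf_le_left) hTnc)
      (normalizer_le_of_not_isCyclic hG hL (hσ L hL hPL) hT.2.1 (hT.1.trans inf_le_right) hTnc)
  obtain ⟨S, hS, hTS⟩ := exists_sylowIn_le hT.2.1 (le_top (a := T))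
  obtain rfl := pgroup_eq_of_sylowIn hT hS.2.1 hTS hN
  have hTM := hT.1.trans inf_le_left
  have hTL := hT.1.trans inf_le_right
  have hTna : ¬ IsMulCommutative T := fun h => hna ⟨⟨fun a b => Subtype.ext
    (congrArg (fun t : T => (t : G)) (h.is_comm.comm ⟨a, hPT a.2⟩ ⟨b, hPT b.2⟩))⟩⟩
  by_cases hr : Cfsg.PRankLE p 2 T
  swap
  · exact hne (eq_of_not_prankLE hG hr hM hTM hL hTL)
  rcases rank_two_sylow hG hS hr with h | ⟨P₁, P₂, hsup, hcomm, hna₁, hP₁, hexp, hcyc, hΩ⟩
  · exact hTna h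
  have hP₁T : P₁ ≤ T := le_sup_left.trans hsup.le
  have hP₁1 : P₁ ≠ ⊥ := fun e => hna₁ (e ▸ inferInstance)
  have hZc := IsPGroup.center_line (hT.2.1.to_le hP₁T) hP₁1 hexp hcyc hΩ
  set Z := P₁ ⊓ centralizer (P₁ : Set G) with hZ
  obtain ⟨z, hz, hzo⟩ := exists_order_p (isPGroup_of_card_prime hZc) (ne_bot_of_card_prime hZc)
  have hp2 : p ≠ 2 := prime_ne_two_of_pgroup hG hP hP1
  obtain ⟨A, hAP, hA, hzA⟩ := exists_sq_mem hp2 (hT.2.1.to_le hP₁T)
    (fun h => hna₁ (by haveI := h; exact IsCyclic.isMulCommutative)) (mem_inf.mp hz).1 hzo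
  have hz1 : z ≠ 1 := fun e => hp.out.ne_one (by rw [← hzo, e, orderOf_one])
  have hZl : IsLine p A Z :=
    ⟨(zpowers_eq_of_card_prime hZc hz hz1).ge.trans (zpowers_le.mpr hzA), hZc⟩
  obtain ⟨X, hX, hpX⟩ := exists_pin_line hG hM hL (Ne.symm hne) hS hTnc hTM hTL (hσ L hL hPL) hA
    ((hAP.trans hP₁T).trans hTM)
  obtain ⟨Y, hY, hpY⟩ := exists_pin_line hG hL hM hne hS hTnc hTL hTM (hσ M hM hPM) hA
    ((hAP.trans hP₁T).trans hTL)
  rcases eq_or_ne X Z with rfl | hXZ
  · exact false_of_pin_center hG hM hL (Ne.symm hne) hS hr hTM hTL (hσ M hM hPM) (hσ L hL hPL) hsup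
      hcomm hP₁ hexp hna₁ hZc hpX
  rcases eq_or_ne Y Z with rfl | hYZ
  · exact false_of_pin_center hG hL hM hne hS hr hTL hTM (hσ L hL hPL) (hσ M hM hPM) hsup
      hcomm hP₁ hexp hna₁ hZc hpY
  -- both pins are noncentral lines, hence conjugate in `T`
  obtain ⟨b, hb, hbX⟩ : ∃ b ∈ P₁, conjMap b X ≠ X := by
    by_contra hno
    push Not at hno
    refine hXZ (eq_of_le_of_card_ge (le_inf (hX.1.trans hAP) ?_) (by rw [hZc, hX.2]))
    rw [le_centralizer_iff]
    intro b hb
    by_contra hbc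
    have h1 := dvd_pred_of_line hX.2 ((hT.2.1.to_le hP₁T).to_le (zpowers_le.mpr hb))
      (conjMap_eq_self_iff.mp (hno b hb)) fun hle =>
        hbc (mem_centralizer_iff.mpr fun y hy => mem_centralizer_singleton_iff.mp (hle hy))
    rw [Nat.mod_self, Nat.one_mod_eq_one.mpr hp.out.ne_one] at h1
    exact zero_ne_one h1
  have hlt : A < P₁ := lt_of_le_of_ne hAP fun e => by
    have h1 : Nat.card A = p ^ 3 := e ▸ hP₁
    rw [hA.2] at h1
    exact absurd (Nat.pow_right_injective hp.out.two_le h1) (by norm_num)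
  have hbA : b ∈ normalizer (A : Set G) := by
    have h1 := card_lt_card_inf_normalizer (hT.2.1.to_le hP₁T) hlt
    have hd := card_dvd_of_le (inf_le_left (a := P₁) (b := normalizer (A : Set G)))
    rw [hA.2] at h1
    rw [hP₁] at hd
    obtain ⟨i, hi, hcard⟩ := (Nat.dvd_prime_pow hp.out).mp hd
    rw [hcard] at h1
    have h2 := (Nat.pow_lt_pow_iff_right hp.out.one_lt).mp h1
    exact ((eq_of_le_of_card_ge inf_le_left (by rw [hcard, hP₁, show i = 3 by omega])).ge.trans
      inf_le_right) hb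
  have hbp : ∃ k : ℕ, orderOf b = p ^ k := by
    obtain ⟨k, hk⟩ := IsPGroup.iff_orderOf.mp hT.2.1 ⟨b, hP₁T hb⟩
    exact ⟨k, by rwa [Subgroup.orderOf_mk] at hk⟩
  have hbZ : conjMap b Z = Z := conjMap_eq_self_iff.mpr (centralizer_le_normalizer _
    (mem_centralizer_iff.mpr fun y hy => (mem_centralizer_iff.mp (mem_inf.mp hy).2 b hb).symm))
  obtain ⟨v, hv, hvX⟩ := exists_zpowers_conj hA hbA hbp hX hY hZl hbZ hbX hXZ hYZ
  have hvM : v ∈ M := hTM (hP₁T (zpowers_le.mpr hb hv))
  have hle : normalizer (Y : Set G) ≤ M := by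
    rw [← hvX, ← conjMap_normalizer]
    exact (conjMap_mono hpX.1).trans (conjMap_eq_self_iff.mpr (le_normalizer hvM)).le
  exact hne (hpY.2 M hM hle).symm

end CfsgLib.BG
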