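import Cfsg.Agent.Lib.BG.SigmaIntersection
import Cfsg.Agent.Lib.BG.NonabelianUnique
import Cfsg.Agent.Lib.OddLocal.QuadPair

/-!
# `σ(M)`-subgroups are conjugate into `M_σ`
-/

set_option autoImplicit false
set_option linter.style.haveILetI false
set_option linter.unusedSectionVars false

namespace CfsgLib.BG

open Subgroup CfsgLib.PLocal CfsgLib.OddLocal

universe u
variable {G : Type u} [Group G] [Finite G] {M : Subgroup G}
variable (hG : Cfsg.IsMinSimpleOddOrder G) (hM : IsCoatom M)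

theorem exists_normal_elementary {Y : Subgroup G} [Group.IsSolvable Y] (hY : Y ≠ ⊥) :
    ∃ (q : ℕ) (_ : Fact q.Prime) (Y₀ : Subgroup G), Y₀ ≠ ⊥ ∧ Y₀ ≤ Y ∧ IsPGroup q Y₀ ∧
      Y ≤ normalizer (Y₀ : Set G) := by
  haveI : Nontrivial Y := nontrivial_iff_ne_bot Y |>.mpr hY
  obtain ⟨D, hDn, hD1, hDc⟩ := exists_abelian_normal Y
  obtain ⟨q, hq, hqd⟩ := Nat.exists_prime_and_dvd (fun h => hD1 (card_eq_one.mp h) : Nat.card D ≠ 1)
  haveI : Fact q.Prime := ⟨hq⟩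
  let Q : Subgroup Y :=
    { carrier := {x | x ∈ D ∧ x ^ q = 1}
      one_mem' := ⟨one_mem D, one_pow q⟩
      mul_mem' := fun {x y} hx hy => ⟨mul_mem hx.1 hy.1, by
        have hc : Commute x y := congrArg Subtype.val (hDc.is_comm.comm ⟨x, hx.1⟩ ⟨y, hy.1⟩)
        rw [hc.mul_pow, hx.2, hy.2, one_mul]⟩
      inv_mem' := fun {x} hx => ⟨inv_mem hx.1, by rw [inv_pow, hx.2, inv_one]⟩ }
  have hQn : Q.Normal := ⟨fun x hx g => ⟨hDn.conj_mem x hx.1 g, by rw [conj_pow, hx.2]; group⟩⟩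
  obtain ⟨x, hx⟩ := exists_prime_orderOf_dvd_card' q hqd
  refine ⟨q, inferInstance, Q.map Y.subtype, ?_, map_subtype_le _, ?_, ?_⟩
  · rw [Ne, map_eq_bot_iff_of_injective _ Y.subtype_injective]
    intro h0
    have hxQ : (x : Y) ∈ Q := ⟨x.2, by
      rw [← hx, ← Subgroup.orderOf_coe]; exact pow_orderOf_eq_one _⟩
    rw [h0, mem_bot] at hxQ
    rw [← Subgroup.orderOf_coe, hxQ, orderOf_one] at hx
    exact hq.ne_one hx.symm
  · exact IsPGroup.map (fun y => ⟨1, by rw [pow_one]; exact Subtype.ext y.2.2⟩) _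
  · exact (normal_subgroupOf_iff_le_normalizer (map_subtype_le _)).mp (by
      rw [subgroupOf, comap_map_eq_self_of_injective Y.subtype_injective]; exact hQn)

include hG hM

/-- The index of `M ∩ L` in `L` is a `σ(M)'`-number. -/
theorem not_dvd_index_inf {L X : Subgroup G} (hL : IsCoatom L) (hne : L ≠ M) {q : ℕ} [hq : Fact q.Prime]
    (hqσ : q ∈ Cfsg.sigma M) (hX : IsPGroup q X) (hX1 : X ≠ ⊥) (hXM : X ≤ M)
    (hNX : normalizer (X : Set G) ≤ L) {r : ℕ} (hr : r.Prime) (hrσ : r ∈ Cfsg.sigma M) :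
    ¬ r ∣ (M ⊓ L).relIndex L := by
  haveI : Fact r.Prime := ⟨hr⟩
  obtain ⟨S, hS, hXS⟩ := exists_sylowIn_le hX (le_inf hXM (le_normalizer.trans hNX))
  obtain ⟨hnc, hNS, hidx⟩ := sylow_of_intersection hG hM hL hne hqσ hX1 hNX hS hXS
  have hSL : SylowIn q S L := ⟨hS.1.trans inf_le_right, hS.2.1, hidx⟩
  -- `L = K (M ∩ L)` with `π(K) ⊆ π₀`
  suffices key : ∃ K : Subgroup G, ¬ r ∣ Nat.card K ∧ M ⊓ L ≤ normalizer (K : Set G) ∧
      L ≤ K ⊔ (M ⊓ L) by
    obtain ⟨K, hrK, hn, hle⟩ := key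
    intro hd
    refine hrK ?_
    have h1 : Nat.card L ∣ Nat.card K * Nat.card ↥(M ⊓ L) := by
      refine (card_dvd_of_le hle).trans ⟨Nat.card ↥(K ⊓ (M ⊓ L)), ?_⟩
      rw [← CfsgLib.Solvable.card_mul_set_mul_card_inf K (M ⊓ L),
        ← coe_mul_of_right_le_normalizer_left K (M ⊓ L) hn]
      rfl
    rw [← CfsgLib.Coprime.card_mul_relIndex (inf_le_right : M ⊓ L ≤ L),
      mul_comm (Nat.card K)] at h1
    exact hd.trans (Nat.dvd_of_mul_dvd_mul_left Nat.card_pos h1)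
  by_cases hqL : q ∈ Cfsg.sigma L
  · refine ⟨Cfsg.piCoreOf (Cfsg.beta L) L, fun hd => ?_,
      inf_le_right.trans (le_normalizer.trans (le_normalizer_piCoreOf _ L)), fun l hl => ?_⟩
    · obtain ⟨g, hg⟩ := eq_conj_of_alpha hG hM hL hrσ (piCoreOf_spec _ L r hr hd).1
      refine hnc g⁻¹ ?_
      rw [← hg, conjMap_inv_conjMap]
    · obtain ⟨b, hb, n, hn, rfl⟩ := exists_beta_mul_normalizer hG hL hSL hqL hl
      exact mul_mem (mem_sup_left hb)
        (mem_sup_right (mem_inf.mpr ⟨hNS (mem_inf.mp hn).2, (mem_inf.mp hn).1⟩))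
  have hS1 : S ≠ ⊥ := fun e => hX1 (le_bot_iff.mp (hXS.trans e.le))
  have hqd : q ∣ Nat.card L := (dvd_card_of_pgroup_ne_bot hS.2.1 hS1).trans (card_dvd_of_le hSL.1)
  have hr1 : ¬ Cfsg.PRankLE q 1 L := by
    intro hr1
    have hc := isCyclic_pgroup_of_prankLE_one hG hS.2.1 hSL.1 hr1
    exact hqL (mem_sigma_of_normalizer_le hqd hSL ((normalizer_le_of_le_cyclic hc hXS).trans hNX))
  obtain ⟨A, hAL, hA⟩ := exists_sq_le_of_not_prankLE le_rfl hr1
  obtain ⟨c, hc, hcS⟩ := hSL.exists_conj_le hA.isPGroup hAL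
  obtain ⟨A₀, h⟩ := exists_exc hG hL hqL (hA.conjMap c) (hcS.trans hSL.1)
  obtain ⟨E, hE, hAE⟩ := exists_compl_ge hG hL h.le fun t ht htd =>
    (prime_dvd_pgroup_card h.sq.isPGroup ht htd) ▸ h.not_sigma
  have hEM : E ≤ M := (h.compl_le_normalizer hG hL hE hAE).trans
    (normalizer_le_of_not_isCyclic hG hM hqσ h.sq.isPGroup
      (hcS.trans (hS.1.trans inf_le_left)) h.sq.not_isCyclic)
  refine ⟨Cfsg.sigmaCore L, fun hd => ?_, inf_le_right.trans (le_normalizer_sigmaCore L), ?_⟩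
  · obtain ⟨g, hg⟩ := eq_conj_of_nilpotent hG hL (h.nilpotent hG hL) hM
      (mem_sigma_of_dvd_sigmaCore hr hd) hrσ
    exact hnc g⁻¹ (by rw [hg, conjMap_inv_conjMap])
  · refine le_trans ?_ (sup_le_sup_left (le_inf hEM hE.1) _)
    rw [sup_comm, isComplIn_sup hE]

theorem exists_conj_le_sigmaCore {Y : Subgroup G}
    (hY : ∀ p : ℕ, p.Prime → p ∣ Nat.card Y → p ∈ Cfsg.sigma M) (hY1 : Y ≠ ⊥) :
    ∃ g : G, conjMap g Y ≤ Cfsg.sigmaCore M := by
  suffices h : ∃ g : G, conjMap g Y ≤ M by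
    obtain ⟨g, hg⟩ := h
    exact ⟨g, le_sigmaCore_of_pi hG hM hg fun p hp hd => hY p hp (card_conjMap g Y ▸ hd)⟩
  have hYtop : Y ≠ ⊤ := by
    rintro rfl
    haveI := hG.2.1
    obtain ⟨p, hp, hpG⟩ : ∃ p : ℕ, p.Prime ∧ p ∣ M.index :=
      Nat.exists_prime_and_dvd fun h1 => hM.1 (index_eq_one.mp h1)
    have hpσ : p ∈ Cfsg.sigma M := hY p hp (by rw [card_top]; exact hpG.trans (index_dvd_card M))
    refine (sigmaCore_hall_top hG hM).2 p hp hpσ (hpG.trans ?_)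
    exact index_dvd_of_le (sigmaCore_le M)
  obtain ⟨K, hK, hYK⟩ := (eq_top_or_exists_le_coatom Y).resolve_left hYtop
  haveI : Group.IsSolvable Y := isSolvable_of_le_max hG hK hYK
  obtain ⟨q, hq, X₀, hX1, hXY, hXq, hYn⟩ := exists_normal_elementary hY1
  have hqσ : q ∈ Cfsg.sigma M :=
    hY q hq.out ((dvd_card_of_pgroup_ne_bot hXq hX1).trans (card_dvd_of_le hXY))
  obtain ⟨T, hT, -⟩ := exists_sylowIn_le (IsPGroup.of_bot (p := q) (G := G)) (bot_le (a := M))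
  obtain ⟨g, -, hg⟩ := (sylowIn_top hqσ hT).exists_conj_le hXq le_top
  set X := conjMap g X₀ with hX
  have hXM : X ≤ M := hg.trans hT.1
  have hX1' : X ≠ ⊥ := fun e => hX1 (by
    rw [← conjMap_inv_conjMap g X₀, ← hX, e]; exact Subgroup.map_bot _)
  have hYX : conjMap g Y ≤ normalizer (X : Set G) := (conjMap_mono hYn).trans (conjMap_normalizer g X₀).le
  have hXq' : IsPGroup q X := hXq.map _
  by_cases hNM : normalizer (X : Set G) ≤ M
  · exact ⟨g, hYX.trans hNM⟩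
  obtain ⟨L, hL, hNL⟩ := (eq_top_or_exists_le_coatom (normalizer (X : Set G))).resolve_left
    (minSimple_normalizer_ne_top hG hX1' fun e => hM.1 (top_le_iff.mp (e ▸ hXM)))
  have hne : L ≠ M := fun e => hNM (e ▸ hNL)
  set π := Cfsg.sigma M with hπ
  obtain ⟨H, hH, -⟩ := CfsgLib.Coprime.exists_invariant_hall (A := (⊥ : Subgroup G)) (G := M ⊓ L) bot_le
    (by rw [Subgroup.card_bot]; exact Nat.coprime_one_left _) (isSolvable_of_le_max hG hM inf_le_left) π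
  have hHL : Cfsg.IsPiHallOf π H L := by
    refine ⟨hH.1.trans inf_le_right, hH.2.1, fun r hr hrπ hd => ?_⟩
    rw [← relIndex_mul_relIndex _ _ _ hH.1 (inf_le_right : M ⊓ L ≤ L)] at hd
    exact (hr.dvd_mul.mp hd).elim (hH.2.2 r hr hrπ)
      (not_dvd_index_inf hG hM hL hne hqσ hXq' hX1' hXM hNL hr hrπ)
  obtain ⟨H', hH', -, hYH'⟩ := CfsgLib.Coprime.exists_invariant_hall_ge (A := (⊥ : Subgroup G)) (G := L)
    bot_le (by rw [Subgroup.card_bot]; exact Nat.coprime_one_left _) (isSolvable_of_le_max hG hL le_rfl)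
    (hYX.trans hNL) bot_le (π := π) fun r hr hd => hY r hr (card_conjMap g Y ▸ hd)
  obtain ⟨l, -, hl⟩ := CfsgLib.Coprime.exists_conj_of_isPiHallOf (isSolvable_of_le_max hG hL le_rfl) hH' hHL
  refine ⟨l * g, ?_⟩
  rw [← conjMap_conjMap]
  exact (conjMap_mono hYH').trans (hl.le.trans (hH.1.trans inf_le_left))

end CfsgLib.BG
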