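import Cfsg.Agent.Lib.BG.TypeBasic
import Cfsg.Agent.S1354
import Cfsg.Agent.S1431

/-!
# The elements of `K K*` outside `K` and `K*`
-/

set_option autoImplicit false
set_option linter.style.haveILetI false
set_option linter.unusedSectionVars false

namespace CfsgLib.BG

open Subgroup CfsgLib.PLocal CfsgLib.OddLocal
open scoped commutatorElement

universe u
variable {G : Type u} [Group G] [Finite G]

/-- `C_{M_σ}(K)`. -/
abbrev kStar (M K : Subgroup G) : Subgroup G := Cfsg.sigmaCore M ⊓ centralizer (K : Set G)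

/-- `K K* ∖ (K ∪ K*)`. -/
def zHat (M K : Subgroup G) : Set G :=
  (↑(K ⊔ kStar M K) : Set G) \ ((K : Set G) ∪ ↑(kStar M K))

variable {M K U : Subgroup G}
variable (hG : Cfsg.IsMinSimpleOddOrder G) (hM : IsCoatom M)
  (h : Cfsg.IsSigmaDecomposition M K U)
include hG hM h

theorem coprime_K_star : (Nat.card K).Coprime (Nat.card ↥(kStar M K)) :=
  (coprime_sigmaCore hG hM fun t ht hd => (h.hall.2.1 t ht hd).2.2.1).coprime_dvd_right
    (card_dvd_of_le inf_le_left)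

theorem mem_zHat_iff {z : G} :
    z ∈ zHat M K ↔ ∃ k ∈ K, k ≠ 1 ∧ ∃ c ∈ kStar M K, c ≠ 1 ∧ z = k * c ∧ Commute k c := by
  have hKn : K ≤ normalizer ((kStar M K : Subgroup G) : Set G) :=
    (le_centralizer_iff.mp inf_le_right).trans (centralizer_le_normalizer _)
  have hcomm : ∀ k ∈ K, ∀ c ∈ kStar M K, Commute k c := fun k hk c hc =>
    mem_centralizer_iff.mp (mem_inf.mp hc).2 k hk
  have hdisj : ∀ x ∈ K, x ∈ kStar M K → x = 1 := fun x hx hx' => mem_bot.mp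
    (CfsgLib.Coprime.inf_eq_bot_of_coprime (coprime_K_star hG hM h) ▸ mem_inf.mpr ⟨hx, hx'⟩)
  constructor
  · intro hz
    obtain ⟨hzW, hzn⟩ := hz
    rw [SetLike.mem_coe, sup_comm] at hzW
    obtain ⟨c, hc, k, hk, rfl⟩ := (CfsgLib.Coprime.mem_sup_of_le_normalizer hKn).mp hzW
    refine ⟨k, hk, fun e => hzn (Or.inr ?_), c, hc, fun e => hzn (Or.inl ?_), (hcomm k hk c hc).eq.symm,
      hcomm k hk c hc⟩
    · subst e; simpa using hc
    · subst e; simpa using hk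
  · rintro ⟨k, hk, hk1, c, hc, hc1, rfl, -⟩
    refine ⟨mul_mem (mem_sup_left hk) (mem_sup_right hc), ?_⟩
    rintro (h' | h')
    · exact hc1 (hdisj c ((mul_mem_cancel_left hk).mp h') hc)
    · exact hk1 (hdisj k hk ((mul_mem_cancel_right hc).mp h'))

/-- Conjugation between two elements of `Ẑ` happens inside `K K*`. -/
theorem mem_sup_of_conj_zHat (hK : K ≠ ⊥) {g z : G} (hz : z ∈ zHat M K)
    (hgz : g * z * g⁻¹ ∈ zHat M K) : g ∈ K ⊔ kStar M K := by
  obtain ⟨hstar, hKK, -, -⟩ := Cfsg.Agent.S1431.result hG M hM K h.hall hK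
  obtain ⟨k, hk, hk1, c, hc, hc1, rfl, hkc⟩ := (mem_zHat_iff hG hM h).mp hz
  obtain ⟨k', hk', hk'1, c', hc', hc'1, heq, hkc'⟩ := (mem_zHat_iff hG hM h).mp hgz
  obtain ⟨n, hn1, hn0⟩ := Nat.chineseRemainder (coprime_K_star hG hM h) 1 0
  have hpow : ∀ {a b : G}, a ∈ K → b ∈ kStar M K → Commute a b → (a * b) ^ n = a := by
    intro a b ha hb hab
    rw [hab.mul_pow]
    have h1 : a ^ n = a := by
      conv_rhs => rw [← pow_one a]
      exact pow_eq_pow_iff_modEq.mpr (hn1.of_dvd (orderOf_dvd_natCard K ha))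
    have h2 : b ^ n = 1 := orderOf_dvd_iff_pow_eq_one.mp
      ((orderOf_dvd_natCard _ hb).trans (Nat.modEq_zero_iff_dvd.mp hn0))
    rw [h1, h2, mul_one]
  have hk2 : g * k * g⁻¹ = k' := by
    rw [← hpow hk hc hkc, ← conj_pow, heq, hpow hk' hc' hkc']
  have hc2 : g * c * g⁻¹ = c' := by
    refine mul_left_cancel (a := k') ?_
    rw [← heq, ← hk2]; group
  have hgM : g ∈ M := by
    by_contra hg
    refine hc'1 (mem_bot.mp (hstar g hg ▸ mem_inf.mpr ⟨hc', ⟨c, sigmaCore_le M (mem_inf.mp hc).1, ?_⟩⟩))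
    simpa using hc2
  by_contra hg
  refine hk'1 (mem_bot.mp (hKK g hgM hg ▸ mem_inf.mpr ⟨hk', ⟨k, hk, ?_⟩⟩))
  simpa using hk2

/-- `Ẑ` is stable under `K K*`. -/
theorem conj_mem_zHat {g z : G} (hg : g ∈ K ⊔ kStar M K) (hz : z ∈ zHat M K) :
    g * z * g⁻¹ ∈ zHat M K := by
  haveI := h.cyclic
  have hKc : IsMulCommutative K := IsCyclic.isMulCommutative
  have hn : ∀ X : Subgroup G, X = K ∨ X = kStar M K → g ∈ normalizer (X : Set G) := by
    rintro X (rfl | rfl)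
    · exact sup_le le_normalizer (inf_le_right.trans (centralizer_le_normalizer _)) hg
    · exact sup_le ((le_centralizer_iff.mp inf_le_right).trans (centralizer_le_normalizer _))
        le_normalizer hg
  obtain ⟨k, hk, hk1, c, hc, hc1, rfl, hkc⟩ := (mem_zHat_iff hG hM h).mp hz
  refine (mem_zHat_iff hG hM h).mpr ⟨g * k * g⁻¹, (mem_normalizer_iff.mp (hn _ (Or.inl rfl)) k).mp hk,
    fun e => hk1 (conj_eq_one_iff.mp e), g * c * g⁻¹,
    (mem_normalizer_iff.mp (hn _ (Or.inr rfl)) c).mp hc, fun e => hc1 (conj_eq_one_iff.mp e), by group,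
    ?_⟩
  show g * k * g⁻¹ * (g * c * g⁻¹) = g * c * g⁻¹ * (g * k * g⁻¹)
  calc g * k * g⁻¹ * (g * c * g⁻¹) = g * (k * c) * g⁻¹ := by group
    _ = g * (c * k) * g⁻¹ := by rw [hkc.eq]
    _ = _ := by group

theorem exists_mem_zHat (hK : K ≠ ⊥) : ∃ z, z ∈ zHat M K := by
  obtain ⟨k, hk, hk1⟩ := (bot_or_exists_ne_one K).resolve_left hK
  obtain ⟨c, hc, hc1⟩ := (bot_or_exists_ne_one (kStar M K)).resolve_left
    (Cfsg.Agent.S1354.result hG M hM K h.cyclic h.hall).1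
  exact ⟨k * c, (mem_zHat_iff hG hM h).mpr ⟨k, hk, hk1, c, hc, hc1, rfl,
    mem_centralizer_iff.mp (mem_inf.mp hc).2 k hk⟩⟩

/-- A nonempty subset of `Ẑ` has normalizer inside `K K*`. -/
theorem normalizer_le_of_subset_zHat (hK : K ≠ ⊥) {X : Set G} (hX : X ⊆ zHat M K) (hne : X.Nonempty) :
    normalizer X ≤ K ⊔ kStar M K := by
  intro g hg
  obtain ⟨z, hz⟩ := hne
  exact mem_sup_of_conj_zHat hG hM h hK (hX hz) (hX ((mem_set_normalizer_iff.mp hg z).mp hz))

theorem zHat_TI (hK : K ≠ ⊥) :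
    Cfsg.IsTISubset (zHat M K) ∧ normalizer (zHat M K) = K ⊔ kStar M K := by
  have heq : normalizer (zHat M K) = K ⊔ kStar M K := by
    refine le_antisymm (normalizer_le_of_subset_zHat hG hM h hK subset_rfl (exists_mem_zHat hG hM h hK))
      fun g hg => mem_set_normalizer_iff.mpr fun x => ⟨conj_mem_zHat hG hM h hg, fun hx => ?_⟩
    have h' := conj_mem_zHat hG hM h (inv_mem hg) hx
    rwa [show g⁻¹ * (g * x * g⁻¹) * g⁻¹⁻¹ = x by group] at h'
  refine ⟨fun g hg x hx hgx => ?_, heq⟩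
  exact absurd (heq.ge (mem_sup_of_conj_zHat hG hM h hK hx hgx)) hg

/-- The `M`-conjugates of `Ẑ` are `A₀(M) ∖ A(M)`. -/
theorem conj_zHat_eq (hK : K ≠ ⊥) :
    {a : G | ∃ m ∈ M, ∃ z ∈ zHat M K, a = m * z * m⁻¹} = Cfsg.sigmaA0 M K \ Cfsg.sigmaA M U := by
  haveI := h.cyclic
  have hKc : IsMulCommutative K := IsCyclic.isMulCommutative
  obtain ⟨-, hU⟩ := decomp_U_primes hG hM h
  set N := U ⊔ Cfsg.sigmaCore M
  have hNn := decomp_normal hG hM h
  have hNprimes : ∀ r : ℕ, r.Prime → r ∣ Nat.card N → r ∉ Cfsg.kappa M := by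
    intro r hr hd hκ
    rw [show N = Cfsg.sigmaCore M ⊔ U from sup_comm _ _,
      card_sup_of_coprime (h.compl.1.trans (le_normalizer_sigmaCore M))
        (coprime_sigmaCore hG hM fun s hs hd => (hU s hs hd).2)] at hd
    rcases hr.dvd_mul.mp hd with h' | h'
    · exact hκ.2.2.1 (mem_sigma_of_dvd_sigmaCore hr h')
    · exact (hU r hr h').1 hκ
  ext a
  constructor
  · rintro ⟨m, hm, z, hz, rfl⟩
    obtain ⟨k, hk, hk1, c, hc, hc1, rfl, hkc⟩ := (mem_zHat_iff hG hM h).mp hz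
    have hcσ := (mem_inf.mp hc).1
    have hM' : m * (k * c) * m⁻¹ ∈ M :=
      mul_mem (mul_mem hm (mul_mem (h.hall.1 hk) (sigmaCore_le M hcσ))) (inv_mem hm)
    have hy : m * c * m⁻¹ ∈ Cfsg.sigmaCore M :=
      (mem_normalizer_iff.mp (le_normalizer_sigmaCore M hm) c).mp hcσ
    have hhat : m * (k * c) * m⁻¹ ∈ Cfsg.sigmaHat M := by
      refine ⟨hM', m * c * m⁻¹, hy, fun e => hc1 (conj_eq_one_iff.mp e), ?_⟩
      calc m * (k * c) * m⁻¹ * (m * c * m⁻¹) = m * ((k * c) * c) * m⁻¹ := by group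
        _ = m * ((c * k) * c) * m⁻¹ := by rw [hkc.eq]
        _ = _ := by group
    refine ⟨⟨hhat, ?_⟩, fun hA => ?_⟩
    · rintro ⟨k', hk', -, m', hm', heq⟩
      obtain ⟨s, hs, hsd⟩ := Nat.exists_prime_and_dvd (mt orderOf_eq_one_iff.mp hc1)
      have hso : s ∣ orderOf (m * (k * c) * m⁻¹) := by
        rw [CfsgLib.BG14.orderOf_conj' m (k * c), hkc.orderOf_mul_eq_mul_orderOf_of_coprime
          (((coprime_K_star hG hM h).coprime_dvd_left (orderOf_dvd_natCard K hk)).coprime_dvd_right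
            (orderOf_dvd_natCard _ hc))]
        exact hsd.mul_left _
      rw [heq, CfsgLib.BG14.orderOf_conj' m' k'] at hso
      exact hs.ne_one (Nat.eq_one_of_dvd_coprimes (coprime_K_star hG hM h)
        (hso.trans (orderOf_dvd_natCard K hk')) (hsd.trans (orderOf_dvd_natCard _ hc)))
    · have hk0 : k * c ∈ N := by
        have := (mem_normalizer_iff.mp (hNn hm) (k * c)).mpr hA.2
        exact this
      have hkN : k ∈ N := (mul_mem_cancel_right (mem_sup_right (hcσ))).mp hk0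
      obtain ⟨r, hr, hrd⟩ := Nat.exists_prime_and_dvd (mt orderOf_eq_one_iff.mp hk1)
      exact hNprimes r hr (hrd.trans (orderOf_dvd_natCard N hkN))
        (h.hall.2.1 r hr (hrd.trans (orderOf_dvd_natCard K hk)))
  · rintro ⟨⟨⟨haM, y, hy, hy1, hay⟩, hnotK⟩, hnotA⟩
    have haN : a ∉ N := fun ha => hnotA ⟨⟨haM, y, hy, hy1, hay⟩, ha⟩
    obtain ⟨r, hr, hra, hrκ⟩ : ∃ r : ℕ, r.Prime ∧ r ∣ orderOf a ∧ r ∈ Cfsg.kappa M := by
      by_contra hno
      refine haN (CfsgLib.Solvable.mem_of_coprime_relIndex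
        ((normal_subgroupOf_iff_le_normalizer (sup_le h.compl.1 (sigmaCore_le M))).mpr hNn) haM
        (coprime_of_forall fun r hr h1 h2 => hno ⟨r, hr, h1, ?_⟩))
      have hsup : N ⊔ K = M := decomp_sup_eq hG hM h
      have hKd : Nat.card M = Nat.card N * Nat.card K := by
        rw [← hsup]
        refine card_sup_of_coprime (h.hall.1.trans hNn) (coprime_of_forall fun s hs h1 h2 => ?_)
        exact hNprimes s hs h2 (h.hall.2.1 s hs h1)
      rw [← CfsgLib.Coprime.card_mul_relIndex (sup_le h.compl.1 (sigmaCore_le M))] at hKd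
      exact h.hall.2.1 r hr (Nat.eq_of_mul_eq_mul_left Nat.card_pos hKd ▸ h2)
    haveI : Fact r.Prime := ⟨hr⟩
    obtain ⟨R, hR, -⟩ := exists_sylowIn_le (IsPGroup.of_bot (p := r) (G := G)) (bot_le (a := K))
    have hRM : SylowIn r R M := by
      refine ⟨hR.1.trans h.hall.1, hR.2.1, fun hd => ?_⟩
      rw [← relIndex_mul_relIndex _ _ _ hR.1 h.hall.1] at hd
      exact (hr.dvd_mul.mp hd).elim hR.2.2 (h.hall.2.2 r hr hrκ)
    have hxo : orderOf (a ^ (orderOf a / r)) = r := orderOf_pow_orderOf_div (orderOf_pos a).ne' hra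
    obtain ⟨m, hm, hmR⟩ := hRM.exists_conj_le
      (isPGroup_of_card_prime (p := r) (by rw [Nat.card_zpowers, hxo]))
      (zpowers_le.mpr (pow_mem haM (orderOf a / r)))
    have hxK : m * a ^ (orderOf a / r) * m⁻¹ ∈ K := hR.1 (hmR (conj_mem_conjMap (mem_zpowers _)))
    have hx1 : m * a ^ (orderOf a / r) * m⁻¹ ≠ 1 := fun e => hr.ne_one (by
      rw [← hxo, conj_eq_one_iff.mp e, orderOf_one])
    have hW : m * a * m⁻¹ ∈ K ⊔ kStar M K := by
      rw [← (Cfsg.Agent.S1354.result hG M hM K h.cyclic h.hall).2 hK _ hxK hx1]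
      refine mem_inf.mpr ⟨mul_mem (mul_mem hm haM) (inv_mem hm), mem_centralizer_singleton_iff.mpr ?_⟩
      rw [← conj_pow]
      exact ((Commute.refl (m * a * m⁻¹)).pow_right _).eq
    refine ⟨m⁻¹, inv_mem hm, m * a * m⁻¹, ⟨hW, ?_⟩, by group⟩
    rintro (h' | h')
    · exact hnotK ⟨m * a * m⁻¹, h', fun e => haN (by rw [conj_eq_one_iff.mp e]; exact one_mem _),
        m⁻¹, inv_mem hm, by group⟩
    · exact haN ((mem_normalizer_iff.mp (hNn hm) a).mpr (mem_sup_right (mem_inf.mp h').1))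

theorem conj_zHat_TI (hK : K ≠ ⊥) :
    Cfsg.IsTISubset {a : G | ∃ m ∈ M, ∃ z ∈ zHat M K, a = m * z * m⁻¹} := by
  intro g hg x hx hgx
  obtain ⟨m, hm, z, hz, rfl⟩ := hx
  obtain ⟨m', hm', z', hz', heq⟩ := hgx
  exfalso
  refine hg (mem_set_normalizer_iff.mpr fun y => ?_)
  have hh : m'⁻¹ * g * m ∈ M := sup_le h.hall.1 (inf_le_left.trans (sigmaCore_le M))
    (mem_sup_of_conj_zHat hG hM h hK hz (by
      rw [show m'⁻¹ * g * m * z * (m'⁻¹ * g * m)⁻¹ = m'⁻¹ * (g * (m * z * m⁻¹) * g⁻¹) * m' by group, heq]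
      simpa [mul_assoc] using hz'))
  have hgM : g ∈ M := by
    have := mul_mem (mul_mem hm' hh) (inv_mem hm)
    rwa [show m' * (m'⁻¹ * g * m) * m⁻¹ = g by group] at this
  constructor
  · rintro ⟨n, hn, w, hw, rfl⟩
    exact ⟨g * n, mul_mem hgM hn, w, hw, by group⟩
  · rintro ⟨n, hn, w, hw, he⟩
    refine ⟨g⁻¹ * n, mul_mem (inv_mem hgM) hn, w, hw, ?_⟩
    rw [show y = g⁻¹ * (g * y * g⁻¹) * g by group, he]
    group

end CfsgLib.BG
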