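import Cfsg.Agent.Lib.BG.TypePFacts
import Cfsg.Agent.S1437
import Cfsg.Agent.Lib.BG14.NonTICases

/-!
# When `F(M)` is a TI-subset
-/

set_option autoImplicit false
set_option linter.style.haveILetI false
set_option linter.unusedSectionVars false

namespace CfsgLib.BG

open Subgroup CfsgLib.PLocal CfsgLib.OddLocal
open scoped commutatorElement

universe u
variable {G : Type u} [Group G] [Finite G] {M K U : Subgroup G}
variable (hG : Cfsg.IsMinSimpleOddOrder G) (hM : IsCoatom M)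
include hG hM

/-- A failure of TI for `F(M)` forces `M' ≤ F(M)`. -/
theorem derived_le_fittingOf_of_not_TI (h : Cfsg.IsSigmaDecomposition M K U)
    (hTI : ¬ Cfsg.IsTISubset (Cfsg.fittingOf M : Set G)) : ⁅M, M⁆ ≤ Cfsg.fittingOf M := by
  simp only [Cfsg.IsTISubset, not_forall] at hTI
  obtain ⟨g, hg, x, hx, hgx, hx1⟩ := hTI
  have hgM : g ∉ M := fun hgm => hg ((le_normalizer_fittingOf M) hgm)
  refine (CfsgLib.BG14.nonTI_structure hG M hM K U h g hgM ?_).2.1.1
  intro e
  have h1 : g * x * g⁻¹ ∈ (⊥ : Subgroup G) := e ▸ mem_inf.mpr ⟨hgx, ⟨x, hx, by simp⟩⟩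
  exact hx1 (conj_eq_one_iff.mp (mem_bot.mp h1))

theorem sigmaCore_le_fittingOf (hn : Group.IsNilpotent (Cfsg.sigmaCore M)) :
    Cfsg.sigmaCore M ≤ Cfsg.fittingOf M :=
  le_fittingOf (sigmaCore_le M) (le_normalizer_sigmaCore M) hn

/-- If `M_F ≠ M_σ` then `F(M)` is TI. -/
theorem fittingOf_TI_of_ne (h : Cfsg.IsSigmaDecomposition M K U)
    (hne : Cfsg.fittingHallOf M ≠ Cfsg.sigmaCore M) : Cfsg.IsTISubset (Cfsg.fittingOf M : Set G) := by
  by_contra hTI
  have hle : Cfsg.sigmaCore M ≤ Cfsg.fittingOf M :=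
    (sigmaCore_le_derived hG hM).trans (derived_le_fittingOf_of_not_TI hG hM h hTI)
  refine hne (CfsgLib.BG14.fittingHallOf_eq_sigmaCore hG hM ?_)
  haveI := fittingOf_isNilpotent M
  exact Group.nilpotent_of_mulEquiv (subgroupOfEquivOfLe hle)

/-- `F(M)` is TI when `U ≠ 1` and `K ≠ 1`. -/
theorem fittingOf_TI_of_U (h : Cfsg.IsSigmaDecomposition M K U) (hK : K ≠ ⊥) (hU1 : U ≠ ⊥) :
    Cfsg.IsTISubset (Cfsg.fittingOf M : Set G) := by
  by_contra hTI
  have hd := derived_le_fittingOf_of_not_TI hG hM h hTI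
  rw [derived_eq_decomp hG hM h hK] at hd
  have hcop : (Nat.card U).Coprime (Nat.card (Cfsg.sigmaCore M)) :=
    coprime_sigmaCore hG hM fun t ht htd => ((decomp_U_primes hG hM h).2 t ht htd).2
  have hc := le_centralizer_of_coprime_of_le_nilpotent (fittingOf_isNilpotent M)
    (le_sup_right.trans hd) (le_sup_left.trans hd) hcop.symm
  have h' := sigmaCore_inf_centralizer_U hG hM h hU1
  rw [inf_eq_left.mpr hc] at h'
  exact sigmaCore_ne_bot hG hM h'

end CfsgLib.BG
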