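import Cfsg.Agent.Lib.BG.Partner
import Cfsg.Agent.S1435

/-!
# The normalizer of `U` leaves `M`
-/

set_option autoImplicit false
set_option linter.style.haveILetI false
set_option linter.unusedSectionVars false

namespace CfsgLib.BG

open Subgroup CfsgLib.PLocal CfsgLib.OddLocal
open scoped commutatorElement

universe u
variable {G : Type u} [Group G] [Finite G] {M K U : Subgroup G}
variable (hG : Cfsg.IsMinSimpleOddOrder G) (hM : IsCoatom M)
include hG hM

theorem typeP_normalizer_U (h : Cfsg.IsSigmaDecomposition M K U) (hK : K ≠ ⊥) :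
    ¬ normalizer (U : Set G) ≤ M := by
  rcases eq_or_ne U ⊥ with hU | hU
  · intro hle
    refine hM.1 (top_le_iff.mp (le_trans ?_ hle))
    rw [hU]
    intro x _
    exact mem_normalizer_iff.mpr fun y => by simp [mem_bot]
  obtain ⟨Mstar, ⟨hMs, hKst, hH⟩, -⟩ := exists_unique_partner hG hM h.hall hK
  obtain ⟨r, hr, hrd⟩ := Nat.exists_prime_and_dvd (fun e => hU (Subgroup.card_eq_one.mp e))
  haveI : Fact r.Prime := ⟨hr⟩
  obtain ⟨R⟩ : Nonempty (Sylow r U) := inferInstance
  have hR1 : (R : Subgroup U).map U.subtype ≠ ⊥ := by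
    intro e
    rw [Subgroup.map_eq_bot_iff_of_injective _ U.subtype_injective] at e
    exact R.ne_bot_of_dvd_card hrd e
  obtain ⟨H, hHc, hNR⟩ := CfsgLib.BG14.exists_coatom_normalizer hG hR1 fun e => hM.1
    (top_le_iff.mp (e ▸ (map_subtype_le _).trans h.compl.1))
  obtain ⟨-, -, -, hno, -⟩ :=
    Cfsg.Agent.S1435.result hG M hM K U h hK hU Mstar hMs hKst hH r hrd R H hHc hNR
  exact fun hle => hno (inf_le_right.trans hle)

end CfsgLib.BG
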