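import Cfsg.Agent.Lib.BG.Types
import Cfsg.Agent.Lib.BG.NormalizerU

/-!
# Types III, IV and `M_s`
-/

set_option autoImplicit false
set_option linter.style.haveILetI false
set_option linter.unusedSectionVars false

namespace CfsgLib.BG

open Subgroup CfsgLib.PLocal CfsgLib.OddLocal
open scoped commutatorElement

universe u
variable {G : Type u} [Group G] [Finite G] {M K U : Subgroup G}
variable (hG : Cfsg.IsMinSimpleOddOrder G) (hM : IsCoatom M)
include hG hM

/-- Types III and IV need `U = 1` and `M_F ≠ M_σ`. -/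
theorem typeIII_IV_imp (hKU : Cfsg.IsSigmaDecomposition M K U)
    (hT : Cfsg.IsOfTypeIII M ∨ Cfsg.IsOfTypeIV M) :
    K ≠ ⊥ ∧ U = ⊥ ∧ Cfsg.fittingHallOf M ≠ Cfsg.sigmaCore M := by
  obtain ⟨W₁, V, W₂, hP, hV1, hN⟩ : ∃ W₁ V W₂, Cfsg.IsTypePWith M W₁ V W₂ ∧ V ≠ ⊥ ∧
      Subgroup.normalizer (V : Set G) ≤ M := by
    rcases hT with ⟨a, b, c, hP, h1, -, -, -, h2⟩ | ⟨a, b, c, hP, h1, -, -, -, h2⟩ <;>
      exact ⟨a, b, c, hP, h1, h2⟩
  have hK := K_ne_bot_of_typeP hG hM hKU hP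
  have hU : U = ⊥ := by
    by_contra hU1
    obtain ⟨m, hm, hmV⟩ := typeP_V_conj hG hM hKU hP hU1
    refine typeP_normalizer_U hG hM hKU hK ?_
    rw [← hmV, ← conjMap_normalizer]
    exact (conjMap_mono hN).trans (conjMap_eq_of_mem hm).le
  exact ⟨hK, hU, fun e => hV1 ((typeP_V_bot_iff hG hM hKU hP).mpr ⟨hU, e⟩)⟩

/-- `M_s` is `M_F` or `M_σ`. -/
theorem typeCore_cases (hKU : Cfsg.IsSigmaDecomposition M K U) :
    Cfsg.typeCore M = Cfsg.fittingHallOf M ∨ Cfsg.typeCore M = Cfsg.sigmaCore M := by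
  unfold Cfsg.typeCore
  split_ifs with hT
  · obtain ⟨hK, hU, -⟩ := typeIII_IV_imp hG hM hKU hT
    exact Or.inr (by rw [derived_eq_decomp hG hM hKU hK, hU, bot_sup_eq])
  · exact Or.inl rfl

/-- A Hall subgroup of `M` inside `M_σ` is one of `G`, and its Sylow normalizers lie in `M`. -/
theorem hall_core {X : Subgroup G} (hX : X ≤ Cfsg.sigmaCore M)
    (hh : (Nat.card X).Coprime (X.relIndex M)) :
    (Nat.card X).Coprime X.index ∧
      ∀ (p : ℕ), p.Prime → ∀ P : Sylow p X, (P : Subgroup X) ≠ ⊥ →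
        normalizer (((P : Subgroup X).map X.subtype : Subgroup G) : Set G) ≤ M := by
  have hXM := hX.trans (sigmaCore_le M)
  refine ⟨?_, fun p hp P hP1 => ?_⟩
  · rw [← Subgroup.relIndex_mul_index hX]
    refine Nat.Coprime.mul_right
      (hh.coprime_dvd_right ⟨_, (relIndex_mul_relIndex _ _ _ hX (sigmaCore_le M)).symm⟩) ?_
    exact coprime_of_forall fun t ht h1 h2 => (sigmaCore_hall_top hG hM).2 t ht
      (mem_sigma_of_dvd_sigmaCore ht (h1.trans (card_dvd_of_le hX))) h2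
  · haveI : Fact p.Prime := ⟨hp⟩
    have hPX := sylowIn_map P
    have hne : (P : Subgroup X).map X.subtype ≠ ⊥ := fun e =>
      hP1 ((Subgroup.map_eq_bot_iff_of_injective _ X.subtype_injective).mp e)
    have hpd : p ∣ Nat.card X :=
      (dvd_card_of_pgroup_ne_bot hPX.2.1 hne).trans (card_dvd_of_le hPX.1)
    refine normalizer_sylow_le (mem_sigma_of_dvd_sigmaCore hp (hpd.trans (card_dvd_of_le hX)))
      ⟨hPX.1.trans hXM, hPX.2.1, fun hd => ?_⟩
    rw [← relIndex_mul_relIndex _ _ _ hPX.1 hXM] at hd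
    exact (hp.dvd_mul.mp hd).elim hPX.2.2 fun h => hp.ne_one (Nat.eq_one_of_dvd_coprimes hh hpd h)

end CfsgLib.BG
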