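import Cfsg.Agent.Lib.BG.TypeSets
import Cfsg.Agent.Lib.BG.ZHat
import Cfsg.Agent.Lib.BG14.SupportP
import Cfsg.Agent.S1374
import Cfsg.Agent.Lib.BG.Types
import Cfsg.Agent.S1381
import Cfsg.Agent.S1382

/-!
# The sets `A(M)` and `A₀(M)` and their fusion
-/

set_option autoImplicit false
set_option linter.style.haveILetI false
set_option linter.unusedSectionVars false

namespace CfsgLib.BG

open Subgroup CfsgLib.PLocal CfsgLib.OddLocal
open scoped commutatorElement Pointwise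

universe u

/-- `M` is of type I or of type P (true for every maximal subgroup). -/
class TypeKnown {G : Type u} [Group G] (M : Subgroup G) : Prop where
  known : Cfsg.IsOfTypeI M ∨ Cfsg.IsOfTypeP M

variable {G : Type u} [Group G] [Finite G] {M K U : Subgroup G}
variable (hG : Cfsg.IsMinSimpleOddOrder G) (hM : IsCoatom M)
include hG hM

/-- `M_s = M_σ`. -/
theorem typeCore_eq_sigmaCore : Cfsg.typeCore M = Cfsg.sigmaCore M := by
  obtain ⟨K, U, h⟩ := exists_sigma_decomposition hG hM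
  unfold Cfsg.typeCore
  split_ifs with hT
  · obtain ⟨hK, hU, -⟩ := typeIII_IV_imp hG hM h hT
    rw [derived_eq_decomp hG hM h hK, hU, bot_sup_eq]
  · by_contra hne
    obtain ⟨hU, -, hKp, -⟩ := Cfsg.Agent.S1437.result hG M hM K U h hne
    exact hT ((Cfsg.Agent.S1382.result hG M hM K U h).mpr
      ⟨fun e => by rw [e, Subgroup.card_bot] at hKp; exact hKp.ne_one rfl, hU, hne⟩)

/-- `A(M)` is the set of non-identity elements of `U M_σ` with fixed points in `M_σ`. -/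
theorem mem_typeA_iff [TypeKnown M] (h : Cfsg.IsSigmaDecomposition M K U) {a : G} :
    a ∈ Cfsg.typeA M ↔ a ∈ U ⊔ Cfsg.sigmaCore M ∧ a ≠ 1 ∧
      ∃ x ∈ Cfsg.sigmaCore M, x ≠ 1 ∧ a * x = x * a := by
  unfold Cfsg.typeA
  split_ifs with hI
  · have hK := K_eq_bot_of_typeI hG hM h hI
    have hU := decomp_U_ne_bot hG hM h hK
    have heq : Cfsg.fittingHallOf M = Cfsg.sigmaCore M := by
      by_contra hne
      exact hU (Cfsg.Agent.S1437.result hG M hM K U h hne).1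
    have hsup := decomp_sup_eq hG hM h
    rw [hK, sup_bot_eq] at hsup
    rw [Set.mem_setOf_eq, heq, hsup]
  · obtain ⟨W₁, V, W₂, hP⟩ := (TypeKnown.known (M := M)).resolve_left hI
    have hK : K ≠ ⊥ := K_ne_bot_of_typeP hG hM h hP
    rw [Set.mem_setOf_eq, typeCore_eq_sigmaCore hG hM, derived_eq_decomp hG hM h hK]

theorem mem_typeA1_iff {a : G} : a ∈ Cfsg.typeA1 M ↔ a ∈ Cfsg.sigmaCore M ∧ a ≠ 1 := by
  unfold Cfsg.typeA1
  rw [typeCore_eq_sigmaCore hG hM]
  simp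

/-- An element of `A₀(M) \ A(M)` is an `M`-conjugate of an element of `Ẑ`. -/
theorem exists_zHat_of_typeA0 (h : Cfsg.IsSigmaDecomposition M K U) {v : G}
    (hv : v ∈ Cfsg.typeA0 M) (hvA : v ∉ Cfsg.typeA M) :
    K ≠ ⊥ ∧ ∃ m ∈ M, ∃ z ∈ zHat M K, v = m * z * m⁻¹ := by
  obtain ⟨hI, W₁, V, W₂, hP, m, hm, w, hw, hw1, hw2, rfl⟩ :=
    (Or.resolve_left hv hvA : _ ∧ _)
  have hK := K_ne_bot_of_typeP hG hM h hP
  refine ⟨hK, ?_⟩
  obtain ⟨V₀, hV₀, hV₀n, hKV₀, -, -⟩ := exists_derived_compl hG hM h hK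
  have hP0 := isTypePWith hG hM h hK hV₀ hV₀n hKV₀
  obtain ⟨hc1, -⟩ := typeP_card hG hM hP
  obtain ⟨hc0, -⟩ := typeP_card hG hM hP0
  have hcard : Nat.card W₁ = Nat.card K :=
    Nat.eq_of_mul_eq_mul_left Nat.card_pos (hc1.symm.trans hc0)
  have hhall : Cfsg.IsPiHallOf (Cfsg.kappa M) W₁ M := by
    refine ⟨hP.W₁_compl.2.1, fun p hp hd => h.hall.2.1 p hp (hcard ▸ hd), fun p hp hpκ hd => ?_⟩
    refine h.hall.2.2 p hp hpκ ?_
    have e1 := CfsgLib.Coprime.card_mul_relIndex hP.W₁_compl.2.1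
    have e2 := CfsgLib.Coprime.card_mul_relIndex h.hall.1
    rw [hcard, ← e2] at e1
    rwa [← Nat.eq_of_mul_eq_mul_left Nat.card_pos e1]
  obtain ⟨c, hc, hcK⟩ := CfsgLib.Coprime.exists_conj_invariant_hall (A := (⊥ : Subgroup G)) bot_le
    (by rw [Subgroup.card_bot]; exact Nat.coprime_one_left _) (isSolvable_of_le_max hG hM le_rfl)
    hhall bot_le h.hall bot_le
  have hcM : c ∈ M := (mem_inf.mp hc).1
  obtain ⟨k, hk, hk1⟩ := (bot_or_exists_ne_one W₁).resolve_left hP.W₁_ne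
  have hkK : c * k * c⁻¹ ∈ K := by rw [hcK]; exact conj_mem_conjMap hk
  have hD : conjMap c ⁅M, M⁆ = ⁅M, M⁆ := by
    have := Subgroup.map_commutator M M (MulAut.conj c).toMonoidHom
    rwa [show M.map (MulAut.conj c).toMonoidHom = M from conjMap_eq_of_mem hcM] at this
  have hW2 : conjMap c W₂ = kStar M K := by
    show _ = Cfsg.sigmaCore M ⊓ centralizer (K : Set G)
    rw [← hP.W₂_centralizer k hk hk1, ← hP0.W₂_centralizer (c * k * c⁻¹) hkK
      (fun e => hk1 (conj_eq_one_iff.mp e)), conjMap, Subgroup.map_inf _ _ _ (MulAut.conj c).injective]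
    refine congr (congrArg _ hD) ?_
    show conjMap c (centralizer ({k} : Set G)) = _
    rw [← centralizer_zpowers_eq, CfsgLib.BG14.conjMap_centralizer, conjMap, MonoidHom.map_zpowers,
      ← centralizer_zpowers_eq]
    rfl
  refine ⟨m * c⁻¹, mul_mem hm (inv_mem hcM), c * w * c⁻¹, ⟨?_, ?_⟩, by group⟩
  · have := conj_mem_conjMap (g := c) hw
    rw [conjMap, Subgroup.map_sup] at this
    rw [SetLike.mem_coe, ← hW2, hcK]
    exact this
  · rintro (h' | h')
    · rw [SetLike.mem_coe, hcK, mem_conjMap] at h'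
      exact hw1 (by simpa [mul_assoc] using h')
    · rw [SetLike.mem_coe, ← hW2, mem_conjMap] at h'
      exact hw2 (by simpa [mul_assoc] using h')

/-- A `σ(M)`-element of `M` lies in `M_σ`. -/
theorem mem_sigmaCore_of_sigma_order {a : G} (ha : a ∈ M)
    (hσ : ∀ t : ℕ, t.Prime → t ∣ orderOf a → t ∈ Cfsg.sigma M) : a ∈ Cfsg.sigmaCore M :=
  CfsgLib.Solvable.mem_of_coprime_relIndex
    ((normal_subgroupOf_iff_le_normalizer (sigmaCore_le M)).mpr (le_normalizer_sigmaCore M)) ha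
    (coprime_of_forall fun t ht h1 h2 => (sigmaCore_hall hG hM).2.2 t ht (hσ t ht h1) h2)

/-- Elements of `M_σ` fused in `G` are fused in `M`. -/
theorem fusion_sigmaCore {x g : G} (hx : x ∈ Cfsg.sigmaCore M) (hgx : g * x * g⁻¹ ∈ M) :
    ∃ m ∈ M, m * x * m⁻¹ = g * x * g⁻¹ := by
  by_cases hx1 : x = 1
  · exact ⟨1, one_mem _, by subst hx1; group⟩
  obtain ⟨-, R, -, hR, huniq⟩ := Cfsg.Agent.S1374.result hG M hM x hx hx1
  have hmem : x ∈ M.map (MulAut.conj g⁻¹).toMonoidHom :=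
    ⟨g * x * g⁻¹, hgx, by simp [mul_assoc]⟩
  obtain ⟨r, ⟨hrR, hr⟩, -⟩ := huniq g⁻¹ hmem
  have hgr : g * r ∈ M := by
    refine (normalizer_max hG hM).le (conjMap_eq_self_iff.mp ?_)
    rw [← conjMap_conjMap, show conjMap r M = conjMap g⁻¹ M from hr]
    have := conjMap_inv_conjMap g⁻¹ M
    rwa [inv_inv] at this
  refine ⟨g * r, hgr, ?_⟩
  have hc := mem_centralizer_singleton_iff.mp (hR.2.1 hrR)
  calc g * r * x * (g * r)⁻¹ = g * (r * x) * r⁻¹ * g⁻¹ := by group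
    _ = g * (x * r) * r⁻¹ * g⁻¹ := by rw [hc]
    _ = g * x * g⁻¹ := by group

/-- Elements of `U M_σ` are not conjugate to elements of `Ẑ`. -/
theorem not_coprime_zHat (h : Cfsg.IsSigmaDecomposition M K U) {z : G} (hz : z ∈ zHat M K) :
    ¬ (orderOf z).Coprime (Nat.card K) := by
  intro hcop
  refine hz.2 (Or.inr ?_)
  have hKn : K ⊔ kStar M K ≤ normalizer ((kStar M K : Subgroup G) : Set G) :=
    sup_le ((le_centralizer_iff.mp inf_le_right).trans (centralizer_le_normalizer _)) le_normalizer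
  refine CfsgLib.Solvable.mem_of_coprime_relIndex
    ((normal_subgroupOf_iff_le_normalizer (le_sup_right : kStar M K ≤ K ⊔ kStar M K)).mpr hKn)
    hz.1 (hcop.coprime_dvd_right ?_)
  have h1 := card_sup_of_coprime
    ((le_centralizer_iff.mp inf_le_right).trans (centralizer_le_normalizer _) :
      K ≤ normalizer ((kStar M K : Subgroup G) : Set G))
    (coprime_K_star hG hM h)
  have h2 := CfsgLib.Coprime.card_mul_relIndex (le_sup_right : kStar M K ≤ K ⊔ kStar M K)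
  rw [sup_comm] at h1
  exact (Nat.eq_of_mul_eq_mul_left Nat.card_pos (h2.trans h1)).dvd

theorem coprime_decomp_sup (h : Cfsg.IsSigmaDecomposition M K U) :
    (Nat.card ↥(U ⊔ Cfsg.sigmaCore M)).Coprime (Nat.card K) := by
  obtain ⟨-, hU⟩ := decomp_U_primes hG hM h
  rw [sup_comm, card_sup_of_coprime (h.compl.1.trans (le_normalizer_sigmaCore M))
    (coprime_sigmaCore hG hM fun t ht hd => (hU t ht hd).2)]
  exact Nat.Coprime.mul_left
    (coprime_sigmaCore hG hM fun t ht hd => (h.hall.2.1 t ht hd).2.2.1).symm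
    (coprime_of_forall fun t ht h1 h2 => (hU t ht h1).1 (h.hall.2.1 t ht h2))

/-- Fusion in `A₀(M)` is controlled by `M`. -/
theorem fusion_typeA0 [TypeKnown M] {x g : G} (hx : x ∈ Cfsg.typeA0 M) (hgx : g * x * g⁻¹ ∈ Cfsg.typeA0 M) :
    ∃ m ∈ M, m * x * m⁻¹ = g * x * g⁻¹ := by
  obtain ⟨K, U, h⟩ := exists_sigma_decomposition hG hM
  have hord : ∀ a : G, a ∈ Cfsg.typeA M → (orderOf a).Coprime (Nat.card K) := fun a ha =>
    (coprime_decomp_sup hG hM h).coprime_dvd_left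
      (orderOf_dvd_natCard _ ((mem_typeA_iff hG hM h).mp ha).1)
  have hnot : ∀ a : G, a ∈ Cfsg.typeA0 M → a ∉ Cfsg.typeA M → ¬ (orderOf a).Coprime (Nat.card K) := by
    intro a ha haA
    obtain ⟨-, m, -, z, hz, rfl⟩ := exists_zHat_of_typeA0 hG hM h ha haA
    rw [← MulAut.conj_apply, MulEquiv.orderOf_eq]
    exact not_coprime_zHat hG hM h hz
  have hog : orderOf (g * x * g⁻¹) = orderOf x := MulEquiv.orderOf_eq (MulAut.conj g) x
  by_cases hxA : x ∈ Cfsg.typeA M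
  · have hgA : g * x * g⁻¹ ∈ Cfsg.typeA M := by_contra fun hn =>
      hnot _ hgx hn (hog.symm ▸ hord x hxA)
    obtain ⟨h1, -, w, hw, hw1, hwc⟩ := (mem_typeA_iff hG hM h).mp hxA
    obtain ⟨h1', -, w', hw', hw'1, hwc'⟩ := (mem_typeA_iff hG hM h).mp hgA
    by_cases hxS : x ∈ Cfsg.sigmaCore M
    · exact fusion_sigmaCore hG hM hxS (sup_le h.compl.1 (sigmaCore_le M) h1')
    · exact ⟨g, mem_of_fusion_outside hG hM h h1 hxS hw hw1 hwc h1' hw' hw'1 hwc', rfl⟩
  · have hgA : g * x * g⁻¹ ∉ Cfsg.typeA M := fun ha => hnot x hx hxA (hog ▸ hord _ ha)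
    obtain ⟨hK, m, hm, z, hz, rfl⟩ := exists_zHat_of_typeA0 hG hM h hx hxA
    obtain ⟨-, n, hn, z', hz', he⟩ := exists_zHat_of_typeA0 hG hM h hgx hgA
    have hmem : n⁻¹ * g * m * z * (n⁻¹ * g * m)⁻¹ ∈ zHat M K := by
      have : n⁻¹ * g * m * z * (n⁻¹ * g * m)⁻¹ = z' := by
        calc n⁻¹ * g * m * z * (n⁻¹ * g * m)⁻¹ = n⁻¹ * (g * (m * z * m⁻¹) * g⁻¹) * n := by group
          _ = z' := by rw [he]; group
      rwa [this]
    have hZ : n⁻¹ * g * m ∈ M :=
      sup_le h.hall.1 (inf_le_left.trans (sigmaCore_le M)) (mem_sup_of_conj_zHat hG hM h hK hz hmem)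
    refine ⟨g, ?_, rfl⟩
    rw [show g = n * (n⁻¹ * g * m) * m⁻¹ by group]
    exact mul_mem (mul_mem hn hZ) (inv_mem hm)

/-- An element of `A₀(M)` with centralizer outside `M` lies in `A₁(M)`. -/
theorem mem_sigmaCore_of_not_le [TypeKnown M] {x : G} (hx : x ∈ Cfsg.typeA0 M)
    (hxM : ¬ centralizer ({x} : Set G) ≤ M) : x ∈ Cfsg.sigmaCore M ∧ x ≠ 1 := by
  obtain ⟨K, U, h⟩ := exists_sigma_decomposition hG hM
  by_cases hxA : x ∈ Cfsg.typeA M
  · obtain ⟨h1, hx1, w, hw, hw1, hwc⟩ := (mem_typeA_iff hG hM h).mp hxA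
    refine ⟨by_contra fun hxS => hxM ?_, hx1⟩
    obtain ⟨k, hk⟩ := exists_pin hG hM h h1 hxS hw hw1 hwc
    refine le_trans ?_ hk.1
    intro c hc
    rw [mem_centralizer_singleton_iff] at hc ⊢
    exact ((show Commute c x from hc).zpow_right k).eq
  · obtain ⟨hK, m, hm, z, hz, rfl⟩ := exists_zHat_of_typeA0 hG hM h hx hxA
    refine absurd (fun c hc => ?_) hxM
    have hcz : m⁻¹ * c * m * z = z * (m⁻¹ * c * m) := by
      have := mem_centralizer_singleton_iff.mp hc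
      calc m⁻¹ * c * m * z = m⁻¹ * (c * (m * z * m⁻¹)) * m := by group
        _ = m⁻¹ * (m * z * m⁻¹ * c) * m := by rw [this]
        _ = z * (m⁻¹ * c * m) := by group
    have hmem : m⁻¹ * c * m * z * (m⁻¹ * c * m)⁻¹ ∈ zHat M K := by
      rw [hcz, mul_inv_cancel_right]; exact hz
    have hZ : m⁻¹ * c * m ∈ M :=
      sup_le h.hall.1 (inf_le_left.trans (sigmaCore_le M)) (mem_sup_of_conj_zHat hG hM h hK hz hmem)
    rw [show c = m * (m⁻¹ * c * m) * m⁻¹ by group]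
    exact mul_mem (mul_mem hm hZ) (inv_mem hm)

/-- A fixed-point-free complement has Frobenius kernel `M_σ`. -/
theorem frobeniusKernel_eq {F : Subgroup G} (hF : Cfsg.IsComplIn F (Cfsg.sigmaCore M) M)
    (hfpf : ∀ e ∈ F, e ≠ 1 → Cfsg.sigmaCore M ⊓ centralizer ({e} : Set G) = ⊥) :
    Cfsg.frobeniusKernel (F.subgroupOf M) = ((Cfsg.sigmaCore M).subgroupOf M : Set M) := by
  have hn := le_normalizer_sigmaCore M
  have hmem : ∀ a g : M, a ∈ MulAut.conj g • F.subgroupOf M ↔ (g : G)⁻¹ * a * g ∈ F := by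
    intro a g
    rw [Subgroup.mem_pointwise_smul_iff_inv_smul_mem, ← map_inv, MulAut.smul_def, MulAut.conj_apply,
      inv_inv, mem_subgroupOf]
    simp
  ext a
  simp only [Cfsg.frobeniusKernel, Set.mem_setOf_eq, SetLike.mem_coe, mem_subgroupOf]
  constructor
  · rintro (rfl | hall)
    · exact one_mem _
    by_contra haS
    refine haS ((zpowers_le (g := (a : G))).mp ?_)
    refine le_of_prime_power_elements fun t ht y hy hyt => ?_
    haveI := Fact.mk ht
    by_cases htσ : t ∈ Cfsg.sigma M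
    · exact mem_sigmaCore_of_sigma_order hG hM (zpowers_le.mpr a.2 hy)
        fun s hs hd => (prime_dvd_pGroup hyt hs (Nat.card_zpowers y ▸ hd)).symm ▸ htσ
    by_cases hy1 : y = 1
    · rw [hy1]; exact one_mem _
    exfalso
    obtain ⟨c, hc, hcF⟩ := exists_conj_le_compl hG hM hF
      ((zpowers_le.mpr (zpowers_le.mpr a.2 hy)) : zpowers y ≤ M)
      fun s hs hd => (prime_dvd_pGroup hyt hs hd).symm ▸ htσ
    have hcM := sigmaCore_le M hc
    have hf : c * y * c⁻¹ ∈ F := hcF (conj_mem_conjMap (mem_zpowers y))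
    have hf1 : c * y * c⁻¹ ≠ 1 := fun e => hy1 (conj_eq_one_iff.mp e)
    obtain ⟨e, he, n, hn', hen⟩ := hF.2.2.2 (c * (a : G) * c⁻¹) (mul_mem (mul_mem hcM a.2) (inv_mem hcM))
    have hcent : e * n ∈ centralizer ({c * y * c⁻¹} : Set G) := by
      rw [← hen, mem_centralizer_singleton_iff]
      obtain ⟨k, rfl⟩ := hy
      calc c * (a : G) * c⁻¹ * (c * (a : G) ^ k * c⁻¹) = c * ((a : G) * (a : G) ^ k) * c⁻¹ := by group
        _ = c * ((a : G) ^ k * (a : G)) * c⁻¹ := by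
          rw [((Commute.refl (a : G)).zpow_right k).eq]
        _ = _ := by group
    obtain ⟨-, h2⟩ := CfsgLib.BG14.factors_centralize (hF.1.trans hn) hF.2.2.1 he hn' hf hcent
    have hn1 : n = 1 := mem_bot.mp (hfpf _ hf hf1 ▸ mem_inf.mpr ⟨hn', h2⟩)
    refine hall ⟨c⁻¹, inv_mem hcM⟩ ((hmem _ _).mpr ?_)
    rw [Subgroup.coe_mk, inv_inv, hen, hn1, mul_one]
    exact he
  · intro haS
    by_cases ha1 : a = 1
    · exact Or.inl ha1
    refine Or.inr fun g hg => ha1 ?_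
    rw [hmem] at hg
    have h1 : (g : G)⁻¹ * a * g ∈ F ⊓ Cfsg.sigmaCore M := by
      refine mem_inf.mpr ⟨hg, ?_⟩
      have := (mem_normalizer_iff.mp (hn (inv_mem g.2)) _).mp haS
      rwa [inv_inv] at this
    rw [hF.2.2.1, mem_bot] at h1
    refine Subtype.ext ?_
    calc (a : G) = g * ((g : G)⁻¹ * a * g) * (g : G)⁻¹ := by group
      _ = 1 := by rw [h1]; group

omit hG hM in
theorem isComplIn_swap {A B L : Subgroup G} (h : Cfsg.IsComplIn A B L)
    (hA : A ≤ normalizer (B : Set G)) : Cfsg.IsComplIn B A L := by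
  refine ⟨h.2.1, h.1, by rw [inf_comm]; exact h.2.2.1, fun m hm => ?_⟩
  obtain ⟨a, ha, b, hb, rfl⟩ := h.2.2.2 m hm
  exact ⟨a * b * a⁻¹, (mem_normalizer_iff.mp (hA ha) b).mp hb, a, ha, by group⟩

end CfsgLib.BG
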