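import Cfsg.Agent.Lib.BG.KappaDecomp
import Cfsg.Agent.Lib.BG14.CoverZ
import Cfsg.Agent.Lib.BG14.Dual

/-!
# The partner of a maximal subgroup of type P
-/

set_option autoImplicit false
set_option linter.style.haveILetI false
set_option linter.unusedSectionVars false

namespace CfsgLib.BG

open Subgroup CfsgLib.PLocal CfsgLib.OddLocal CfsgLib.BG14
open scoped commutatorElement

universe u
variable {G : Type u} [Group G] [Finite G] {M K U : Subgroup G}
variable (hG : Cfsg.IsMinSimpleOddOrder G)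
include hG

/-- A cyclic Hall `κ(M)`-subgroup exists and all Hall `κ(M)`-subgroups are cyclic. -/
theorem exists_kappa_hall (hM : IsCoatom M) :
    (∃ K : Subgroup G, Cfsg.IsPiHallOf (Cfsg.kappa M) K M) ∧
      ∀ K : Subgroup G, Cfsg.IsPiHallOf (Cfsg.kappa M) K M → IsCyclic K := by
  obtain ⟨K, hK, -⟩ := CfsgLib.Coprime.exists_invariant_hall (A := (⊥ : Subgroup G)) (G := M) bot_le
    (by rw [Subgroup.card_bot]; exact Nat.coprime_one_left _) (isSolvable_of_le_max hG hM le_rfl)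
    (Cfsg.kappa M)
  refine ⟨⟨K, hK⟩, fun K hK => ?_⟩
  rcases eq_or_ne K ⊥ with rfl | hK1
  · infer_instance
  obtain ⟨U, E, d⟩ := exists_pdata_of_hall hG hM hK hK1
  exact d.isCyclic_K hG

theorem exists_sigma_decomposition (hM : IsCoatom M) :
    ∃ K U : Subgroup G, Cfsg.IsSigmaDecomposition M K U := by
  obtain ⟨⟨K, hK⟩, hc⟩ := exists_kappa_hall hG hM
  obtain ⟨U, hU⟩ := exists_decomposition hG hM (hc K hK) hK
  exact ⟨K, U, hU⟩

variable (hM : IsCoatom M)
include hM

/-- The two uses of `U` agree on whether it is trivial. -/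
theorem decomp_U_eq_bot_iff (h : Cfsg.IsSigmaDecomposition M K U) {U' E : Subgroup G}
    (d : PData M K U' E) : U = ⊥ ↔ U' = ⊥ := by
  have h1 := (decomp_U_primes hG hM h).1
  rw [← card_compl hG hM d.compl, d.card_E hG] at h1
  have h2 := Nat.eq_of_mul_eq_mul_right Nat.card_pos h1
  rw [← Subgroup.card_eq_one (H := U), ← Subgroup.card_eq_one (H := U'), h2]

/-- Two maximal subgroups playing the partner role coincide. -/
theorem partner_unique (hK1 : K ≠ ⊥) {L U₁ E₁ : Subgroup G} {K' : Subgroup G}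
    (d₁ : PData L K' U₁ E₁) (h2 : starOf L K' = K) {L' : Subgroup G} (hL' : IsCoatom L')
    (hKL : K ≤ Cfsg.sigmaCore L') : L' = L := by
  obtain ⟨g, hg, hgp⟩ := exists_prime_element hK1
  exact eq_partner hG d₁ (h2 ▸ hg) hgp hL' (hKL hg)

/-- The partner exists and is unique. -/
theorem exists_unique_partner (hK : Cfsg.IsPiHallOf (Cfsg.kappa M) K M) (hK1 : K ≠ ⊥) :
    ∃! Mstar : Subgroup G, IsCoatom Mstar ∧
      K = Cfsg.sigmaCore Mstar ⊓ centralizer
        ((Cfsg.sigmaCore M ⊓ centralizer (K : Set G)) : Set G) ∧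
      Cfsg.IsPiHallOf (Cfsg.kappa Mstar) (Cfsg.sigmaCore M ⊓ centralizer (K : Set G)) Mstar := by
  obtain ⟨U, E, d⟩ := exists_pdata_of_hall hG hM hK hK1
  obtain ⟨L, U₁, E₁, d₁, h2, -, -⟩ := d.exists_dual hG
  refine ⟨L, ⟨d₁.hM, h2.symm, d₁.hall hG⟩, fun L' ⟨hL', hKL, _⟩ => ?_⟩
  exact partner_unique hG hM hK1 d₁ h2 hL' (hKL.le.trans inf_le_left)

/-- `M ∩ M* = K K*`. -/
theorem inf_partner {U' E U₁ E₁ L : Subgroup G} (d : PData M K U' E)
    (d₁ : PData L (starOf M K) U₁ E₁) (h2 : starOf L (starOf M K) = K) :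
    M ⊓ L = K ⊔ starOf M K := by
  have hKL : K ≤ L := h2.ge.trans (d₁.star_le hG)
  have hsL : starOf M K ≤ L := d₁.K_le_M hG
  refine le_antisymm (fun x hx => ?_)
    (sup_le (le_inf (d.K_le_M hG) hKL) (le_inf (d.star_le hG) hsL))
  obtain ⟨hxM, hxL⟩ := mem_inf.mp hx
  have hd2 : PData M (starOf L (starOf M K)) U' E := by rw [h2]; exact d
  have hall : Cfsg.IsPiHallOf (Cfsg.sigma L) K M := by
    have := d₁.star_hall hG hd2 (by rw [h2])
    rwa [h2] at this
  have heq : Cfsg.sigmaCore L ⊓ M = K := by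
    refine le_antisymm (fun y hy => ?_) (le_inf (h2.ge.trans inf_le_left) (d.K_le_M hG))
    have hY : K ≤ Cfsg.sigmaCore L ⊓ M := le_inf (h2.ge.trans inf_le_left) (d.K_le_M hG)
    have hcard : Nat.card ↥(Cfsg.sigmaCore L ⊓ M) ∣ Nat.card K := by
      refine Nat.Coprime.dvd_of_dvd_mul_right (n := K.relIndex M) ?_ ?_
      · exact coprime_of_forall fun t ht h1 h3 => hall.2.2 t ht
          (mem_sigma_of_dvd_sigmaCore ht (h1.trans (card_dvd_of_le inf_le_left))) h3
      · rw [CfsgLib.Coprime.card_mul_relIndex hall.1]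
        exact card_dvd_of_le inf_le_right
    rw [eq_of_le_of_card_ge hY (Nat.le_of_dvd Nat.card_pos hcard)]
    exact hy
  have hn : x ∈ normalizer (K : Set G) := by
    rw [← conjMap_eq_self_iff, ← heq, conjMap_inf,
      conjMap_eq_self_iff.mpr (le_normalizer_sigmaCore L hxL), conjMap_eq_of_mem hxM]
  rw [← d.normalizer_K hG]
  exact mem_inf.mpr ⟨hxM, hn⟩

/-- `K K*` is cyclic. -/
theorem isCyclic_sup_star {U' E U₁ E₁ L : Subgroup G} (d : PData M K U' E)
    (d₁ : PData L (starOf M K) U₁ E₁) : IsCyclic ↥(K ⊔ starOf M K) := by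
  haveI := d.isCyclic_K hG
  haveI := d₁.isCyclic_K hG
  obtain ⟨k, hk⟩ := IsCyclic.exists_generator (α := K)
  obtain ⟨c, hc⟩ := IsCyclic.exists_generator (α := ↥(starOf M K))
  have hkc : Commute (k : G) (c : G) := d.commute_star hG k.2 c.2
  have hn : K ≤ normalizer (starOf M K : Set G) :=
    (le_centralizer_iff.mp inf_le_right).trans (centralizer_le_normalizer _)
  refine isCyclic_of_orderOf_eq_card
    ⟨(k : G) * c, mul_mem (mem_sup_left k.2) (mem_sup_right c.2)⟩ ?_
  rw [Subgroup.orderOf_mk, sup_comm, card_sup_of_coprime hn (d.coprime_star hG),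
    hkc.orderOf_mul_eq_mul_orderOf_of_coprime, Subgroup.orderOf_coe, Subgroup.orderOf_coe,
    orderOf_eq_card_of_forall_mem_zpowers hk, orderOf_eq_card_of_forall_mem_zpowers hc, mul_comm]
  rw [Subgroup.orderOf_coe, Subgroup.orderOf_coe, orderOf_eq_card_of_forall_mem_zpowers hk,
    orderOf_eq_card_of_forall_mem_zpowers hc]
  exact d.coprime_star hG

/-- Any maximal subgroup with nonempty `κ` is conjugate to `M` or to its partner. -/
theorem conj_of_kappa {U' E U₁ E₁ L : Subgroup G} (d : PData M K U' E)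
    (d₁ : PData L (starOf M K) U₁ E₁) (h2 : starOf L (starOf M K) = K) {H : Subgroup G}
    (hH : IsCoatom H) (hκ : (Cfsg.kappa H).Nonempty) :
    ∃ g : G, H = M.map (MulAut.conj g).toMonoidHom ∨ H = L.map (MulAut.conj g).toMonoidHom := by
  obtain ⟨p, hp⟩ := hκ
  obtain ⟨K', U₂, E₂, d'⟩ := exists_of_mem_kappa hG hH hp
  obtain ⟨x, hx, hxp⟩ := d'.exists_prime hG
  obtain ⟨z, hz, hzp⟩ := d'.exists_fixed hG
  have hw : x * z ∈ hatZ H K' := by
    refine ⟨mul_mem (mem_sup_left hx) (mem_sup_right hz), ?_⟩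
    rintro (h | h)
    · exact ne_one_of_prime hzp (mem_bot.mp (d'.inf_star hG ▸
        mem_inf.mpr ⟨(mul_mem_cancel_left hx).mp h, hz⟩))
    · exact ne_one_of_prime hxp (mem_bot.mp (d'.inf_star hG ▸
        mem_inf.mpr ⟨hx, (mul_mem_cancel_right hz).mp h⟩))
  obtain ⟨y, hy⟩ := d.hatZ_transfer hG d' hw
  obtain ⟨a, ha, -, b, hb, -, hab⟩ := d.exists_of_hatZ hG hy
  set s := orderOf z with hs
  have hsH : s ∈ Cfsg.sigma H :=
    mem_sigma_of_dvd_sigmaCore hzp ((Cfsg.sigmaCore H).orderOf_dvd_natCard hz.1)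
  have hcop : (orderOf x).Coprime (orderOf z) :=
    ((d'.coprime_star hG).coprime_dvd_left (orderOf_dvd_natCard _ hx)).coprime_dvd_right
      (orderOf_dvd_natCard _ hz)
  have hd : s ∣ orderOf a * orderOf b := by
    have e := orderOf_conj' y (x * z)
    rw [hab, (d'.commute_star hG hx hz).orderOf_mul_eq_mul_orderOf_of_coprime hcop] at e
    refine Dvd.dvd.trans ?_ ((d.commute_star hG ha hb).orderOf_mul_dvd_mul_orderOf)
    rw [e]
    exact dvd_mul_left _ _
  rcases hzp.dvd_mul.mp hd with h | h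
  · obtain ⟨c, hc⟩ := exists_conj_of_sigma_inter hG d₁.hM hH
      (mem_sigma_of_dvd_sigmaCore hzp (h.trans ((orderOf_dvd_natCard K ha).trans
        (card_dvd_of_le (h2.ge.trans inf_le_left))))) hsH
    exact ⟨c, Or.inr hc⟩
  · obtain ⟨c, hc⟩ := exists_conj_of_sigma_inter hG hM hH
      (mem_sigma_of_dvd_sigmaCore hzp (h.trans ((orderOf_dvd_natCard _ hb).trans
        (card_dvd_of_le inf_le_left)))) hsH
    exact ⟨c, Or.inl hc⟩

end CfsgLib.BG
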