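import Cfsg.Agent.Lib.BG.SigmaCentralizer
import Cfsg.Agent.S1459

/-!
# `M_σ ∩ M^g` for `g` outside `M`
-/

set_option autoImplicit false
set_option linter.style.haveILetI false
set_option linter.unusedSectionVars false

namespace CfsgLib.BG

open Subgroup CfsgLib.PLocal CfsgLib.OddLocal
open scoped commutatorElement

universe u
variable {G : Type u} [Group G] [Finite G] {M E : Subgroup G}
variable (hG : Cfsg.IsMinSimpleOddOrder G) (hM : IsCoatom M)
include hG hM

theorem sigmaCore_commutator_compl (hE : Cfsg.IsComplIn E (Cfsg.sigmaCore M) M) :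
    Cfsg.sigmaCore M ⊓ centralizer (E : Set G) ≤ ⁅Cfsg.sigmaCore M, Cfsg.sigmaCore M⁆ ∧
      ⁅Cfsg.sigmaCore M, E⁆ = Cfsg.sigmaCore M := by
  set N := Cfsg.sigmaCore M with hN
  have hNM : N ≤ M := sigmaCore_le M
  haveI : Group.IsSolvable M := minSimple_isSolvable hG hM.1
  haveI hn : (N.subgroupOf M).Normal :=
    (normal_subgroupOf_iff_le_normalizer hNM).mpr (le_normalizer_sigmaCore M)
  have hcop : (Nat.card (N.subgroupOf M)).Coprime (N.subgroupOf M).index := by
    rw [CfsgLib.Coprime.card_subgroupOf hNM]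
    exact coprime_of_forall fun r hr h1 h2 =>
      (sigmaCore_hall hG hM).2.2 r hr (mem_sigma_of_dvd_sigmaCore hr h1) h2
  have hc : (N.subgroupOf M).IsComplement' (E.subgroupOf M) := by
    refine isComplement'_of_disjoint_and_mul_eq_univ ?_ ?_
    · rw [disjoint_iff, eq_bot_iff]
      intro y hy
      obtain ⟨h1, h2⟩ := mem_inf.mp hy
      have : (y : G) ∈ E ⊓ N := mem_inf.mpr ⟨h2, h1⟩
      rw [hE.2.2.1, mem_bot] at this
      exact mem_bot.mpr (Subtype.ext this)
    · refine Set.eq_univ_of_forall fun x => ?_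
      have hx : (x : G) ∈ ((N ⊔ E : Subgroup G) : Set G) := by
        rw [sup_comm, isComplIn_sup hE]; exact x.2
      rw [coe_mul_of_right_le_normalizer_left _ _ (hE.1.trans (le_normalizer_sigmaCore M))] at hx
      obtain ⟨a, ha, b, hb, hab⟩ := hx
      exact ⟨⟨a, hNM ha⟩, ha, ⟨b, hE.1 hb⟩, hb, Subtype.ext hab⟩
  have hle : N.subgroupOf M ≤ commutator M := by
    intro y hy
    have h2 : (y : G) ∈ ⁅M, M⁆ := sigmaCore_le_derived hG hM hy
    rw [← Subgroup.map_subtype_commutator] at h2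
    obtain ⟨z, hz, hzy⟩ := h2
    exact M.subtype_injective hzy ▸ hz
  obtain ⟨h1, h2⟩ := (Cfsg.Agent.S1459.result (G := ↥M)).1 _ _ hn hcop hc hle
  refine ⟨fun x hx => ?_, ?_⟩
  · obtain ⟨hxN, hxE⟩ := mem_inf.mp hx
    have h3 : (⟨x, hNM hxN⟩ : M) ∈ ⁅N.subgroupOf M, N.subgroupOf M⁆ :=
      h2 (mem_inf.mpr ⟨hxN, mem_centralizer_iff.mpr fun e he =>
        Subtype.ext (mem_centralizer_iff.mp hxE e he)⟩)
    have h4 := mem_map_of_mem M.subtype h3
    rwa [map_commutator, map_subgroupOf_eq_of_le hNM] at h4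
  · have h5 := congrArg (Subgroup.map M.subtype) h1
    rw [map_commutator, map_subgroupOf_eq_of_le hNM, map_subgroupOf_eq_of_le hE.1] at h5
    exact h5.symm

/-- A subgroup of `M` pinned by its centralizer has no conjugate in `M` outside. -/
theorem mem_of_conj_le {p : ℕ} [Fact p.Prime] (hp : p ∈ Cfsg.sigma M) {X : Subgroup G}
    (hX : IsPGroup p X) (hX1 : X ≠ ⊥) (hXM : X ≤ M) (hC : centralizer (X : Set G) ≤ M) {g : G}
    (hg : X ≤ conjMap g M) : g ∈ M := by
  have h1 : conjMap g⁻¹ X ≤ M := by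
    have := conjMap_mono (g := g⁻¹) hg
    rwa [conjMap_inv_conjMap] at this
  obtain ⟨m, hm, c, hc, hgc⟩ := (Cfsg.Agent.S1404.result hG M hM p hp X hX hX1 hXM).1 g⁻¹ h1
  rw [← inv_mem_iff]
  rw [show g⁻¹ = m * c from hgc]
  exact mul_mem hm (hC hc)

theorem sigmaCore_inf_conj_props {g : G} (hg : g ∉ M) :
    IsCyclic ↥(Cfsg.sigmaCore M ⊓ conjMap g M) ∧
      (∀ p : ℕ, p.Prime → p ∣ Nat.card ↥(Cfsg.sigmaCore M ⊓ conjMap g M) → p ∉ Cfsg.beta M) ∧
      Cfsg.sigmaCore M ⊓ conjMap g M ⊓ ⁅Cfsg.sigmaCore M, Cfsg.sigmaCore M⁆ = ⊥ := by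
  set N := Cfsg.sigmaCore M with hN
  set D := N ⊓ conjMap g M with hD
  have hDN : D ≤ N := inf_le_left
  have hDM : D ≤ M := hDN.trans (sigmaCore_le M)
  -- no element of prime order of `D` has its centralizer in `M`
  have key : ∀ (p : ℕ) [Fact p.Prime], ∀ x ∈ D, orderOf x = p →
      p ∉ Cfsg.beta M ∧ x ∉ ⁅N, N⁆ := by
    intro p _ x hx hxo
    have hXc : Nat.card (zpowers x) = p := by rw [Nat.card_zpowers, hxo]
    have hpσ : p ∈ Cfsg.sigma M := mem_sigma_of_dvd_sigmaCore Fact.out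
      (hXc ▸ card_dvd_of_le (zpowers_le.mpr (hDN hx)))
    obtain ⟨P, hP, -⟩ := exists_sylowIn_le (IsPGroup.of_bot (p := p) (G := G)) (bot_le (a := N))
    have hnot : ∀ (h : p ∈ Cfsg.beta M ∨ zpowers x ≤ ⁅N, N⁆), False := fun h =>
      hg (mem_of_conj_le hG hM hpσ (isPGroup_of_card_prime hXc) (ne_bot_of_card_prime hXc)
        (zpowers_le.mpr (hDM hx))
        (centralizer_beta_or_derived hG hM hpσ (zpowers_le.mpr (hDM hx)) hXc hP h).1.1
        (zpowers_le.mpr (mem_inf.mp hx).2))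
    exact ⟨fun h => hnot (Or.inl h), fun h => hnot (Or.inr (zpowers_le.mpr h))⟩
  have hbot : D ⊓ ⁅N, N⁆ = ⊥ := by
    by_contra hne
    obtain ⟨p, hp, hpd⟩ := exists_prime_dvd_of_ne_bot hG hne
    haveI : Fact p.Prime := ⟨hp⟩
    obtain ⟨x, hx⟩ := exists_prime_orderOf_dvd_card' p hpd
    exact (key p x (mem_inf.mp x.2).1 (by rw [Subgroup.orderOf_coe, hx])).2 (mem_inf.mp x.2).2
  refine ⟨?_, fun p hp hpd => ?_, hbot⟩
  · haveI : IsMulCommutative D := by
      have h1 : ⁅D, D⁆ ≤ D ⊓ ⁅N, N⁆ := le_inf (commutator_le_self D) (commutator_mono hDN hDN)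
      rw [hbot, le_bot_iff, commutator_eq_bot_iff_le_centralizer] at h1
      exact ⟨⟨fun a b => Subtype.ext (mem_centralizer_iff.mp (h1 b.2) a a.2)⟩⟩
    haveI : IsZGroup D := isZGroup_of_prankLE_one hG fun p hp hpd => by
      haveI : Fact p.Prime := ⟨hp⟩
      by_contra hr
      obtain ⟨A, hAD, hA⟩ := exists_sq_le_of_not_prankLE le_rfl hr
      exact hg (mem_of_conj_le hG hM (mem_sigma_of_dvd_sigmaCore hp (hpd.trans (card_dvd_of_le hDN)))
        hA.isPGroup hA.ne_bot (hAD.trans hDM) (centralizer_le_max hG hM hA (hAD.trans hDM))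
        (hAD.trans inf_le_right))
    letI : CommGroup D :=
      { (inferInstance : Group D) with mul_comm := fun a b => mul_comm' a b }
    infer_instance
  · haveI : Fact p.Prime := ⟨hp⟩
    obtain ⟨x, hx⟩ := exists_prime_orderOf_dvd_card' p hpd
    exact (key p x x.2 (by rw [Subgroup.orderOf_coe, hx])).1

end CfsgLib.BG
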