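import Cfsg.Agent.Lib.BG.TypePFacts
import Cfsg.Agent.Lib.BG14.KappaBase
import Cfsg.Agent.S1354
import Cfsg.Agent.S1426
import Cfsg.Agent.S1437

/-!
# `K*` is cyclic and `M_F` is not
-/

set_option autoImplicit false
set_option linter.style.haveILetI false
set_option linter.unusedSectionVars false

namespace CfsgLib.BG

open Subgroup CfsgLib.PLocal CfsgLib.OddLocal
open scoped commutatorElement

universe u
variable {G : Type u} [Group G] [Finite G] {M K U : Subgroup G}

/-- The derived subgroup of a group normalizing a cyclic subgroup centralizes it. -/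
theorem derived_le_centralizer_of_isCyclic {A X : Subgroup G} (hc : IsCyclic X)
    (hA : A ≤ normalizer (X : Set G)) : ⁅A, A⁆ ≤ centralizer (X : Set G) := by
  haveI := hc
  rw [commutator_le]
  intro a ha b hb
  have hab : ∀ (f g : X →* X) (x : X), f (g x) = g (f x) := by
    intro f g x
    obtain ⟨m, hm⟩ := MonoidHom.map_cyclic f
    obtain ⟨n, hn⟩ := MonoidHom.map_cyclic g
    rw [hn x, hm, hm x, hn, ← zpow_mul, ← zpow_mul, mul_comm]
  let φ := X.normalizerMonoidHom
  have h1 : φ ⁅(⟨a, hA ha⟩ : normalizer (X : Set G)), ⟨b, hA hb⟩⁆ = 1 := by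
    rw [map_commutatorElement, commutatorElement_eq_one_iff_mul_comm]
    exact MulEquiv.ext fun x => hab (φ ⟨a, hA ha⟩).toMonoidHom (φ ⟨b, hA hb⟩).toMonoidHom x
  refine mem_centralizer_iff.mpr fun x hx => ?_
  have h2 := congrArg Subtype.val (DFunLike.congr_fun h1 ⟨x, hx⟩)
  have h3 : ⁅a, b⁆ * x * ⁅a, b⁆⁻¹ = x := by
    simpa [φ, Subgroup.normalizerMonoidHom_apply_apply_coe, commutatorElement_def, mul_assoc] using h2
  calc x * ⁅a, b⁆ = ⁅a, b⁆ * x * ⁅a, b⁆⁻¹ * ⁅a, b⁆ := by rw [h3]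
    _ = ⁅a, b⁆ * x := by group

variable (hG : Cfsg.IsMinSimpleOddOrder G) (hM : IsCoatom M)
include hG hM

/-- `K*` is cyclic and lies in `M_F`, which is not cyclic. -/
theorem star_cyclic (h : Cfsg.IsSigmaDecomposition M K U) (hK : K ≠ ⊥) :
    IsCyclic ↥(Cfsg.sigmaCore M ⊓ centralizer (K : Set G)) ∧
      Cfsg.sigmaCore M ⊓ centralizer (K : Set G) ≤ Cfsg.fittingHallOf M ∧
      ¬ IsCyclic (Cfsg.fittingHallOf M) := by
  set S := Cfsg.sigmaCore M with hS
  by_cases hne : Cfsg.fittingHallOf M = S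
  · obtain ⟨k, hk, hkp⟩ := CfsgLib.BG14.exists_prime_element hK
    haveI : Fact (orderOf k).Prime := ⟨hkp⟩
    have hκ := h.hall.2.1 _ hkp (orderOf_dvd_natCard K hk)
    have hr := prankLE_one_of_kappa hG hM hκ
    haveI hSn : Group.IsNilpotent S := hne ▸ fittingHallOf_isNilpotent M
    have hstar : IsCyclic ↥(S ⊓ centralizer (K : Set G)) := by
      haveI : Group.IsNilpotent ↥(S ⊓ centralizer (K : Set G)) :=
        Group.nilpotent_of_mulEquiv (subgroupOfEquivOfLe inf_le_left)
      haveI : IsZGroup ↥(S ⊓ centralizer (K : Set G)) := ⟨fun p hp P => by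
        haveI : Fact p.Prime := ⟨hp⟩
        have := CfsgLib.BG14.cyclic_of_fix hG hM (h.hall.1 hk) hkp hκ.2.2.1 hr
          (S := (P : Subgroup ↥(S ⊓ centralizer (K : Set G))).map (Subgroup.subtype _)) (P.2.map _)
          ((map_subtype_le _).trans (inf_le_inf_left _ (centralizer_le (Set.singleton_subset_iff.mpr hk))))
        exact ((equivMapOfInjective _ _ (Subgroup.subtype_injective _)).isCyclic).mpr this⟩
      infer_instance
    refine ⟨hstar, hne.ge.trans' inf_le_left, fun hcF => ?_⟩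
    have hcS : IsCyclic S := hne ▸ hcF
    obtain ⟨E, hE, hUK, -, -, -⟩ := exists_compl_decomp hG hM h
    have hU : U = ⊥ := by
      by_contra hU1
      have hc := (decomp_U_le_derived hG hM h hK).trans
        (derived_le_centralizer_of_isCyclic hcS (le_normalizer_sigmaCore M))
      have h' := sigmaCore_inf_centralizer_U hG hM h hU1
      rw [inf_eq_left.mpr (le_centralizer_iff.mp hc)] at h'
      exact sigmaCore_ne_bot hG hM h'
    rw [hU, bot_sup_eq] at hUK
    obtain ⟨h1, -⟩ := Cfsg.Agent.S1426.result hG M hM E hE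
    haveI := hcS
    have hab : ⁅S, S⁆ = ⊥ := commutator_eq_bot_iff_le_centralizer.mpr
      (le_centralizer_iff_isMulCommutative.mpr IsCyclic.isMulCommutative)
    rw [← hUK, hab, le_bot_iff] at h1
    exact (Cfsg.Agent.S1354.result hG M hM K h.cyclic h.hall).1 h1
  · obtain ⟨-, -, -, hqp, -, hβ, Q, hQF, hQn, hQ, hQi, -⟩ := Cfsg.Agent.S1437.result hG M hM K U h hne
    set q := Nat.card ↥(S ⊓ centralizer (K : Set G)) with hq
    haveI : Fact q.Prime := ⟨hqp⟩
    have hQS : Q ≤ S := hQF.trans (CfsgLib.BG14.fittingHallOf_le_sigmaCore hG hM)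
    have hmem : ∀ x ∈ S, IsPGroup q (zpowers x) → x ∈ Cfsg.fittingHallOf M := fun x hx hxq => hQF
      (CfsgLib.Solvable.mem_of_coprime_relIndex ((normal_subgroupOf_iff_le_normalizer hQS).mpr
        ((sigmaCore_le M).trans hQn)) hx (coprime_of_forall fun t ht h1 h2 => hQi (by
          obtain rfl := prime_dvd_pgroup_card hxq ht (h1.trans (Nat.card_zpowers x).symm.dvd)
          exact h2)))
    refine ⟨isCyclic_of_prime_card rfl, fun x hx => hmem x (mem_inf.mp hx).1
      ((IsPGroup.of_card (n := 1) (by rw [pow_one])).to_le (zpowers_le.mpr hx)), fun hcF => ?_⟩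
    have h3 : ¬ Cfsg.PRankLE q 1 M := fun h1 => (beta_subset_alpha' hβ).2 fun B hB hB' =>
      (h1 B hB hB').trans (Nat.pow_le_pow_right hqp.pos (by norm_num))
    obtain ⟨B, hBM, hB⟩ := exists_sq_le_of_not_prankLE le_rfl h3
    have hqσ : q ∈ Cfsg.sigma M := mem_sigma_of_dvd_sigmaCore hqp (card_dvd_of_le inf_le_left)
    have hBS : B ≤ S := le_sigmaCore_of_pi hG hM hBM fun t ht hd =>
      (prime_dvd_pgroup_card hB.isPGroup ht hd) ▸ hqσ
    haveI := hcF
    exact hB.not_isCyclic (Subgroup.isCyclic_of_le fun x hx =>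
      hmem x (hBS hx) (hB.isPGroup.to_le (zpowers_le.mpr hx)))
where
  beta_subset_alpha' {p : ℕ} (h : p ∈ Cfsg.beta M) : p ∈ Cfsg.alpha M := h.1

end CfsgLib.BG
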