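import Cfsg.Agent.Lib.OddLocal.FrobeniusModule
import Cfsg.Agent.Lib.Coprime.Action

/-!
# A Frobenius group on a nilpotent group modulo the fixed points of its kernel
-/

set_option autoImplicit false
set_option linter.style.haveILetI false
set_option linter.unusedSectionVars false

namespace CfsgLib.BG

open Subgroup
open scoped commutatorElement

universe u
variable {X : Type u} [Group X] [Finite X]

/-- If `D R` is Frobenius on a nilpotent `Q` with `C_Q(D)` normal and `C_Q(R)` cyclic, then `D'`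
centralizes `Q`. -/
theorem derived_le_centralizer_mod {D R Q : Subgroup X} (hR : (Nat.card R).Prime)
    (hD : Group.IsNilpotent D) (hRD : R ≤ normalizer (D : Set X))
    (hcopR : (Nat.card R).Coprime (Nat.card D))
    (hfrob : ∀ r ∈ R, r ≠ 1 → D ⊓ centralizer ({r} : Set X) = ⊥)
    (hQ : Group.IsNilpotent Q) (hn : D ⊔ R ≤ normalizer (Q : Set X))
    (hcop : (Nat.card ↥(D ⊔ R)).Coprime (Nat.card Q))
    (hQ0 : (Q ⊓ centralizer (D : Set X)).Normal)
    (hcyc : IsCyclic ↥(Q ⊓ centralizer (R : Set X))) :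
    ⁅D, D⁆ ≤ centralizer (Q : Set X) := by
  haveI := hQ0
  haveI := hD
  haveI := hQ
  haveI := hcyc
  haveI : Fact (Nat.card R).Prime := ⟨hR⟩
  haveI : IsCyclic R := isCyclic_of_prime_card rfl
  set Q0 := Q ⊓ centralizer (D : Set X) with hQ0d
  set f := QuotientGroup.mk' Q0 with hf
  have hsD : Group.IsSolvable D := inferInstance
  have hsR : Group.IsSolvable R := CfsgLib.OddLocal.isSolvable_of_isMulCommutative IsCyclic.isMulCommutative
  have hRQ : R ≤ normalizer (Q : Set X) := le_sup_right.trans hn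
  have hDQ : D ≤ normalizer (Q : Set X) := le_sup_left.trans hn
  have hcopD : (Nat.card D).Coprime (Nat.card Q) :=
    hcop.coprime_dvd_left (card_dvd_of_le le_sup_left)
  have hcR : (Nat.card R).Coprime (Nat.card Q) :=
    hcop.coprime_dvd_left (card_dvd_of_le le_sup_right)
  have hcomm : ⁅D, D⁆ ≤ D := le_normalizer_iff_commutator_le_left.mp le_normalizer
  have hR' : (Nat.card (R.map f)).Prime := by
    rcases (Nat.dvd_prime hR).mp (card_map_dvd _ f) with h | h
    · exfalso
      obtain ⟨r, hr, hr1⟩ := (bot_or_exists_ne_one R).resolve_left fun e => hR.ne_one (by rw [e, Subgroup.card_bot])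
      have h1 : f r = 1 := mem_bot.mp (Subgroup.card_eq_one.mp h ▸ mem_map_of_mem f hr)
      rw [hf, QuotientGroup.mk'_apply, QuotientGroup.eq_one_iff] at h1
      refine hr1 (mem_bot.mp ?_)
      rw [← CfsgLib.Coprime.inf_eq_bot_of_coprime hcR]
      exact mem_inf.mpr ⟨hr, (mem_inf.mp h1).1⟩
    · rw [h]; exact hR
  have hQbar : Group.IsNilpotent (Q.map f) :=
    Group.nilpotent_of_surjective (f.subgroupMap Q) (f.subgroupMap_surjective Q)
  have hDbar : Group.IsNilpotent (D.map f) :=
    Group.nilpotent_of_surjective (f.subgroupMap D) (f.subgroupMap_surjective D)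
  have hmapn : ∀ {A B : Subgroup X}, A ≤ normalizer (B : Set X) →
      A.map f ≤ normalizer (B.map f : Set (X ⧸ Q0)) := fun h =>
    (Subgroup.map_mono h).trans (Subgroup.le_normalizer_map f)
  have hfix : Q.map f ⊓ centralizer (D.map f : Set (X ⧸ Q0)) = ⊥ := by
    rw [← CfsgLib.Coprime.map_inf_centralizer f hDQ hcopD (Or.inl hsD), eq_bot_iff]
    rintro _ ⟨q, hq, rfl⟩
    rw [mem_bot, hf, QuotientGroup.mk'_apply, QuotientGroup.eq_one_iff]
    exact hq
  have hcycbar : IsCyclic ↥(Q.map f ⊓ centralizer (R.map f : Set (X ⧸ Q0))) := by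
    rw [← CfsgLib.Coprime.map_inf_centralizer f hRQ hcR (Or.inl hsR)]
    exact isCyclic_of_surjective _ (f.subgroupMap_surjective _)
  have hfrob' : ∀ r ∈ R.map f, r ≠ 1 → D.map f ⊓ centralizer ({r} : Set (X ⧸ Q0)) = ⊥ := by
    rintro _ ⟨r, hr, rfl⟩ hr1
    have hr1' : r ≠ 1 := fun e => hr1 (by rw [e, map_one])
    have h := CfsgLib.Coprime.map_inf_centralizer f (A := zpowers r) (G := D)
      ((zpowers_le.mpr hr).trans hRD) (hcopR.coprime_dvd_left (card_dvd_of_le (zpowers_le.mpr hr)))
      (Or.inr hsD)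
    rw [zpowers_eq_closure, centralizer_closure, hfrob r hr hr1', Subgroup.map_bot,
      MonoidHom.map_closure, Set.image_singleton, centralizer_closure] at h
    exact h.symm
  have hmain := CfsgLib.OddLocal.commutator_le_centralizer_of_cyclic_fixed (D.map f) (R.map f) hR'
    hDbar (hmapn hRD) hfrob' (Q.map f) hQbar (by rw [← Subgroup.map_sup]; exact hmapn hn)
    ((hcop.coprime_dvd_left (by rw [← Subgroup.map_sup]; exact card_map_dvd _ _)).coprime_dvd_right
      (card_map_dvd _ _)) hfix hcycbar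
  rw [← Subgroup.map_commutator] at hmain
  have h1 : ⁅Q, ⁅D, D⁆⁆ ≤ Q0 := by
    rw [commutator_le]
    intro q hq d hd
    rw [← QuotientGroup.eq_one_iff (N := Q0), ← QuotientGroup.mk'_apply, map_commutatorElement,
      commutatorElement_eq_one_iff_mul_comm]
    exact mem_centralizer_iff.mp (hmain (mem_map_of_mem f hd)) _ (mem_map_of_mem f hq)
  have h2 : ⁅⁅Q, ⁅D, D⁆⁆, ⁅D, D⁆⁆ = ⊥ := by
    rw [commutator_eq_bot_iff_le_centralizer]
    exact h1.trans (inf_le_right.trans (centralizer_le hcomm))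
  have h3 := CfsgLib.Coprime.commutator_eq_bot_of_commutator_commutator (hcomm.trans hDQ)
    (hcopD.coprime_dvd_left (card_dvd_of_le hcomm))
    (Or.inl (CfsgLib.Coprime.isSolvable_of_le hsD hcomm)) h2
  rw [Subgroup.commutator_comm, commutator_eq_bot_iff_le_centralizer] at h3
  exact h3

end CfsgLib.BG
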