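import Cfsg.Agent.Lib.BG.Tau2Main

/-!
# The primes of `τ₂(M)`: commuting squares, abelian Sylow subgroups
-/

set_option autoImplicit false
set_option linter.style.haveILetI false
set_option linter.unusedSectionVars false

namespace CfsgLib.BG

open Subgroup CfsgLib.PLocal CfsgLib.OddLocal
open scoped commutatorElement

universe u
variable {G : Type u} [Group G] [Finite G] {M : Subgroup G} {p q : ℕ} [hp : Fact p.Prime]
  [hq : Fact q.Prime] {A A₀ B B₀ : Subgroup G}

/-- Sylow subgroups of `G` lie in the derived subgroup of their normalizers. -/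
theorem sylow_le_derived_normalizer (hG : Cfsg.IsMinSimpleOddOrder G) {P : Subgroup G}
    (hP : SylowIn p P ⊤) :
    P ≤ ⁅normalizer (P : Set G), normalizer (P : Set G)⁆ := by
  have hidx : ¬ p ∣ P.index := by rw [← relIndex_top_right]; exact hP.2.2
  let S : Sylow p G := hP.2.1.toSylow hidx
  set N := normalizer (P : Set G) with hN
  have hcop : (Nat.card (P.subgroupOf N)).Coprime (P.subgroupOf N).index := by
    rw [CfsgLib.Coprime.card_subgroupOf le_normalizer]
    obtain ⟨n, hn⟩ := IsPGroup.iff_card.mp hP.2.1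
    rw [hn]
    exact Nat.Coprime.pow_left _ (hp.out.coprime_iff_not_dvd.mpr fun h => hP.2.2 (h.trans
      ⟨N.relIndex ⊤, (relIndex_mul_relIndex _ _ _ le_normalizer le_top).symm⟩))
  obtain ⟨V, hV⟩ := exists_right_complement'_of_coprime hcop
  exact (Cfsg.Agent.S1411.result hG p S (V.map N.subtype) (by
    refine ⟨le_normalizer, map_subtype_le _, ?_, fun x hx => ?_⟩
    · refine (Subgroup.eq_bot_iff_forall _).mpr ?_
      rintro _ ⟨hx, y, hy, rfl⟩
      have : y ∈ P.subgroupOf N ⊓ V := mem_inf.mpr ⟨hx, hy⟩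
      rw [disjoint_iff.mp hV.disjoint, mem_bot] at this
      rw [this, map_one]
    · obtain ⟨⟨a, b⟩, hab, -⟩ := hV.existsUnique ⟨x, hx⟩
      exact ⟨_, a.2, _, ⟨b, b.2, rfl⟩, (congrArg Subtype.val hab).symm⟩)).2

/-- For an abelian Sylow subgroup `T` of rank at most two, `N(T)'` centralizes `T`. -/
theorem derived_normalizer_le_centralizer (hG : Cfsg.IsMinSimpleOddOrder G) {T : Subgroup G}
    (hT : SylowIn q T ⊤) (hab : IsMulCommutative T) (hq2 : q ≠ 2) (hr : Cfsg.PRankLE q 2 T)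
    (hne : normalizer (T : Set G) ≠ ⊤) :
    ⁅normalizer (T : Set G), normalizer (T : Set G)⁆ ≤ centralizer (T : Set G) := by
  set N := normalizer (T : Set G) with hN
  haveI : Group.IsSolvable N := minSimple_isSolvable hG hne
  set φ : N →* MulAut T := CfsgLib.Coprime.conjHom (A := N) le_rfl with hφ
  haveI : Finite (MulAut T) := Finite.of_injective (fun f => (f : T → T)) DFunLike.coe_injective
  haveI : Group.IsSolvable φ.range := Group.isSolvable_of_surjective φ.rangeRestrict_surjective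
  have happ : ∀ (n : N) (b : T), ((φ n b : T) : G) = n * b * (n : G)⁻¹ := fun _ _ => rfl
  have hC : IsPGroup q (commutator φ.range) := isPGroup_commutator_of_rank_two hq2 hT.2.1 hr
    ((minSimple_odd hG N).of_dvd_nat (card_range_dvd φ)) φ.range.subtype φ.range.subtype_injective
  -- the image has order prime to `q`
  have hTker : T.subgroupOf N ≤ φ.ker := fun t ht => MonoidHom.mem_ker.mpr <| MulEquiv.ext fun b =>
    Subtype.ext (by
      rw [happ]
      show (t : G) * b * (t : G)⁻¹ = b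
      rw [show (t : G) * (b : G) = b * t from
        congrArg Subtype.val (hab.is_comm.comm ⟨t, ht⟩ b)]
      group)
  have hqr : ¬ q ∣ Nat.card φ.range := by
    rw [← index_ker]
    intro hd
    exact hT.2.2 ((hd.trans (index_dvd_of_le hTker)).trans ⟨N.relIndex ⊤,
      (relIndex_mul_relIndex _ _ _ le_normalizer le_top).symm⟩)
  have hbot : commutator φ.range = ⊥ := by
    by_contra h1
    exact hqr ((dvd_card_of_pgroup_ne_bot hC h1).trans (card_subgroup_dvd_card _))
  rw [commutator_le]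
  intro a ha b hb
  rw [mem_centralizer_iff]
  intro t ht
  have hmem : φ ⁅(⟨a, ha⟩ : N), ⟨b, hb⟩⁆ = 1 := by
    have h1 : (⁅φ.rangeRestrict ⟨a, ha⟩, φ.rangeRestrict ⟨b, hb⟩⁆ : φ.range) ∈ commutator φ.range := by
      rw [_root_.commutator_def]
      exact commutator_mem_commutator (mem_top _) (mem_top _)
    rw [hbot, mem_bot] at h1
    have := congrArg φ.range.subtype h1
    rw [map_one, map_commutatorElement] at this
    rw [map_commutatorElement]
    exact this
  have h2 := congrArg (fun f : MulAut T => ((f ⟨t, ht⟩ : T) : G)) hmem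
  simp only [MulAut.one_apply, happ] at h2
  show t * ⁅a, b⁆ = ⁅a, b⁆ * t
  exact (mul_inv_eq_iff_eq_mul.mp h2).symm

variable (hG : Cfsg.IsMinSimpleOddOrder G) (hM : IsCoatom M)
include hG hM

/-- The Sylow `p`-subgroup of `M` over `A` is `S ∩ M = C_S(A)`. -/
theorem IsExc.sylow_eq_inf (h : IsExc p M A A₀) {P S : Subgroup G} (hP : SylowIn p P M)
    (hAP : A ≤ P) (hS : SylowIn p S ⊤) (hPS : P ≤ S) :
    S ⊓ M = P ∧ S ⊓ centralizer (A : Set G) = P := by
  have h1 : S ⊓ M = P :=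
    (hP.eq_of_le (hS.2.1.to_le inf_le_left) inf_le_right (le_inf hPS hP.1)).symm
  refine ⟨h1, le_antisymm ((le_inf inf_le_left (inf_le_right.trans (h.centralizer_le))).trans h1.le) ?_⟩
  exact le_inf hPS (h.sylow_center hG hM hP hAP)

/-- A nonabelian Sylow subgroup moves `A` out of `M`. -/
theorem IsExc.exists_move_sylow (h : IsExc p M A A₀) {P S : Subgroup G} (hP : SylowIn p P M)
    (hAP : A ≤ P) (hS : SylowIn p S ⊤) (hPS : P ≤ S) (hne : P ≠ S) :
    ∃ g, g ∈ S ∧ g ∈ normalizer (A : Set G) ∧ g ∈ normalizer (P : Set G) ∧ g ∉ M := by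
  have hlt := card_lt_card_inf_normalizer hS.2.1 (lt_of_le_of_ne hPS hne)
  obtain ⟨g, hg, hgP⟩ := SetLike.not_le_iff_exists.mp (show ¬ S ⊓ normalizer (P : Set G) ≤ P from
    fun hle => absurd (card_le_of_le hle) (not_le.mpr hlt))
  refine ⟨g, (mem_inf.mp hg).1, (h.sylow_abelian hG hM hP hAP).2.2 (mem_inf.mp hg).2,
    (mem_inf.mp hg).2, fun hgM => hgP ?_⟩
  rw [← (h.sylow_eq_inf hG hM hP hAP hS hPS).1]
  exact mem_inf.mpr ⟨(mem_inf.mp hg).1, hgM⟩

/-- Two squares of the complement commute. -/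
theorem IsExc.comm_other (h : IsExc p M A A₀) (h' : IsExc q M B B₀) (hpq : p ≠ q)
    {E : Subgroup G} (hE : Cfsg.IsComplIn E (Cfsg.sigmaCore M) M) (hAE : A ≤ E) (hBE : B ≤ E) :
    B ≤ centralizer (A : Set G) :=
  h.centralizes_inv hG hM hpq.symm h'.not_sigma h'.sq.isPGroup h'.le
    (hAE.trans (h'.compl_le_normalizer hG hM hE hBE))

/-- For `p < q` in `τ₂(M)` the Sylow `q`-subgroups of `G` are abelian. -/
theorem IsExc.abelian_of_lt (h : IsExc p M A A₀) (h' : IsExc q M B B₀) (hlt : p < q)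
    {E : Subgroup G} (hE : Cfsg.IsComplIn E (Cfsg.sigmaCore M) M) (hAE : A ≤ E) (hBE : B ≤ E)
    {P : Subgroup G} (hP : SylowIn q P M) (hBP : B ≤ P) : SylowIn q P ⊤ := by
  obtain ⟨T, hT, hPT⟩ := exists_sylowIn_le hP.2.1 (le_top (a := P))
  rcases eq_or_ne P T with rfl | hne
  · exact hT
  exfalso
  obtain ⟨u, huT, huB, -, huM⟩ := h'.exists_move_sylow hG hM hP hBP hT hPT hne
  set C := centralizer (B : Set G) with hC
  have hCM : C ≤ M := h'.centralizer_le
  have huC : u ∈ normalizer (C : Set G) := CfsgLib.Comp.le_normalizer_centralizer le_rfl huB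
  have hAC : A ≤ C := le_centralizer_iff.mp (h.comm_other hG hM h' hlt.ne hE hAE hBE)
  obtain ⟨P₁, hP₁, hAP₁⟩ := exists_sylowIn_le h.sq.isPGroup hAC
  have hP₁' : SylowIn p (conjMap u P₁) C := by
    have := hP₁.conj u
    rwa [conjMap_eq_self_iff.mpr huC] at this
  obtain ⟨c, hc, hcP⟩ := hP₁.exists_conj_eq hP₁'
  rw [conjMap_conjMap] at hcP
  obtain ⟨P₂, hP₂, hP₁₂⟩ := exists_sylowIn_le hP₁.2.1 (hP₁.1.trans hCM)
  have hΩ := (h.sylow_abelian hG hM hP₂ (hAP₁.trans hP₁₂)).2.1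
  have hnA : ∀ v : G, conjMap v P₁ = P₁ → v ∈ normalizer (A : Set G) := by
    intro v hv
    rw [← conjMap_eq_self_iff]
    refine eq_of_le_of_card_ge ?_ (by rw [card_conjMap])
    rintro _ ⟨a, ha, rfl⟩
    have hm : v * a * v⁻¹ ∈ P₁ := hv.le (conj_mem_conjMap (hAP₁ ha))
    exact (hΩ _ (hP₁₂ hm)).mp (by rw [conj_pow, h.sq.1.2 a ha]; group)
  -- a `q`-element of `N(A)` outside `M`
  obtain ⟨e, m, hqm, hm⟩ := Nat.exists_eq_pow_mul_and_not_dvd (orderOf_pos (c * u)).ne' q hq.out.ne_one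
  set w := (c * u) ^ m with hw
  have hwo : w ^ (q ^ e) = 1 := by rw [hw, ← pow_mul, mul_comm, ← hm, pow_orderOf_eq_one]
  have hwA : w ∈ normalizer (A : Set G) := pow_mem (hnA _ hcP) m
  have hmod : ∀ n : ℕ, (c * u) ^ n * (u ^ n)⁻¹ ∈ C := by
    intro n
    induction n with
    | zero => simp
    | succ k ih =>
      rw [pow_succ' (c * u), pow_succ' u, mul_inv_rev, mul_assoc c u,
        show c * (u * (c * u) ^ k) * ((u ^ k)⁻¹ * u⁻¹) = c * (u * ((c * u) ^ k * (u ^ k)⁻¹) * u⁻¹) by group]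
      exact mul_mem hc ((mem_normalizer_iff.mp huC _).mp ih)
  have humM : u ^ m ∉ M := by
    intro hum
    refine huM ?_
    obtain ⟨k, hk⟩ := IsPGroup.iff_orderOf.mp hT.2.1 ⟨u, huT⟩
    rw [Subgroup.orderOf_mk] at hk
    obtain ⟨l, hl⟩ := exists_pow_eq_self_of_coprime (n := m) (x := u)
      (hk ▸ ((hq.out.coprime_iff_not_dvd.mpr hqm).pow_left k).symm)
    rw [← hl]
    exact pow_mem hum l
  have hwM : w ∉ M := fun hwM => humM (by
    have := mul_mem (inv_mem (hCM (hmod m))) hwM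
    simpa [hw, mul_assoc] using this)
  set φ : normalizer (A : Set G) →* MulAut A :=
    CfsgLib.Coprime.conjHom (A := normalizer (A : Set G)) le_rfl with hφ
  haveI : Finite (MulAut A) := Finite.of_injective (fun f => (f : A → A)) DFunLike.coe_injective
  have hwC : w ∈ centralizer (A : Set G) := by
    have hd : orderOf (φ ⟨w, hwA⟩) ∣ q ^ e :=
      orderOf_dvd_of_pow_eq_one (by
        rw [← map_pow, show (⟨w, hwA⟩ : normalizer (A : Set G)) ^ (q ^ e) = 1 from Subtype.ext hwo,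
          map_one])
    obtain ⟨j, -, hj⟩ := (Nat.dvd_prime_pow hq.out).mp hd
    rcases Nat.eq_zero_or_pos j with rfl | hjpos
    · rw [pow_zero, orderOf_eq_one_iff] at hj
      rw [mem_centralizer_iff]
      intro a ha
      have h2 := congrArg (fun f : MulAut A => ((f ⟨a, ha⟩ : A) : G)) hj
      exact (mul_inv_eq_iff_eq_mul.mp (h2 : w * a * w⁻¹ = a)).symm
    · exfalso
      have hqd : q ∣ Nat.card (MulAut A) :=
        ((dvd_pow_self q hjpos.ne').trans hj.symm.dvd).trans (orderOf_dvd_natCard _)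
      have := (dvd_card_gl_two_of_prime_dvd_aut (prime_ne_two_of_pgroup hG h.sq.isPGroup h.sq.ne_bot)
        h.sq.isPGroup (fun E _ _ => h.sq.2 ▸ card_le_card_group E) hq.out hlt.ne' hqd).2
      omega
  exact hwM (h.centralizer_le hwC)

/-- For `p < q` in `τ₂(M)`: `A` centralizes the Sylow `q`-subgroups of `E`. -/
theorem IsExc.centralizes_large (h : IsExc p M A A₀) (hlt : p < q) (hqσ : q ∉ Cfsg.sigma M)
    {E : Subgroup G} (hE : Cfsg.IsComplIn E (Cfsg.sigmaCore M) M) (hAE : A ≤ E)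
    {Q : Subgroup G} (hQ : SylowIn q Q E) : Q ≤ centralizer (A : Set G) := by
  obtain ⟨H, hH, -, hAH⟩ := CfsgLib.Coprime.exists_invariant_hall_ge (A := (⊥ : Subgroup G)) bot_le
    (by rw [Subgroup.card_bot]; exact Nat.coprime_one_left _) (isSolvable_of_le_max hG hM hE.1)
    hAE bot_le (π := ({p, q} : Set ℕ))
    fun t ht htd => Or.inl (prime_dvd_pgroup_card h.sq.isPGroup ht htd)
  obtain ⟨Q₀, hQ₀, -⟩ := exists_sylowIn_le (IsPGroup.of_bot (p := q) (G := G)) (bot_le (a := H))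
  have hQ₀E : SylowIn q Q₀ E := by
    refine ⟨hQ₀.1.trans hH.1, hQ₀.2.1, ?_⟩
    rw [← relIndex_mul_relIndex _ _ _ hQ₀.1 hH.1]
    exact fun hd => (hq.out.dvd_mul.mp hd).elim hQ₀.2.2 (hH.2.2 q hq.out (Or.inr rfl))
  have hQn := sylow_normal_of_lt hG hM (hH.1.trans hE.1) hH.2.1 hlt
    ((dvd_card_of_pgroup_ne_bot h.sq.isPGroup h.sq.ne_bot).trans (card_dvd_of_le hAH))
    (prankLE_two_of_not_sigma hG hM h.not_sigma) hQ₀
  have hc := h.centralizes_inv hG hM hlt.ne' hqσ hQ₀.2.1 (hQ₀E.1.trans hE.1) (hAH.trans hQn)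
  obtain ⟨e, he, heQ⟩ := hQ₀E.exists_conj_eq hQ
  have hAe : conjMap e A = A :=
    conjMap_eq_self_iff.mpr (h.compl_le_normalizer hG hM hE hAE he)
  have hQe : Q = conjMap e⁻¹ Q₀ := by rw [← heQ, conjMap_inv_conjMap]
  rw [hQe]
  intro x hx
  rw [mem_centralizer_iff]
  intro a ha
  have ha' : e * a * e⁻¹ ∈ A := hAe.le (conj_mem_conjMap ha)
  have := mem_centralizer_iff.mp (hc (mem_conjMap.mp hx)) _ ha'
  simp only [inv_inv] at this
  have h2 := congrArg (fun t => e⁻¹ * t * e) this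
  simp only [mul_assoc, inv_mul_cancel_left, inv_mul_cancel, mul_one] at h2
  exact h2

/-- `S` normalizes an invariant Sylow `q`-subgroup `T ≥ B`: then `S` centralizes a conjugate of `B`. -/
theorem IsExc.le_max_of_sylow (h : IsExc p M A A₀) (h' : IsExc q M B B₀) (hpq : p ≠ q)
    {S T : Subgroup G} (hS : SylowIn p S ⊤) (hAS : A ≤ S) (hT : SylowIn q T ⊤) (hTM : T ≤ M)
    (hBT : B ≤ T) (hTA : A ≤ normalizer (T : Set G)) (hqC : q ∣ Nat.card (centralizer (A : Set G))) :
    ∃ k ∈ centralizer (A : Set G), S ≤ centralizer (conjMap k T : Set G) := by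
  have hqA : ¬ q ∣ Nat.card A := fun hd => hpq (prime_dvd_pgroup_card h.sq.isPGroup hq.out hd).symm
  have htr := transitivity_of_isMaxSq hG (h.isMaxSq hG hM)
  have hStop : S ≠ ⊤ := fun e => hpq.symm (prime_dvd_pgroup_card hS.2.1 hq.out
    (by rw [e]; exact hqC.trans (card_dvd_of_le le_top)))
  haveI := hS.2.1.isNilpotent
  have htrans := Cfsg.Agent.S1394.result hG A htr
    (h.sq.not_rankLE_one (le_inf le_rfl h.sq.le_centralizer)) q hq.out hqA hqC
  obtain ⟨-, -, hsub, hd⟩ := Cfsg.Agent.S1395.result hG A htr q hq.out hqA S hStop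
    (fun r hr hrd => (prime_dvd_pgroup_card hS.2.1 hr hrd) ▸
      dvd_card_of_pgroup_ne_bot h.sq.isPGroup h.sq.ne_bot)
    hAS (CfsgLib.Solvable.isSubnormal_of_isNilpotent _) htrans
  obtain ⟨R, hR, -⟩ := exists_maxInv_ge (bot_mem_invSubgroups ⊤ S {q})
  have hTmax : T ∈ Cfsg.maxInvSubgroups ⊤ A {q} :=
    ⟨inv_of_isPGroup hT.2.1 hTA, fun Y hY hle => (hT.eq_of_le (isPGroup_of_mem_inv hY) le_top hle).symm⟩
  obtain ⟨k, hk, hkR⟩ := htrans T hTmax R (hsub hR)
  have hkC : k ∈ centralizer (A : Set G) := piCoreOf_le _ _ hk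
  refine ⟨k, hkC, ?_⟩
  have hkT : SylowIn q (conjMap k T) ⊤ := by
    have := hT.conj k
    rwa [conjMap_top] at this
  have habT : IsMulCommutative T :=
    (h'.sylow_abelian hG hM (sylowIn_of_le hT hTM le_top) hBT).1
  have hrk : Cfsg.PRankLE q 2 T := prankLE_mono hTM (prankLE_two_of_not_sigma hG hM h'.not_sigma)
  have hrk' : Cfsg.PRankLE q 2 ↥(conjMap k T) := prankLE_mono
    ((conjMap_mono hTM).trans (conjMap_eq_of_mem (h.centralizer_le hkC)).le)
    (prankLE_two_of_not_sigma hG hM h'.not_sigma)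
  have habk : IsMulCommutative ↥(conjMap k T) := by
    haveI := habT
    infer_instance
  have hne : normalizer (conjMap k T : Set G) ≠ ⊤ := minSimple_normalizer_ne_top hG
    (conjMap_ne_bot fun e => h'.sq.ne_bot (le_bot_iff.mp (e ▸ hBT)))
    fun e => hM.1 (top_le_iff.mp (e ▸ (conjMap_mono hTM).trans
      (conjMap_eq_of_mem (h.centralizer_le hkC)).le))
  refine (((le_inf le_rfl (sylow_le_derived_normalizer hG hS)).trans (hd R hR).1).trans
    (le_of_eq (by rw [hkR]))).trans ?_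
  exact derived_normalizer_le_centralizer hG hkT habk
    (prime_ne_two_of_pgroup hG h'.sq.isPGroup h'.sq.ne_bot) hrk' hne

/-- For two primes of `τ₂(M)` the Sylow subgroups of `G` are abelian. -/
theorem IsExc.sylow_top_of_pair (h : IsExc p M A A₀) (h' : IsExc q M B B₀) (hpq : p ≠ q)
    {E : Subgroup G} (hE : Cfsg.IsComplIn E (Cfsg.sigmaCore M) M) (hAE : A ≤ E) (hBE : B ≤ E)
    {P : Subgroup G} (hP : SylowIn p P M) (hAP : A ≤ P) : SylowIn p P ⊤ := by
  rcases lt_or_gt_of_ne hpq with hlt | hlt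
  swap
  · exact h'.abelian_of_lt hG hM h hlt hE hBE hAE hP hAP
  obtain ⟨Q, hQ, hBQ⟩ := exists_sylowIn_le h'.sq.isPGroup hBE
  have hQtop := h.abelian_of_lt hG hM h' hlt hE hAE hBE (sylowIn_of_compl hG hM hE h'.not_sigma hQ) hBQ
  have hQA := h.centralizes_large hG hM hlt h'.not_sigma hE hAE hQ
  obtain ⟨S, hS, hPS⟩ := exists_sylowIn_le hP.2.1 (le_top (a := P))
  obtain ⟨k, hk, hSk⟩ := h.le_max_of_sylow hG hM h' hpq hS (hAP.trans hPS) hQtop (hQ.1.trans hE.1)
    hBQ ((le_centralizer_iff.mp hQA).trans (centralizer_le_normalizer _))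
    ((dvd_card_of_pgroup_ne_bot h'.sq.isPGroup h'.sq.ne_bot).trans (card_dvd_of_le (hBQ.trans hQA)))
  have hB'' := h'.conj k
  rw [conjMap_eq_of_mem (h.centralizer_le hk)] at hB''
  have hSM : S ≤ M := hSk.trans ((Subgroup.centralizer_le (conjMap_mono hBQ)).trans hB''.centralizer_le)
  have hSP : S = P := (hP.eq_of_le hS.2.1 hSM hPS).symm
  rwa [← hSP]

/-- `A` centralizes the Sylow `q`-subgroups of `E` for every other `q ∈ τ₂(M)`. -/
theorem IsExc.centralizes_other (h : IsExc p M A A₀) (h' : IsExc q M B B₀) (hpq : p ≠ q)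
    {E : Subgroup G} (hE : Cfsg.IsComplIn E (Cfsg.sigmaCore M) M) (hAE : A ≤ E) (hBE : B ≤ E)
    {Q : Subgroup G} (hQ : SylowIn q Q E) : Q ≤ centralizer (A : Set G) := by
  rcases lt_or_gt_of_ne hpq with hlt | hlt
  · exact h.centralizes_large hG hM hlt h'.not_sigma hE hAE hQ
  obtain ⟨P, hP, hAP⟩ := exists_sylowIn_le h.sq.isPGroup hAE
  have hPB := h'.centralizes_large hG hM hlt h.not_sigma hE hBE hP
  have hPtop := h.sylow_top_of_pair hG hM h' hpq hE hAE hBE (sylowIn_of_compl hG hM hE h.not_sigma hP) hAP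
  obtain ⟨Q', hQ', hBQ'⟩ := exists_sylowIn_le h'.sq.isPGroup hBE
  have hBQ : B ≤ Q := by
    obtain ⟨e, he, heq⟩ := hQ'.exists_conj_eq hQ
    rw [← conjMap_inv_conjMap e Q, heq, ← conjMap_eq_self_iff.mpr
      (inv_mem (h'.compl_le_normalizer hG hM hE hBE he))]
    exact conjMap_mono hBQ'
  have hQtop := h'.sylow_top_of_pair hG hM h hpq.symm hE hBE hAE
    (sylowIn_of_compl hG hM hE h'.not_sigma hQ) hBQ
  obtain ⟨k, hk, hQk⟩ := h'.le_max_of_sylow hG hM h hpq.symm hQtop hBQ hPtop (hP.1.trans hE.1) hAP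
    ((le_centralizer_iff.mp hPB).trans (centralizer_le_normalizer _))
    ((dvd_card_of_pgroup_ne_bot h.sq.isPGroup h.sq.ne_bot).trans (card_dvd_of_le (hAP.trans hPB)))
  have hkM : k ∈ M := h'.centralizer_le hk
  obtain ⟨c, hc, e, he, hce⟩ : ∃ n ∈ Cfsg.sigmaCore M, ∃ e ∈ E, n * e = k := by
    have hm' : k ∈ ((Cfsg.sigmaCore M ⊔ E : Subgroup G) : Set G) := by
      rw [sup_comm, isComplIn_sup hE]; exact hkM
    rw [coe_mul_of_right_le_normalizer_left _ _ (hE.1.trans (le_normalizer_sigmaCore M))] at hm'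
    exact hm'
  have hd : Cfsg.sigmaCore M ⊓ E = ⊥ := by
    rw [inf_comm]
    exact inf_sigmaCore_eq_bot hG hM fun r hr hd => not_sigma_of_dvd_compl hG hM hE hr hd
  -- `c` fixes `B`, hence is trivial
  have hc1 : c = 1 := by
    have hnB : c ∈ normalizer (B : Set G) := by
      have := mul_mem (centralizer_le_normalizer _ (hce ▸ hk : c * e ∈ centralizer (B : Set G)))
        (inv_mem (h'.compl_le_normalizer hG hM hE hBE he))
      simpa [mul_assoc] using this
    rw [← mem_bot, ← h'.centralizer_eq_bot hG hM]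
    exact ⟨hc, mem_centralizer_of_conj_le hc hd (hE.1.trans (le_normalizer_sigmaCore M)) hBE
      ((conjMap_eq_self_iff.mpr hnB).le.trans hBE)⟩
  rw [hc1, one_mul] at hce
  refine hQk.trans (Subgroup.centralizer_le ?_)
  rw [← conjMap_eq_self_iff.mpr (h.compl_le_normalizer hG hM hE hAE (hce ▸ he))]
  exact conjMap_mono hAP

end CfsgLib.BG
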