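import Cfsg.Agent.Lib.BG.TypeBasic
import Cfsg.Agent.Lib.BG.FrobeniusQuotient
import Cfsg.Agent.S1437
import Cfsg.Agent.S1438
import Cfsg.Agent.S1439

/-!
# `M''`, `C_M(M_F)` and `F(M)`
-/

set_option autoImplicit false
set_option linter.style.haveILetI false
set_option linter.unusedSectionVars false

namespace CfsgLib.BG

open Subgroup CfsgLib.PLocal CfsgLib.OddLocal
open scoped commutatorElement

universe u
variable {G : Type u} [Group G] [Finite G] {M K U : Subgroup G}
variable (hG : Cfsg.IsMinSimpleOddOrder G) (hM : IsCoatom M)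
include hG hM

/-- When `M_F ≠ M_σ`: a normal Sylow subgroup of `M_σ` inside `M_F` and a `K`-invariant
complement. -/
theorem exceptional_core (h : Cfsg.IsSigmaDecomposition M K U)
    (hne : Cfsg.fittingHallOf M ≠ Cfsg.sigmaCore M) :
    ∃ (q : ℕ) (Q D : Subgroup G), q.Prime ∧ Q ≤ Cfsg.fittingHallOf M ∧
      M ≤ normalizer (Q : Set G) ∧ IsPGroup q Q ∧
      Nat.card ↥(Cfsg.sigmaCore M ⊓ centralizer (K : Set G)) = q ∧ (Nat.card K).Prime ∧
      Cfsg.IsComplIn Q D (Cfsg.sigmaCore M) ∧ Group.IsNilpotent D ∧ K ≤ normalizer (D : Set G) ∧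
      ¬ q ∣ Nat.card D ∧ M ≤ normalizer ((Q ⊓ centralizer (D : Set G) : Subgroup G) : Set G) := by
  obtain ⟨-, -, hKp, hqp, -, -, Q, hQF, hQn, hQ, hQi, hD⟩ :=
    Cfsg.Agent.S1437.result hG M hM K U h hne
  set q := Nat.card ↥(Cfsg.sigmaCore M ⊓ centralizer (K : Set G))
  haveI : Fact q.Prime := ⟨hqp⟩
  set S := Cfsg.sigmaCore M
  have hQS : Q ≤ S := hQF.trans (CfsgLib.BG14.fittingHallOf_le_sigmaCore hG hM)
  have hKM : K ≤ M := h.hall.1
  have hcop : (Nat.card K).Coprime (Nat.card S) :=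
    coprime_sigmaCore hG hM fun t ht hd => (h.hall.2.1 t ht hd).2.2.1
  obtain ⟨D, hD', hKD⟩ := CfsgLib.Coprime.exists_invariant_hall (hKM.trans (le_normalizer_sigmaCore M))
    hcop (isSolvable_of_le_max hG hM (sigmaCore_le M)) {t | t ≠ q}
  have hqD : ¬ q ∣ Nat.card D := fun hd => hD'.2.1 q hqp hd rfl
  have hcD : (Nat.card Q).Coprime (Nat.card D) := coprime_pgroup_of_not_dvd hQ hqD
  have hDn : D ≤ normalizer (Q : Set G) := hD'.1.trans ((sigmaCore_le M).trans hQn)
  have hsup : Q ⊔ D = S := by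
    refine eq_of_le_of_card_ge (sup_le hQS hD'.1) (Nat.le_of_dvd Nat.card_pos ?_)
    rw [card_sup_of_coprime hDn hcD.symm, ← CfsgLib.Coprime.card_mul_relIndex hQS]
    refine mul_dvd_mul_left _ (Nat.Coprime.dvd_of_dvd_mul_right (n := D.relIndex S) ?_ ?_)
    · refine coprime_of_forall fun t ht h1 h2 => ?_
      by_cases htq : t = q
      · exact hQi (htq ▸ h1)
      · exact hD'.2.2 t ht htq h2
    · rw [CfsgLib.Coprime.card_mul_relIndex hD'.1, ← CfsgLib.Coprime.card_mul_relIndex hQS]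
      exact dvd_mul_left _ _
  have hcompl : Cfsg.IsComplIn Q D S := by
    refine ⟨hQS, hD'.1, CfsgLib.Coprime.inf_eq_bot_of_coprime hcD, fun s hs => ?_⟩
    rw [← hsup] at hs
    obtain ⟨a, ha, b, hb, rfl⟩ := (CfsgLib.Coprime.mem_sup_of_le_normalizer hDn).mp hs
    exact ⟨a, ha, b, hb, rfl⟩
  exact ⟨q, Q, D, hqp, hQF, hQn, hQ, rfl, hKp, hcompl, (hD D hcompl).1, hKD, hqD, (hD D hcompl).2.1⟩

omit hG hM in
/-- A quotient of `Q D` by `Q` is nilpotent when `D` is. -/
theorem isNilpotent_map_sup {X : Type u} [Group X] [Finite X] {Y : Type*} [Group Y] (f : X →* Y)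
    {Q D : Subgroup X} (hQ : Q.map f = ⊥) (hD : Group.IsNilpotent D) :
    Group.IsNilpotent ((Q ⊔ D).map f) := by
  rw [Subgroup.map_sup, hQ, bot_sup_eq]
  exact Group.nilpotent_of_surjective (f.subgroupMap D) (f.subgroupMap_surjective D)

/-- `C_M(M_F)` is nilpotent. -/
theorem centralizer_fittingHall_nilpotent (h : Cfsg.IsSigmaDecomposition M K U) :
    Group.IsNilpotent ↥(M ⊓ centralizer (Cfsg.fittingHallOf M : Set G)) := by
  set F := Cfsg.fittingHallOf M with hF
  have hFS : F ≤ Cfsg.sigmaCore M := CfsgLib.BG14.fittingHallOf_le_sigmaCore hG hM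
  have hcop : (Nat.card F).Coprime (F.relIndex (Cfsg.sigmaCore M)) :=
    (fittingHallOf_coprime_relIndex M).coprime_dvd_right
      ⟨_, (relIndex_mul_relIndex _ _ _ hFS (sigmaCore_le M)).symm⟩
  by_cases hne : F = Cfsg.sigmaCore M
  · obtain ⟨⟨X, hX, -, heq⟩, -⟩ := Cfsg.Agent.S1438.result hG M hM F hFS
      (hne ▸ sigmaCore_ne_bot hG hM) hcop
    rw [heq]
    have hXc : X ≤ centralizer (F : Set G) := le_sup_right.trans (heq.ge.trans inf_le_right)
    haveI : IsMulCommutative ↥((Cfsg.sigmaCore M ⊓ centralizer (F : Set G)) ⊔ X) := by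
      haveI := hX
      have hXab : IsMulCommutative X := IsCyclic.isMulCommutative
      rw [← le_centralizer_iff_isMulCommutative]
      refine sup_le ((le_centralizer_iff).mp (sup_le ?_ ?_)) (le_centralizer_iff.mp (sup_le ?_ ?_))
      · exact inf_le_right.trans (centralizer_le (inf_le_left.trans hne.ge))
      · exact hXc.trans (centralizer_le (inf_le_left.trans hne.ge))
      · exact le_centralizer_iff.mp (hXc.trans (centralizer_le (inf_le_left.trans hne.ge)))
      · exact le_centralizer_iff_isMulCommutative.mpr hXab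
    open scoped IsMulCommutative in infer_instance
  · obtain ⟨q, Q, D, hqp, hQF, hQn, hQ, hcard, -, hcompl, hD, -, -, -⟩ := exceptional_core hG hM h hne
    obtain ⟨hU, -⟩ := Cfsg.Agent.S1437.result hG M hM K U h hne
    have hF1 : F ≠ ⊥ := fun e => by
      obtain ⟨-, -, -, hq', hdvd, -⟩ := Cfsg.Agent.S1437.result hG M hM K U h hne
      rw [show Cfsg.fittingHallOf M = F from rfl, e, Subgroup.card_bot] at hdvd
      exact hq'.ne_one (Nat.eq_one_of_dvd_one hdvd)
    obtain ⟨⟨X, -, hXτ, heq⟩, -⟩ := Cfsg.Agent.S1438.result hG M hM F hFS hF1 hcop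
    have hX1 : X = ⊥ := by
      by_contra hX1
      obtain ⟨t, ht, htd⟩ := Nat.exists_prime_and_dvd (fun e => hX1 (Subgroup.card_eq_one.mp e))
      have hτ := hXτ t ht htd
      have hXM : X ≤ M := le_sup_right.trans (heq.ge.trans inf_le_left)
      have hdM := htd.trans (card_dvd_of_le hXM)
      rw [card_eq_mul_of_isComplIn h.compl, hU, Subgroup.card_bot, one_mul, sup_comm,
        card_sup_of_coprime (h.hall.1.trans (le_normalizer_sigmaCore M))
          (coprime_sigmaCore hG hM fun s hs hd => (h.hall.2.1 s hs hd).2.2.1)] at hdM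
      rcases ht.dvd_mul.mp hdM with h' | h'
      · exact hτ.2.1 (mem_sigma_of_dvd_sigmaCore ht h')
      · exact hτ.2.2.2 (haveI := Fact.mk ht; prankLE_one_of_kappa hG hM (h.hall.2.1 t ht h'))
    rw [heq, hX1, sup_bot_eq]
    set S := Cfsg.sigmaCore M
    set C := S ⊓ centralizer (F : Set G)
    haveI : (Q.subgroupOf S).Normal :=
      (normal_subgroupOf_iff_le_normalizer hcompl.1).mpr ((sigmaCore_le M).trans hQn)
    set f := QuotientGroup.mk' (Q.subgroupOf S)
    haveI : Group.IsNilpotent (S ⧸ Q.subgroupOf S) := by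
      have h0 : Group.IsNilpotent (((Q.subgroupOf S) ⊔ (D.subgroupOf S)).map f) :=
        isNilpotent_map_sup f ((Subgroup.map_eq_bot_iff _).mpr (QuotientGroup.ker_mk' _).ge)
          ((Group.isNilpotent_congr (subgroupOfEquivOfLe hcompl.2.1)).mpr hD)
      rw [← subgroupOf_sup hcompl.1 hcompl.2.1, isComplIn_sup hcompl, subgroupOf_self,
        map_top_of_surjective f (QuotientGroup.mk'_surjective _)] at h0
      exact (Group.isNilpotent_congr Subgroup.topEquiv).mp h0
    haveI : Group.IsNilpotent (f.comp (Subgroup.inclusion (inf_le_left : C ≤ S))).range :=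
      inferInstance
    refine Subgroup.isNilpotent_of_ker_le_center
      (f.comp (Subgroup.inclusion (inf_le_left : C ≤ S))).rangeRestrict ?_
    intro c hc
    rw [MonoidHom.ker_rangeRestrict, MonoidHom.mem_ker, MonoidHom.comp_apply, QuotientGroup.mk'_apply,
      QuotientGroup.eq_one_iff, mem_subgroupOf] at hc
    rw [mem_center_iff]
    intro d
    refine Subtype.ext ?_
    exact (mem_centralizer_iff.mp (mem_inf.mp d.2).2 (c : G) (hQF hc)).symm

/-- `F(M) = C_M(M_F) M_F`. -/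
theorem fittingOf_eq (h : Cfsg.IsSigmaDecomposition M K U) :
    Cfsg.fittingOf M = (M ⊓ centralizer (Cfsg.fittingHallOf M : Set G)) ⊔ Cfsg.fittingHallOf M :=
  le_antisymm (fittingOf_le_sup M) (sup_le (le_fittingOf inf_le_left (le_normalizer_inf' le_normalizer
    (le_normalizer_centralizer (le_normalizer_fittingHallOf M)))
    (centralizer_fittingHall_nilpotent hG hM h)) (fittingHallOf_le_fittingOf M))

/-- `M'' ≤ F(M)`. -/
theorem derived2_le_fittingOf (h : Cfsg.IsSigmaDecomposition M K U) :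
    ⁅⁅M, M⁆, ⁅M, M⁆⁆ ≤ Cfsg.fittingOf M := by
  by_cases hne : Cfsg.fittingHallOf M = Cfsg.sigmaCore M
  · exact (derived2_le_sigmaCore hG hM).trans (hne.ge.trans (fittingHallOf_le_fittingOf M))
  obtain ⟨q, Q, D, hqp, hQF, hQn, hQ, hcard, hKp, hcompl, hD, hKD, hqD, hQ0⟩ := exceptional_core hG hM h hne
  obtain ⟨-, hder, -⟩ := Cfsg.Agent.S1437.result hG M hM K U h hne
  rw [← hder]
  set S := Cfsg.sigmaCore M
  haveI : Fact q.Prime := ⟨hqp⟩
  have hKn : K ≤ normalizer (Q : Set G) := h.hall.1.trans hQn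
  have hcopS : (Nat.card K).Coprime (Nat.card S) :=
    coprime_sigmaCore hG hM fun t ht hd => (h.hall.2.1 t ht hd).2.2.1
  have hcQD : (Nat.card Q).Coprime (Nat.card D) := coprime_pgroup_of_not_dvd hQ hqD
  have hstarQ : S ⊓ centralizer (K : Set G) ≤ Q := fun x hx => by
    refine CfsgLib.Solvable.mem_of_coprime_relIndex
      ((normal_subgroupOf_iff_le_normalizer hcompl.1).mpr ((sigmaCore_le M).trans hQn))
      (mem_inf.mp hx).1 (coprime_of_forall fun t ht h1 h2 => ?_)
    have htq : t = q := (Nat.prime_dvd_prime_iff_eq ht hqp).mp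
      (h1.trans (hcard ▸ orderOf_dvd_natCard _ hx))
    have e1 : Nat.card S = Nat.card Q * Q.relIndex S :=
      (CfsgLib.Coprime.card_mul_relIndex hcompl.1).symm
    rw [card_eq_mul_of_isComplIn hcompl] at e1
    exact hqD (htq ▸ Nat.eq_of_mul_eq_mul_left Nat.card_pos e1 ▸ h2)
  have hfrob : ∀ r ∈ K, r ≠ 1 → D ⊓ centralizer ({r} : Set G) = ⊥ := by
    intro r hr hr1
    rw [eq_bot_iff]
    intro x hx
    have hx' : x ∈ S ⊓ centralizer ({r} : Set G) := mem_inf.mpr ⟨hcompl.2.1 (mem_inf.mp hx).1, (mem_inf.mp hx).2⟩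
    rw [kappa_prime_action hG hM h.hall.1 h.hall.2.1 hr hr1] at hx'
    rw [← CfsgLib.Coprime.inf_eq_bot_of_coprime hcQD]
    exact mem_inf.mpr ⟨hstarQ hx', (mem_inf.mp hx).1⟩
  have hD2 : ⁅D, D⁆ ≤ centralizer (Q : Set G) := by
    have hDKM : D ⊔ K ≤ M := sup_le (hcompl.2.1.trans (sigmaCore_le M)) h.hall.1
    have hQM : Q ≤ M := hcompl.1.trans (sigmaCore_le M)
    have hDM : D ≤ M := le_sup_left.trans hDKM
    haveI : Fact (Nat.card K).Prime := ⟨hKp⟩
    have hsub : ∀ {A B : Subgroup G}, A ≤ M → B ≤ M → A ≤ normalizer (B : Set G) →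
        A.subgroupOf M ≤ normalizer (B.subgroupOf M : Set M) := fun _ _ hAB x hx => by
      rw [mem_normalizer_iff]
      intro y
      simp only [mem_subgroupOf]
      exact mem_normalizer_iff.mp (hAB (mem_subgroupOf.mp hx)) y
    have hcs : ∀ A : Subgroup G, A ≤ M → ∀ B : Subgroup G,
        (B ⊓ centralizer (A : Set G)).subgroupOf M =
          B.subgroupOf M ⊓ centralizer (A.subgroupOf M : Set M) := by
      intro A hA B
      ext x
      simp only [mem_subgroupOf, mem_inf, mem_centralizer_iff, SetLike.mem_coe]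
      exact and_congr_right fun _ => ⟨fun h a ha => Subtype.ext (h a ha),
        fun h a ha => congrArg Subtype.val (h ⟨a, hA ha⟩ ha)⟩
    have key := derived_le_centralizer_mod (D := D.subgroupOf M) (R := K.subgroupOf M)
      (Q := Q.subgroupOf M) (by rwa [CfsgLib.Coprime.card_subgroupOf h.hall.1])
      ((Group.isNilpotent_congr (subgroupOfEquivOfLe hDM)).mpr hD) (hsub h.hall.1 hDM hKD)
      (by
        rw [CfsgLib.Coprime.card_subgroupOf h.hall.1, CfsgLib.Coprime.card_subgroupOf hDM]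
        exact hcopS.coprime_dvd_right (card_dvd_of_le hcompl.2.1))
      (fun r hr hr1 => by
        rw [eq_bot_iff]
        intro x hx
        obtain ⟨hxD, hxr⟩ := mem_inf.mp hx
        have h1 : (x : G) ∈ D ⊓ centralizer ({(r : G)} : Set G) :=
          mem_inf.mpr ⟨mem_subgroupOf.mp hxD, mem_centralizer_singleton_iff.mpr
            (congrArg Subtype.val (mem_centralizer_singleton_iff.mp hxr))⟩
        rw [hfrob r (mem_subgroupOf.mp hr) (fun e => hr1 (Subtype.ext e)), mem_bot] at h1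
        exact mem_bot.mpr (Subtype.ext h1))
      ((Group.isNilpotent_congr (subgroupOfEquivOfLe hQM)).mpr hQ.isNilpotent)
      (by
        rw [← subgroupOf_sup hDM h.hall.1]
        exact hsub hDKM hQM (hDKM.trans hQn))
      (by
        rw [← subgroupOf_sup hDM h.hall.1, CfsgLib.Coprime.card_subgroupOf hDKM,
          CfsgLib.Coprime.card_subgroupOf hQM,
          card_sup_of_coprime hKD (hcopS.coprime_dvd_right (card_dvd_of_le hcompl.2.1))]
        exact Nat.Coprime.mul_left hcQD.symm (hcopS.coprime_dvd_right (card_dvd_of_le hcompl.1)))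
      (by
        rw [← hcs D hDM Q]
        exact (normal_subgroupOf_iff_le_normalizer (inf_le_left.trans hQM)).mpr hQ0)
      (by
        rw [← hcs K h.hall.1 Q]
        haveI : IsCyclic ↥(S ⊓ centralizer (K : Set G)) := isCyclic_of_prime_card hcard
        haveI : IsCyclic ↥(Q ⊓ centralizer (K : Set G)) :=
          Subgroup.isCyclic_of_le (inf_le_inf_right _ hcompl.1)
        exact (subgroupOfEquivOfLe (inf_le_left.trans hQM)).isCyclic.mpr inferInstance)
    intro x hx
    have hxM : x ∈ M := hDM ((derived_le_compl hG hM (E := D)) hx)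
    have hx' : (⟨x, hxM⟩ : M) ∈ ⁅D.subgroupOf M, D.subgroupOf M⁆ := by
      have hmap : (⁅D.subgroupOf M, D.subgroupOf M⁆).map M.subtype = ⁅D, D⁆ := by
        rw [Subgroup.map_commutator, map_subgroupOf_eq_of_le hDM]
      rw [← hmap] at hx
      obtain ⟨y, hy, rfl⟩ := hx
      exact hy
    rw [mem_centralizer_iff]
    intro y hy
    exact congrArg Subtype.val (mem_centralizer_iff.mp (key hx') ⟨y, hQM hy⟩ hy)
  have hDn : D ≤ normalizer (Q : Set G) := hcompl.2.1.trans ((sigmaCore_le M).trans hQn)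
  have hD1 : ⁅D, D⁆ ≤ D := derived_le_compl hG hM
  have hle : ⁅S, S⁆ ≤ Q ⊔ ⁅D, D⁆ := by
    rw [commutator_le]
    intro a ha b hb
    obtain ⟨x, hx, e, he, rfl⟩ := hcompl.2.2.2 a ha
    obtain ⟨y, hy, f, hf, rfl⟩ := hcompl.2.2.2 b hb
    have hn : ∀ g ∈ D, ∀ z ∈ Q, g * z * g⁻¹ ∈ Q := fun g hg z hz => (mem_normalizer_iff.mp (hDn hg) z).mp hz
    have hc : ⁅e, f⁆ ∈ D := hD1 (commutator_mem_commutator he hf)
    have heq : ⁅x * e, y * f⁆ = x * (e * y * e⁻¹) * (⁅e, f⁆ * (f * x⁻¹ * f⁻¹) * ⁅e, f⁆⁻¹) *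
        (⁅e, f⁆ * y⁻¹ * ⁅e, f⁆⁻¹) * ⁅e, f⁆ := by
      simp only [commutatorElement_def]; group
    rw [heq]
    exact mul_mem (mem_sup_left (mul_mem (mul_mem (mul_mem hx (hn e he y hy))
      (hn _ hc _ (hn f hf _ (inv_mem hx)))) (hn _ hc _ (inv_mem hy))))
      (mem_sup_right (commutator_mem_commutator he hf))
  have hcQ : ⁅D, D⁆ ≤ normalizer (Q : Set G) := hD1.trans hDn
  set N := Q ⊔ ⁅D, D⁆ with hN
  have hNS : N ≤ S := sup_le hcompl.1 (hD1.trans hcompl.2.1)
  have hN2 : N = Q ⊔ ⁅S, S⁆ :=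
    le_antisymm (sup_le le_sup_left ((commutator_mono hcompl.2.1 hcompl.2.1).trans le_sup_right))
      (sup_le le_sup_left hle)
  refine hle.trans (le_fittingOf (hNS.trans (sigmaCore_le M)) ?_ ?_)
  · rw [hN2]
    refine CfsgLib.Comp.le_normalizer_sup hQn fun x hx => ?_
    have h1 := Subgroup.map_commutator S S (MulAut.conj x).toMonoidHom
    have h' : S.map (MulAut.conj x).toMonoidHom = S := conjMap_eq_self_iff.mpr (le_normalizer_sigmaCore M hx)
    rw [h'] at h1
    exact conjMap_eq_self_iff.mp h1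
  · haveI : (Q.subgroupOf N).Normal :=
      (normal_subgroupOf_iff_le_normalizer le_sup_left).mpr (sup_le le_normalizer hcQ)
    haveI : ((⁅D, D⁆).subgroupOf N).Normal :=
      (normal_subgroupOf_iff_le_normalizer le_sup_right).mpr (sup_le
        ((le_centralizer_iff.mp hD2).trans (centralizer_le_normalizer _)) le_normalizer)
    have h1 : Group.IsNilpotent ↥((Q.subgroupOf N) ⊔ (⁅D, D⁆).subgroupOf N) :=
      CfsgLib.Solvable.isNilpotent_sup
        ((Group.isNilpotent_congr (subgroupOfEquivOfLe le_sup_left)).mpr hQ.isNilpotent)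
        ((Group.isNilpotent_congr (subgroupOfEquivOfLe le_sup_right)).mpr
          (haveI := hD; Group.nilpotent_of_mulEquiv (subgroupOfEquivOfLe hD1)))
    rw [← subgroupOf_sup le_sup_left le_sup_right, subgroupOf_self] at h1
    exact (Group.isNilpotent_congr Subgroup.topEquiv).mp h1

/-- `F(M) ≤ M'` when `κ(M)` is not empty. -/
theorem fittingOf_le_derived (h : Cfsg.IsSigmaDecomposition M K U) (hK : K ≠ ⊥) :
    Cfsg.fittingOf M ≤ ⁅M, M⁆ := by
  obtain ⟨-, hτ, heq⟩ := Cfsg.Agent.S1439.result hG M hM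
  rw [derived_eq_decomp hG hM h hK, heq]
  refine sup_le ((fittingOf_le _).trans le_sup_right) (le_trans ?_ le_sup_left)
  set Y := Cfsg.piCoreOf {q | q.Prime ∧ q ∉ Cfsg.sigma M} (Cfsg.fittingOf M) with hY
  have hYM : Y ≤ M := (CfsgLib.OddLocal.piCoreOf_le _ _).trans (fittingOf_le M)
  have hYn : M ≤ normalizer (Y : Set G) := by
    intro x hx
    apply conjMap_eq_self_iff.mp
    rw [hY, conjMap_piCoreOf, conjMap_eq_self_iff.mpr (le_normalizer_fittingOf M hx)]
  obtain ⟨E, hE, -, hEU, hUh, -⟩ := exists_compl_decomp hG hM h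
  obtain ⟨c, hc, hcE⟩ := exists_conj_le_compl hG hM hE hYM fun t ht hd => (hτ t ht hd).2.1
  rw [conjMap_eq_self_iff.mpr (hYn ((sigmaCore_le M) hc))] at hcE
  intro y hy
  refine CfsgLib.Solvable.mem_of_coprime_relIndex ((normal_subgroupOf_iff_le_normalizer hUh.1).mpr hEU)
    (hcE hy) (coprime_of_forall fun t ht h1 h2 => ?_)
  exact hUh.2.2 t ht (fun hκ => (hτ t ht (h1.trans (orderOf_dvd_natCard Y hy))).2.2.2
    (haveI := Fact.mk ht; prankLE_one_of_kappa hG hM hκ)) h2

end CfsgLib.BG
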