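import Cfsg.Agent.Lib.BG.ZHat
import Cfsg.Agent.Lib.BG.StarCyclic
import Cfsg.Agent.Lib.BG.TypeFitting

/-!
# The data of type P
-/

set_option autoImplicit false
set_option linter.style.haveILetI false
set_option linter.unusedSectionVars false

namespace CfsgLib.BG

open Subgroup CfsgLib.PLocal CfsgLib.OddLocal
open scoped commutatorElement

universe u
variable {G : Type u} [Group G] [Finite G] {M K U : Subgroup G}

/-- A product of coprime subgroups filling `S` is a complement pair. -/
theorem isComplIn_of_coprime {A B S : Subgroup G} (hA : A ≤ S) (hB : B ≤ S)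
    (hS : S ≤ normalizer (A : Set G)) (hcop : (Nat.card A).Coprime (Nat.card B))
    (hcard : Nat.card S ∣ Nat.card A * Nat.card B) : Cfsg.IsComplIn A B S := by
  have hn : B ≤ normalizer (A : Set G) := hB.trans hS
  have hsup : A ⊔ B = S := eq_of_le_of_card_ge (sup_le hA hB)
    (Nat.le_of_dvd Nat.card_pos (by rw [card_sup_of_coprime hn hcop.symm]; exact hcard))
  refine ⟨hA, hB, CfsgLib.Coprime.inf_eq_bot_of_coprime hcop, fun s hs => ?_⟩
  rw [← hsup] at hs
  obtain ⟨a, ha, b, hb, rfl⟩ := (CfsgLib.Coprime.mem_sup_of_le_normalizer hn).mp hs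
  exact ⟨a, ha, b, hb, rfl⟩

/-- A subgroup of `Q D` meeting the normal subgroup `Q` trivially is nilpotent when `D` is. -/
theorem isNilpotent_of_inf_eq_bot {Q D S X : Subgroup G} (hc : Cfsg.IsComplIn Q D S)
    (hn : S ≤ normalizer (Q : Set G)) (hD : Group.IsNilpotent D) (hX : X ≤ S) (hXQ : X ⊓ Q = ⊥) :
    Group.IsNilpotent X := by
  haveI : (Q.subgroupOf S).Normal := (normal_subgroupOf_iff_le_normalizer hc.1).mpr hn
  set f := QuotientGroup.mk' (Q.subgroupOf S)
  haveI : Group.IsNilpotent (S ⧸ Q.subgroupOf S) := by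
    have h0 : Group.IsNilpotent (((Q.subgroupOf S) ⊔ (D.subgroupOf S)).map f) :=
      isNilpotent_map_sup f ((Subgroup.map_eq_bot_iff _).mpr (QuotientGroup.ker_mk' _).ge)
        ((Group.isNilpotent_congr (subgroupOfEquivOfLe hc.2.1)).mpr hD)
    rw [← subgroupOf_sup hc.1 hc.2.1, isComplIn_sup hc, subgroupOf_self,
      map_top_of_surjective f (QuotientGroup.mk'_surjective _)] at h0
    exact (Group.isNilpotent_congr Subgroup.topEquiv).mp h0
  refine Subgroup.isNilpotent_of_ker_le_center (f.comp (Subgroup.inclusion hX)) ?_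
  intro x hx
  rw [MonoidHom.mem_ker, MonoidHom.comp_apply, QuotientGroup.mk'_apply, QuotientGroup.eq_one_iff,
    mem_subgroupOf] at hx
  have : (x : G) ∈ X ⊓ Q := mem_inf.mpr ⟨x.2, hx⟩
  rw [hXQ, mem_bot] at this
  have hx1 : x = 1 := Subtype.ext this
  rw [hx1]
  exact one_mem _

variable (hG : Cfsg.IsMinSimpleOddOrder G) (hM : IsCoatom M)
include hG hM

/-- A `K`-invariant complement of `M_F` in `M'`. -/
theorem exists_derived_compl (h : Cfsg.IsSigmaDecomposition M K U) (hK : K ≠ ⊥) :
    ∃ V : Subgroup G, Cfsg.IsComplIn (Cfsg.fittingHallOf M) V ⁅M, M⁆ ∧ Group.IsNilpotent V ∧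
      K ≤ normalizer (V : Set G) ∧ (Cfsg.fittingHallOf M = Cfsg.sigmaCore M → V = U) ∧
      (Cfsg.fittingHallOf M ≠ Cfsg.sigmaCore M → V ≠ ⊥ ∧ normalizer (V : Set G) ≤ M) := by
  have hder := derived_eq_decomp hG hM h hK
  set S := Cfsg.sigmaCore M with hS
  by_cases hne : Cfsg.fittingHallOf M = S
  · have hUab := decomp_U_abelian hG hM h hK
    refine ⟨U, ?_, by open scoped IsMulCommutative in infer_instance, h.normal, fun _ => rfl,
      fun h' => absurd hne h'⟩
    rw [hne, hder]
    refine isComplIn_of_coprime le_sup_right le_sup_left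
      (sup_le (h.compl.1.trans (le_normalizer_sigmaCore M)) le_normalizer) ?_ ?_
    · exact (coprime_sigmaCore hG hM fun t ht htd => ((decomp_U_primes hG hM h).2 t ht htd).2).symm
    · rw [sup_comm, card_sup_of_coprime (h.compl.1.trans (le_normalizer_sigmaCore M))
        (coprime_sigmaCore hG hM fun t ht htd => ((decomp_U_primes hG hM h).2 t ht htd).2)]
  · obtain ⟨q, Q, D, hqp, hQF, hQn, -, -, -, hcompl, hD, -, -, -⟩ := exceptional_core hG hM h hne
    obtain ⟨hU, -⟩ := Cfsg.Agent.S1437.result hG M hM K U h hne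
    have hFS : Cfsg.fittingHallOf M ≤ S := CfsgLib.BG14.fittingHallOf_le_sigmaCore hG hM
    obtain ⟨V, hV, hKV⟩ := CfsgLib.Coprime.exists_invariant_hall
      (h.hall.1.trans (le_normalizer_sigmaCore M))
      (coprime_sigmaCore hG hM fun t ht hd => (h.hall.2.1 t ht hd).2.2.1)
      (isSolvable_of_le_max hG hM (sigmaCore_le M)) {t | ¬ t ∣ Nat.card (Cfsg.fittingHallOf M)}
    have hcop : (Nat.card (Cfsg.fittingHallOf M)).Coprime (Nat.card V) :=
      coprime_of_forall fun t ht h1 h2 => hV.2.1 t ht h2 h1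
    have hFc : (Nat.card (Cfsg.fittingHallOf M)).Coprime ((Cfsg.fittingHallOf M).relIndex S) :=
      (fittingHallOf_coprime_relIndex M).coprime_dvd_right
        ⟨_, (relIndex_mul_relIndex _ _ _ hFS (sigmaCore_le M)).symm⟩
    have hVc : Cfsg.IsComplIn (Cfsg.fittingHallOf M) V S := by
      refine isComplIn_of_coprime hFS hV.1 ((sigmaCore_le M).trans (le_normalizer_fittingHallOf M)) hcop ?_
      rw [← CfsgLib.Coprime.card_mul_relIndex hFS]
      refine mul_dvd_mul_left _ (Nat.Coprime.dvd_of_dvd_mul_right (n := V.relIndex S) ?_ ?_)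
      · refine coprime_of_forall fun t ht h1 h2 => ?_
        by_cases htF : t ∣ Nat.card (Cfsg.fittingHallOf M)
        · exact ht.ne_one (Nat.eq_one_of_dvd_coprimes hFc htF h1)
        · exact hV.2.2 t ht htF h2
      · rw [CfsgLib.Coprime.card_mul_relIndex hV.1, ← CfsgLib.Coprime.card_mul_relIndex hFS]
        exact dvd_mul_left _ _
    have hVn : Group.IsNilpotent V := isNilpotent_of_inf_eq_bot hcompl ((sigmaCore_le M).trans hQn) hD hV.1
      (le_bot_iff.mp ((inf_le_inf_left _ hQF).trans
        (CfsgLib.Coprime.inf_eq_bot_of_coprime hcop.symm).le))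
    have hV1 : V ≠ ⊥ := fun e => hne (by
      have := isComplIn_sup hVc
      rwa [e, sup_bot_eq] at this)
    refine ⟨V, ?_, hVn, hKV, fun h' => absurd h' hne, fun _ => ⟨hV1, ?_⟩⟩
    · rw [hder, hU, bot_sup_eq]
      exact hVc
    · obtain ⟨r, hr, hrd⟩ := Nat.exists_prime_and_dvd (fun e => hV1 (Subgroup.card_eq_one.mp e))
      haveI : Fact r.Prime := ⟨hr⟩
      have hrσ : r ∈ Cfsg.sigma M := mem_sigma_of_dvd_sigmaCore hr (hrd.trans (card_dvd_of_le hV.1))
      obtain ⟨R, hR, -⟩ := exists_sylowIn_le (IsPGroup.of_bot (p := r) (G := G)) (bot_le (a := V))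
      have hRM : SylowIn r R M := by
        refine ⟨hR.1.trans (hV.1.trans (sigmaCore_le M)), hR.2.1, fun hd => ?_⟩
        rw [← relIndex_mul_relIndex _ _ _ hR.1 (hV.1.trans (sigmaCore_le M)),
          ← relIndex_mul_relIndex _ _ _ hV.1 (sigmaCore_le M)] at hd
        rcases hr.dvd_mul.mp hd with h' | h'
        · exact hR.2.2 h'
        rcases hr.dvd_mul.mp h' with h'' | h''
        · exact hV.2.2 r hr (fun hF => hV.2.1 r hr hrd hF) h''
        · exact (sigmaCore_hall hG hM).2.2 r hr hrσ h''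
      refine le_trans (fun g hg => conjMap_eq_self_iff.mp ?_) (normalizer_sylow_le hrσ hRM)
      have hVR : V ≤ normalizer (R : Set G) := le_normalizer_of_hall_nilpotent hG hVn (π := {r})
        ⟨hR.1, fun t ht hd => prime_dvd_pgroup_card hR.2.1 ht hd, fun t ht htr => by
          rw [Set.mem_singleton_iff] at htr; subst htr; exact hR.2.2⟩
      refine eq_of_le_of_card_ge (fun x hx => ?_) (by rw [card_conjMap])
      have hxV : x ∈ V := by
        have h' := conjMap_mono (g := g) hR.1 hx
        rwa [conjMap_eq_self_iff.mpr hg] at h'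
      refine CfsgLib.Solvable.mem_of_coprime_relIndex
        ((normal_subgroupOf_iff_le_normalizer hR.1).mpr hVR) hxV (coprime_of_forall fun t ht h1 h2 => ?_)
      obtain rfl : t = r := prime_dvd_pgroup_card (hR.2.1.map (MulAut.conj g).toMonoidHom) ht
        (h1.trans ((conjMap g R).orderOf_dvd_natCard hx))
      exact hR.2.2 h2

/-- `M` is of type P. -/
theorem isTypePWith (h : Cfsg.IsSigmaDecomposition M K U) (hK : K ≠ ⊥) {V : Subgroup G}
    (hV : Cfsg.IsComplIn (Cfsg.fittingHallOf M) V ⁅M, M⁆) (hVn : Group.IsNilpotent V)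
    (hKV : K ≤ normalizer (V : Set G)) :
    Cfsg.IsTypePWith M K V (Cfsg.sigmaCore M ⊓ centralizer (K : Set G)) := by
  haveI := h.cyclic
  obtain ⟨hsc, hsF, hnc⟩ := star_cyclic hG hM h hK
  have hder := derived_eq_decomp hG hM h hK
  obtain ⟨-, hU⟩ := decomp_U_primes hG hM h
  have hcopU : (Nat.card U).Coprime (Nat.card (Cfsg.sigmaCore M)) :=
    coprime_sigmaCore hG hM fun t ht htd => (hU t ht htd).2
  have hcopD : (Nat.card ↥(U ⊔ Cfsg.sigmaCore M)).Coprime (Nat.card K) := by
    rw [sup_comm, card_sup_of_coprime (h.compl.1.trans (le_normalizer_sigmaCore M)) hcopU]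
    exact Nat.Coprime.mul_left (coprime_sigmaCore hG hM fun t ht hd => (h.hall.2.1 t ht hd).2.2.1).symm
      (coprime_of_forall fun t ht h1 h2 => (hU t ht h1).1 (h.hall.2.1 t ht h2))
  have hcompl : Cfsg.IsComplIn ⁅M, M⁆ K M := by
    rw [hder]
    refine isComplIn_of_coprime (sup_le h.compl.1 (sigmaCore_le M)) h.hall.1 (decomp_normal hG hM h) hcopD ?_
    conv_lhs => rw [← decomp_sup_eq hG hM h]
    rw [card_sup_of_coprime (decomp_K_le_normalizer hG hM h) hcopD.symm]
  have hcomm : ∀ a ∈ K, ∀ b ∈ Cfsg.sigmaCore M ⊓ centralizer (K : Set G), a * b = b * a :=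
    fun a ha b hb => mem_centralizer_iff.mp (mem_inf.mp hb).2 a ha
  refine
    { W₁_ne := hK
      W₁_cyclic := h.cyclic
      W₁_hall := coprime_of_forall fun t ht h1 h2 => h.hall.2.2 t ht (h.hall.2.1 t ht h1) h2
      W₁_compl := hcompl
      U_nilpotent := hVn
      U_normal := hKV
      U_compl := hV
      H_not_cyclic := hnc
      derived_two_le := ?_
      fitting_eq := ?_
      fitting_le := fittingOf_le_derived hG hM h hK
      W₂_le := le_inf hsF (star_le_derived2 hG hM h hK)
      W₂_centralizer := ?_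
      selfNormalizing := ?_ }
  · rw [sup_comm, ← fittingOf_eq hG hM h]; exact derived2_le_fittingOf hG hM h
  · rw [sup_comm, ← fittingOf_eq hG hM h]
  · intro x hx hx1
    refine le_antisymm (fun y hy => ?_) (le_inf (inf_le_left.trans (sigmaCore_le_derived hG hM))
      (inf_le_right.trans (centralizer_le (Set.singleton_subset_iff.mpr hx))))
    obtain ⟨hyD, hyx⟩ := mem_inf.mp hy
    have hy' : y ∈ K ⊔ (Cfsg.sigmaCore M ⊓ centralizer (K : Set G)) := by
      rw [← (Cfsg.Agent.S1354.result hG M hM K h.cyclic h.hall).2 hK x hx hx1]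
      exact mem_inf.mpr ⟨hcompl.1 hyD, hyx⟩
    rw [sup_comm] at hy'
    obtain ⟨c, hc, k, hk, rfl⟩ := (CfsgLib.Coprime.mem_sup_of_le_normalizer
      ((le_centralizer_iff.mp inf_le_right).trans (centralizer_le_normalizer _))).mp hy'
    have hk1 : k ∈ ⁅M, M⁆ ⊓ K := mem_inf.mpr ⟨(mul_mem_cancel_left
      (sigmaCore_le_derived hG hM (mem_inf.mp hc).1)).mp hyD, hk⟩
    rw [hcompl.2.2.1, mem_bot] at hk1
    rw [hk1, mul_one]
    exact hc
  · refine ⟨hK, (Cfsg.Agent.S1354.result hG M hM K h.cyclic h.hall).1,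
      CfsgLib.Coprime.inf_eq_bot_of_coprime (coprime_K_star hG hM h), hcomm, ?_, fun X hX hne => ?_⟩
    · have hn : K ≤ normalizer ((Cfsg.sigmaCore M ⊓ centralizer (K : Set G) : Subgroup G) : Set G) :=
        (le_centralizer_iff.mp inf_le_right).trans (centralizer_le_normalizer _)
      obtain ⟨k, hk⟩ := IsCyclic.exists_generator (α := K)
      haveI := hsc
      obtain ⟨c, hc⟩ := IsCyclic.exists_generator (α := ↥(Cfsg.sigmaCore M ⊓ centralizer (K : Set G)))
      have hkc : Commute (k : G) (c : G) := hcomm _ k.2 _ c.2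
      refine isCyclic_of_orderOf_eq_card
        ⟨(k : G) * c, mul_mem (mem_sup_left k.2) (mem_sup_right c.2)⟩ ?_
      rw [Subgroup.orderOf_mk, sup_comm, card_sup_of_coprime hn (coprime_K_star hG hM h),
        hkc.orderOf_mul_eq_mul_orderOf_of_coprime, Subgroup.orderOf_coe, Subgroup.orderOf_coe,
        orderOf_eq_card_of_forall_mem_zpowers hk, orderOf_eq_card_of_forall_mem_zpowers hc, mul_comm]
      rw [Subgroup.orderOf_coe, Subgroup.orderOf_coe, orderOf_eq_card_of_forall_mem_zpowers hk,
        orderOf_eq_card_of_forall_mem_zpowers hc]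
      exact coprime_K_star hG hM h
    · refine le_antisymm (normalizer_le_of_subset_zHat hG hM h hK hX hne) fun g hg => ?_
      refine mem_set_normalizer_iff.mpr fun x => ?_
      have hab : ∀ y : G, y ∈ K ⊔ (Cfsg.sigmaCore M ⊓ centralizer (K : Set G)) →
          g * y * g⁻¹ = y := by
        intro y hy
        haveI := hsc
        have hKab : IsMulCommutative K := IsCyclic.isMulCommutative
        have hSab : IsMulCommutative ↥(Cfsg.sigmaCore M ⊓ centralizer (K : Set G)) :=
          IsCyclic.isMulCommutative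
        have hW : K ⊔ (Cfsg.sigmaCore M ⊓ centralizer (K : Set G)) ≤
            centralizer ((K ⊔ (Cfsg.sigmaCore M ⊓ centralizer (K : Set G)) : Subgroup G) : Set G) := by
          refine sup_le (le_centralizer_iff.mp (sup_le (le_centralizer_iff_isMulCommutative.mpr hKab)
            inf_le_right)) (le_centralizer_iff.mp (sup_le (le_centralizer_iff.mp inf_le_right)
            (le_centralizer_iff_isMulCommutative.mpr hSab)))
        have := mem_centralizer_iff.mp (hW hy) g hg
        rw [this]; group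
      constructor
      · intro hx'
        rw [hab x (hX hx').1]; exact hx'
      · intro hx'
        have h1 := hab _ (hX hx').1
        have h2 : g * x * g⁻¹ = x := by
          calc g * x * g⁻¹ = g⁻¹ * (g * (g * x * g⁻¹) * g⁻¹) * g := by group
            _ = g⁻¹ * (g * x * g⁻¹) * g := by rw [h1]
            _ = x := by group
        rwa [h2] at hx'

end CfsgLib.BG
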