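import Cfsg.Agent.Lib.BG.Types
import Cfsg.Agent.Lib.BG.TypeTI

/-!
# The alternatives for Type V
-/

set_option autoImplicit false
set_option linter.style.haveILetI false
set_option linter.unusedSectionVars false

namespace CfsgLib.BG

open Subgroup CfsgLib.PLocal CfsgLib.OddLocal
open scoped commutatorElement

universe u
variable {G : Type u} [Group G] [Finite G] {M K U : Subgroup G}
variable (hG : Cfsg.IsMinSimpleOddOrder G) (hM : IsCoatom M)
include hG hM

/-- The alternatives in the definition of Type V. -/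
theorem typeV_alternatives (h : Cfsg.IsSigmaDecomposition M K U) (hK : K ≠ ⊥) (hU : U = ⊥)
    (heq : Cfsg.fittingHallOf M = Cfsg.sigmaCore M) :
    Cfsg.IsTISubset (Cfsg.fittingHallOf M : Set G) ∨
      (∃ p : ℕ, p.Prime ∧ p ∣ Nat.card (Cfsg.fittingHallOf M) ∧ Nat.card K ∣ p - 1 ∧
        IsCyclic (Cfsg.pPrimeCore p (Cfsg.fittingHallOf M))) ∨
      (∃ p : ℕ, p.Prime ∧ p ∣ Nat.card (Cfsg.fittingHallOf M) ∧
        Nat.card (Cfsg.pCore p (Cfsg.fittingHallOf M)) = p ^ 3 ∧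
        Nat.card K ∣ p + 1 ∧ IsCyclic (Cfsg.pPrimeCore p (Cfsg.fittingHallOf M))) := by
  by_cases hTI : Cfsg.IsTISubset (Cfsg.fittingHallOf M : Set G)
  · exact Or.inl hTI
  right
  obtain ⟨g, hg, hX⟩ := exists_inter_of_not_TI hG hM hTI
  obtain ⟨⟨hXF, -⟩, -, hcase⟩ := CfsgLib.BG14.nonTI_structure hG M hM K U h g hg hX
  have hcardM : Nat.card M = Nat.card (Cfsg.sigmaCore M) * Nat.card K := by
    rw [card_eq_mul_of_isComplIn h.compl, hU, Subgroup.card_bot, one_mul, sup_comm,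
      card_sup_of_coprime (h.hall.1.trans (le_normalizer_sigmaCore M))
        (coprime_sigmaCore hG hM fun t ht hd => (h.hall.2.1 t ht hd).2.2.1)]
  have hidx : (Cfsg.fittingHallOf M).relIndex M = Nat.card K := by
    have h1 := CfsgLib.Coprime.card_mul_relIndex (fittingHallOf_le M)
    rw [hcardM, heq] at h1
    rw [heq]
    exact Nat.eq_of_mul_eq_mul_left Nat.card_pos h1
  rcases hcase with ⟨hK', -⟩ | ⟨p, hp, hcard, -, -, -, hcyc, hexp⟩ |
      ⟨p, hp, hcard, -, -, hcyc, hp3, -, -, -, hdvd⟩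
  · exact absurd hK' hK
  · have hpd : p ∣ Nat.card (Cfsg.fittingHallOf M) := hcard ▸ card_dvd_of_le hXF
    refine Or.inl ⟨p, hp, hpd, ?_, hcyc⟩
    haveI := h.cyclic
    rw [← IsCyclic.exponent_eq_card]
    refine dvd_trans ?_ (hexp p hp hpd)
    have hinj : Function.Injective
        ((QuotientGroup.mk' (Cfsg.fittingHall ↥M)).comp (Subgroup.inclusion h.hall.1)) := by
      rw [injective_iff_map_eq_one]
      intro k hk
      rw [MonoidHom.comp_apply, QuotientGroup.mk'_apply, QuotientGroup.eq_one_iff] at hk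
      have h1 : (k : G) ∈ K ⊓ Cfsg.sigmaCore M := mem_inf.mpr ⟨k.2, heq ▸ ⟨_, hk, rfl⟩⟩
      rw [inf_sigmaCore_eq_bot hG hM fun t ht hd => (h.hall.2.1 t ht hd).2.2.1, mem_bot] at h1
      exact Subtype.ext h1
    exact Monoid.exponent_dvd_of_monoidHom _ hinj
  · exact Or.inr ⟨p, hp, hcard ▸ card_dvd_of_le hXF, hp3, hidx ▸ hdvd, hcyc⟩

end CfsgLib.BG
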