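import Cfsg.Agent.Lib.BG.TypeFrobenius
import Cfsg.Agent.Lib.BG.TypeTI
import Cfsg.Agent.Lib.BG.Types
import Cfsg.Agent.Lib.BG.Partner
import Cfsg.Agent.Lib.Solvable.PCore
import Cfsg.Agent.S1540

/-!
# A maximal subgroup without `κ`-primes is of Type I
-/

set_option autoImplicit false
set_option linter.style.haveILetI false
set_option linter.unusedSectionVars false

namespace CfsgLib.BG

open Subgroup CfsgLib.PLocal CfsgLib.OddLocal CfsgLib.BG14
open scoped commutatorElement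

universe u
variable {G : Type u} [Group G] [Finite G] {M : Subgroup G}
variable (hG : Cfsg.IsMinSimpleOddOrder G) (hM : IsCoatom M)
include hG hM

/-- Without `κ`-primes `M` is a Frobenius group with kernel `M_σ`. -/
theorem frobenius_of_kappa_empty (hκ : Cfsg.kappa M = ∅) :
    Cfsg.fittingHallOf M = Cfsg.sigmaCore M ∧ ∀ x ∈ Cfsg.fittingHallOf M, x ≠ 1 →
      M ⊓ centralizer ({x} : Set G) ≤ Cfsg.fittingHallOf M := by
  have heq : Cfsg.fittingHallOf M = Cfsg.sigmaCore M :=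
    CfsgLib.BG14.fittingHallOf_eq_sigmaCore hG hM (nilpotent_of_kappa_empty hG hM hκ)
  refine ⟨heq, ?_⟩
  rw [heq]
  intro x hx hx1 g hg
  refine CfsgLib.BG14.mem_sigmaCore_of hG hM hg.1 fun r hr hd => ?_
  by_contra hσ
  haveI := Fact.mk hr
  have hi := exists_pow_orderOf_eq hd
  set k := g ^ (orderOf g / r)
  have hkM : k ∈ M := M.pow_mem hg.1 _
  have hfix : Cfsg.sigmaCore M ⊓ centralizer ({k} : Set G) ≠ ⊥ := fun e => hx1 (mem_bot.mp (e ▸
    ⟨hx, mem_centralizer_singleton_iff.mpr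
      ((show Commute g x from mem_centralizer_singleton_iff.mp hg.2).pow_left _).eq.symm⟩))
  by_cases hrk : Cfsg.PRankLE r 1 M
  · have h := mem_kappa_of_fix hG hM hkM (hi.symm ▸ hr) (hi.symm ▸ hσ) (hi.symm ▸ hrk) hfix
    rw [hκ] at h
    exact h
  · have h : r ∈ Cfsg.tau2 M := ⟨hr, hσ, prankLE_two_of_not_sigma hG hM hσ, hrk⟩
    rw [CfsgLib.PF.NonFrob.no_tau2_of_kappa_empty hG hM hκ] at h
    exact h

/-- Without `κ`-primes `M` has Frobenius type. -/
theorem isOfTypeF_of_kappa_empty (hκ : Cfsg.kappa M = ∅) : Cfsg.IsOfTypeF ↥M := by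
  obtain ⟨heq, hfrob⟩ := frobenius_of_kappa_empty hG hM hκ
  obtain ⟨K, U, h⟩ := exists_sigma_decomposition hG hM
  have hK : K = ⊥ := eq_bot_of_card_eq K (Nat.eq_one_iff_not_exists_prime_dvd.mpr
    fun r hr hd => by simpa [hκ] using h.hall.2.1 r hr hd)
  have hU := decomp_U_ne_bot hG hM h hK
  have hc := h.compl
  rw [hK, bot_sup_eq] at hc
  refine isOfTypeF_of (isSolvable_of_le_max hG hM le_rfl)
    (hG.1.of_dvd_nat (card_subgroup_dvd_card M)) heq (sigmaCore_ne_bot hG hM)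
    (V := U) ⟨hc.2.1, hc.1, inf_comm U _ ▸ hc.2.2.1, fun m hm => ?_⟩ hU
    ⟨⊥, bot_le, fun u _ => mem_normalizer_iff.mpr fun y => by simp, inferInstance, fun x hx hx1 => ?_⟩ ⟨U, le_rfl, rfl, fun u hu hu1 => ?_⟩
  · obtain ⟨a, ha, b, hb, hab⟩ := hc.2.2.2 m⁻¹ (inv_mem hm)
    exact ⟨b⁻¹, inv_mem hb, a⁻¹, inv_mem ha, by rw [← mul_inv_rev, ← hab, inv_inv]⟩
  · rw [← hc.2.2.1]
    exact le_inf inf_le_left ((inf_le_inf_right _ hc.1).trans (heq ▸ hfrob x (heq.symm ▸ hx) hx1))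
  · rw [eq_bot_iff]
    intro x hx
    by_contra hx1
    refine hu1 (mem_bot.mp (hc.2.2.1 ▸ (mem_inf.mpr ⟨hu, ?_⟩)))
    refine heq ▸ hfrob x (heq.symm ▸ (mem_inf.mp hx).1) hx1 (mem_inf.mpr ⟨hc.1 hu, ?_⟩)
    exact mem_centralizer_singleton_iff.mpr (mem_centralizer_singleton_iff.mp (mem_inf.mp hx).2).symm

/-- In the Frobenius case `O_{p'}(M)` is `O_{p'}(M_F)`. -/
theorem isCyclic_pPrimeCore_of_kappa_empty (hκ : Cfsg.kappa M = ∅) {p : ℕ} (hp : p.Prime)
    (hnab : ¬ IsMulCommutative (Cfsg.pCore p ↥(Cfsg.fittingHallOf M)))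
    (hcyc : IsCyclic (Cfsg.pPrimeCore p ↥(Cfsg.fittingHallOf M))) :
    IsCyclic (Cfsg.pPrimeCore p ↥M) := by
  haveI := Fact.mk hp
  obtain ⟨-, hfrob⟩ := frobenius_of_kappa_empty hG hM hκ
  set Hs := Cfsg.fittingHall ↥M with hHs
  haveI : Hs.Normal := by
    rw [hHs, ← subgroupOf_fittingHallOf M]
    exact normal_subgroupOf_iff_le_normalizer (fittingHallOf_le M) |>.mpr (le_normalizer_fittingHallOf M)
  let e : ↥Hs ≃* ↥(Cfsg.fittingHallOf M) := Hs.equivMapOfInjective M.subtype M.subtype_injective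
  have hP : Cfsg.pCore p ↥Hs ≠ ⊥ := by
    intro h
    refine hnab ?_
    rw [← CfsgLib.Solvable.map_pCore_equiv e p, h, Subgroup.map_bot]
    infer_instance
  obtain ⟨y, hy, hy1⟩ := (Cfsg.pCore p ↥Hs).ne_bot_iff_exists_ne_one.mp hP |>.elim
    fun y h => (⟨y.1, y.2, fun e => h (Subtype.ext e)⟩ : ∃ y, y ∈ Cfsg.pCore p ↥Hs ∧ y ≠ 1)
  haveI := CfsgLib.Solvable.pCore_normal p ↥M
  haveI := CfsgLib.Solvable.pPrimeCore_normal p ↥M
  have hdis : Disjoint (Cfsg.pPrimeCore p ↥M) (Cfsg.pCore p ↥M) := by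
    rw [disjoint_iff]
    exact disjoint_iff.mp (Subgroup.disjoint_of_coprime_natCard (by
      obtain ⟨n, hn⟩ := (CfsgLib.Solvable.pCore_isPGroup (G := ↥M) p).exists_card_eq
      rw [hn]
      exact (CfsgLib.Solvable.pPrimeCore_coprime p).pow_right n))
  have hle : Cfsg.pPrimeCore p ↥M ≤ Hs := by
    intro x hx
    have hcom : Commute x (y : ↥M) := Subgroup.commute_of_normal_of_disjoint _ _ inferInstance
      inferInstance hdis x (y : ↥M) hx (CfsgLib.Solvable.map_pCore_le p Hs ⟨y, hy, rfl⟩)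
    have hmem := hfrob ((y : ↥M) : G) ⟨(y : ↥M), y.2, rfl⟩
      (fun e => hy1 (Subtype.ext (Subtype.ext e))) (mem_inf.mpr ⟨x.2,
        mem_centralizer_singleton_iff.mpr (congrArg Subtype.val hcom.eq)⟩)
    obtain ⟨z, hz, hzx⟩ := hmem
    exact (Subtype.ext hzx : z = x) ▸ hz
  have hle' : (Cfsg.pPrimeCore p ↥M).subgroupOf Hs ≤ Cfsg.pPrimeCore p ↥Hs :=
    CfsgLib.Solvable.le_pPrimeCore inferInstance (by
      rw [Nat.card_congr (subgroupOfEquivOfLe hle).toEquiv]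
      exact CfsgLib.Solvable.pPrimeCore_coprime p)
  haveI : IsCyclic (Cfsg.pPrimeCore p ↥Hs) := by
    rw [← CfsgLib.Solvable.map_pPrimeCore_equiv e p] at hcyc
    haveI := hcyc
    exact isCyclic_of_surjective
      ((Cfsg.pPrimeCore p ↥Hs).equivMapOfInjective e.toMonoidHom e.injective).symm
      (MulEquiv.surjective _)
  haveI : IsCyclic ((Cfsg.pPrimeCore p ↥M).subgroupOf Hs) := isCyclic_of_le hle'
  exact isCyclic_of_surjective (subgroupOfEquivOfLe hle) (MulEquiv.surjective _)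

/-- A maximal subgroup without `κ`-primes is of Type I. -/
theorem isOfTypeI_of_kappa_empty (hκ : Cfsg.kappa M = ∅) : Cfsg.IsOfTypeI M := by
  refine ⟨isOfTypeF_of_kappa_empty hG hM hκ, ?_⟩
  by_cases hTI : Cfsg.IsTISubset (Cfsg.fittingHallOf M : Set G)
  · exact Or.inl hTI
  obtain ⟨g, hg, hX⟩ := exists_inter_of_not_TI hG hM hTI
  obtain ⟨K, U, h⟩ := exists_sigma_decomposition hG hM
  have hK : K = ⊥ := eq_bot_of_card_eq K (Nat.eq_one_iff_not_exists_prime_dvd.mpr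
    fun r hr hd => by simpa [hκ] using h.hall.2.1 r hr hd)
  obtain ⟨⟨hXH, -⟩, -, h1 | ⟨p, hp, hcard, -, -, hnab, hcyc, hexp⟩ |
      ⟨_, -, -, -, -, -, -, -, hK', -⟩⟩ :=
    CfsgLib.BG14.nonTI_structure hG M hM K U h g hg hX
  · exact Or.inr (Or.inl h1.2)
  · exact Or.inr (Or.inr ⟨hexp, p, hp, hcard ▸ card_dvd_of_le hXH,
      isCyclic_pPrimeCore_of_kappa_empty hG hM hκ hp hnab hcyc⟩)
  · exact absurd hK hK'

/-- The easy direction of the characterisation of Type I. -/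
theorem isOfTypeI_of_decomp {K U : Subgroup G} (h : Cfsg.IsSigmaDecomposition M K U) (hK : K = ⊥) :
    Cfsg.IsOfTypeI M := by
  refine isOfTypeI_of_kappa_empty hG hM (Set.eq_empty_iff_forall_notMem.mpr fun r hr => ?_)
  refine h.hall.2.2 r hr.1 hr ?_
  rw [hK, relIndex_bot_left]
  exact hr.2.1

end CfsgLib.BG
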