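import Cfsg.Agent.Lib.BG.Tau2Facts
import Cfsg.Agent.Lib.BG.SquareLines

/-!
# Intersections with other maximal subgroups at primes of `σ(M)`
-/

set_option autoImplicit false
set_option linter.style.haveILetI false
set_option linter.unusedSectionVars false

namespace CfsgLib.BG

open Subgroup CfsgLib.PLocal CfsgLib.OddLocal

universe u
variable {G : Type u} [Group G] [Finite G] {q : ℕ} [hq : Fact q.Prime]

theorem normalizer_le_of_le_cyclic {S X : Subgroup G} (hS : IsCyclic S) (hXS : X ≤ S) :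
    normalizer (S : Set G) ≤ normalizer (X : Set G) := by
  intro g hg
  rw [← conjMap_eq_self_iff]
  haveI := hS
  classical
  letI := Fintype.ofFinite S
  have hle : conjMap g X ≤ S := (conjMap_mono hXS).trans (conjMap_eq_self_iff.mpr hg).le
  set n := Nat.card X with hn
  let T : Finset S := Finset.univ.filter fun z => z ^ n = 1
  have hT : T.card ≤ n := IsCyclic.card_pow_eq_one_le Nat.card_pos
  have key : ∀ Y : Subgroup G, Y ≤ S → Nat.card Y = n → ∀ z : S, z ∈ T ↔ (z : G) ∈ Y := by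
    intro Y hY hYn
    let U : Finset S := Finset.univ.filter fun z => (z : G) ∈ Y
    have hUT : U ⊆ T := fun z hz => by
      simp only [T, U, Finset.mem_filter, Finset.mem_univ, true_and] at hz ⊢
      refine Subtype.ext ?_
      have := congrArg Subtype.val (pow_card_eq_one' (x := (⟨_, hz⟩ : Y)))
      rw [hYn] at this
      simpa using this
    have hUc : U.card = n := by
      rw [← hYn, ← CfsgLib.Coprime.card_subgroupOf hY, Nat.card_eq_fintype_card, Fintype.card_subtype]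
      simp only [U, mem_subgroupOf]
    have h2 := Finset.eq_of_subset_of_card_le hUT (hUc.symm ▸ hT)
    intro z
    rw [← h2]
    simp [U]
  ext z
  constructor
  · intro hz
    exact (key X hXS rfl ⟨z, hle hz⟩).mp ((key _ hle (card_conjMap g X) ⟨z, hle hz⟩).mpr hz)
  · intro hz
    exact (key _ hle (card_conjMap g X) ⟨z, hXS hz⟩).mp ((key X hXS rfl ⟨z, hXS hz⟩).mpr hz)

variable {M L : Subgroup G}

theorem sylow_of_intersection (hG : Cfsg.IsMinSimpleOddOrder G) (hM : IsCoatom M) (hL : IsCoatom L)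
    (hne : L ≠ M) (hqσ : q ∈ Cfsg.sigma M) {X S : Subgroup G} (hX1 : X ≠ ⊥)
    (hNX : normalizer (X : Set G) ≤ L) (hS : SylowIn q S (M ⊓ L)) (hXS : X ≤ S) :
    (∀ g : G, L ≠ conjMap g M) ∧ normalizer (S : Set G) ≤ M ∧ ¬ q ∣ S.relIndex L := by
  have hSM : S ≤ M := hS.1.trans inf_le_left
  have hSL : S ≤ L := hS.1.trans inf_le_right
  obtain ⟨T, hT, hST⟩ := exists_sylowIn_le hS.2.1 hSM
  have hNS : normalizer (S : Set G) ≤ M := by
    by_cases hc : IsCyclic S
    · have hNL := (normalizer_le_of_le_cyclic hc hXS).trans hNX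
      have heq : S = T := by
        by_contra hST'
        obtain ⟨x, hx, hxn, hxS⟩ := CfsgLib.Transfer.exists_mem_normalizer_not_mem hT.2.1
          (lt_of_le_of_ne hST hST')
        refine hxS (sylow_le_of_pGroup_ge hS hT.2.1 hST ▸ mem_inf.mpr ⟨hx, mem_inf.mpr ⟨hT.1 hx, hNL hxn⟩⟩)
      exact normalizer_sylow_le hqσ (heq ▸ hT)
    · exact normalizer_le_of_not_isCyclic hG hM hqσ hS.2.1 hSM hc
  obtain ⟨U, hU, hSU⟩ := exists_sylowIn_le hS.2.1 hSL
  have hUS : S = U := by
    by_contra hne'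
    obtain ⟨x, hx, hxn, hxS⟩ := CfsgLib.Transfer.exists_mem_normalizer_not_mem hU.2.1
      (lt_of_le_of_ne hSU hne')
    exact hxS (sylow_le_of_pGroup_ge hS hU.2.1 hSU ▸ mem_inf.mpr ⟨hx, mem_inf.mpr ⟨hNS hxn, hU.1 hx⟩⟩)
  subst hUS
  refine ⟨fun g hg => hne ?_, hNS, hU.2.2⟩
  -- `S` would be a Sylow subgroup of `G`
  obtain ⟨T₀, hT₀, -⟩ := exists_sylowIn_le (IsPGroup.of_bot (p := q) (G := G)) (bot_le (a := M))
  have hT₀top := sylowIn_top hqσ hT₀
  obtain ⟨l, hl, hlT⟩ := hU.exists_conj_le (hT₀.2.1.map (MulAut.conj g).toMonoidHom)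
    (hg ▸ conjMap_mono hT₀.1)
  obtain ⟨k, -, hkS⟩ := hT₀top.exists_conj_le hS.2.1 le_top
  have hcard : Nat.card S = Nat.card T₀ := by
    have h1 := card_le_of_le hkS
    have h2 := card_le_of_le hlT
    rw [card_conjMap] at h1 h2
    have h3 : Nat.card ↥(T₀.map (MulAut.conj g).toMonoidHom) = Nat.card T₀ :=
      card_map_of_injective (MulAut.conj g).injective
    rw [h3] at h2
    omega
  have hSM' : SylowIn q S M := by
    refine ⟨hSM, hS.2.1, fun hd => hT₀.2.2 ?_⟩
    have h1 := CfsgLib.Coprime.card_mul_relIndex hSM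
    rw [hcard, ← CfsgLib.Coprime.card_mul_relIndex hT₀.1] at h1
    rwa [← Nat.eq_of_mul_eq_mul_left Nat.card_pos h1]
  have hgS : conjMap g⁻¹ S ≤ M := by
    have := conjMap_mono (g := g⁻¹) hSL
    rwa [hg, conjMap_inv_conjMap] at this
  have hgS' : SylowIn q (conjMap g⁻¹ S) M := by
    refine ⟨hgS, hS.2.1.map _, fun hd => hSM'.2.2 ?_⟩
    have h1 := CfsgLib.Coprime.card_mul_relIndex hgS
    rw [card_conjMap, ← CfsgLib.Coprime.card_mul_relIndex hSM] at h1
    rwa [← Nat.eq_of_mul_eq_mul_left Nat.card_pos h1]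
  obtain ⟨m, hm, hme⟩ := hSM'.exists_conj_eq hgS'
  rw [conjMap_conjMap, conjMap_eq_self_iff] at hme
  have h4 : g⁻¹ ∈ M := by
    have := mul_mem (inv_mem hm) (hNS hme)
    rwa [inv_mul_cancel_left] at this
  rw [hg, conjMap_eq_self_iff.mpr (le_normalizer (inv_mem_iff.mp h4))]

end CfsgLib.BG
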