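import Cfsg.Agent.Lib.BG.PrimeAction
import Cfsg.Agent.Lib.BG.SigmaIntersection

/-!
# Elements acting on `σ(M)`-groups inside another maximal subgroup
-/

set_option autoImplicit false
set_option linter.style.haveILetI false
set_option linter.unusedSectionVars false

namespace CfsgLib.BG

open Subgroup CfsgLib.PLocal CfsgLib.OddLocal
open scoped commutatorElement

universe u
variable {G : Type u} [Group G] [Finite G] {M H L E : Subgroup G}
variable (hG : Cfsg.IsMinSimpleOddOrder G) (hM : IsCoatom M)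
include hG hM

/-- An element of prime order `s` acting nontrivially on a `σ(M)`-group of `H` has `s ∈ τ₁(H)`. -/
theorem tau1_of_act (hH : IsCoatom H) (hnc : ∀ g : G, conjMap g H ≠ M) {s q : ℕ}
    [hs : Fact s.Prime] [hq : Fact q.Prime] (hqM : q ∈ Cfsg.sigma M) (hsq : s ≠ q) {X Q : Subgroup G}
    (hX : Nat.card X = s) (hXH : X ≤ H) (hQ : IsPGroup q Q) (hQH : Q ≤ H)
    (hn : X ≤ normalizer (Q : Set G)) (hQX : ⁅Q, X⁆ = Q) (hQ1 : Q ≠ ⊥) : s ∈ Cfsg.tau1 H := by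
  have hXp := isPGroup_of_card_prime hX
  have hX1 := ne_bot_of_card_prime hX
  have hsσ : s ∉ Cfsg.sigma H := fun h =>
    false_of_sigma_act hG hM hH hnc h hqM hsq hXp hXH hQ hQH hn hQX hQ1
  have hr : Cfsg.PRankLE s 1 H := by
    by_contra hr
    obtain ⟨T, hT, hXT⟩ := exists_sylowIn_le hXp hXH
    obtain ⟨A', hA'H, hA'⟩ := exists_sq_le_of_not_prankLE le_rfl hr
    obtain ⟨c, -, hcT⟩ := hT.exists_conj_le hA'.isPGroup hA'H
    obtain ⟨A₀, h⟩ := exists_exc hG hH hsσ (hA'.conjMap c) (hcT.trans hT.1)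
    obtain ⟨-, hΩ, -⟩ := h.sylow_abelian hG hH hT hcT
    have hXA : X ≤ conjMap c A' := fun a ha => (hΩ a (hXT ha)).mp (by
      rw [← orderOf_dvd_iff_pow_eq_one, ← hX]
      exact orderOf_dvd_natCard X ha)
    obtain ⟨F, hF, hAF⟩ := exists_compl_ge hG hH h.le
      fun t ht hd => (prime_dvd_pgroup_card h.sq.isPGroup ht hd) ▸ hsσ
    refine false_of_normal_act hG hM hH hnc (h.nilpotent hG hH) hqM hsq h.sq.isPGroup h.le hXA ?_
      hQ hQH hQX hQ1
    have h1 : F ≤ normalizer ((Cfsg.sigmaCore H ⊔ conjMap c A' : Subgroup G) : Set G) :=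
      CfsgLib.Comp.le_normalizer_sup (hF.1.trans (le_normalizer_sigmaCore H))
        (h.compl_le_normalizer hG hH hF hAF)
    have h2 : Cfsg.sigmaCore H ≤ normalizer ((Cfsg.sigmaCore H ⊔ conjMap c A' : Subgroup G) : Set G) :=
      (le_sup_left : Cfsg.sigmaCore H ≤ Cfsg.sigmaCore H ⊔ conjMap c A').trans
        (Subgroup.le_normalizer (H := Cfsg.sigmaCore H ⊔ conjMap c A'))
    exact (isComplIn_sup hF).ge.trans (sup_le h1 h2)
  refine ⟨hs.out, hsσ, (dvd_card_of_pgroup_ne_bot hXp hX1).trans (card_dvd_of_le hXH), ?_, hr⟩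
  intro hd
  have hπ : ∀ t : ℕ, t.Prime → t ∣ Nat.card X → t ∉ Cfsg.sigma H :=
    fun t ht htd => (prime_dvd_pgroup_card hXp ht htd) ▸ hsσ
  obtain ⟨F, hF, hXF⟩ := exists_compl_ge hG hH hXH hπ
  have hXd : X ≤ ⁅H, H⁆ := (tau3_le_derived hG hH hF hXF fun t ht htd =>
    (prime_dvd_pgroup_card hXp ht htd) ▸ ⟨hs.out, hsσ, hd, hr⟩).trans (commutator_mono hF.1 hF.1)
  have hQd : Q ≤ ⁅H, H⁆ := hQX.ge.trans (commutator_mono hQH hXH)
  have hqb : q ∉ Cfsg.beta H := fun h => by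
    obtain ⟨g, hg⟩ := eq_conj_of_alpha hG hM hH hqM h.1
    exact hnc g hg
  have hc := le_centralizer_of_not_beta hG hH hXp hQ hsq hn hXd hQd
    (fun h => hsσ (mem_sigma_of_mem_beta hG hH h)) hqb
  exact hQ1 (hQX ▸ commutator_eq_bot_iff_le_centralizer.mpr (le_centralizer_iff.mp hc))

omit hM in
/-- A subgroup containing a conjugate of a square has rank at least two. -/
theorem false_of_conj_sq {p : ℕ} [Fact p.Prime] {A K : Subgroup G} (hr : Cfsg.PRankLE p 1 K)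
    (hA : IsSq p A) (g : G) (h : conjMap g A ≤ K) : False :=
  (hA.conjMap g).not_prankLE_one h hr

/-- Two primes of `τ₂(L)`, one in `σ(M)`: the other has rank two in `M`. -/
theorem false_of_tau2_pair (hL : IsCoatom L) {p q : ℕ} [hp : Fact p.Prime] [hq : Fact q.Prime]
    (hpq : p ≠ q) (hr : Cfsg.PRankLE p 1 M) (hqM : q ∈ Cfsg.sigma M) (hpL : p ∈ Cfsg.tau2 L)
    (hqL : q ∈ Cfsg.tau2 L) : False := by
  obtain ⟨F, hF, -⟩ := exists_compl_ge hG hL (bot_le : (⊥ : Subgroup G) ≤ L)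
    fun t ht hd => absurd (Subgroup.card_bot (G := G) ▸ hd) ht.not_dvd_one
  obtain ⟨A, A₀, hAF, h⟩ := tau2_square hG hL hF hpL
  obtain ⟨B, B₀, hBF, h'⟩ := tau2_square hG hL hF hqL
  have hBA := h.comm_other hG hL h' hpq hF hAF hBF
  obtain ⟨T, hT, -⟩ := exists_sylowIn_le (IsPGroup.of_bot (p := q) (G := G)) (bot_le (a := M))
  obtain ⟨g, -, hg⟩ := (sylowIn_top hqM hT).exists_conj_le h'.sq.isPGroup le_top
  refine false_of_conj_sq hG hr h.sq g (le_trans ?_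
    (centralizer_le_max hG hM (h'.sq.conjMap g) (hg.trans hT.1)))
  rintro _ ⟨a, ha, rfl⟩
  rw [SetLike.mem_coe] at ha
  refine mem_centralizer_iff.mpr ?_
  rintro _ ⟨b, hb, rfl⟩
  show (MulAut.conj g).toMonoidHom b * (MulAut.conj g).toMonoidHom a = _
  rw [← map_mul, ← mem_centralizer_iff.mp (hBA hb) a ha, map_mul]

/-- A square of non-ideal `p` normalizing a `σ(M)`-group `Q = [Q, R]` cannot meet `M` in a line. -/
theorem false_of_square_centralizer {p q : ℕ} [hp : Fact p.Prime] [hq : Fact q.Prime] (hpq : p ≠ q)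
    (hr : Cfsg.PRankLE p 1 M) (hqM : q ∈ Cfsg.sigma M) (hid : ¬ Cfsg.IsIdealPrime p G)
    {A P Q R : Subgroup G} (hA : IsSq p A) (hP : IsLine p A P) (hPM : P ≤ M) (hQ : IsPGroup q Q)
    (hQ1 : Q ≠ ⊥) (hQM : Q ≤ M) (hAQ : A ≤ normalizer (Q : Set G))
    (hRQ : R ≤ normalizer (Q : Set G)) (hQR : ⁅Q, R⁆ = Q) : False := by
  obtain ⟨L, hL, hNL⟩ := (eq_top_or_exists_le_coatom (normalizer (Q : Set G))).resolve_left
    (minSimple_normalizer_ne_top hG hQ1 fun h => hM.1 (top_le_iff.mp (h ▸ hQM)))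
  have hAL := hAQ.trans hNL
  have hne : L ≠ M := fun e => hA.not_prankLE_one (e ▸ hAL) hr
  have hQL : Q ≤ L := le_normalizer.trans hNL
  have hQd : Q ≤ ⁅L, L⁆ := hQR.ge.trans (commutator_mono hQL (hRQ.trans hNL))
  obtain ⟨S, hS, hQS⟩ := exists_sylowIn_le hQ (le_inf hQM hQL)
  obtain ⟨hnc, hNS, hidx⟩ := sylow_of_intersection hG hM hL hne hqM hQ1 hNL hS hQS
  have hSL : SylowIn q S L := ⟨hS.1.trans inf_le_right, hS.2.1, hidx⟩
  have hSM : S ≤ M := hS.1.trans inf_le_left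
  have hnc' : ∀ g : G, conjMap g L ≠ M := fun g e => hnc g⁻¹ (by rw [← e, conjMap_inv_conjMap])
  have hqb : q ∉ Cfsg.beta L := fun h => by
    obtain ⟨g, hg⟩ := eq_conj_of_alpha hG hM hL hqM h.1
    exact hnc' g hg
  have hS1 : S ≠ ⊥ := fun e => hQ1 (le_bot_iff.mp (e ▸ hQS))
  have hpτ : p ∉ Cfsg.sigma L → p ∈ Cfsg.tau2 L := fun h => mem_tau2_of_sq hG hL h hAL hA
  have hSd : S ≤ ⁅L, L⁆ ∧ q ∉ Cfsg.tau2 L := by
    by_cases hqσ : q ∈ Cfsg.sigma L
    · exact ⟨(le_sigmaCore_of_pi hG hL hSL.1 fun t ht hd =>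
        (prime_dvd_pgroup_card hSL.2.1 ht hd) ▸ hqσ).trans (sigmaCore_le_derived hG hL),
        fun h => h.2.1 hqσ⟩
    have hr1 : Cfsg.PRankLE q 1 L := by
      by_contra hr2
      have hqτ : q ∈ Cfsg.tau2 L := ⟨hq.out, hqσ, prankLE_two_of_not_sigma hG hL hqσ, hr2⟩
      by_cases hpσ : p ∈ Cfsg.sigma L
      · obtain ⟨B', hB'L, hB'⟩ := exists_sq_le_of_not_prankLE le_rfl hr2
        obtain ⟨c, -, hcS⟩ := hSL.exists_conj_le hB'.isPGroup hB'L
        obtain ⟨B₀', hexc⟩ := exists_exc hG hL hqσ (hB'.conjMap c) (hcS.trans hSL.1)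
        have h0 := hexc.inf_other hG hL hM hne.symm (hcS.trans hSM)
        refine ne_bot_of_card_prime hP.2 (le_bot_iff.mp (h0 ▸ le_inf ?_ hPM))
        exact hP.1.trans (le_sigmaCore_of_pi hG hL hAL fun t ht hd =>
          (prime_dvd_pgroup_card hA.isPGroup ht hd) ▸ hpσ)
      · exact false_of_tau2_pair hG hM hL hpq hr hqM (hpτ hpσ) hqτ
    obtain ⟨F, hF, hSF⟩ := exists_compl_ge hG hL hSL.1
      fun t ht hd => (prime_dvd_pgroup_card hSL.2.1 ht hd) ▸ hqσ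
    have hτ3 : q ∈ Cfsg.tau3 L :=
      ⟨hq.out, hqσ, (dvd_card_of_pgroup_ne_bot hQ hQ1).trans (card_dvd_of_le hQd), hr1⟩
    exact ⟨(tau3_le_derived hG hL hF hSF fun t ht hd =>
      (prime_dvd_pgroup_card hSL.2.1 ht hd) ▸ hτ3).trans (commutator_mono hF.1 hF.1),
      fun h => h.2.2.2 hr1⟩
  by_cases hpσ : p ∈ Cfsg.sigma L
  · -- both Sylow subgroups in a nilpotent Hall subgroup of `L'`
    set π := {t | t.Prime ∧ t ∉ Cfsg.beta L}
    have hAd : A ≤ ⁅L, L⁆ := (le_sigmaCore_of_pi hG hL hAL fun t ht hd =>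
      (prime_dvd_pgroup_card hA.isPGroup ht hd) ▸ hpσ).trans (sigmaCore_le_derived hG hL)
    have hs : Group.IsSolvable ↥⁅L, L⁆ := isSolvable_of_le_max hG hL (commutator_le_self L)
    have hcb : (Nat.card (⊥ : Subgroup G)).Coprime (Nat.card ↥⁅L, L⁆) := by
      rw [Subgroup.card_bot]; exact Nat.coprime_one_left _
    obtain ⟨K₁, hK₁, -, hAK⟩ := CfsgLib.Coprime.exists_invariant_hall_ge (A := (⊥ : Subgroup G))
      bot_le hcb hs hAd bot_le (π := π) fun t ht hd => ⟨ht,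
        (prime_dvd_pgroup_card hA.isPGroup ht hd) ▸ fun h => hid h.2⟩
    obtain ⟨K₂, hK₂, -, hSK⟩ := CfsgLib.Coprime.exists_invariant_hall_ge (A := (⊥ : Subgroup G))
      bot_le hcb hs hSd.1 bot_le (π := π) fun t ht hd => ⟨ht,
        (prime_dvd_pgroup_card hSL.2.1 ht hd) ▸ hqb⟩
    obtain ⟨g, -, hg⟩ := CfsgLib.Coprime.exists_conj_of_isPiHallOf hs hK₁ hK₂
    have hnil : Group.IsNilpotent K₂ :=
      nilpotent_of_not_beta hG hL hK₂.1 fun t ht hd => (hK₂.2.1 t ht hd).2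
    have h1 : conjMap g A ≤ centralizer (S : Set G) := le_centralizer_of_nilpotent hnil
      ((conjMap_mono hAK).trans hg.le) hSK
      (by rw [card_conjMap]; exact coprime_pgroup hA.isPGroup hSL.2.1 hpq)
    exact false_of_conj_sq hG hr hA g (h1.trans ((centralizer_le_normalizer _).trans hNS))
  · -- `S` is normal in a complement, which contains a conjugate of `A`
    obtain ⟨B₀, h⟩ := exists_exc hG hL hpσ hA hAL
    have hqσ : q ∉ Cfsg.sigma L := fun h' => by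
      obtain ⟨g, hg⟩ := eq_conj_of_nilpotent hG hL (h.nilpotent hG hL) hM h' hqM
      exact hnc' g hg.symm
    obtain ⟨F, hF, hSF⟩ := exists_compl_ge hG hL hSL.1
      fun t ht hd => (prime_dvd_pgroup_card hSL.2.1 ht hd) ▸ hqσ
    have hSd' : S ≤ ⁅F, F⁆ := inf_derived_eq hG hL hF hSF hSd.1
    have hSn := hall_derived_normal hG hL hF (π := {q}) ⟨hSF,
      fun t ht hd => prime_dvd_pgroup_card hSL.2.1 ht hd,
      fun t _ htq => (Set.mem_singleton_iff.mp htq) ▸ (sylowIn_compl_of hG hL hF hSL hSF).2.2⟩ hSd'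
    obtain ⟨c, -, hcF⟩ := exists_conj_le_compl hG hL hF hAL
      fun t ht hd => (prime_dvd_pgroup_card hA.isPGroup ht hd) ▸ hpσ
    exact false_of_conj_sq hG hr hA c (hcF.trans (hSn.trans hNS))

end CfsgLib.BG
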