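import Cfsg.Agent.Lib.BG.SigmaDerived
import Cfsg.Agent.Lib.BG.Fusion
import Cfsg.Agent.Lib.OddLocal.RankTwoSolvable
import Cfsg.Agent.Lib.OddLocal.NilpotentDerived
import Cfsg.Agent.Lib.OddLocal.CNBasic

/-!
# The Hall subgroup `M_α` and the quotient `M / M_α`
-/

set_option autoImplicit false
set_option linter.style.haveILetI false
set_option linter.unusedSectionVars false

namespace CfsgLib.BG

open Subgroup CfsgLib.PLocal CfsgLib.OddLocal
open scoped commutatorElement

universe u
variable {G : Type u} [Group G] [Finite G] {M : Subgroup G}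
variable (hG : Cfsg.IsMinSimpleOddOrder G) (hM : IsCoatom M)
include hG hM

theorem mem_sigma_of_mem_alpha {p : ℕ} (h : p ∈ Cfsg.alpha M) : p ∈ Cfsg.sigma M := by
  haveI : Fact p.Prime := ⟨h.1⟩
  obtain ⟨E, hEM, hE, hlt⟩ := not_prankLE_iff.mp h.2
  obtain ⟨P, hP, hEP⟩ := exists_sylowIn_le (elemAb_isPGroup hE) hEM
  have hP1 : P ≠ ⊥ := fun e => by
    have hE0 : E = ⊥ := le_bot_iff.mp (hEP.trans e.le)
    rw [hE0, Subgroup.card_bot] at hlt
    exact absurd hlt (by have := Nat.one_le_pow 2 p h.1.pos; omega)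
  refine mem_sigma_of_normalizer_le ((dvd_card_of_pgroup_ne_bot hP.2.1 hP1).trans (card_dvd_of_le hP.1))
    hP ?_
  have hne : normalizer (P : Set G) ≠ ⊤ :=
    minSimple_normalizer_ne_top hG hP1 fun e => hM.1 (top_le_iff.mp (e ▸ hP.1))
  obtain ⟨L, hL, hPL⟩ := (eq_top_or_exists_le_coatom _).resolve_left hne
  have := eq_of_not_prankLE hG (not_prankLE_iff.mpr ⟨E, hEP, hE, hlt⟩) hM hP.1 hL
    (le_normalizer.trans hPL)
  exact this ▸ hPL

omit hG hM in
theorem coprime_piCore_alpha {p : ℕ} (hp : p.Prime) (h : p ∉ Cfsg.alpha M) :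
    (Nat.card (Cfsg.piCore (Cfsg.alpha M) ↥M)).Coprime p :=
  ((hp.coprime_iff_not_dvd.mpr fun hd => h (piCore_spec (Cfsg.alpha M) p hp hd))).symm

theorem pCore_quotient_alpha {p : ℕ} [hp : Fact p.Prime] (h : p ∈ Cfsg.alpha M) :
    Cfsg.pCore p (↥M ⧸ Cfsg.piCore (Cfsg.alpha M) ↥M) = ⊥ := by
  set K := Cfsg.piCore (Cfsg.alpha M) ↥M
  set f := QuotientGroup.mk' K
  set T := Cfsg.pCore p (↥M ⧸ K)
  haveI : T.Normal := CfsgLib.Solvable.pCore_normal p _
  have hle : T.comap f ≤ K := le_piCore (Normal.comap inferInstance f) fun r hr hrd => by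
    rw [CfsgLib.Solvable.card_comap_mk'] at hrd
    rcases hr.dvd_mul.mp hrd with h' | h'
    · have hrp : r = p := prime_dvd_pgroup_card (P := T) (CfsgLib.Solvable.pCore_isPGroup p) hr h'
      rw [hrp]
      exact h
    · exact piCore_spec (Cfsg.alpha M) r hr h'
  rw [eq_bot_iff]
  intro x hx
  obtain ⟨y, rfl⟩ := QuotientGroup.mk'_surjective K x
  exact mem_bot.mpr ((QuotientGroup.eq_one_iff y).mpr (hle hx))

theorem isNilpotent_commutator_quotient_alpha :
    Group.IsNilpotent ↥((commutator ↥M).map (QuotientGroup.mk' (Cfsg.piCore (Cfsg.alpha M) ↥M))) := by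
  set K := Cfsg.piCore (Cfsg.alpha M) ↥M
  haveI : Group.IsSolvable M := minSimple_isSolvable hG hM.1
  haveI : Group.IsSolvable (↥M ⧸ K) := Group.isSolvable_of_surjective (QuotientGroup.mk'_surjective K)
  have hodd : Odd (Nat.card (↥M ⧸ K)) := (minSimple_odd hG M).of_dvd_nat (card_quotient_dvd_card K)
  have hle : (commutator ↥M).map (QuotientGroup.mk' K) ≤ Cfsg.fittingSubgroup (↥M ⧸ K) := by
    refine le_trans ?_ (commutator_le_fitting fun p hp y hy hyp =>
      centralizes_pCore_of_rank_two hodd hp ?_ hy hyp)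
    · rw [_root_.commutator_def, map_commutator, _root_.commutator_def]
      exact commutator_mono le_top le_top
    haveI : Fact p.Prime := ⟨hp⟩
    by_cases hα : p ∈ Cfsg.alpha M
    · rw [pCore_quotient_alpha hG hM hα]
      intro E _ _
      have := card_le_card_group E
      rw [Subgroup.card_bot] at this
      exact this.trans (Nat.one_le_pow _ _ hp.pos)
    · have hr : Cfsg.PRankLE p 2 (↥M ⧸ K) := pRankLE_quotient K (coprime_piCore_alpha hp hα)
        (by by_contra hr'; exact hα ⟨hp, hr'⟩)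
      intro E hEc hEe
      rw [← card_map_of_injective (f := (Cfsg.pCore p (↥M ⧸ K)).subtype) (K := E) (subtype_injective _)]
      refine hr _ ?_ ?_
      · haveI := hEc; infer_instance
      · rintro _ ⟨x, hx, rfl⟩
        simpa using congrArg Subtype.val (hEe x hx)
  exact CfsgLib.OddLocal.isNilpotent_of_le CfsgLib.Solvable.fittingSubgroup_isNilpotent hle

theorem alphaCore_hall : Cfsg.IsPiHallOf (Cfsg.alpha M) (Cfsg.alphaCore M) M := by
  refine ⟨map_subtype_le _, fun p hp h => ?_, fun p hp hpα hd => ?_⟩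
  · rw [Cfsg.alphaCore, card_map_of_injective M.subtype_injective] at h
    exact piCore_spec (Cfsg.alpha M) p hp h
  haveI : Fact p.Prime := ⟨hp⟩
  set K := Cfsg.piCore (Cfsg.alpha M) ↥M with hK
  obtain ⟨T, hT, -⟩ := exists_sylowIn_le (IsPGroup.of_bot (p := p) (G := G)) (bot_le (a := M))
  have hTd := sylowIn_le_derived hG hM (mem_sigma_of_mem_alpha hG hM hpα) hT
  have hnil := isNilpotent_commutator_quotient_alpha hG hM
  set N := (commutator ↥M).map (QuotientGroup.mk' K) with hN
  haveI : N.Normal := Normal.map inferInstance _ (QuotientGroup.mk'_surjective _)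
  have hTK : T.subgroupOf M ≤ K := by
    intro x hx
    have hx' : (x : G) ∈ ⁅M, M⁆ := hTd (mem_subgroupOf.mp hx)
    rw [← Subgroup.map_subtype_commutator] at hx'
    obtain ⟨y, hy, hyx⟩ := hx'
    obtain rfl := M.subtype_injective hyx
    have hzp : IsPGroup p (zpowers (QuotientGroup.mk' K y)) := by
      have h1 := ((hT.2.1.comap_subtype (K := M)).to_le (zpowers_le.mpr hx)).map (QuotientGroup.mk' K)
      rwa [MonoidHom.map_zpowers] at h1
    have := mem_pCore_of_mem_nilpotent hnil (mem_map_of_mem (QuotientGroup.mk' K) hy) hzp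
    rw [pCore_quotient_alpha hG hM hpα, mem_bot] at this
    exact (QuotientGroup.eq_one_iff y).mp this
  refine hT.2.2 (hd.trans (relIndex_dvd_of_le_left M ?_))
  have := map_mono (f := M.subtype) hTK
  rwa [map_subgroupOf_eq_of_le hT.1] at this

theorem alphaCore_hall_top : Cfsg.IsPiHall (Cfsg.alpha M) (Cfsg.alphaCore M) := by
  have hall := alphaCore_hall hG hM
  refine ⟨hall.2.1, fun p hp hpα hd => ?_⟩
  haveI : Fact p.Prime := ⟨hp⟩
  obtain ⟨T, hT, -⟩ := exists_sylowIn_le (IsPGroup.of_bot (p := p) (G := G)) (bot_le (a := M))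
  rw [← relIndex_mul_index hall.1] at hd
  rcases hp.dvd_mul.mp hd with h | h
  · exact hall.2.2 p hp hpα h
  · have := (sylowIn_top (mem_sigma_of_mem_alpha hG hM hpα) hT).2.2
    rw [relIndex_top_right, ← relIndex_mul_index hT.1] at this
    exact this (dvd_mul_of_dvd_right h _)

theorem rankLE_quotient_alpha : Cfsg.RankLE 2 (↥M ⧸ Cfsg.piCore (Cfsg.alpha M) ↥M) := by
  intro p hp
  haveI : Fact p.Prime := ⟨hp⟩
  set K := Cfsg.piCore (Cfsg.alpha M) ↥M
  by_cases hα : p ∈ Cfsg.alpha M
  · intro E hEc hEe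
    have hEp : IsPGroup p E := fun x => ⟨1, by rw [pow_one]; exact Subtype.ext (hEe x x.2)⟩
    rcases eq_or_ne E ⊥ with rfl | hE1
    · rw [Subgroup.card_bot]; exact Nat.one_le_pow _ _ hp.pos
    exfalso
    have hd := (dvd_card_of_pgroup_ne_bot hEp hE1).trans (card_subgroup_dvd_card E)
    rw [← index_eq_card] at hd
    refine (alphaCore_hall hG hM).2.2 p hp hα ?_
    rwa [Cfsg.alphaCore, relIndex, subgroupOf, comap_map_eq_self_of_injective M.subtype_injective]
  · exact pRankLE_quotient K (coprime_piCore_alpha hp hα) (by by_contra hr'; exact hα ⟨hp, hr'⟩)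

end CfsgLib.BG
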