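import Cfsg.Agent.Lib.BG.FixedLine

/-!
# `τ₁(M)`-lines in the `β`-core of another maximal subgroup
-/

set_option autoImplicit false
set_option linter.style.haveILetI false
set_option linter.unusedSectionVars false

namespace CfsgLib.BG

open Subgroup CfsgLib.PLocal CfsgLib.OddLocal
open scoped commutatorElement

universe u
variable {G : Type u} [Group G] [Finite G] {M H : Subgroup G}
variable (hG : Cfsg.IsMinSimpleOddOrder G)
include hG

/-- A Sylow subgroup `T` of `G` is `[T, N(T)]`. -/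
theorem sylow_le_commutator_normalizer {q : ℕ} [hq : Fact q.Prime] {T : Subgroup G}
    (hT : SylowIn q T ⊤) : T ≤ ⁅T, normalizer (T : Set G)⁆ := by
  have hidx : ¬ q ∣ T.index := by rw [← relIndex_top_right]; exact hT.2.2
  let S : Sylow q G := hT.2.1.toSylow hidx
  set N := normalizer (T : Set G) with hN
  have hcop : (Nat.card (T.subgroupOf N)).Coprime (T.subgroupOf N).index := by
    rw [CfsgLib.Coprime.card_subgroupOf le_normalizer]
    obtain ⟨n, hn⟩ := IsPGroup.iff_card.mp hT.2.1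
    rw [hn]
    exact Nat.Coprime.pow_left _ (hq.out.coprime_iff_not_dvd.mpr fun h => hT.2.2 (h.trans
      ⟨N.relIndex ⊤, (relIndex_mul_relIndex _ _ _ le_normalizer le_top).symm⟩))
  obtain ⟨V, hV⟩ := exists_right_complement'_of_coprime hcop
  refine (Cfsg.Agent.S1411.result hG q S (V.map N.subtype) ?_).1.le.trans
    (commutator_mono le_rfl (map_subtype_le _))
  refine ⟨le_normalizer, map_subtype_le _, ?_, fun x hx => ?_⟩
  · refine (Subgroup.eq_bot_iff_forall _).mpr ?_
    rintro _ ⟨hx, y, hy, rfl⟩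
    have : y ∈ T.subgroupOf N ⊓ V := mem_inf.mpr ⟨hx, hy⟩
    rw [disjoint_iff.mp hV.disjoint, mem_bot] at this
    rw [this, map_one]
  · obtain ⟨⟨a, b⟩, hab, -⟩ := hV.existsUnique ⟨x, hx⟩
    exact ⟨_, a.2, _, ⟨b, b.2, rfl⟩, (congrArg Subtype.val hab).symm⟩

/-- The Hall `β(H)`-core and a witness subgroup stable under a `β(H)'`-group of `C_H(P)`. -/
theorem exists_beta_witness (hH : IsCoatom H) {p : ℕ} [hp : Fact p.Prime] (hpb : p ∈ Cfsg.beta H)
    {P K : Subgroup G} (hPH : P ≤ H) (hP : Nat.card P = p) (hKH : K ≤ H)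
    (hKP : K ≤ centralizer (P : Set G))
    (hKb : ∀ t : ℕ, t.Prime → t ∣ Nat.card K → t ∉ Cfsg.beta H) :
    ∃ D : Subgroup G, P ≤ D ∧ D ≤ H ∧ IsPGroup p D ∧ (∀ d ∈ D, d ^ p = 1) ∧
      D ≤ centralizer (P : Set G) ∧ K ≤ normalizer (D : Set G) ∧
      ∃ A : Subgroup G, A ≤ D ∧ IsSq p A := by
  set B := Cfsg.piCoreOf (Cfsg.beta H) H with hB
  have hBH : B ≤ H := map_subtype_le _
  have hBn : H ≤ normalizer (B : Set G) := by
    refine (normal_subgroupOf_iff_le_normalizer hBH).mp ?_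
    rw [hB, Cfsg.piCoreOf, subgroupOf, comap_map_eq_self_of_injective H.subtype_injective]
    infer_instance
  have hBhall : Cfsg.IsPiHallOf (Cfsg.beta H) B H := (Cfsg.Agent.S1414.result hG H hH).1
  have hPB : P ≤ B := fun x hx => by
    refine CfsgLib.Solvable.mem_of_coprime_relIndex
      ((normal_subgroupOf_iff_le_normalizer hBH).mpr hBn) (hPH hx) ?_
    refine coprime_of_forall fun t ht h1 h2 => ?_
    have htp := prime_dvd_pgroup_card (isPGroup_of_card_prime hP) ht (h1.trans (orderOf_dvd_natCard P hx))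
    exact hBhall.2.2 t ht (htp ▸ hpb) h2
  have hcop : (Nat.card K).Coprime (Nat.card B) :=
    coprime_of_forall fun t ht h1 h2 => hKb t ht h1 (hBhall.2.1 t ht h2)
  obtain ⟨S', hPS, hKS⟩ := CfsgLib.Coprime.exists_invariant_sylow_ge (hKH.trans hBn) hcop
    (Or.inl (isSolvable_of_le_max hG hH hKH)) (isPGroup_of_card_prime hP) hPB
    (hKP.trans (centralizer_le_normalizer _))
  set S := (S' : Subgroup B).map B.subtype
  have hS : SylowIn p S B := sylowIn_map S'
  have hSH : SylowIn p S H := by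
    refine ⟨hS.1.trans hBH, hS.2.1, fun hd => ?_⟩
    rw [← relIndex_mul_relIndex _ _ _ hS.1 hBH] at hd
    exact (hp.out.dvd_mul.mp hd).elim hS.2.2 (hBhall.2.2 p hp.out hpb)
  have hr : ¬ Cfsg.PRankLE p 2 S := by
    obtain ⟨E, hEH, hE, hlt⟩ := not_prankLE_iff.mp hpb.1.2
    obtain ⟨g, -, hg⟩ := hSH.exists_conj_le (elemAb_isPGroup hE) hEH
    exact not_prankLE_iff.mpr ⟨_, hg, elemAb_map (MulAut.conj g).toMonoidHom hE, by rwa [card_conjMap]⟩
  obtain ⟨D, hPD, hDS, hDe, hDP, hDn, hA⟩ := exists_line_witness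
    (prime_ne_two_of_pgroup hG (isPGroup_of_card_prime hP) (ne_bot_of_card_prime hP)) hS.2.1 hr hPS hP
  exact ⟨D, hPD, hDS.trans hSH.1, hS.2.1.to_le hDS, hDe, hDP,
    fun k hk => hDn k (hKS hk) (centralizer_le_normalizer _ (hKP hk)), hA⟩

/-- In a witness, a `τ₁(H)`-element commuting with `P` fixes only `P`. -/
theorem fixed_le_line (hH : IsCoatom H) {p s : ℕ} [hp : Fact p.Prime] [hs : Fact s.Prime]
    (hpb : p ∈ Cfsg.beta H) {P D X : Subgroup G} (hPH : P ≤ H) (hP : Nat.card P = p)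
    (hPD : P ≤ D) (hDe : ∀ d ∈ D, d ^ p = 1) (hDP : D ≤ centralizer (P : Set G))
    (hsτ : s ∈ Cfsg.tau1 H) (hX : Nat.card X = s) (hXP : X ≤ centralizer (P : Set G)) :
    D ⊓ centralizer (X : Set G) ≤ P := by
  intro y hy
  obtain ⟨hyD, hyX⟩ := mem_inf.mp hy
  by_contra hyP
  obtain ⟨L, hL, hNL⟩ := (eq_top_or_exists_le_coatom (normalizer (X : Set G))).resolve_left
    (minSimple_normalizer_ne_top hG (ne_bot_of_card_prime hX) fun e => minSimple_centralizer_singleton_ne_top
      hG (x := y) (fun h => hyP (h ▸ one_mem P)) (by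
        rw [eq_top_iff]
        intro g _
        exact mem_centralizer_singleton_iff.mpr
          (mem_centralizer_iff.mp hyX g (e ▸ mem_top g) : g * y = y * g)))
  have hne : L ≠ H := fun e => by
    subst e
    exact (Cfsg.Agent.S1409.result hG L hH s hsτ.2.1 X hX hNL).1.2 hsτ.2.2.2.2
  have hPL : P ≤ L := (le_centralizer_iff.mp hXP).trans ((centralizer_le_normalizer _).trans hNL)
  have hyL : zpowers y ≤ L := zpowers_le.mpr (hNL (centralizer_le_normalizer _ hyX))
  obtain ⟨a, ha, hao⟩ := exists_order_p (isPGroup_of_card_prime hP) (ne_bot_of_card_prime hP)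
  have hPe : Cfsg.IsElementaryAbelian p P := by
    rw [← zpowers_eq_of_card_prime hP ha fun e => hp.out.ne_one (by rw [← hao, e, orderOf_one])]
    exact elemAb_zpowers (hao ▸ pow_orderOf_eq_one a)
  have hd := elemAb_sup (elemAb_zpowers (hDe y hyD)) hPe (zpowers_le.mpr (hDP hyD))
  refine not_prankLE_iff.mpr ⟨_, sup_le hyL hPL, hd, ?_⟩
    (prankLE_one_of_beta hG hH hpb hP hPH hL hne hPL)
  rw [pow_one]
  nth_rewrite 1 [← hP]
  refine lt_of_le_of_ne (card_le_of_le le_sup_right) fun e => hyP ?_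
  exact (eq_of_le_of_card_ge le_sup_right e.ge).ge (mem_sup_left (mem_zpowers y))

/-- A `τ₁(H)`-element acting without fixed points modulo `P` makes `[Q, X]` centralize the witness. -/
theorem commutator_centralizes_witness (hH : IsCoatom H) {p q s : ℕ} [hp : Fact p.Prime]
    [hq : Fact q.Prime] [hs : Fact s.Prime] (hpb : p ∈ Cfsg.beta H) (hqp : q ≠ p) (hsq : s ≠ q)
    {P D Q X : Subgroup G} (hPH : P ≤ H) (hP : Nat.card P = p) (hPD : P ≤ D) (hD : IsPGroup p D)
    (hDe : ∀ d ∈ D, d ^ p = 1) (hDP : D ≤ centralizer (P : Set G)) (hsτ : s ∈ Cfsg.tau1 H)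
    (hX : Nat.card X = s) (hXP : X ≤ centralizer (P : Set G)) (hXD : X ≤ normalizer (D : Set G))
    (hQ : IsPGroup q Q) (hQ1 : Q ≠ ⊥) (hQP : Q ≤ centralizer (P : Set G))
    (hQD : Q ≤ normalizer (D : Set G)) (hXQ : X ≤ normalizer (Q : Set G)) (hQX : ⁅Q, X⁆ = Q) :
    Q ≤ centralizer (D : Set G) := by
  obtain ⟨x, hxX, hxo⟩ := exists_order_p (isPGroup_of_card_prime hX) (ne_bot_of_card_prime hX)
  have hXz : zpowers x = X :=
    zpowers_eq_of_card_prime hX hxX fun h => hs.out.ne_one (by rw [← hxo, h, orderOf_one])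
  have hX1 := ne_bot_of_card_prime hX
  have hsp : p ≠ s := fun e => hsτ.2.1 (e ▸ mem_sigma_of_mem_beta hG hH hpb)
  refine centralizes_of_fixed_le hs.out
    (prime_ne_two_of_pgroup hG (isPGroup_of_card_prime hP) (ne_bot_of_card_prime hP))
    (prime_ne_two_of_pgroup hG hQ hQ1) (prime_ne_two_of_pgroup hG (isPGroup_of_card_prime hX) hX1)
    hqp hsq.symm hsp hxo hQ hD hPD (hXQ hxX) (hXD hxX) (centralizer_le_normalizer _ (hXP hxX)) hQD
    hQP (hDP.trans (centralizer_le_normalizer _)) ?_ (by rw [hXz, hQX])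
  rw [hXz]
  exact fixed_le_line hG hH hpb hPH hP hPD hDe hDP hsτ hX hXP

/-- A common abelian Sylow `q`-subgroup centralized by a `τ₁(M)`-line in `H_β` is impossible. -/
theorem false_of_common_sylow (hM : IsCoatom M) (hH : IsCoatom H) (hnc : ∀ g : G, conjMap g H ≠ M)
    {p q : ℕ} [hp : Fact p.Prime] [hq : Fact q.Prime] (hpτ : p ∈ Cfsg.tau1 M)
    (hpb : p ∈ Cfsg.beta H) (hqM : q ∈ Cfsg.sigma M) (hqH : q ∈ Cfsg.sigma H) {P T : Subgroup G}
    (hPM : P ≤ M) (hPH : P ≤ H) (hP : Nat.card P = p) (hT : SylowIn q T ⊤) (hTM : T ≤ M)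
    (hTH : T ≤ H) (hab : IsMulCommutative T) (hr : Cfsg.PRankLE q 2 T) (hT1 : T ≠ ⊥)
    (hPT : P ≤ centralizer (T : Set G)) : False := by
  have hnc' : ∀ g : G, conjMap g M ≠ H := fun g e => hnc g⁻¹ (by rw [← e, conjMap_inv_conjMap])
  have hqp : q ≠ p := fun e => hpτ.2.1 (e ▸ hqM)
  have hTin : ∀ {L : Subgroup G}, T ≤ L → SylowIn q T L := fun h => sylowIn_of_le hT h le_top
  set N := normalizer (T : Set G) with hN
  have hNM : N ≤ M := normalizer_sylow_le hqM (hTin hTM)
  have hNH : N ≤ H := normalizer_sylow_le hqH (hTin hTH)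
  have hTN : T ≤ N := le_normalizer
  have hN' : ⁅N, N⁆ ≤ centralizer (T : Set G) :=
    derived_normalizer_le_centralizer hG hT hab (prime_ne_two_of_pgroup hG hT.2.1 hT1) hr
      fun e => hM.1 (top_le_iff.mp (e ▸ hNM))
  set C := N ⊓ centralizer (P : Set G) with hC
  have hPN : P ≤ N := hPT.trans (centralizer_le_normalizer _)
  -- `N = N' C`
  have hcover : ∀ n ∈ N, ∃ k ∈ ⁅N, N⁆, ∃ c ∈ C, n = k * c := by
    intro n hn
    have hPn : P ≤ normalizer ((⁅N, N⁆ : Subgroup G) : Set G) := by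
      refine hPN.trans fun g hg => ?_
      rw [← conjMap_eq_self_iff]
      show Subgroup.map _ _ = _
      rw [map_commutator]
      exact congrArg₂ _ (conjMap_eq_self_iff.mpr (le_normalizer hg))
        (conjMap_eq_self_iff.mpr (le_normalizer hg))
    have hdM : ⁅N, N⁆ ≤ ⁅M, M⁆ := commutator_mono hNM hNM
    have hsyl : SylowIn p P (⁅N, N⁆ ⊔ P) := by
      refine ⟨le_sup_right, isPGroup_of_card_prime hP, fun hd => ?_⟩
      have h1 := card_sup_dvd hPn
      rw [← CfsgLib.Coprime.card_mul_relIndex (le_sup_right : P ≤ ⁅N, N⁆ ⊔ P), mul_comm _ (Nat.card P)]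
        at h1
      exact hpτ.2.2.2.1 ((hd.trans ((Nat.mul_dvd_mul_iff_left Nat.card_pos).mp h1)).trans
        (card_dvd_of_le hdM))
    have hle : conjMap n P ≤ ⁅N, N⁆ ⊔ P := by
      rintro _ ⟨a, ha, rfl⟩
      show n * a * n⁻¹ ∈ _
      rw [show n * a * n⁻¹ = ⁅n, a⁆ * a by rw [commutatorElement_def]; group]
      exact mul_mem (mem_sup_left (commutator_mem_commutator hn (hPN ha))) (mem_sup_right ha)
    obtain ⟨k₀, hk₀, hk₀P⟩ := hsyl.exists_conj_eq
      (hsyl.of_card_le ((isPGroup_of_card_prime hP).map _) hle (card_conjMap n P).ge)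
    obtain ⟨k, hk, hkP⟩ : ∃ k ∈ ⁅N, N⁆ ⊔ P, conjMap k⁻¹ (conjMap n P) = P :=
      ⟨k₀⁻¹, inv_mem hk₀, by rw [inv_inv]; exact hk₀P⟩
    obtain ⟨k', hk', a, ha, hka⟩ := (CfsgLib.Coprime.mem_sup_of_le_normalizer hPn).mp hk
    have hmem : k⁻¹ * n ∈ normalizer (P : Set G) := by
      rw [← conjMap_eq_self_iff, ← conjMap_conjMap, hkP]
    have hkN : k ∈ N := sup_le (commutator_le_self N) hPN hk
    have hkn : k⁻¹ * n ∈ centralizer (P : Set G) := by
      rw [mem_centralizer_iff]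
      intro b hb
      rw [SetLike.mem_coe] at hb
      have h1 : ⁅k⁻¹ * n, b⁆ ∈ P ⊓ ⁅M, M⁆ := mem_inf.mpr ⟨by
        rw [commutatorElement_def]
        exact mul_mem ((mem_normalizer_iff.mp hmem b).mp hb) (inv_mem hb),
        commutator_mem_commutator (hNM (mul_mem (inv_mem hkN) hn)) (hPM hb)⟩
      rw [inf_derived_eq_bot hG hPM (fun t ht htd =>
        (prime_dvd_pgroup_card (isPGroup_of_card_prime hP) ht htd) ▸ hpτ), mem_bot,
        commutatorElement_eq_one_iff_mul_comm] at h1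
      exact h1.symm
    have haC : a ∈ centralizer (P : Set G) := by
      obtain ⟨b, hb, hbo⟩ := exists_order_p (isPGroup_of_card_prime hP) (ne_bot_of_card_prime hP)
      have hz : zpowers b = P := zpowers_eq_of_card_prime hP hb
        fun e => hp.out.ne_one (by rw [← hbo, e, orderOf_one])
      rw [← hz] at ha
      obtain ⟨i, rfl⟩ := mem_zpowers_iff.mp ha
      rw [← hz, mem_centralizer_iff]
      rintro _ ⟨j, rfl⟩
      exact (Commute.zpow_zpow_self b j i).eq
    refine ⟨k', hk', a * (k⁻¹ * n), mem_inf.mpr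
      ⟨mul_mem (hPN ha) (mul_mem (inv_mem hkN) hn), mul_mem haC hkn⟩, ?_⟩
    rw [← hka]
    group
  -- a Hall `β(H)'`-subgroup of `C`
  set π := {t : ℕ | t.Prime ∧ t ∉ Cfsg.beta H}
  have hqb : q ∉ Cfsg.beta H := fun h => by
    obtain ⟨g, hg⟩ := eq_conj_of_alpha hG hM hH hqM h.1
    exact hnc g hg
  have hTC : T ≤ C := le_inf hTN (le_centralizer_iff.mp hPT)
  have hCsol : Group.IsSolvable C := isSolvable_of_le_max hG hM (inf_le_left.trans hNM)
  have hcb : (Nat.card (⊥ : Subgroup G)).Coprime (Nat.card C) := by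
    rw [Subgroup.card_bot]; exact Nat.coprime_one_left _
  obtain ⟨K, hK, -, hTK⟩ := CfsgLib.Coprime.exists_invariant_hall_ge (A := (⊥ : Subgroup G))
    bot_le hcb hCsol hTC bot_le (π := π) fun t ht hd =>
      ⟨ht, (prime_dvd_pgroup_card hT.2.1 ht hd) ▸ hqb⟩
  obtain ⟨D, hPD, -, hD, hDe, hDP, hKD, A, hAD, hA⟩ := exists_beta_witness hG hH hpb hPH hP
    ((hK.1.trans inf_le_left).trans hNH) (hK.1.trans inf_le_right) fun t ht hd => (hK.2.1 t ht hd).2
  -- the elements acting trivially modulo `C_T(D)`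
  have hgood : ∀ z ∈ K, ∀ (s k : ℕ), s.Prime → orderOf z = s ^ k → ∀ t ∈ T,
      z * t * z⁻¹ * t⁻¹ ∈ centralizer (D : Set G) := by
    intro z hz s k hs hzo t ht
    haveI : Fact s.Prime := ⟨hs⟩
    have hzN : z ∈ N := (hK.1.trans inf_le_left) hz
    set Z := zpowers z with hZ
    have hZp : IsPGroup s Z := IsPGroup.of_card (n := k) (by rw [hZ, Nat.card_zpowers, hzo])
    have hZN : Z ≤ N := zpowers_le.mpr hzN
    have htriv : Z ≤ centralizer (T : Set G) → z * t * z⁻¹ * t⁻¹ ∈ centralizer (D : Set G) := by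
      intro h
      rw [show z * t = t * z from (mem_centralizer_iff.mp (h (mem_zpowers z)) t ht).symm]
      simp
    by_cases hsq : s = q
    · subst hsq
      refine htriv ?_
      have hsup : IsPGroup s ↥(T ⊔ Z) := isPGroup_of_prime_dvd fun r hr hd => by
        rcases hr.dvd_mul.mp (hd.trans (card_sup_dvd hZN)) with h | h
        · exact prime_dvd_pgroup_card hT.2.1 hr h
        · exact prime_dvd_pgroup_card hZp hr h
      intro w hw
      have hwT : w ∈ T := (hT.eq_of_le hsup le_top le_sup_left).ge (mem_sup_right hw)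
      exact mem_centralizer_iff.mpr fun b hb =>
        congrArg Subtype.val (hab.is_comm.comm ⟨b, hb⟩ ⟨w, hwT⟩)
    have hcopT : (Nat.card Z).Coprime (Nat.card T) := coprime_pgroup hZp hT.2.1 hsq
    have hsolT : Group.IsSolvable Z ∨ Group.IsSolvable T :=
      Or.inl (isSolvable_of_le_max hG hM (hZN.trans hNM))
    have hsigma : s ∈ Cfsg.sigma H ∨ s ∈ Cfsg.sigma M → Z ≤ centralizer (T : Set G) := by
      intro h
      refine le_centralizer_iff.mp (commutator_eq_bot_iff_le_centralizer.mp ?_)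
      by_contra hne
      have hle : ⁅T, Z⁆ ≤ T := le_normalizer_iff_commutator_le_left.mp hZN
      have hn : Z ≤ normalizer ((⁅T, Z⁆ : Subgroup G) : Set G) := Subgroup.normalizer_commutator_ge_right T Z
      have hQQ := CfsgLib.Coprime.commutator_commutator_eq hZN hcopT hsolT
      rcases h with h | h
      · exact false_of_sigma_act hG hM hH hnc h hqM hsq hZp (hZN.trans hNH) (hT.2.1.to_le hle)
          (hle.trans hTH) hn hQQ hne
      · exact false_of_sigma_act hG hH hM hnc' h hqH hsq hZp (hZN.trans hNM) (hT.2.1.to_le hle)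
          (hle.trans hTM) hn hQQ hne
    by_cases hsH : s ∈ Cfsg.sigma H
    · exact htriv (hsigma (Or.inl hsH))
    by_cases hsM : s ∈ Cfsg.sigma M
    · exact htriv (hsigma (Or.inr hsM))
    rcases eq_or_ne Z ⊥ with hZ1 | hZ1
    · exact htriv (hZ1.le.trans bot_le)
    have hrk : Cfsg.PRankLE s 1 M := by
      by_contra h2
      obtain ⟨B, hBM, hB⟩ := exists_sq_le_of_not_prankLE le_rfl h2
      obtain ⟨B₀, hexc⟩ := exists_exc hG hM hsM hB hBM
      obtain ⟨g, hg⟩ := eq_conj_of_nilpotent hG hM (hexc.nilpotent hG hM) hH hqM hqH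
      exact hnc' g hg.symm
    obtain ⟨x, hxZ, hxo⟩ := exists_order_p hZp hZ1
    set X := zpowers x with hXdef
    have hX : Nat.card X = s := by rw [hXdef, Nat.card_zpowers, hxo]
    have hXZ : X ≤ Z := zpowers_le.mpr hxZ
    have hfix : T ⊓ centralizer (X : Set G) ≤ centralizer (Z : Set G) := by
      intro w hw
      have h1 : w ∈ Cfsg.sigmaCore M ⊓ centralizer ({x} : Set G) := by
        refine mem_inf.mpr ⟨le_sigmaCore_of_pi hG hM hTM (fun r hr hd =>
          (prime_dvd_pgroup_card hT.2.1 hr hd) ▸ hqM) hw.1, ?_⟩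
        rw [← centralizer_zpowers_eq]
        exact hw.2
      rw [prime_action_cyclic hG hM hsM hrk hZp (hZN.trans hNM) hxZ
        fun e => hs.ne_one (by rw [← hxo, e, orderOf_one])] at h1
      exact (mem_inf.mp h1).2
    set Q := ⁅T, X⁆ with hQdef
    have hXN : X ≤ N := hXZ.trans hZN
    have hdec := CfsgLib.Coprime.commutator_sup_centralizer hXN
      (coprime_pgroup (hZp.to_le hXZ) hT.2.1 hsq) (Or.inl (isSolvable_of_le_max hG hM (hXN.trans hNM)))
    have hQT : Q ≤ T := le_normalizer_iff_commutator_le_left.mp hXN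
    have hmem : t ∈ Q ⊔ (T ⊓ centralizer (X : Set G)) := hdec.symm ▸ ht
    have hn : T ⊓ centralizer (X : Set G) ≤ normalizer (Q : Set G) := inf_le_left.trans fun w hw =>
      centralizer_le_normalizer _ (mem_centralizer_iff.mpr fun b hb =>
        congrArg Subtype.val (hab.is_comm.comm ⟨b, hQT hb⟩ ⟨w, hw⟩))
    obtain ⟨a, ha, c, hc, rfl⟩ := (CfsgLib.Coprime.mem_sup_of_le_normalizer hn).mp hmem
    have hzQ : z ∈ normalizer (Q : Set G) := by
      rw [← conjMap_eq_self_iff, hQdef]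
      show Subgroup.map _ _ = _
      rw [map_commutator]
      refine congrArg₂ _ (conjMap_eq_self_iff.mpr hzN) (conjMap_eq_self_iff.mpr ?_)
      refine centralizer_le_normalizer _ (mem_centralizer_iff.mpr fun b hb => ?_)
      obtain ⟨i, rfl⟩ := mem_zpowers_iff.mp (hXZ hb)
      exact (Commute.zpow_self z i).eq
    have hcz : z * c * z⁻¹ = c := by
      rw [mem_centralizer_iff.mp (hfix hc) z (mem_zpowers z), mul_inv_cancel_right]
    have e : z * (a * c) * z⁻¹ * (a * c)⁻¹ = z * a * z⁻¹ * a⁻¹ := by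
      calc z * (a * c) * z⁻¹ * (a * c)⁻¹ = z * a * z⁻¹ * (z * c * z⁻¹) * c⁻¹ * a⁻¹ := by group
        _ = z * a * z⁻¹ * a⁻¹ := by rw [hcz]; group
    rw [e]
    rcases eq_or_ne Q ⊥ with hQ1 | hQ1
    · rw [hQ1, mem_bot] at ha
      subst ha
      simp
    have hQQ : ⁅Q, X⁆ = Q := CfsgLib.Coprime.commutator_commutator_eq hXN
      (coprime_pgroup (hZp.to_le hXZ) hT.2.1 hsq) (Or.inl (isSolvable_of_le_max hG hM (hXN.trans hNM)))
    have hXQ : X ≤ normalizer (Q : Set G) := Subgroup.normalizer_commutator_ge_right T X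
    have hsτ : s ∈ Cfsg.tau1 H := tau1_of_act hG hM hH hnc hqM hsq hX (hXN.trans hNH)
      (hT.2.1.to_le hQT) (hQT.trans hTH) hXQ hQQ hQ1
    have hQD := commutator_centralizes_witness hG hH hpb hqp hsq hPH hP hPD hD hDe hDP hsτ hX
      ((hXZ.trans (zpowers_le.mpr hz)).trans (hK.1.trans inf_le_right))
      ((hXZ.trans (zpowers_le.mpr hz)).trans hKD) (hT.2.1.to_le hQT) hQ1
      (hQT.trans (le_centralizer_iff.mp hPT)) (hQT.trans (hTK.trans hKD)) hXQ hQQ
    exact hQD (mul_mem ((mem_normalizer_iff.mp hzQ a).mp ha) (inv_mem ha))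
  let S₂ : Subgroup G :=
    { carrier := {n | n ∈ N ∧ (∀ t ∈ T, n * t * n⁻¹ * t⁻¹ ∈ centralizer (D : Set G)) ∧
        ∀ t ∈ T, n⁻¹ * t * n * t⁻¹ ∈ centralizer (D : Set G)}
      one_mem' := ⟨one_mem _, fun t _ => by simp, fun t _ => by simp⟩
      inv_mem' := fun {n} hn => ⟨inv_mem hn.1, fun t ht => by simpa using hn.2.2 t ht,
        fun t ht => by simpa using hn.2.1 t ht⟩
      mul_mem' := fun {m n} hm hn => by
        refine ⟨mul_mem hm.1 hn.1, fun t ht => ?_, fun t ht => ?_⟩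
        · have h1 := (mem_normalizer_iff.mp hn.1 t).mp ht
          rw [show m * n * t * (m * n)⁻¹ * t⁻¹ =
            (m * (n * t * n⁻¹) * m⁻¹ * (n * t * n⁻¹)⁻¹) * (n * t * n⁻¹ * t⁻¹) by group]
          exact mul_mem (hm.2.1 _ h1) (hn.2.1 t ht)
        · have h1 := (mem_normalizer_iff''.mp hm.1 t).mp ht
          rw [show (m * n)⁻¹ * t * (m * n) * t⁻¹ =
            (n⁻¹ * (m⁻¹ * t * m) * n * (m⁻¹ * t * m)⁻¹) * (m⁻¹ * t * m * t⁻¹) by group]
          exact mul_mem (hn.2.2 _ h1) (hm.2.2 t ht) }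
  have htrivS : ∀ n ∈ N, n ∈ centralizer (T : Set G) → n ∈ S₂ := fun n hn hc => by
    refine ⟨hn, fun t ht => ?_, fun t ht => ?_⟩
    · rw [show n * t = t * n from (mem_centralizer_iff.mp hc t ht).symm]; simp
    · rw [show n⁻¹ * t * n = t by rw [mul_assoc, mem_centralizer_iff.mp hc t ht]; group]; simp
  have hNd : ⁅N, N⁆ ≤ S₂ := fun n hn => htrivS n (commutator_le_self N hn) (hN' hn)
  set B := Cfsg.piCoreOf (Cfsg.beta H) H with hB
  have hpow : ∀ z ∈ C, ∀ (s k : ℕ), s.Prime → orderOf z = s ^ k → z ∈ S₂ := by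
    intro z hz s k hs hzo
    haveI : Fact s.Prime := ⟨hs⟩
    have hzp : IsPGroup s (zpowers z) := IsPGroup.of_card (n := k) (by rw [Nat.card_zpowers, hzo])
    by_cases hsb : s ∈ Cfsg.beta H
    · refine htrivS z hz.1 ?_
      have hBH : B ≤ H := map_subtype_le _
      have hBn : H ≤ normalizer (B : Set G) := by
        refine (normal_subgroupOf_iff_le_normalizer hBH).mp ?_
        rw [hB, Cfsg.piCoreOf, subgroupOf, comap_map_eq_self_of_injective H.subtype_injective]
        infer_instance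
      have hBhall : Cfsg.IsPiHallOf (Cfsg.beta H) B H := (Cfsg.Agent.S1414.result hG H hH).1
      have hzB : z ∈ B := by
        refine CfsgLib.Solvable.mem_of_coprime_relIndex
          ((normal_subgroupOf_iff_le_normalizer hBH).mpr hBn) (hNH hz.1) ?_
        refine coprime_of_forall fun r hr h1 h2 => ?_
        have hrs := prime_dvd_pgroup_card hzp hr (by rwa [Nat.card_zpowers])
        exact hBhall.2.2 r hr (hrs ▸ hsb) h2
      have hbot : B ⊓ T = ⊥ := CfsgLib.Coprime.inf_eq_bot_of_coprime (coprime_of_forall fun r hr h1 h2 =>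
        hqb ((prime_dvd_pgroup_card hT.2.1 hr h2) ▸ hBhall.2.1 r hr h1))
      rw [mem_centralizer_iff]
      intro t ht
      rw [SetLike.mem_coe] at ht
      have h1 : z * t * z⁻¹ * t⁻¹ ∈ B ⊓ T := mem_inf.mpr ⟨by
        rw [show z * t * z⁻¹ * t⁻¹ = z * (t * z⁻¹ * t⁻¹) by group]
        exact mul_mem hzB ((mem_normalizer_iff.mp (hBn (hTH ht)) _).mp (inv_mem hzB)),
        mul_mem ((mem_normalizer_iff.mp hz.1 t).mp ht) (inv_mem ht)⟩
      rw [hbot, mem_bot, mul_inv_eq_one, mul_inv_eq_iff_eq_mul] at h1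
      exact h1.symm
    obtain ⟨K', hK', -, hzK'⟩ := CfsgLib.Coprime.exists_invariant_hall_ge (A := (⊥ : Subgroup G))
      bot_le hcb hCsol (zpowers_le.mpr hz) bot_le (π := π) fun t ht hd =>
        ⟨ht, (prime_dvd_pgroup_card hzp ht hd) ▸ hsb⟩
    obtain ⟨g, hg, hgK⟩ := CfsgLib.Coprime.exists_conj_of_isPiHallOf hCsol hK' hK
    have hz' : g * z * g⁻¹ ∈ K := hgK.le ⟨z, hzK' (mem_zpowers z), rfl⟩
    have hord : orderOf (g * z * g⁻¹) = s ^ k := by
      rw [← hzo]
      exact orderOf_injective (MulAut.conj g).toMonoidHom (MulAut.conj g).injective z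
    have hzS : g * z * g⁻¹ ∈ S₂ := by
      refine ⟨(hK.1 hz').1, hgood _ hz' s k hs hord, fun t ht => ?_⟩
      have := hgood _ (inv_mem hz') s k hs (by rw [orderOf_inv, hord]) t ht
      simpa using this
    have : ⁅z, g⁆ * (g * z * g⁻¹) ∈ S₂ :=
      mul_mem (hNd (commutator_mem_commutator hz.1 hg.1)) hzS
    simpa [commutatorElement_def, mul_assoc] using this
  have hall : N ≤ S₂ := by
    intro n hn
    obtain ⟨k, hk, c, hc, rfl⟩ := hcover n hn
    refine mul_mem (hNd hk) (CfsgLib.StructB.mem_of_forall_primePow S₂ c fun z hz s j hs _ hzo _ => ?_)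
    exact hpow z (zpowers_le.mpr hc hz) s j hs hzo
  have hTD : T ≤ centralizer (D : Set G) := (sylow_le_commutator_normalizer hG hT).trans <| by
    rw [commutator_le]
    intro t ht n hn
    have := (hall hn).2.1 t ht
    rw [show ⁅t, n⁆ = (n * t * n⁻¹ * t⁻¹)⁻¹ by rw [commutatorElement_def]; group]
    exact inv_mem this
  exact hA.not_prankLE_one ((le_centralizer_iff.mp (hTD.trans (Subgroup.centralizer_le hAD))).trans
    ((centralizer_le_normalizer _).trans hNM)) hpτ.2.2.2.2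

end CfsgLib.BG
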