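import Cfsg.Agent.Lib.BG.BetaAct
import Cfsg.Agent.Lib.BG.NonabelianUnique

/-!
# No nontrivial action on `C_{M_σ}(P)` when `P` lies in a `β`-core
-/

set_option autoImplicit false
set_option linter.style.haveILetI false
set_option linter.unusedSectionVars false

namespace CfsgLib.BG

open Subgroup CfsgLib.PLocal CfsgLib.OddLocal
open scoped commutatorElement

universe u
variable {G : Type u} [Group G] [Finite G] {M H : Subgroup G}
variable (hG : Cfsg.IsMinSimpleOddOrder G)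
include hG

/-- With `P ≤ H_β` no `R` of prime order `r ∈ τ₁(H)` moves a `q`-group of `C_{M_σ}(P)`. -/
theorem false_of_beta_act (hM : IsCoatom M) (hH : IsCoatom H) (hnc : ∀ g : G, conjMap g H ≠ M)
    {p q r : ℕ} [hp : Fact p.Prime] [hq : Fact q.Prime] [hr : Fact r.Prime] (hpτ : p ∈ Cfsg.tau1 M)
    (hpb : p ∈ Cfsg.beta H) (hqM : q ∈ Cfsg.sigma M) (hrτ : r ∈ Cfsg.tau1 H) (hrq : r ≠ q)
    {P Q R : Subgroup G} (hPM : P ≤ M) (hPH : P ≤ H) (hP : Nat.card P = p)
    (hR : Nat.card R = r) (hRH : R ≤ H) (hRP : R ≤ centralizer (P : Set G))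
    (hQ : IsPGroup q Q) (hQ1 : Q ≠ ⊥) (hQM : Q ≤ M) (hQP : Q ≤ centralizer (P : Set G))
    (hRQ : R ≤ normalizer (Q : Set G)) (hQR : ⁅Q, R⁆ = Q) : False := by
  have hnc' : ∀ g : G, conjMap g M ≠ H := fun g e => hnc g⁻¹ (by rw [← e, conjMap_inv_conjMap])
  have hpH := mem_sigma_of_mem_beta hG hH hpb
  have hqp : q ≠ p := fun e => hpτ.2.1 (e ▸ hqM)
  have hPp := isPGroup_of_card_prime hP
  obtain ⟨R', hR', -⟩ := exists_sylowIn_le (IsPGroup.of_bot (p := p) (G := G))
    (bot_le (a := Cfsg.sigmaCore H))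
  obtain ⟨⟨hCH, -⟩, -⟩ := centralizer_beta_or_derived hG hH hpH hPH hP hR' (Or.inl hpb)
  have hQH : Q ≤ H := hQP.trans hCH
  have hqb : q ∉ Cfsg.beta H := fun h => by
    obtain ⟨g, hg⟩ := eq_conj_of_alpha hG hM hH hqM h.1
    exact hnc g hg
  -- `N(Q) ≤ H`
  obtain ⟨L, hL, hNL⟩ := (eq_top_or_exists_le_coatom (normalizer (Q : Set G))).resolve_left
    (minSimple_normalizer_ne_top hG hQ1 fun h => hM.1 (top_le_iff.mp (h ▸ hQM)))
  have hNQ : normalizer (Q : Set G) ≤ H := by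
    by_contra hno
    have hne : L ≠ H := fun e => hno (e ▸ hNL)
    have hKb : ∀ t : ℕ, t.Prime → t ∣ Nat.card ↥(Q ⊔ R) → t ∉ Cfsg.beta H := by
      intro t ht hd
      rcases ht.dvd_mul.mp (hd.trans (card_sup_dvd hRQ)) with h | h
      · exact (prime_dvd_pgroup_card hQ ht h) ▸ hqb
      · rw [hR] at h
        exact ((Nat.prime_dvd_prime_iff_eq ht hr.out).mp h) ▸ fun hb =>
          hrτ.2.1 (mem_sigma_of_mem_beta hG hH hb)
    obtain ⟨D, hPD, -, hD, hDe, hDP, hKD, A, hAD, hA⟩ :=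
      exists_beta_witness hG hH hpb hPH hP (sup_le hQH hRH) (sup_le hQP hRP) hKb
    have hQD := commutator_centralizes_witness hG hH hpb hqp hrq hPH hP hPD hD hDe hDP hrτ hR hRP
      (le_sup_right.trans hKD) hQ hQ1 hQP (le_sup_left.trans hKD) hRQ hQR
    have hC : centralizer (Q : Set G) ≤ L := (centralizer_le_normalizer _).trans hNL
    exact hA.not_prankLE_one ((le_centralizer_iff.mp (hQD.trans (Subgroup.centralizer_le hAD))).trans hC)
      (prankLE_one_of_beta hG hH hpb hP hPH hL hne ((le_centralizer_iff.mp hQP).trans hC))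
  obtain ⟨y, hyQ, hyo⟩ := exists_order_p hQ hQ1
  -- `q ∈ σ(H)`
  have hqH : q ∈ Cfsg.sigma H := by
    by_contra hσ
    by_cases hr2 : Cfsg.PRankLE q 1 H
    · obtain ⟨S, hS, hQS⟩ := exists_sylowIn_le hQ hQH
      refine hσ (mem_sigma_of_normalizer_le
        ((dvd_card_of_pgroup_ne_bot hQ hQ1).trans (card_dvd_of_le hQH)) hS ?_)
      exact (normalizer_le_of_le_cyclic (isCyclic_pgroup_of_prankLE_one hG hS.2.1 hS.1 hr2) hQS).trans hNQ
    obtain ⟨a, ha, hao⟩ := exists_order_p hPp (ne_bot_of_card_prime hP)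
    have haσ : a ∈ Cfsg.sigmaCore H := le_sigmaCore_of_pi hG hH hPH (fun t ht hd =>
      (prime_dvd_pgroup_card hPp ht hd) ▸ hpH) ha
    have hy : centralizer ({y} : Set G) ≤ H := (centralizer_tau2_element hG hH (hQH hyQ)
      (fun e => hq.out.ne_one (by rw [← hyo, e, orderOf_one]))
      (fun t ht hd => by
        rw [hyo] at hd
        exact ((Nat.prime_dvd_prime_iff_eq ht hq.out).mp hd) ▸
          ⟨hq.out, hσ, prankLE_two_of_not_sigma hG hH hσ, hr2⟩)
      haσ (fun e => hp.out.ne_one (by rw [← hao, e, orderOf_one]))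
      (mem_centralizer_iff.mp (hQP hyQ) a ha).symm).1
    obtain ⟨T, hT, hQT⟩ := exists_sylowIn_le hQ hQM
    have hTtop := sylowIn_top hqM hT
    obtain ⟨B, hBH, hB⟩ := exists_sq_le_of_not_prankLE le_rfl hr2
    have hnc2 : ¬ IsCyclic T := by
      intro hc
      obtain ⟨g, -, hg⟩ := hTtop.exists_conj_le hB.isPGroup le_top
      haveI := hc
      exact (hB.conjMap g).not_isCyclic (isCyclic_of_le hg)
    obtain ⟨B', hB'T, hB', hyB'⟩ := exists_sq_mem (prime_ne_two_of_pgroup hG hQ hQ1) hT.2.1 hnc2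
      (hQT hyQ) hyo
    have hB'H : B' ≤ H := fun b hb => hy (mem_centralizer_singleton_iff.mpr
      (congrArg Subtype.val (hB'.comm.is_comm.comm ⟨b, hb⟩ ⟨y, hyB'⟩)))
    obtain ⟨B₀, hexc⟩ := exists_exc hG hH hσ hB' hB'H
    have h0 := hexc.inf_other hG hH hM (fun e => hnc 1 (by rw [conjMap_one, e])) (hB'T.trans hT.1)
    exact hp.out.ne_one (by
      rw [← hao, orderOf_eq_one_iff, ← mem_bot, ← h0]
      exact mem_inf.mpr ⟨haσ, hPM ha⟩)
  -- a `P`-invariant Sylow subgroup of `G` over `Q`, common to `M` and `H`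
  have hQσ : Q ≤ Cfsg.sigmaCore M := le_sigmaCore_of_pi hG hM hQM fun t ht hd =>
    (prime_dvd_pgroup_card hQ ht hd) ▸ hqM
  have hcop : (Nat.card P).Coprime (Nat.card (Cfsg.sigmaCore M)) :=
    coprime_sigmaCore hG hM fun t ht hd => (prime_dvd_pgroup_card hPp ht hd) ▸ hpτ.2.1
  obtain ⟨T', hQT, hPT⟩ := CfsgLib.Coprime.exists_invariant_sylow_ge
    (hPM.trans (le_normalizer_sigmaCore M)) hcop (Or.inl (isSolvable_of_le_max hG hM hPM)) hQ hQσ
    ((le_centralizer_iff.mp hQP).trans (centralizer_le_normalizer _))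
  set T := (T' : Subgroup (Cfsg.sigmaCore M)).map (Cfsg.sigmaCore M).subtype
  have hTM : SylowIn q T M := sylowIn_of_sigmaCore hG hM (sylowIn_map T') hqM
  have hTtop := sylowIn_top hqM hTM
  have hT1 : T ≠ ⊥ := fun e => hQ1 (le_bot_iff.mp (e ▸ hQT))
  have hr2 : Cfsg.PRankLE q 2 T := by
    by_contra h
    obtain ⟨g, hg⟩ := eq_conj_of_alpha hG hH hM hqH
      ⟨hq.out, fun h' => h (prankLE_mono hTM.1 h')⟩
    exact hnc' g hg
  have hab : IsMulCommutative T := by
    by_contra hna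
    obtain ⟨S, hS, -⟩ := exists_sylowIn_le (IsPGroup.of_bot (p := q) (G := G)) (bot_le (a := H))
    obtain ⟨g, -, hg⟩ := (sylowIn_top hqH hS).exists_conj_le hTM.2.1 le_top
    have hTH : T ≤ conjMap g⁻¹ H := by
      have := conjMap_mono (g := g⁻¹) (hg.trans hS.1)
      rwa [conjMap_inv_conjMap] at this
    exact hnc g⁻¹ ((unique_of_nonabelian hG hTM.2.1 hna).unique
      ⟨isCoatom_conjMap hH g⁻¹, hTH⟩ ⟨hM, hTM.1⟩)
  have hTH : T ≤ H := by
    refine le_trans (b := normalizer (Q : Set G)) (fun w hw => ?_) hNQ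
    exact centralizer_le_normalizer _ (mem_centralizer_iff.mpr fun b hb =>
      congrArg Subtype.val (hab.is_comm.comm ⟨b, hQT hb⟩ ⟨w, hw⟩))
  have hPC : P ≤ centralizer (T : Set G) := by
    set B := Cfsg.piCoreOf (Cfsg.beta H) H with hB
    have hBH : B ≤ H := map_subtype_le _
    have hBn : H ≤ normalizer (B : Set G) := by
      refine (normal_subgroupOf_iff_le_normalizer hBH).mp ?_
      rw [hB, Cfsg.piCoreOf, subgroupOf, comap_map_eq_self_of_injective H.subtype_injective]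
      infer_instance
    have hBhall : Cfsg.IsPiHallOf (Cfsg.beta H) B H := (Cfsg.Agent.S1414.result hG H hH).1
    have hPB : P ≤ B := fun x hx => by
      refine CfsgLib.Solvable.mem_of_coprime_relIndex
        ((normal_subgroupOf_iff_le_normalizer hBH).mpr hBn) (hPH hx) ?_
      refine coprime_of_forall fun t ht h1 h2 => ?_
      have htp := prime_dvd_pgroup_card hPp ht (h1.trans (orderOf_dvd_natCard P hx))
      exact hBhall.2.2 t ht (htp ▸ hpb) h2
    have hbot : T ⊓ B = ⊥ := CfsgLib.Coprime.inf_eq_bot_of_coprime (coprime_of_forall fun t ht h1 h2 =>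
      hqb ((prime_dvd_pgroup_card hTM.2.1 ht h1) ▸ hBhall.2.1 t ht h2))
    refine le_centralizer_iff.mp (commutator_eq_bot_iff_le_centralizer.mp (le_bot_iff.mp (hbot ▸ ?_)))
    exact le_inf (le_normalizer_iff_commutator_le_left.mp hPT)
      ((commutator_mono le_rfl hPB).trans (le_normalizer_iff_commutator_le_right.mp (hTH.trans hBn)))
  exact false_of_common_sylow hG hM hH hnc hpτ hpb hqM hqH hPM hPH hP hTtop hTM.1 hTH hab hr2 hT1 hPC

end CfsgLib.BG
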