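import Cfsg.Agent.Lib.BG.Sigma

/-!
# Complements `E` of `M_σ` in a maximal subgroup `M`
-/

set_option autoImplicit false
set_option linter.style.haveILetI false
set_option linter.unusedSectionVars false

namespace CfsgLib.BG

open Subgroup CfsgLib.PLocal CfsgLib.OddLocal
open scoped commutatorElement

universe u
variable {G : Type u} [Group G] [Finite G] {M E : Subgroup G}
variable (hG : Cfsg.IsMinSimpleOddOrder G) (hM : IsCoatom M)
include hG hM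

theorem card_compl (hE : Cfsg.IsComplIn E (Cfsg.sigmaCore M) M) :
    Nat.card E = (Cfsg.sigmaCore M).relIndex M := by
  refine Nat.eq_of_mul_eq_mul_left (Nat.card_pos (α := Cfsg.sigmaCore M)) ?_
  rw [CfsgLib.Coprime.card_mul_relIndex (sigmaCore_le M),
    ← CfsgLib.Coprime.card_sup_of_inf_eq_bot (hE.1.trans (le_normalizer_sigmaCore M)) hE.2.2.1,
    sup_comm, isComplIn_sup hE]

theorem not_sigma_of_dvd_compl (hE : Cfsg.IsComplIn E (Cfsg.sigmaCore M) M) {p : ℕ} (hp : p.Prime)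
    (h : p ∣ Nat.card E) : p ∉ Cfsg.sigma M := fun hσ =>
  (sigmaCore_hall hG hM).2.2 p hp hσ (card_compl hG hM hE ▸ h)

theorem coprime_sigmaCore {X : Subgroup G}
    (hX : ∀ p : ℕ, p.Prime → p ∣ Nat.card X → p ∉ Cfsg.sigma M) :
    (Nat.card X).Coprime (Nat.card (Cfsg.sigmaCore M)) :=
  coprime_of_forall fun r hr h1 h2 => hX r hr h1 (mem_sigma_of_dvd_sigmaCore hr h2)

theorem inf_sigmaCore_eq_bot {X : Subgroup G}
    (hX : ∀ p : ℕ, p.Prime → p ∣ Nat.card X → p ∉ Cfsg.sigma M) :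
    X ⊓ Cfsg.sigmaCore M = ⊥ :=
  CfsgLib.Coprime.inf_eq_bot_of_coprime (coprime_sigmaCore hG hM hX)

/-- A complement is a Hall `σ(M)'`-subgroup of `M`. -/
theorem compl_hall (hE : Cfsg.IsComplIn E (Cfsg.sigmaCore M) M) :
    Cfsg.IsPiHallOf {p | p ∉ Cfsg.sigma M} E M := by
  refine ⟨hE.1, fun p hp h => not_sigma_of_dvd_compl hG hM hE hp h, fun p hp hσ hd => ?_⟩
  have h1 := CfsgLib.Coprime.card_mul_relIndex hE.1
  rw [card_compl hG hM hE, ← CfsgLib.Coprime.card_mul_relIndex (sigmaCore_le M), mul_comm] at h1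
  have h2 : E.relIndex M = Nat.card (Cfsg.sigmaCore M) :=
    Nat.eq_of_mul_eq_mul_right (card_compl hG hM hE ▸ Nat.card_pos) h1
  exact hσ (mem_sigma_of_dvd_sigmaCore hp (h2 ▸ hd))

theorem isComplIn_of_hall {E : Subgroup G} (hE : Cfsg.IsPiHallOf {p | p ∉ Cfsg.sigma M} E M) :
    Cfsg.IsComplIn E (Cfsg.sigmaCore M) M := by
  have hinf := inf_sigmaCore_eq_bot hG hM hE.2.1
  have hn : E ≤ normalizer (Cfsg.sigmaCore M : Set G) := hE.1.trans (le_normalizer_sigmaCore M)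
  refine ⟨hE.1, sigmaCore_le M, hinf, fun m hm => ?_⟩
  have hsup : Cfsg.sigmaCore M ⊔ E = M := by
    refine eq_of_le_of_card_ge (sup_le (sigmaCore_le M) hE.1) ?_
    rw [CfsgLib.Coprime.card_sup_of_inf_eq_bot hn hinf,
      ← CfsgLib.Coprime.card_mul_relIndex (sigmaCore_le M)]
    refine Nat.mul_le_mul_left _ (Nat.le_of_dvd Nat.card_pos ?_)
    refine Nat.Coprime.dvd_of_dvd_mul_right (n := E.relIndex M) ?_ ?_
    · refine coprime_of_forall fun r hr h1 h2 => ?_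
      by_cases hσ : r ∈ Cfsg.sigma M
      · exact (sigmaCore_hall hG hM).2.2 r hr hσ h1
      · exact hE.2.2 r hr hσ h2
    · rw [CfsgLib.Coprime.card_mul_relIndex hE.1, ← CfsgLib.Coprime.card_mul_relIndex (sigmaCore_le M)]
      exact dvd_mul_left _ _
  rw [← hsup] at hm
  obtain ⟨a, ha, b, hb, h⟩ := (CfsgLib.Coprime.mem_sup_of_le_normalizer' hn).mp hm
  exact ⟨a, ha, b, hb, h.symm⟩

/-- A `σ(M)'`-subgroup of `M` lies in some complement of `M_σ`. -/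
theorem exists_compl_ge {X : Subgroup G} (hX : X ≤ M)
    (hπ : ∀ p : ℕ, p.Prime → p ∣ Nat.card X → p ∉ Cfsg.sigma M) :
    ∃ E, Cfsg.IsComplIn E (Cfsg.sigmaCore M) M ∧ X ≤ E := by
  obtain ⟨H, hH, -, hXH⟩ := CfsgLib.Coprime.exists_invariant_hall_ge (A := (⊥ : Subgroup G))
    (G := M) (π := {p | p ∉ Cfsg.sigma M}) bot_le (by simp) (isSolvable_of_le_max hG hM le_rfl)
    hX bot_le hπ
  exact ⟨H, isComplIn_of_hall hG hM hH, hXH⟩

theorem compl_conj (hE : Cfsg.IsComplIn E (Cfsg.sigmaCore M) M) {E' : Subgroup G}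
    (hE' : Cfsg.IsComplIn E' (Cfsg.sigmaCore M) M) :
    ∃ c ∈ Cfsg.sigmaCore M, conjMap c E' = E := by
  obtain ⟨c, hc, h⟩ := CfsgLib.Coprime.exists_conj_eq_of_coprime
    (hE'.1.trans (le_normalizer_sigmaCore M)) (hE.1.trans (le_normalizer_sigmaCore M))
    (by rw [sup_comm, isComplIn_sup hE', sup_comm, isComplIn_sup hE])
    (coprime_sigmaCore hG hM fun p hp h => not_sigma_of_dvd_compl hG hM hE' hp h)
    (coprime_sigmaCore hG hM fun p hp h => not_sigma_of_dvd_compl hG hM hE hp h)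
    (Or.inl (isSolvable_of_le_max hG hM hE'.1))
  exact ⟨c, hc, h.symm⟩

theorem exists_conj_le_compl (hE : Cfsg.IsComplIn E (Cfsg.sigmaCore M) M) {X : Subgroup G}
    (hX : X ≤ M) (hπ : ∀ p : ℕ, p.Prime → p ∣ Nat.card X → p ∉ Cfsg.sigma M) :
    ∃ c ∈ Cfsg.sigmaCore M, conjMap c X ≤ E := by
  obtain ⟨E', hE', hXE'⟩ := exists_compl_ge hG hM hX hπ
  obtain ⟨c, hc, h⟩ := compl_conj hG hM hE hE'
  exact ⟨c, hc, h ▸ conjMap_mono hXE'⟩

theorem compl_conjMap (hE : Cfsg.IsComplIn E (Cfsg.sigmaCore M) M) {m : G} (hm : m ∈ M) :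
    Cfsg.IsComplIn (conjMap m E) (Cfsg.sigmaCore M) M :=
  isComplIn_of_hall hG hM (CfsgLib.Coprime.isPiHallOf_map_conj (compl_hall hG hM hE)
    (le_normalizer hm))

theorem sylowIn_of_compl (hE : Cfsg.IsComplIn E (Cfsg.sigmaCore M) M) {p : ℕ} [hp : Fact p.Prime]
    (hσ : p ∉ Cfsg.sigma M) {T : Subgroup G} (hT : SylowIn p T E) : SylowIn p T M := by
  refine ⟨hT.1.trans hE.1, hT.2.1, fun hd => ?_⟩
  rw [← relIndex_mul_relIndex _ _ _ hT.1 hE.1] at hd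
  exact (hp.out.dvd_mul.mp hd).elim hT.2.2 ((compl_hall hG hM hE).2.2 p hp.out hσ)

theorem sylowIn_compl_of (hE : Cfsg.IsComplIn E (Cfsg.sigmaCore M) M) {p : ℕ} [Fact p.Prime]
    {T : Subgroup G} (hT : SylowIn p T M) (hTE : T ≤ E) : SylowIn p T E :=
  ⟨hTE, hT.2.1, fun hd => hT.2.2 (hd.trans ⟨E.relIndex M, (relIndex_mul_relIndex _ _ _ hTE hE.1).symm⟩)⟩

theorem derived_eq (hE : Cfsg.IsComplIn E (Cfsg.sigmaCore M) M) :
    ⁅M, M⁆ = Cfsg.sigmaCore M ⊔ ⁅E, E⁆ := by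
  refine le_antisymm ?_ (sup_le (sigmaCore_le_derived hG hM) (commutator_mono hE.1 hE.1))
  set N := Cfsg.sigmaCore M
  have hE' : ⁅E, E⁆ ≤ E := (commutator_mono le_rfl le_normalizer).trans
    (le_normalizer_iff_commutator_le_left.mp le_rfl)
  rw [commutator_le]
  intro a ha b hb
  obtain ⟨e, he, x, hx, rfl⟩ := hE.2.2.2 a ha
  obtain ⟨f, hf, y, hy, rfl⟩ := hE.2.2.2 b hb
  have hN : ∀ g ∈ M, ∀ z ∈ N, g * z * g⁻¹ ∈ N := fun g hg z hz =>
    (mem_normalizer_iff.mp (le_normalizer_sigmaCore M hg) z).mp hz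
  have heq : ⁅e * x, f * y⁆ = e * x * e⁻¹ * ((e * f) * y * (e * f)⁻¹) *
      ((e * f) * x⁻¹ * (e * f)⁻¹) * ((e * f * e⁻¹) * y⁻¹ * (e * f * e⁻¹)⁻¹) * ⁅e, f⁆ := by
    simp only [commutatorElement_def]; group
  rw [heq]
  have heM := hE.1 he
  have hfM := hE.1 hf
  exact mul_mem (mem_sup_left (mul_mem (mul_mem (mul_mem (hN e heM x hx)
    (hN _ (mul_mem heM hfM) y hy)) (hN _ (mul_mem heM hfM) _ (inv_mem hx)))
    (hN _ (mul_mem (mul_mem heM hfM) (inv_mem heM)) _ (inv_mem hy))))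
    (mem_sup_right (commutator_mem_commutator he hf))

/-- `E'` is nilpotent. -/
theorem derived_compl_nilpotent (hE : Cfsg.IsComplIn E (Cfsg.sigmaCore M) M) :
    Group.IsNilpotent ↥⁅E, E⁆ := by
  obtain ⟨-, -, hασ, -, hnil⟩ := Cfsg.Agent.S1405.result hG M hM
  set f := QuotientGroup.mk' (Cfsg.piCore (Cfsg.alpha M) ↥M)
  have hle : ⁅E, E⁆ ≤ E := le_normalizer_iff_commutator_le_left.mp le_normalizer
  have hmem : ∀ x : ↥⁅E, E⁆, (⟨x, hE.1 (hle x.2)⟩ : M) ∈ commutator ↥M := by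
    intro x
    have hx : (x : G) ∈ (commutator ↥M).map M.subtype := by
      rw [Subgroup.map_subtype_commutator]
      exact commutator_mono hE.1 hE.1 x.2
    obtain ⟨y, hy, hyx⟩ := hx
    have : (⟨x, hE.1 (hle x.2)⟩ : M) = y := Subtype.ext hyx.symm
    rw [this]; exact hy
  let φ : ↥⁅E, E⁆ →* ↥((commutator ↥M).map f) :=
    (f.comp (Subgroup.inclusion (hle.trans hE.1))).codRestrict _ fun x =>
      ⟨⟨x, hE.1 (hle x.2)⟩, hmem x, rfl⟩
  have hinj : Function.Injective φ := by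
    rw [injective_iff_map_eq_one]
    intro x hx
    have h1 : (⟨x, hE.1 (hle x.2)⟩ : M) ∈ Cfsg.piCore (Cfsg.alpha M) ↥M :=
      (QuotientGroup.eq_one_iff _).mp (congrArg Subtype.val hx)
    have h2 : (x : G) ∈ E ⊓ Cfsg.sigmaCore M :=
      ⟨hle x.2, hασ ⟨⟨x, hE.1 (hle x.2)⟩, h1, rfl⟩⟩
    rw [hE.2.2.1, mem_bot] at h2
    exact Subtype.ext h2
  haveI := hnil
  exact Subgroup.isNilpotent_of_ker_le_center φ (by rw [(MonoidHom.ker_eq_bot_iff φ).mpr hinj]; exact bot_le)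

theorem inf_derived_eq (hE : Cfsg.IsComplIn E (Cfsg.sigmaCore M) M) {X : Subgroup G} (hX : X ≤ E)
    (hXM : X ≤ ⁅M, M⁆) : X ≤ ⁅E, E⁆ := by
  intro x hx
  have hle : ⁅E, E⁆ ≤ E := le_normalizer_iff_commutator_le_left.mp le_normalizer
  have h := hXM hx
  rw [derived_eq hG hM hE] at h
  obtain ⟨n, hn, e, he, rfl⟩ := (CfsgLib.Coprime.mem_sup_of_le_normalizer
    ((hle.trans hE.1).trans (le_normalizer_sigmaCore M))).mp h
  have h1 : n ∈ E ⊓ Cfsg.sigmaCore M := mem_inf.mpr ⟨(mul_mem_cancel_right (hle he)).mp (hX hx), hn⟩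
  rw [hE.2.2.1, mem_bot] at h1
  rwa [h1, one_mul]

end CfsgLib.BG
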