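import Cfsg.Agent.Lib.BG.Signalizer
import Cfsg.Agent.Lib.OddLocal.HallHigmanFix

/-!
# Exceptional maximal subgroups: some line `A₀` of `A` has `N_G(A₀) ≤ M`
-/

set_option autoImplicit false
set_option linter.style.haveILetI false
set_option linter.unusedSectionVars false

namespace CfsgLib.BG

open Subgroup CfsgLib.PLocal CfsgLib.OddLocal
open scoped commutatorElement

universe u
variable {G : Type u} [Group G] [Finite G] {M : Subgroup G} {p : ℕ} [hp : Fact p.Prime]
  {A A₀ : Subgroup G}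

/-- `M` is exceptional for the line `A₀` of `A`. -/
structure IsExc (p : ℕ) (M A A₀ : Subgroup G) : Prop where
  not_sigma : p ∉ Cfsg.sigma M
  sq : IsSq p A
  le : A ≤ M
  line : IsLine p A A₀
  norm : normalizer (A₀ : Set G) ≤ M

theorem IsExc.centralizer_le (h : IsExc p M A A₀) : centralizer (A : Set G) ≤ M :=
  ((Subgroup.centralizer_le h.line.1).trans (centralizer_le_normalizer _)).trans h.norm

theorem IsExc.conj (h : IsExc p M A A₀) (g : G) :
    IsExc p (conjMap g M) (conjMap g A) (conjMap g A₀) where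
  not_sigma := by rw [sigma_conjMap]; exact h.not_sigma
  sq := h.sq.conjMap g
  le := conjMap_mono h.le
  line := ⟨conjMap_mono h.line.1, by rw [card_conjMap, h.line.2]⟩
  norm := by rw [← conjMap_normalizer]; exact conjMap_mono h.norm

theorem pow_mem_of_pow_two {H : Subgroup G} {g : G} (hodd : Odd (orderOf g)) (h : g ^ 2 ∈ H) :
    g ∈ H := by
  obtain ⟨k, hk⟩ := hodd
  have : g = (g ^ 2) ^ (k + 1) := by
    rw [← pow_mul]
    calc g = g ^ (orderOf g) * g := by rw [pow_orderOf_eq_one, one_mul]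
      _ = g ^ (2 * (k + 1)) := by rw [hk, ← pow_succ]; congr 1
  rw [this]
  exact pow_mem h _

variable (hG : Cfsg.IsMinSimpleOddOrder G) (hM : IsCoatom M)
include hG hM

theorem IsExc.inf_conj (h : IsExc p M A A₀) {g : G} (hg : g ∉ M) (hAg : A ≤ conjMap g M) :
    Cfsg.sigmaCore M ⊓ conjMap g M = ⊥ :=
  sigmaCore_inf_conj hG hM h.not_sigma h.sq h.le h.centralizer_le hg hAg

theorem IsExc.fpf_conj (h : IsExc p M A A₀) {g : G} (hg : g ∉ M) (hAg : A ≤ conjMap g M) :
    Cfsg.sigmaCore M ⊓ centralizer (conjMap g A₀ : Set G) = ⊥ :=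
  le_bot_iff.mp ((inf_le_inf_left _ ((centralizer_le_normalizer _).trans
    ((conjMap_normalizer g A₀).ge.trans (conjMap_mono h.norm)))).trans
      (h.inf_conj hG hM hg hAg).le)

theorem IsExc.isMaxSq (h : IsExc p M A A₀) : IsMaxSq p A :=
  isMaxSq_of_not_sigma hG hM h.not_sigma h.sq h.le

theorem IsExc.sylow_center (h : IsExc p M A A₀) {P : Subgroup G} (hP : SylowIn p P M) (hAP : A ≤ P) :
    P ≤ centralizer (A : Set G) := by
  by_contra hPA
  have hmax := h.isMaxSq hG hM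
  set C := P ⊓ centralizer (A : Set G) with hC
  have hAC : A ≤ C := le_inf hAP h.sq.le_centralizer
  obtain ⟨x, hx, hxn, hxC⟩ := CfsgLib.Transfer.exists_mem_normalizer_not_mem hP.2.1
    (lt_of_le_of_ne inf_le_left fun heq => hPA (heq.ge.trans inf_le_right) : C < P)
  have hxA : x ∈ normalizer (A : Set G) := by
    have key : ∀ a ∈ A, ∀ y, y ∈ normalizer (C : Set G) → y * a * y⁻¹ ∈ A := by
      intro a ha y hy
      have h1 := (mem_normalizer_iff.mp hy a).mp (hAC ha)
      exact hmax.mem_of_pow_eq_one h1.2 (by rw [conj_pow, h.sq.1.2 a ha]; group)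
    rw [mem_normalizer_iff]
    intro a
    refine ⟨fun ha => key a ha x hxn, fun ha => ?_⟩
    have := key _ ha x⁻¹ (inv_mem hxn)
    simpa [mul_assoc] using this
  have hxc : x ∉ centralizer (A : Set G) := fun hc => hxC ⟨hx, hc⟩
  obtain ⟨g, hg, hgM⟩ : ∃ g ∈ normalizer (P : Set G), g ∉ M := by
    by_contra hno
    push Not at hno
    exact h.not_sigma (mem_sigma_of_normalizer_le
      ((dvd_card_of_pgroup_ne_bot h.sq.isPGroup h.sq.ne_bot).trans (card_dvd_of_le h.le)) hP hno)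
  -- the central elements of order `p` of `P` form a line `Z`
  set Z := closure {z : G | z ∈ P ∧ z ∈ centralizer (P : Set G) ∧ z ^ p = 1} with hZ
  have hZA : Z ≤ A := (closure_le _).mpr fun z hz =>
    hmax.mem_of_pow_eq_one (Subgroup.centralizer_le hAP hz.2.1) hz.2.2
  have hZP : Z ≤ centralizer (P : Set G) := (closure_le _).mpr fun z hz => hz.2.1
  have hZn : g ∈ normalizer (Z : Set G) := by
    have key : ∀ g : G, g ∈ normalizer (P : Set G) → conjMap g Z ≤ Z := by
      intro g hg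
      rw [conjMap, map_le_iff_le_comap, hZ, closure_le]
      rintro z ⟨h1, h2, h3⟩
      refine subset_closure ⟨(mem_normalizer_iff.mp hg z).mp h1,
        (mem_normalizer_iff.mp (CfsgLib.Comp.le_normalizer_centralizer le_rfl hg) z).mp h2, ?_⟩
      show (g * z * g⁻¹) ^ p = 1
      rw [conj_pow, h3]; group
    rw [← conjMap_eq_self_iff]
    refine le_antisymm (key g hg) fun z hz => ?_
    have := key g⁻¹ (inv_mem hg) (conj_mem_conjMap (g := g⁻¹) hz)
    refine mem_conjMap.mpr ?_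
    simpa [mul_assoc] using this
  have hZ1 : Z ≠ ⊥ := by
    have hp1 : P ≠ ⊥ := fun h' => h.sq.ne_bot (le_bot_iff.mp (h' ▸ hAP))
    haveI : Nontrivial P := nontrivial_iff_ne_bot P |>.mpr hp1
    haveI := hP.2.1.center_nontrivial
    obtain ⟨y, hy, hyo⟩ := exists_order_p (P := (center P).map P.subtype)
      ((hP.2.1.to_subgroup _).map P.subtype) (by
        rw [Ne, map_eq_bot_iff_of_injective _ P.subtype_injective]
        exact (nontrivial_iff_ne_bot _).mp inferInstance)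
    obtain ⟨w, hwc, rfl⟩ := hy
    intro h'
    have hmem : (w : G) ∈ Z := subset_closure ⟨w.2, mem_centralizer_iff.mpr fun a ha =>
      congrArg Subtype.val (mem_center_iff.mp hwc ⟨a, ha⟩), by
        show (P.subtype w) ^ p = 1
        rw [← hyo]; exact pow_orderOf_eq_one _⟩
    rw [h', mem_bot] at hmem
    exact hp.out.ne_one (hyo ▸ orderOf_eq_one_iff.mpr hmem)
  obtain ⟨z, hz, hz1⟩ := (bot_or_exists_ne_one Z).resolve_left hZ1
  have hZl : IsLine p A (zpowers z) := h.sq.card_zpowers (hZA hz) hz1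
  have hZx : ∀ w ∈ Z, x * w = w * x := fun w hw => mem_centralizer_iff.mp (hZP hw) x hx
  have hlineZ : ∀ Y, IsLine p A Y → Y ≤ Z → Y = zpowers z := by
    intro Y hY hYZ
    by_contra hne
    have hAZ : A ≤ Z := hY.sup_eq h.sq hZl hne ▸ sup_le hYZ (zpowers_le.mpr hz)
    exact hxc (mem_centralizer_iff.mpr fun a ha => (hZx a (hAZ ha)).symm)
  have hZeq : Z = zpowers z := by
    refine le_antisymm (fun w hw => ?_) (zpowers_le.mpr hz)
    rcases eq_or_ne w 1 with rfl | hw1
    · exact one_mem _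
    exact hlineZ _ (h.sq.card_zpowers (hZA hw) hw1) (zpowers_le.mpr hw) ▸ mem_zpowers w
  have hA₀Z : A₀ ≠ Z := fun heq => hgM (h.norm (heq ▸ hZn))
  -- the lines other than `Z` are `⟨x⟩`-conjugates of `A₀`
  have hlines : ∀ Y, IsLine p A Y → Y ≠ Z → ∃ u ∈ zpowers x, conjMap u A₀ = Y := by
    obtain ⟨a, ha, ha1⟩ := (bot_or_exists_ne_one A₀).resolve_left (ne_bot_of_card_prime h.line.2)
    have hza := zpowers_eq_of_card_prime h.line.2 ha ha1
    have haA : a ∈ A := h.line.1 ha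
    set c := x * a * x⁻¹ * a⁻¹ with hc
    have hcA : c ∈ A := mul_mem ((mem_normalizer_iff.mp hxA a).mp haA) (inv_mem haA)
    set K := A ⊔ zpowers x
    have hKP : K ≤ P := sup_le hAP (zpowers_le.mpr hx)
    have hKn : K ≤ normalizer (A : Set G) := sup_le le_normalizer (zpowers_le.mpr hxA)
    have hcD : c ∈ ⁅A, K⁆ := by
      have := commutator_mem_commutator (mem_sup_right (mem_zpowers x) : x ∈ K) haA
      rw [commutator_comm]
      exact this
    -- `x` centralizes `[A, K]`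
    have hcx : x * c = c * x := by
      set D := ⁅A, K⁆
      have hDA : D ≤ A := le_normalizer_iff_commutator_le_left.mp hKn
      haveI := (hP.2.1.to_le hKP).isNilpotent
      have hDK : ⁅D, K⁆ ≤ D := commutator_mono hDA le_rfl
      by_contra hxc'
      have hDlt : D ≠ A := fun heq => h.sq.ne_bot
        (CfsgLib.Transfer.eq_bot_of_le_commutator (le_sup_left : A ≤ K) heq.ge)
      have hD1 : ⁅D, K⁆ ≠ ⊥ := fun h0 => hxc' (by
        rw [commutator_eq_bot_iff_le_centralizer] at h0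
        exact mem_centralizer_iff.mp (h0 hcD) x (mem_sup_right (mem_zpowers x)))
      have hDcard : Nat.card D = p := by
        have hd := card_dvd_of_le hDA
        rw [h.sq.2] at hd
        obtain ⟨j, hj, hcard⟩ := (Nat.dvd_prime_pow hp.out).mp hd
        interval_cases j
        · exact absurd (le_bot_iff.mp (hDK.trans (card_eq_one.mp (by rw [hcard, pow_zero])).le)) hD1
        · rw [hcard, pow_one]
        · exact absurd (eq_of_le_of_card_ge hDA (by rw [hcard, h.sq.2])) hDlt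
      have heq : ⁅D, K⁆ = D := by
        refine eq_of_le_of_card_ge hDK ?_
        have hd := card_dvd_of_le hDK
        rw [hDcard] at hd ⊢
        exact (((Nat.dvd_prime hp.out).mp hd).resolve_left fun h1 => hD1 (card_eq_one.mp h1)).ge
      have hD0 := CfsgLib.Transfer.eq_bot_of_le_commutator (hDA.trans le_sup_left : D ≤ K) heq.ge
      exact hD1 (le_bot_iff.mp (hDK.trans hD0.le))
    have hc1 : c ≠ 1 := by
      intro h0
      apply hxc
      rw [mem_centralizer_iff]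
      intro b hb
      have hA : A = zpowers a ⊔ zpowers z :=
        hza.symm ▸ (h.line.sup_eq h.sq hZl (hZeq ▸ hA₀Z)).symm
      have hle : A ≤ centralizer ({x} : Set G) := by
        rw [hA, sup_le_iff, zpowers_le, zpowers_le, mem_centralizer_singleton_iff,
          mem_centralizer_singleton_iff]
        exact ⟨(mul_inv_eq_iff_eq_mul.mp (mul_inv_eq_one.mp h0)).symm, (hZx z hz).symm⟩
      exact mem_centralizer_singleton_iff.mp (hle hb)
    have hcZ : c ∈ Z := by
      have hYl : IsLine p A (zpowers c) := h.sq.card_zpowers hcA hc1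
      rcases eq_or_ne (zpowers c) (zpowers z) with heq | hne
      · rw [hZeq, ← heq]; exact mem_zpowers c
      exfalso
      have hA := hYl.sup_eq h.sq hZl hne
      refine hxc (mem_centralizer_iff.mpr fun b hb => ?_)
      have hle : A ≤ centralizer ({x} : Set G) := by
        rw [← hA, sup_le_iff, zpowers_le, zpowers_le, mem_centralizer_singleton_iff,
          mem_centralizer_singleton_iff]
        exact ⟨hcx.symm, (hZx z hz).symm⟩
      exact mem_centralizer_singleton_iff.mp (hle hb)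
    intro Y hY hYZ
    obtain ⟨y, hy, hy1⟩ := (bot_or_exists_ne_one Y).resolve_left (ne_bot_of_card_prime hY.2)
    have hA : zpowers z ⊔ zpowers a = A := by
      rw [hza, sup_comm]; exact h.line.sup_eq h.sq hZl (hZeq ▸ hA₀Z)
    have hn : zpowers a ≤ normalizer (zpowers z : Set G) :=
      (zpowers_le.mpr haA).trans (h.sq.le_centralizer.trans
        ((Subgroup.centralizer_le hZl.1).trans (centralizer_le_normalizer _)))
    obtain ⟨_, ⟨k, rfl⟩, _, ⟨i, rfl⟩, hki⟩ :=
      (CfsgLib.Coprime.mem_sup_of_le_normalizer hn).mp (hA.symm ▸ hY.1 hy)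
    simp only at hki
    have hzc : zpowers c = zpowers z := zpowers_eq_of_card_prime hZl.2 (hZeq ▸ hcZ) hc1
    obtain ⟨n, hn'⟩ : z ^ k ∈ zpowers c := hzc ▸ zpow_mem (mem_zpowers z) k
    simp only at hn'
    have hoa : orderOf a = p := by rw [← Nat.card_zpowers, hza, h.line.2]
    have hi : ¬ (p : ℤ) ∣ i := by
      intro hd
      apply hYZ
      have h1 : a ^ i = 1 := orderOf_dvd_iff_zpow_eq_one.mp (hoa ▸ hd)
      have h2 : y ∈ zpowers z := by rw [← hki, h1, mul_one]; exact zpow_mem (mem_zpowers z) k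
      rw [hZeq, ← zpowers_eq_of_card_prime hY.2 hy hy1]
      exact zpowers_eq_of_card_prime hZl.2 h2 hy1
    obtain ⟨i', hi'⟩ : ∃ i' : ℤ, (p : ℤ) ∣ i * i' - 1 := by
      obtain ⟨u, v, huv⟩ := ((Nat.prime_iff_prime_int.mp hp.out).coprime_iff_not_dvd.mpr hi)
      exact ⟨v, -u, by linear_combination huv⟩
    refine ⟨x ^ (n * i'), zpow_mem (mem_zpowers x) _, ?_⟩
    refine eq_of_le_of_card_ge ?_ (by rw [card_conjMap, h.line.2, hY.2])
    rw [← hza, conjMap, MonoidHom.map_zpowers, zpowers_le]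
    show x ^ (n * i') * a * (x ^ (n * i'))⁻¹ ∈ Y
    have hconj : ∀ m : ℤ, x ^ m * a * (x ^ m)⁻¹ = c ^ m * a := by
      have hxc2 : Commute x c := hcx
      have hstep : x * a * x⁻¹ = c * a := by rw [hc]; group
      intro m
      induction m using Int.induction_on with
      | zero => simp
      | succ m ih =>
        rw [zpow_add_one, zpow_add_one]
        calc x ^ (m : ℤ) * x * a * (x ^ (m : ℤ) * x)⁻¹
            = x ^ (m : ℤ) * (x * a * x⁻¹) * (x ^ (m : ℤ))⁻¹ := by group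
          _ = x ^ (m : ℤ) * c * a * (x ^ (m : ℤ))⁻¹ := by rw [hstep]; group
          _ = c * (x ^ (m : ℤ) * a * (x ^ (m : ℤ))⁻¹) := by
              rw [(hxc2.zpow_left (m : ℤ)).eq]; group
          _ = c ^ (m : ℤ) * c * a := by rw [ih, ← mul_assoc, ← (Commute.zpow_self c (m : ℤ)).eq]
      | pred m ih =>
        rw [zpow_sub_one, zpow_sub_one]
        have hstep' : x⁻¹ * a * x = c⁻¹ * a := by
          have : a = c * (x⁻¹ * a * x) := by
            calc a = x⁻¹ * (x * a * x⁻¹) * x := by group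
              _ = x⁻¹ * c * a * x := by rw [hstep]; group
              _ = c * (x⁻¹ * a * x) := by rw [(hxc2.inv_left).eq]; group
          conv_rhs => rw [this]
          group
        calc x ^ (-(m : ℤ)) * x⁻¹ * a * (x ^ (-(m : ℤ)) * x⁻¹)⁻¹
            = x ^ (-(m : ℤ)) * (x⁻¹ * a * x) * (x ^ (-(m : ℤ)))⁻¹ := by group
          _ = x ^ (-(m : ℤ)) * c⁻¹ * a * (x ^ (-(m : ℤ)))⁻¹ := by rw [hstep']; group
          _ = c⁻¹ * (x ^ (-(m : ℤ)) * a * (x ^ (-(m : ℤ)))⁻¹) := by
              rw [((hxc2.zpow_left (-(m : ℤ))).inv_right).eq]; group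
          _ = c ^ (-(m : ℤ)) * c⁻¹ * a := by
              rw [ih, ← mul_assoc, ← ((Commute.zpow_self c (-(m : ℤ))).inv_right).eq]
    rw [hconj]
    have hya : c ^ (n * i') * a = y ^ i' := by
      have hcomm : Commute (c ^ n) (a ^ i) :=
        (show Commute c a from elemAb_comm h.sq.1 hcA haA).zpow_zpow n i
      rw [← hki, ← hn', hcomm.mul_zpow, ← zpow_mul, ← zpow_mul]
      congr 1
      calc a = a ^ (1 : ℤ) := (zpow_one a).symm
        _ = a ^ (i * i') := zpow_eq_zpow_iff_modEq.mpr (Int.modEq_iff_dvd.mpr (hoa ▸ hi'))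
    rw [hya]
    exact zpow_mem hy i'
  -- every line of `gAg⁻¹` other than `Z` is fixed-point-free on `M_σ`
  have hgP : conjMap g P = P := conjMap_eq_self_iff.mpr hg
  have hgA : conjMap g A ≤ M := (conjMap_mono hAP).trans (hgP.le.trans hP.1)
  have hgZ : conjMap g Z = Z := conjMap_eq_self_iff.mpr hZn
  have hcentZ : Cfsg.sigmaCore M ≤ centralizer (Z : Set G) := by
    refine (h.sq.conjMap g).le_of_forall_line (hgA.trans (le_normalizer_sigmaCore M))
      (not_dvd_sigmaCore hG hM h.not_sigma) fun Y hY => ?_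
    have hY' : IsLine p A (conjMap g⁻¹ Y) := ⟨by
      have := conjMap_mono (g := g⁻¹) hY.1
      rwa [conjMap_inv_conjMap] at this, by rw [card_conjMap, hY.2]⟩
    rcases eq_or_ne (conjMap g⁻¹ Y) Z with heq | hne
    · rw [← conjMap_conjMap_inv g Y, heq, hgZ]; exact inf_le_right
    obtain ⟨u, hu, huY⟩ := hlines _ hY' hne
    have huP : u ∈ P := zpowers_le.mpr hx hu
    rw [← conjMap_conjMap_inv g Y, ← huY, conjMap_conjMap,
      h.fpf_conj hG hM (fun hgu => hgM ((mul_mem_cancel_right (hP.1 huP)).mp hgu))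
        (hAP.trans (le_trans (le_of_eq ?_) (conjMap_mono hP.1)))]
    · exact bot_le
    · rw [← conjMap_conjMap, conjMap_eq_of_mem huP, hgP]
  -- contradiction with the transitivity theorem
  obtain ⟨q, hq, hqd⟩ := exists_prime_dvd_of_ne_bot hG (sigmaCore_ne_bot hG hM)
  haveI : Fact q.Prime := ⟨hq⟩
  have hqσ := mem_sigma_of_dvd_sigmaCore hq hqd
  have hAg : A ≤ conjMap g M := hAP.trans (hgP.ge.trans (conjMap_mono hP.1))
  have hM' := isCoatom_conjMap hM g
  obtain ⟨Q, -, hQ, hQσ, -, hQmax⟩ := exists_inv_sylow hG hM (coprime_of_isSq hG hM h.not_sigma h.sq)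
    h.le hqσ (IsPGroup.of_bot (p := q) (G := G)) bot_le (by rw [normalizer_eq_top]; exact le_top)
  have hqσ' : q ∈ Cfsg.sigma (conjMap g M) := by rwa [sigma_conjMap]
  obtain ⟨Q', -, hQ', hQσ', -, hQmax'⟩ := exists_inv_sylow hG hM'
    (coprime_of_isSq hG hM' (by rw [sigma_conjMap]; exact h.not_sigma) h.sq)
    hAg hqσ' (IsPGroup.of_bot (p := q) (G := G)) bot_le (by rw [normalizer_eq_top]; exact le_top)
  have hQ'Z : Q' ≤ centralizer (Z : Set G) := by
    refine hQσ'.trans ?_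
    rw [sigmaCore_conjMap]
    intro w hw
    obtain ⟨v, hv, rfl⟩ := hw
    have h1 := (mem_normalizer_iff.mp (CfsgLib.Comp.le_normalizer_centralizer le_rfl hZn) v).mp
      (hcentZ hv)
    exact h1
  have hqA : ¬ q ∣ Nat.card A := fun hd =>
    h.not_sigma ((prime_dvd_pgroup_card h.sq.isPGroup hq hd) ▸ hqσ)
  have hQ1 : Q ≠ ⊥ := fun h0 => by
    have := hQ.2.2
    rw [h0, relIndex_bot_left] at this
    exact this (hqd.trans (card_dvd_of_le (sigmaCore_le M)))
  have hQ'1 : Q' ≠ ⊥ := fun h0 => by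
    have := hQ'.2.2
    rw [h0, relIndex_bot_left, card_conjMap] at this
    exact this (hqd.trans (card_dvd_of_le (sigmaCore_le M)))
  have hH : normalizer (Z : Set G) ≠ ⊤ := minSimple_normalizer_ne_top hG hZ1
    fun h0 => hM.1 (top_le_iff.mp (h0 ▸ hZA.trans h.le))
  have hCZ : centralizer (Z : Set G) ≤ normalizer (Z : Set G) := centralizer_le_normalizer _
  obtain ⟨k, hk, hkQ⟩ := Cfsg.Agent.S1392.result hG A
    (transitivity_of_isMaxSq hG hmax) q hq hqA Q Q' hQmax hQmax'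
    (normalizer (Z : Set G)) hH (h.sq.le_centralizer.trans ((Subgroup.centralizer_le hZA).trans hCZ))
    (fun h0 => hQ1 (le_bot_iff.mp ((le_inf ((hQσ.trans hcentZ).trans hCZ) le_rfl).trans h0.le)))
    (fun h0 => hQ'1 (le_bot_iff.mp ((le_inf (hQ'Z.trans hCZ) le_rfl).trans h0.le)))
  have hQ'M : Q' ≤ Cfsg.sigmaCore M := by
    rw [hkQ, ← conjMap_eq_self_iff.mpr
      (le_normalizer_sigmaCore M (h.centralizer_le (piCoreOf_le _ _ hk)))]
    exact conjMap_mono hQσ
  exact hQ'1 (le_bot_iff.mp ((le_inf hQ'M hQ'.1).trans (h.inf_conj hG hM hgM hAg).le))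

/-- The Sylow `p`-subgroups of `M` containing `A` are abelian with `Ω₁ = A`. -/
theorem IsExc.sylow_abelian (h : IsExc p M A A₀) {P : Subgroup G} (hP : SylowIn p P M) (hAP : A ≤ P) :
    IsMulCommutative P ∧ (∀ x ∈ P, x ^ p = 1 ↔ x ∈ A) ∧
      normalizer (P : Set G) ≤ normalizer (A : Set G) := by
  have hc := h.sylow_center hG hM hP hAP
  have hmax := h.isMaxSq hG hM
  have hiff : ∀ x ∈ P, x ^ p = 1 ↔ x ∈ A := fun x hx =>
    ⟨fun h1 => hmax.mem_of_pow_eq_one (hc hx) h1, fun h1 => h.sq.1.2 x h1⟩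
  refine ⟨?_, hiff, fun g hg => ?_⟩
  · obtain ⟨S, hS, hPS⟩ := exists_sylowIn_le hP.2.1 (le_top (a := P))
    obtain ⟨hab, -⟩ := hmax.centralizer_sylow hG hS (hAP.trans hPS)
    exact ⟨⟨fun a b => Subtype.ext (congrArg Subtype.val (hab.is_comm.comm
      ⟨a, mem_inf.mpr ⟨hPS a.2, hc a.2⟩⟩ ⟨b, mem_inf.mpr ⟨hPS b.2, hc b.2⟩⟩) :)⟩⟩
  · have key : ∀ g : G, g ∈ normalizer (P : Set G) → ∀ a ∈ A, g * a * g⁻¹ ∈ A := fun g hg a ha =>
      (hiff _ ((mem_normalizer_iff.mp hg a).mp (hAP ha))).mp (by rw [conj_pow, h.sq.1.2 a ha]; group)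
    rw [mem_normalizer_iff]
    intro a
    refine ⟨key g hg a, fun ha => ?_⟩
    have := key g⁻¹ (inv_mem hg) _ ha
    simpa [mul_assoc] using this

theorem IsExc.exists_move (h : IsExc p M A A₀) : ∃ g ∈ normalizer (A : Set G), g ∉ M := by
  obtain ⟨P, hP, hAP⟩ := exists_sylowIn_le h.sq.isPGroup h.le
  by_contra hno
  push Not at hno
  exact h.not_sigma (mem_sigma_of_normalizer_le
    ((dvd_card_of_pgroup_ne_bot h.sq.isPGroup h.sq.ne_bot).trans (card_dvd_of_le h.le)) hP
    fun g hg => hno g ((h.sylow_abelian hG hM hP hAP).2.2 hg))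

/-- Two distinct lines of `A` act fixed-point-freely on `M_σ`. -/
theorem IsExc.exists_fpf (h : IsExc p M A A₀) : ∃ X₁ X₂, IsLine p A X₁ ∧ IsLine p A X₂ ∧ X₁ ≠ X₂ ∧
    Cfsg.sigmaCore M ⊓ centralizer (X₁ : Set G) = ⊥ ∧
    Cfsg.sigmaCore M ⊓ centralizer (X₂ : Set G) = ⊥ := by
  obtain ⟨g, hg, hgM⟩ := h.exists_move hG hM
  have hg2 : g ^ 2 ∉ M := fun h2 => hgM (pow_mem_of_pow_two (hG.1.of_dvd_nat (orderOf_dvd_natCard g)) h2)
  have hA : ∀ u ∈ normalizer (A : Set G), A ≤ conjMap u M := fun u hu =>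
    (conjMap_eq_self_iff.mpr hu).ge.trans (conjMap_mono h.le)
  have hline : ∀ u ∈ normalizer (A : Set G), IsLine p A (conjMap u A₀) := fun u hu =>
    ⟨(conjMap_mono h.line.1).trans (conjMap_eq_self_iff.mpr hu).le, by rw [card_conjMap, h.line.2]⟩
  refine ⟨conjMap g A₀, conjMap (g ^ 2) A₀, hline g hg, hline _ (pow_mem hg 2), fun heq => ?_,
    h.fpf_conj hG hM hgM (hA g hg), h.fpf_conj hG hM hg2 (hA _ (pow_mem hg 2))⟩
  rw [pow_two, ← conjMap_conjMap] at heq
  refine hgM (h.norm (conjMap_eq_self_iff.mp ?_))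
  have := congrArg (conjMap g⁻¹) heq
  rw [conjMap_inv_conjMap, conjMap_inv_conjMap] at this
  exact this.symm

theorem IsExc.nilpotent (h : IsExc p M A A₀) : Group.IsNilpotent (Cfsg.sigmaCore M) := by
  obtain ⟨X, -, hX, -, -, hf, -⟩ := h.exists_fpf hG hM
  exact isNilpotent_of_fpf_line hX.2 ((hX.1.trans h.le).trans (le_normalizer_sigmaCore M)) hf

theorem IsExc.centralizer_eq_bot (h : IsExc p M A A₀) :
    Cfsg.sigmaCore M ⊓ centralizer (A : Set G) = ⊥ := by
  obtain ⟨X, -, hX, -, -, hf, -⟩ := h.exists_fpf hG hM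
  exact le_bot_iff.mp ((inf_le_inf_left _ (Subgroup.centralizer_le hX.1)).trans hf.le)

theorem sylow_le_normalizer_of_nilpotent (hn : Group.IsNilpotent (Cfsg.sigmaCore M)) {r : ℕ}
    [Fact r.Prime] {R : Subgroup G} (hR : SylowIn r R (Cfsg.sigmaCore M)) :
    M ≤ normalizer (R : Set G) := by
  intro m hm
  have hH : Cfsg.IsPiHallOf {r} R (Cfsg.sigmaCore M) :=
    ⟨hR.1, fun s hs hd => prime_dvd_pgroup_card hR.2.1 hs hd, fun s _ hsr => (Set.mem_singleton_iff.mp hsr) ▸ hR.2.2⟩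
  obtain ⟨k, hk, hke⟩ := CfsgLib.Coprime.exists_conj_of_isPiHallOf
    (isSolvable_of_le_max hG hM (sigmaCore_le M)) hH
    (CfsgLib.Coprime.isPiHallOf_map_conj hH (le_normalizer_sigmaCore M hm))
  rw [CfsgLib.Coprime.mem_normalizer_iff_map_conj, ← hke,
    CfsgLib.Coprime.map_conj_of_mem_normalizer (le_normalizer_of_hall_nilpotent hG hn hH hk)]

theorem le_centralizer_sigmaCore_of_sylows {X : Subgroup G}
    (h : ∀ r : ℕ, r.Prime → ∀ R : Subgroup G, SylowIn r R (Cfsg.sigmaCore M) →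
      X ≤ centralizer (R : Set G)) : X ≤ centralizer (Cfsg.sigmaCore M : Set G) := by
  rw [le_centralizer_iff]
  set D := Cfsg.sigmaCore M ⊓ centralizer (X : Set G)
  suffices D = Cfsg.sigmaCore M from this.ge.trans inf_le_right
  refine eq_of_le_of_card_ge inf_le_left (le_of_eq ?_)
  have : D.relIndex (Cfsg.sigmaCore M) = 1 := by
    by_contra hne
    obtain ⟨r, hr, hd⟩ := Nat.exists_prime_and_dvd hne
    haveI : Fact r.Prime := ⟨hr⟩
    obtain ⟨R, hR, -⟩ := exists_sylowIn_le (IsPGroup.of_bot (p := r) (G := G))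
      (bot_le (a := Cfsg.sigmaCore M))
    exact hR.2.2 (hd.trans (relIndex_dvd_of_le_left _
      (le_inf hR.1 (le_centralizer_iff.mp (h r hr R hR)))))
  rw [← CfsgLib.Coprime.card_mul_relIndex (inf_le_left : D ≤ _), this, mul_one]

/-- An `A`-invariant `q`-subgroup of `M`, `q ∉ σ(M) ∪ {p}`, has `[R, A]` centralizing `M_σ`. -/
theorem IsExc.commutator_le_centralizer (h : IsExc p M A A₀) {q : ℕ} [hq : Fact q.Prime]
    (hqp : q ≠ p) (hqσ : q ∉ Cfsg.sigma M) {R : Subgroup G} (hR : IsPGroup q R) (hRM : R ≤ M)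
    (hAR : A ≤ normalizer (R : Set G)) :
    ⁅R, A⁆ ≤ centralizer (Cfsg.sigmaCore M : Set G) := by
  rcases eq_or_ne R ⊥ with rfl | hR1
  · simp
  obtain ⟨X₁, X₂, hX₁, hX₂, hne, hf₁, hf₂⟩ := h.exists_fpf hG hM
  have hn := h.nilpotent hG hM
  have hq2 : q ≠ 2 := prime_ne_two_of_pgroup hG hR hR1
  have hp2 : p ≠ 2 := prime_ne_two_of_pgroup hG h.sq.isPGroup h.sq.ne_bot
  have key : ∀ X : Subgroup G, IsLine p A X → Cfsg.sigmaCore M ⊓ centralizer (X : Set G) = ⊥ →
      ⁅R, X⁆ ≤ centralizer (Cfsg.sigmaCore M : Set G) := by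
    intro X hX hf
    refine le_centralizer_sigmaCore_of_sylows hG hM fun r hr V hV => ?_
    haveI : Fact r.Prime := ⟨hr⟩
    rcases eq_or_ne V ⊥ with rfl | hV1
    · intro w _
      exact mem_centralizer_iff.mpr fun v hv => by rw [mem_bot.mp hv, one_mul, mul_one]
    have hrσ : r ∈ Cfsg.sigma M := mem_sigma_of_dvd_sigmaCore hr
      ((dvd_card_of_pgroup_ne_bot hV.2.1 hV1).trans (card_dvd_of_le hV.1))
    have hVn := sylow_le_normalizer_of_nilpotent hG hM hn hV
    obtain ⟨x, hx, hx1⟩ := (bot_or_exists_ne_one X).resolve_left (ne_bot_of_card_prime hX.2)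
    have hz := zpowers_eq_of_card_prime hX.2 hx hx1
    have hxo : orderOf x = p := by rw [← Nat.card_zpowers, hz, hX.2]
    have := CfsgLib.OddLocal.commutator_le_centralizer_of_fixedPointFree (p := q) (q := r) hp.out
      hq2 (prime_ne_two_of_pgroup hG hV.2.1 hV1) hp2 hqp (fun e => hqσ (e ▸ hrσ))
      (fun e => h.not_sigma (e ▸ hrσ)) hxo hR hV.2.1 (hAR (hX.1 hx)) (hVn ((hX.1.trans h.le) hx))
      (hRM.trans hVn) (by rw [hz]; exact le_bot_iff.mp ((inf_le_inf_right _ hV.1).trans hf.le))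
    rwa [hz] at this
  rw [commutator_le]
  intro r hr a ha
  have hA := hX₁.sup_eq h.sq hX₂ hne
  have hn₂ : X₂ ≤ normalizer (X₁ : Set G) := hX₂.1.trans (h.sq.le_centralizer.trans
    ((Subgroup.centralizer_le hX₁.1).trans (centralizer_le_normalizer _)))
  obtain ⟨a₁, ha₁, a₂, ha₂, rfl⟩ := (CfsgLib.Coprime.mem_sup_of_le_normalizer hn₂).mp (hA.symm ▸ ha)
  have hCn : M ≤ normalizer ((centralizer (Cfsg.sigmaCore M : Set G) : Subgroup G) : Set G) :=
    CfsgLib.Comp.le_normalizer_centralizer (le_normalizer_sigmaCore M)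
  have e : ⁅r, a₁ * a₂⁆ = ⁅r, a₁⁆ * (a₁ * ⁅r, a₂⁆ * a₁⁻¹) := by
    simp only [commutatorElement_def]; group
  rw [e]
  exact mul_mem (key X₁ hX₁ hf₁ (commutator_mem_commutator hr ha₁))
    ((mem_normalizer_iff.mp (hCn ((hX₁.1.trans h.le) ha₁)) _).mp
      (key X₂ hX₂ hf₂ (commutator_mem_commutator hr ha₂)))

theorem eq_conj_of_nilpotent (hn : Group.IsNilpotent (Cfsg.sigmaCore M)) {L : Subgroup G}
    (hL : IsCoatom L) {q : ℕ} (hq : q ∈ Cfsg.sigma M) (hqL : q ∈ Cfsg.sigma L) :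
    ∃ g : G, L = conjMap g M := by
  haveI : Fact q.Prime := ⟨hq.1⟩
  obtain ⟨T, hT, -⟩ := exists_sylowIn_le (IsPGroup.of_bot (p := q) (G := G))
    (bot_le (a := Cfsg.sigmaCore M))
  have hTM : SylowIn q T M := by
    refine ⟨hT.1.trans (sigmaCore_le M), hT.2.1, ?_⟩
    rw [← relIndex_mul_relIndex _ _ _ hT.1 (sigmaCore_le M)]
    exact fun hd => (hq.1.dvd_mul.mp hd).elim hT.2.2 ((sigmaCore_hall hG hM).2.2 q hq.1 hq)
  obtain ⟨T', hT', -⟩ := exists_sylowIn_le (IsPGroup.of_bot (p := q) (G := G)) (bot_le (a := L))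
  obtain ⟨g, -, hg⟩ := (sylowIn_top hqL hT').exists_conj_eq (sylowIn_top hq hTM)
  refine ⟨g, ?_⟩
  have h1 : conjMap g M ≤ L := by
    refine le_trans ?_ (normalizer_sylow_le hqL hT')
    rw [← hg, ← conjMap_normalizer]
    exact conjMap_mono (sylow_le_normalizer_of_nilpotent hG hM hn hT)
  exact ((isCoatom_conjMap hM g).le_iff.mp h1).resolve_left hL.1

/-- A maximal subgroup `L ≥ A` with `p ∈ σ(L)` meets `M_σ` trivially. -/
theorem IsExc.inf_eq_bot_of_sigma (h : IsExc p M A A₀) {L : Subgroup G} (hL : IsCoatom L)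
    (hAL : A ≤ L) (hpL : p ∈ Cfsg.sigma L) : Cfsg.sigmaCore M ⊓ L = ⊥ := by
  by_contra hne
  set D := Cfsg.sigmaCore M ⊓ L
  have hAD : A ≤ normalizer (D : Set G) :=
    CfsgLib.Comp.le_normalizer_inf (h.le.trans (le_normalizer_sigmaCore M)) (hAL.trans le_normalizer)
  have hcop : (Nat.card A).Coprime (Nat.card D) :=
    (coprime_of_isSq hG hM h.not_sigma h.sq).coprime_dvd_right (card_dvd_of_le inf_le_left)
  obtain ⟨q, hq, hd⟩ := exists_prime_dvd_of_ne_bot hG hne
  haveI : Fact q.Prime := ⟨hq⟩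
  obtain ⟨R, hRD, hR, hR1, hRn⟩ := exists_inv_sylow_ne_bot hG hM h.le hAD hcop hd
  have hcopR := hcop.coprime_dvd_right (card_dvd_of_le hRD)
  have hsol : Group.IsSolvable A ∨ Group.IsSolvable R := Or.inl (isSolvable_of_le_max hG hM h.le)
  have hC : R ⊓ centralizer (A : Set G) = ⊥ := le_bot_iff.mp
    ((inf_le_inf_right _ (hRD.trans inf_le_left)).trans (h.centralizer_eq_bot hG hM).le)
  have hRA : ⁅R, A⁆ = R := by
    have := CfsgLib.Coprime.commutator_sup_centralizer hRn hcopR hsol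
    rwa [hC, sup_bot_eq] at this
  have hAσ : A ≤ Cfsg.sigmaCore L := le_sigmaCore_of_pi hG hL hAL fun r hr hrd =>
    (prime_dvd_pgroup_card h.sq.isPGroup hr hrd) ▸ hpL
  have hRσ : R ≤ Cfsg.sigmaCore L := hRA ▸ (commutator_comm R A).le.trans ((commutator_mono hAσ le_rfl).trans
    (le_normalizer_iff_commutator_le_left.mp ((hRD.trans inf_le_right).trans (le_normalizer_sigmaCore L))))
  have hqd : q ∣ Nat.card R := dvd_card_of_pgroup_ne_bot hR.2.1 hR1
  obtain ⟨g, hg⟩ := eq_conj_of_nilpotent hG hM (h.nilpotent hG hM) hL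
    (mem_sigma_of_dvd_sigmaCore hq (hd.trans (card_dvd_of_le inf_le_left)))
    (mem_sigma_of_dvd_sigmaCore hq (hqd.trans (card_dvd_of_le hRσ)))
  rw [hg, sigma_conjMap] at hpL
  exact h.not_sigma hpL

omit hp in
theorem rankLE_two_of_le_other {L : Subgroup G} (hL : IsCoatom L) (hle : Cfsg.sigmaCore M ≤ L)
    (hdis : ∀ q ∈ Cfsg.sigma M, q ∉ Cfsg.sigma L) : Cfsg.RankLE 2 M := by
  intro q hq
  by_contra hr
  haveI : Fact q.Prime := ⟨hq⟩
  have hα : q ∈ Cfsg.alpha M := ⟨hq, hr⟩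
  obtain ⟨E, hEM, hE, hlt⟩ := not_prankLE_iff.mp hr
  have hqσ := alpha_subset_sigma hG hM hα
  have hEσ : E ≤ Cfsg.sigmaCore M := le_sigmaCore_of_pi hG hM hEM fun r hr' hrd =>
    (prime_dvd_pgroup_card (elemAb_isPGroup hE) hr' hrd) ▸ hqσ
  exact hdis q hqσ (alpha_subset_sigma hG hL ⟨hq, not_prankLE_iff.mpr ⟨E, hEσ.trans hle, hE, hlt⟩⟩)

omit hp in
/-- Two maximal subgroups with disjoint `σ`-sets cannot each contain the other's `M_σ`. -/
theorem not_mutual {L : Subgroup G} (hL : IsCoatom L) (hdis : ∀ q ∈ Cfsg.sigma M, q ∉ Cfsg.sigma L)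
    (hML : Cfsg.sigmaCore M ≤ L) (hLM : Cfsg.sigmaCore L ≤ M) : False := by
  obtain ⟨s, hs, hsM, hsmax⟩ := exists_max_prime hG hM
  obtain ⟨t, ht, htL, htmax⟩ := exists_max_prime hG hL
  haveI : Fact s.Prime := ⟨hs⟩
  haveI : Fact t.Prime := ⟨ht⟩
  have hsσ := max_prime_mem_sigma hG hM (rankLE_two_of_le_other hG hM hL hML hdis) hsM hsmax
  have htσ := max_prime_mem_sigma hG hL (rankLE_two_of_le_other hG hL hM hLM fun q hq h => hdis q h hq)
    htL htmax
  have key : ∀ {N : Subgroup G} {r : ℕ}, IsCoatom N → r ∈ Cfsg.sigma N →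
      r ∣ Nat.card (Cfsg.sigmaCore N) := by
    intro N r hN hr
    have h := hr.2.1
    rw [← CfsgLib.Coprime.card_mul_relIndex (sigmaCore_le N)] at h
    exact (hr.1.dvd_mul.mp h).resolve_right ((sigmaCore_hall hG hN).2.2 r hr.1 hr)
  have h1 := htmax s hs ((key hM hsσ).trans (card_dvd_of_le hML))
  have h2 := hsmax t ht ((key hL htσ).trans (card_dvd_of_le hLM))
  exact hdis s hsσ ((le_antisymm h1 h2).symm ▸ htσ)

end CfsgLib.BG
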