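import Cfsg.Agent.Lib.BG.TypePConstruct

/-!
# `1 < M_F ≤ M_σ ≤ M' < M`
-/

set_option autoImplicit false
set_option linter.style.haveILetI false
set_option linter.unusedSectionVars false

namespace CfsgLib.BG

open Subgroup CfsgLib.PLocal CfsgLib.OddLocal
open scoped commutatorElement

universe u
variable {G : Type u} [Group G] [Finite G] {M K U : Subgroup G}
variable (hG : Cfsg.IsMinSimpleOddOrder G) (hM : IsCoatom M)
include hG hM

theorem fitting_chain (h : Cfsg.IsSigmaDecomposition M K U) :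
    Cfsg.fittingHallOf M ≠ ⊥ ∧ Cfsg.fittingHallOf M ≤ Cfsg.sigmaCore M ∧
      Cfsg.sigmaCore M ≤ ⁅M, M⁆ ∧ ⁅M, M⁆ < M ∧
      Group.IsNilpotent ↥((commutator ↥M).map (QuotientGroup.mk' (Cfsg.fittingHall ↥M))) := by
  set F := Cfsg.fittingHallOf M with hF
  have hFS : F ≤ Cfsg.sigmaCore M := CfsgLib.BG14.fittingHallOf_le_sigmaCore hG hM
  have hDM : ⁅M, M⁆ ≤ M := (derived_lt hG hM).le
  have hsubF : F.subgroupOf M = Cfsg.fittingHall ↥M := subgroupOf_fittingHallOf M
  have hcomm : commutator ↥M = (⁅M, M⁆).subgroupOf M := by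
    apply Subgroup.map_injective M.subtype_injective
    rw [Subgroup.map_subtype_commutator, map_subgroupOf_eq_of_le hDM]
  have key : F ≠ ⊥ ∧ ∃ A B : Subgroup G, ⁅M, M⁆ = A ⊔ B ∧ A ≤ F ∧ A ≤ M ∧ B ≤ M ∧ Group.IsNilpotent B := by
    by_cases hne : F = Cfsg.sigmaCore M
    · obtain ⟨E, hE, -⟩ := exists_compl_ge hG hM (bot_le (a := M)) fun t ht hd => by
        rw [Subgroup.card_bot] at hd
        exact absurd (Nat.eq_one_of_dvd_one hd) ht.ne_one
      exact ⟨hne ▸ sigmaCore_ne_bot hG hM, Cfsg.sigmaCore M, ⁅E, E⁆, derived_eq hG hM hE, hne.ge,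
        sigmaCore_le M, (derived_le_compl hG hM).trans hE.1, derived_compl_nilpotent hG hM hE⟩
    · obtain ⟨q, Q, D, -, hQF, -, -, -, -, hcompl, hD, -, -, -⟩ := exceptional_core hG hM h hne
      obtain ⟨-, hder, -, hq', hdvd, -⟩ := Cfsg.Agent.S1437.result hG M hM K U h hne
      refine ⟨fun e => ?_, Q, D, by rw [← hder, isComplIn_sup hcompl], hQF,
        hcompl.1.trans (sigmaCore_le M), hcompl.2.1.trans (sigmaCore_le M), hD⟩
      rw [show Cfsg.fittingHallOf M = F from rfl, e, Subgroup.card_bot] at hdvd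
      exact hq'.ne_one (Nat.eq_one_of_dvd_one hdvd)
  obtain ⟨hF1, A, B, hAB, hAF, hAM, hBM, hB⟩ := key
  refine ⟨hF1, hFS, sigmaCore_le_derived hG hM, derived_lt hG hM, ?_⟩
  rw [hcomm, hAB, subgroupOf_sup hAM hBM]
  refine isNilpotent_map_sup _ ((Subgroup.map_eq_bot_iff _).mpr ?_)
    ((Group.isNilpotent_congr (subgroupOfEquivOfLe hBM)).mpr hB)
  rw [QuotientGroup.ker_mk', ← hsubF]
  exact fun x hx => hAF hx

end CfsgLib.BG
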