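import Cfsg.Agent.Lib.BG.NonabelianUnique
import Cfsg.Agent.Lib.OddLocal.NormalRankThree

/-!
# Centralizers of elements of order `p` of `(M_σ)'` and at primes of `β(M)`
-/

set_option autoImplicit false
set_option linter.style.haveILetI false
set_option linter.unusedSectionVars false

namespace CfsgLib.BG

open Subgroup CfsgLib.PLocal CfsgLib.OddLocal
open scoped commutatorElement

universe u
variable {G : Type u} [Group G] [Finite G] {p : ℕ} [hp : Fact p.Prime]

/-- `P'` centralizes the normal subgroups of `P` of order at most `p ^ 2`. -/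
theorem derived_le_centralizer_normal {P A : Subgroup G} (hP : IsPGroup p P) (hAP : A ≤ P)
    (hn : P ≤ normalizer (A : Set G)) (hA : Nat.card A ≤ p ^ 2) :
    ⁅P, P⁆ ≤ centralizer (A : Set G) := by
  haveI : (A.subgroupOf P).Normal := (normal_subgroupOf_iff_le_normalizer hAP).mpr hn
  set C := centralizer ((A.subgroupOf P : Subgroup P) : Set P)
  haveI : C.Normal := inferInstance
  have hidx : C.index ≤ p :=
    index_centralizer_le_prime hP _ (by rwa [CfsgLib.Coprime.card_subgroupOf hAP])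
  haveI : IsMulCommutative (P ⧸ C) := by
    obtain ⟨i, hi⟩ := IsPGroup.iff_card.mp (hP.to_quotient C)
    rw [index_eq_card, hi] at hidx
    haveI : IsCyclic (P ⧸ C) := by
      rcases Nat.lt_or_ge i 1 with h | h
      · haveI : Subsingleton (P ⧸ C) := (Nat.card_eq_one_iff_unique.mp (by
          rw [hi, show i = 0 by omega, pow_zero])).1
        infer_instance
      · exact isCyclic_of_prime_card (p := p) (by
          rw [hi, le_antisymm ((Nat.pow_le_pow_iff_right hp.out.one_lt).mp (hidx.trans (pow_one p).ge)) h,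
            pow_one])
    exact IsCyclic.isMulCommutative
  rw [commutator_le]
  intro a ha b hb
  refine mem_centralizer_iff.mpr fun y hy => ?_
  have h1 : (⁅(⟨a, ha⟩ : P), ⟨b, hb⟩⁆ : P) ∈ C := by
    rw [← QuotientGroup.ker_mk' C, MonoidHom.mem_ker, map_commutatorElement,
      commutatorElement_eq_one_iff_mul_comm]
    exact mul_comm' _ _
  exact congrArg Subtype.val (mem_centralizer_iff.mp h1 ⟨y, hAP hy⟩ hy)

variable (hG : Cfsg.IsMinSimpleOddOrder G) {M : Subgroup G} (hM : IsCoatom M)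
include hG

omit hp in
theorem le_pow_three {q : ℕ} [hq : Fact q.Prime] {B : Subgroup G}
    (hB : Cfsg.IsElementaryAbelian q B) (hlt : q ^ 2 < Nat.card B) : q ^ 3 ≤ Nat.card B := by
  obtain ⟨n, hn⟩ := IsPGroup.iff_card.mp (elemAb_isPGroup hB)
  rw [hn] at hlt ⊢
  exact Nat.pow_le_pow_right hq.out.pos ((Nat.pow_lt_pow_iff_right hq.out.one_lt).mp hlt)

include hM

/-- For `p ∈ β(M)`, an element of order `p` centralizes a subgroup of rank 3 inside `M`. -/
theorem exists_rank_three_centralizer (hpb : p ∈ Cfsg.beta M) {X : Subgroup G} (hXM : X ≤ M)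
    (hX : Nat.card X = p) : ∃ B : Subgroup G, B ≤ M ∧ B ≤ centralizer (X : Set G) ∧
      Cfsg.IsElementaryAbelian p B ∧ p ^ 3 ≤ Nat.card B := by
  obtain ⟨x, hxX, hxo⟩ := exists_order_p (isPGroup_of_card_prime hX) (ne_bot_of_card_prime hX)
  have hx1 : x ≠ 1 := fun h => hp.out.ne_one (by rw [← hxo, h, orderOf_one])
  obtain ⟨U, hU, hXU⟩ := exists_sylowIn_le (isPGroup_of_card_prime hX) hXM
  have htop := sylowIn_top (mem_sigma_of_mem_beta hG hM hpb) hU
  have hidx : ¬ p ∣ U.index := by rw [← relIndex_top_right]; exact htop.2.2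
  let S : Sylow p G := htop.2.1.toSylow hidx
  have hp2 : p ≠ 2 := prime_ne_two_of_pgroup hG (isPGroup_of_card_prime hX) (ne_bot_of_card_prime hX)
  have hnc : ¬ IsCyclic U := by
    intro hc
    obtain ⟨E, hEM, hE, hlt⟩ := not_prankLE_iff.mp hpb.1.2
    obtain ⟨g, -, hg⟩ := hU.exists_conj_le (elemAb_isPGroup hE) hEM
    haveI : IsCyclic ↥(conjMap g E) := isCyclic_of_le hg
    have hexp : Monoid.exponent ↥(conjMap g E) ∣ p := Monoid.exponent_dvd_of_forall_pow_eq_one fun a =>
      Subtype.ext ((elemAb_map (MulAut.conj g).toMonoidHom hE).2 a a.2)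
    rw [IsCyclic.exponent_eq_card, card_conjMap] at hexp
    exact absurd ((Nat.le_of_dvd hp.out.pos hexp).trans (Nat.le_self_pow two_ne_zero p)) (not_le.mpr hlt)
  obtain ⟨A, hAU, hA, hxA⟩ := exists_sq_mem hp2 hU.2.1 hnc (hXU hxX) hxo
  obtain ⟨B, hBU, hB, hAB⟩ := hpb.2.2.2 S A hAU hA.1 hA.2
  refine ⟨B, hBU.trans hU.1, ?_, hB, le_pow_three hG hB (hA.2 ▸ lt_of_le_of_ne (card_le_of_le hAB.le)
    fun h => hAB.ne (eq_of_le_of_card_ge hAB.le h.ge))⟩
  rw [le_centralizer_iff, ← zpowers_eq_of_card_prime hX hxX hx1, zpowers_le, mem_centralizer_iff]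
  exact fun b hb => elemAb_comm hB hb (hAB.le hxA)

/-- A nonabelian Sylow subgroup and the centralizer of an element of order `p` in its derived group. -/
theorem onlyMax_of_derived {P X : Subgroup G} (hP : SylowIn p P ⊤) (hPM : P ≤ M)
    (hX : Nat.card X = p) (hXP : X ≤ ⁅P, P⁆) :
    OnlyMax (centralizer (X : Set G)) M ∧ Cfsg.InUniqueMaximal P := by
  have hna : ¬ IsMulCommutative P := fun h => ne_bot_of_card_prime hX (le_bot_iff.mp (hXP.trans
    (commutator_eq_bot_iff_le_centralizer.mpr fun a ha => mem_centralizer_iff.mpr fun b hb =>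
      congrArg Subtype.val (h.is_comm.comm ⟨b, hb⟩ ⟨a, ha⟩)).le))
  have hU := unique_of_nonabelian hG hP.2.1 hna
  refine ⟨?_, hU⟩
  have hX1 := ne_bot_of_card_prime hX
  obtain ⟨x, hx, hx1⟩ := (bot_or_exists_ne_one X).resolve_left hX1
  have hxs := zpowers_eq_of_card_prime hX hx hx1
  have hXle : X ≤ P := hXP.trans (commutator_le_self P)
  have hxp : x ^ p = 1 := by
    have := orderOf_dvd_natCard (⟨x, hx⟩ : X)
    rw [hX, Subgroup.orderOf_mk] at this
    exact orderOf_dvd_iff_pow_eq_one.mp this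
  have hCtop : centralizer (X : Set G) ≠ ⊤ := minSimple_centralizer_ne_top hG hX1
  suffices huniq : ∀ L : Subgroup G, IsCoatom L → centralizer (X : Set G) ≤ L → L = M by
    obtain ⟨L, hL, hle⟩ := (eq_top_or_exists_le_coatom _).resolve_left hCtop
    exact ⟨(huniq L hL hle) ▸ hle, huniq⟩
  intro L hL hle
  by_cases hr : Cfsg.PRankLE p 2 P
  · -- `X` is central in `P`
    refine hU.unique ⟨hL, le_trans ?_ hle⟩ ⟨hM, hPM⟩
    rcases rank_two_sylow hG hP hr with h | ⟨P₁, P₂, hsup, hcomm, hna₁, hP₁, hexp, hcyc, hΩ⟩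
    · exact absurd h hna
    have hP₁P : P₁ ≤ P := le_sup_left.trans hsup.le
    have hP₁1 : P₁ ≠ ⊥ := fun e => hna₁ (e ▸ inferInstance)
    have hZc := IsPGroup.center_line (hP.2.1.to_le hP₁P) hP₁1 hexp hcyc hΩ
    set Z := P₁ ⊓ centralizer (P₁ : Set G) with hZ
    have hP₂C : P₂ ≤ centralizer (P₁ : Set G) := fun b hb => mem_centralizer_iff.mpr fun a ha =>
      hcomm a ha b hb
    have hZC : P ≤ centralizer (Z : Set G) := by
      rw [← hsup, sup_le_iff]
      exact ⟨le_centralizer_iff.mp inf_le_right, hP₂C.trans (Subgroup.centralizer_le inf_le_left)⟩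
    have hxP₁ : x ∈ P₁ := by
      obtain ⟨a, ha, b, hb, hab⟩ := (CfsgLib.Coprime.mem_sup_of_le_normalizer
        (hP₂C.trans (centralizer_le_normalizer _))).mp (hsup.symm ▸ hXle hx)
      rw [← hab] at hxp ⊢
      have hap : a ^ p = 1 := by
        have := Monoid.pow_exponent_eq_one (⟨a, ha⟩ : P₁)
        rw [hexp] at this
        exact congrArg Subtype.val this
      rw [(show Commute a b from hcomm a ha b hb).mul_pow, hap, one_mul] at hxp
      have h1 : b ∈ Subgroup.closure {x : G | x ∈ P₂ ∧ x ^ p = 1} := subset_closure ⟨hb, hxp⟩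
      rw [hΩ] at h1
      exact mul_mem ha (mem_inf.mp h1).1
    have hxZ : x ∈ Z := by
      refine mem_inf.mpr ⟨hxP₁, mem_centralizer_iff.mpr fun a ha => ?_⟩
      by_cases haZ : a ∈ Z
      · exact mem_centralizer_iff.mp (hZC (hP₁P hxP₁)) a haZ
      set A := zpowers a ⊔ Z with hAdef
      have hAP₁ : A ≤ P₁ := sup_le (zpowers_le.mpr ha) inf_le_left
      have hzn : Z ≤ normalizer (zpowers a : Set G) := by
        refine le_trans ?_ (centralizer_le_normalizer _)
        rw [le_centralizer_iff, zpowers_le]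
        exact hZC (hP₁P ha)
      have hAc : Nat.card A ≤ p ^ 2 := by
        have hd : Nat.card A ∣ Nat.card (zpowers a) * Nat.card Z := by
          refine ⟨Nat.card ↥(zpowers a ⊓ Z), ?_⟩
          rw [← CfsgLib.Solvable.card_mul_set_mul_card_inf (zpowers a) Z,
            ← coe_mul_of_right_le_normalizer_left (zpowers a) Z hzn]
          rfl
        refine (Nat.le_of_dvd (Nat.mul_pos Nat.card_pos Nat.card_pos) hd).trans ?_
        rw [Nat.card_zpowers, hZc, sq]
        refine Nat.mul_le_mul_right _ (Nat.le_of_dvd hp.out.pos (orderOf_dvd_of_pow_eq_one ?_))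
        have := Monoid.pow_exponent_eq_one (⟨a, ha⟩ : P₁)
        rw [hexp] at this
        exact congrArg Subtype.val this
      have hAn₁ : P₁ ≤ normalizer (A : Set G) := by
        rcases eq_or_ne A P₁ with e | hne
        · rw [e]; exact le_normalizer
        have h1 := card_lt_card_inf_normalizer (hP.2.1.to_le hP₁P) (lt_of_le_of_ne hAP₁ hne)
        have hA2 : p ^ 2 ≤ Nat.card A := by
          obtain ⟨j, hj⟩ := IsPGroup.iff_card.mp (hP.2.1.to_le (hAP₁.trans hP₁P))
          rw [hj]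
          refine Nat.pow_le_pow_right hp.out.pos ?_
          have h3 : Nat.card Z < Nat.card A := lt_of_le_of_ne (card_le_of_le le_sup_right) fun e =>
            haZ ((eq_of_le_of_card_ge le_sup_right e.ge).ge (mem_sup_left (mem_zpowers a)))
          rw [hZc, hj] at h3
          have := (Nat.pow_lt_pow_iff_right hp.out.one_lt).mp ((pow_one p).le.trans_lt h3)
          omega
        have hd := card_dvd_of_le (inf_le_left (a := P₁) (b := normalizer (A : Set G)))
        rw [hP₁] at hd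
        obtain ⟨i, hi, hcard⟩ := (Nat.dvd_prime_pow hp.out).mp hd
        rw [hcard] at h1
        have h2 := (Nat.pow_lt_pow_iff_right hp.out.one_lt).mp (lt_of_le_of_lt hA2 h1)
        exact (eq_of_le_of_card_ge inf_le_left (by rw [hcard, hP₁, show i = 3 by omega])).ge.trans inf_le_right
      have hAn : P ≤ normalizer (A : Set G) := by
        rw [← hsup]
        exact sup_le hAn₁ ((hP₂C.trans (Subgroup.centralizer_le hAP₁)).trans (centralizer_le_normalizer _))
      exact mem_centralizer_iff.mp (derived_le_centralizer_normal hP.2.1 (hAP₁.trans hP₁P) hAn hAc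
        (hXP hx)) a (mem_sup_left (mem_zpowers a))
    rw [le_centralizer_iff, ← hxs, zpowers_le]
    exact le_centralizer_iff.mp hZC hxZ
  · -- `C_P(X)` has rank 3
    have hp2 : p ≠ 2 := prime_ne_two_of_pgroup hG (isPGroup_of_card_prime hX) hX1
    obtain ⟨E₀, hc0, he0, hk0⟩ := exists_elementary_of_not_pRankLE hP.2.1 hr
    obtain ⟨E', hE'n, hE'e, hE'3⟩ := exists_normal_elementary_three hp2 hP.2.1 hc0 he0 hk0
    haveI := hE'n
    obtain ⟨A', hA'n, hA'E, hA'c⟩ := CfsgLib.Transfer.exists_normal_le_card hP.2.1 E' (k := 2) (by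
      obtain ⟨j, hj⟩ := IsPGroup.iff_card.mp (hP.2.1.to_subgroup E')
      rw [hj] at hE'3 ⊢
      exact pow_dvd_pow p (by
        have := (Nat.pow_le_pow_iff_right hp.out.one_lt).mp hE'3
        omega))
    set E := E'.map P.subtype with hEdef
    set A := A'.map P.subtype with hAdef
    have hEe : Cfsg.IsElementaryAbelian p E := elemAb_map P.subtype hE'e
    have hAE : A ≤ E := map_mono hA'E
    have hEP : E ≤ P := map_subtype_le _
    have hAn : P ≤ normalizer (A : Set G) := (normal_subgroupOf_iff_le_normalizer (hAE.trans hEP)).mp (by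
      rw [hAdef, subgroupOf, comap_map_eq_self_of_injective P.subtype_injective]; exact hA'n)
    have hAsq : IsSq p A := ⟨elemAb_mono hEe hAE,
      by rw [hAdef, card_map_of_injective P.subtype_injective, hA'c]⟩
    have hxA := derived_le_centralizer_normal hP.2.1 (hAE.trans hEP) hAn hAsq.2.le (hXP hx)
    have hE3 : p ^ 3 ≤ Nat.card E := by rwa [hEdef, card_map_of_injective P.subtype_injective]
    obtain ⟨B, hBM, hBC, hBe, hB3⟩ : ∃ B : Subgroup G, B ≤ M ∧ B ≤ centralizer (X : Set G) ∧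
        Cfsg.IsElementaryAbelian p B ∧ p ^ 3 ≤ Nat.card B := by
      by_cases hxA' : x ∈ A
      · refine ⟨E, hEP.trans hPM, ?_, hEe, hE3⟩
        rw [le_centralizer_iff, ← hxs, zpowers_le]
        exact elemAb_le_centralizer hEe (hAE hxA')
      have hcA : zpowers x ≤ centralizer (A : Set G) := zpowers_le.mpr hxA
      refine ⟨A ⊔ zpowers x, sup_le ((hAE.trans hEP).trans hPM) (zpowers_le.mpr (hPM (hXle hx))), ?_,
        elemAb_sup hAsq.1 (elemAb_zpowers hxp) (le_centralizer_iff.mp hcA), le_pow_three hG ?_ ?_⟩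
      · rw [← hxs]
        exact sup_le (le_centralizer_iff.mp hcA) (elemAb_le_centralizer (elemAb_zpowers hxp))
      · exact elemAb_sup hAsq.1 (elemAb_zpowers hxp) (le_centralizer_iff.mp hcA)
      · rw [← hAsq.2]
        exact lt_of_le_of_ne (card_le_of_le le_sup_left) fun e =>
          hxA' ((eq_of_le_of_card_ge le_sup_left e.ge).ge (mem_sup_right (mem_zpowers x)))
    exact eq_of_rank_three hG hM hBe hB3 hBM hL (hBC.trans hle)

theorem centralizer_beta_or_derived (hpσ : p ∈ Cfsg.sigma M) {X P : Subgroup G} (hXM : X ≤ M)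
    (hX : Nat.card X = p) (hP : SylowIn p P (Cfsg.sigmaCore M))
    (h : p ∈ Cfsg.beta M ∨ X ≤ ⁅Cfsg.sigmaCore M, Cfsg.sigmaCore M⁆) :
    OnlyMax (centralizer (X : Set G)) M ∧ Cfsg.InUniqueMaximal P := by
  set N := Cfsg.sigmaCore M with hN
  have hNM : N ≤ M := sigmaCore_le M
  have hPM : P ≤ M := hP.1.trans hNM
  have hPtop : SylowIn p P ⊤ := sylowIn_top hpσ ⟨hPM, hP.2.1, fun hd => by
    rw [← relIndex_mul_relIndex _ _ _ hP.1 hNM] at hd
    exact (hp.out.dvd_mul.mp hd).elim hP.2.2 ((sigmaCore_hall hG hM).2.2 p hp.out hpσ)⟩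
  by_cases hb : p ∈ Cfsg.beta M
  · obtain ⟨B, hBM, hBC, hBe, hB3⟩ := exists_rank_three_centralizer hG hM hb hXM hX
    have huniq : ∀ L : Subgroup G, IsCoatom L → centralizer (X : Set G) ≤ L → L = M :=
      fun L hL hle => eq_of_rank_three hG hM hBe hB3 hBM hL (hBC.trans hle)
    refine ⟨⟨centralizer_le_of_beta hG hM hb (isPGroup_of_card_prime hX) (ne_bot_of_card_prime hX) hXM,
      huniq⟩, M, ⟨hM, hPM⟩, fun L ⟨hL, hPL⟩ => ?_⟩
    obtain ⟨k, -, hk⟩ := hPtop.exists_conj_le (elemAb_isPGroup hBe) le_top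
    exact eq_of_rank_three hG hM (B := conjMap k B) (elemAb_map (MulAut.conj k).toMonoidHom hBe)
      (by rw [card_conjMap]; exact hB3) (hk.trans hPM) hL (hk.trans hPL)
  have hXN : X ≤ ⁅N, N⁆ := h.resolve_left hb
  obtain ⟨k, hk, hkX⟩ := hP.exists_conj_le (isPGroup_of_card_prime hX) (hXN.trans (commutator_le_self N))
  -- `P ∩ (M_σ)' = P'`
  have hPd : P ⊓ ⁅N, N⁆ ≤ ⁅P, P⁆ := by
    have hpM : p ∣ Nat.card M := (hX ▸ dvd_rfl : p ∣ Nat.card X).trans (card_dvd_of_le hXM)
    obtain ⟨K, hKn, hKc⟩ := (CfsgLib.Transfer.hasNormalPComplement_iff_exists_isComplement'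
      ((hP.2.1.comap_subtype (K := N)).toSylow hP.2.2)).mp
      (normalPComplement_of_not_beta hG hM hpM hb).2.1
    haveI := hKn
    set f := QuotientGroup.mk' K with hf
    have hmap : (P.subgroupOf N).map f = ⊤ := by
      rw [eq_top_iff]
      intro y _
      obtain ⟨w, rfl⟩ := QuotientGroup.mk'_surjective K y
      obtain ⟨⟨a, b⟩, hab, -⟩ := hKc.existsUnique w
      refine ⟨b, b.2, ?_⟩
      have hfa : f (a : N) = 1 := (QuotientGroup.eq_one_iff _).mpr a.2
      rw [← hab, map_mul, hfa, one_mul]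
    rintro y ⟨hyP, hyN⟩
    have hyc : (⟨y, hP.1 hyP⟩ : N) ∈ commutator ↥N := by
      rw [← Subgroup.map_subtype_commutator] at hyN
      obtain ⟨w, hw, hwy⟩ := hyN
      exact (Subtype.ext hwy : w = ⟨y, hP.1 hyP⟩) ▸ hw
    have h1 : f ⟨y, hP.1 hyP⟩ ∈ (⁅P.subgroupOf N, P.subgroupOf N⁆).map f := by
      rw [map_commutator, hmap]
      have h2 := mem_map_of_mem f hyc
      rw [_root_.commutator_def, map_commutator] at h2
      exact commutator_mono le_top le_top h2
    obtain ⟨w, hw, hwy⟩ := h1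
    have hwP : w ∈ P.subgroupOf N := commutator_le_self _ hw
    have h3 : w⁻¹ * ⟨y, hP.1 hyP⟩ ∈ K ⊓ P.subgroupOf N := by
      refine mem_inf.mpr ⟨(QuotientGroup.eq_one_iff _).mp ?_, mul_mem (inv_mem hwP) hyP⟩
      show f (w⁻¹ * ⟨y, hP.1 hyP⟩) = 1
      rw [map_mul, map_inv, hwy, inv_mul_cancel]
    rw [show K ⊓ P.subgroupOf N = ⊥ from hKc.disjoint.eq_bot, mem_bot, inv_mul_eq_one] at h3
    have h4 := mem_map_of_mem N.subtype hw
    rw [map_commutator, map_subgroupOf_eq_of_le hP.1, h3] at h4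
    exact h4
  have hkM : k ∈ M := hNM hk
  have hkXN : conjMap k X ≤ ⁅N, N⁆ := by
    refine (conjMap_mono hXN).trans (le_of_eq ?_)
    show (⁅N, N⁆).map _ = _
    rw [map_commutator]
    show ⁅conjMap k N, conjMap k N⁆ = _
    rw [conjMap_eq_of_mem hk]
  obtain ⟨⟨hC, huniq⟩, hU⟩ := onlyMax_of_derived hG hM hPtop hPM (X := conjMap k X)
    (by rw [card_conjMap, hX]) ((le_inf hkX hkXN).trans hPd)
  refine ⟨?_, hU⟩
  have hconj : conjMap k (centralizer (X : Set G)) = centralizer (conjMap k X : Set G) := by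
    ext y
    rw [mem_conjMap, mem_centralizer_iff, mem_centralizer_iff]
    constructor
    · rintro h1 _ ⟨w, hw, rfl⟩
      show k * w * k⁻¹ * y = y * (k * w * k⁻¹)
      calc k * w * k⁻¹ * y = k * (w * (k⁻¹ * y * k)) * k⁻¹ := by group
        _ = k * (k⁻¹ * y * k * w) * k⁻¹ := by rw [h1 w hw]
        _ = y * (k * w * k⁻¹) := by group
    · intro h1 w hw
      have h2 : k * w * k⁻¹ * y = y * (k * w * k⁻¹) := h1 _ (conj_mem_conjMap hw)
      calc w * (k⁻¹ * y * k) = k⁻¹ * (k * w * k⁻¹ * y) * k := by group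
        _ = k⁻¹ * (y * (k * w * k⁻¹)) * k := by rw [h2]
        _ = k⁻¹ * y * k * w := by group
  refine ⟨?_, fun L hL hle => ?_⟩
  · have := conjMap_mono (g := k⁻¹) hC
    rwa [← hconj, conjMap_inv_conjMap, conjMap_eq_of_mem (inv_mem hkM)] at this
  · have h1 := huniq (conjMap k L) (isCoatom_conjMap hL k) (hconj ▸ conjMap_mono hle)
    rw [← conjMap_inv_conjMap k L, h1, conjMap_eq_of_mem (inv_mem hkM)]

end CfsgLib.BG
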