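import Cfsg.Agent.Lib.BG.ActionTau
import Cfsg.Agent.Lib.BG.SigmaCentralizer
import Cfsg.Agent.Lib.OddLocal.CharRankThree
import Cfsg.Agent.Lib.OddLocal.HallHigmanFix
import Cfsg.Agent.Lib.ClassK.Core

/-!
# A coprime Frobenius action with small fixed points on a Sylow subgroup
-/

set_option autoImplicit false
set_option linter.style.haveILetI false
set_option linter.unusedSectionVars false

namespace CfsgLib.BG

open Subgroup CfsgLib.PLocal CfsgLib.OddLocal
open scoped commutatorElement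

universe u
variable {G : Type u} [Group G] [Finite G] {M H L : Subgroup G} {p : ℕ} [hp : Fact p.Prime]

/-- `Q = [Q, x]` centralizes `D` if it centralizes a normal `Z ≤ D` holding the fixed points of `x`. -/
theorem centralizes_of_fixed_le {q r : ℕ} [hq : Fact q.Prime] (hr : r.Prime) (hp2 : p ≠ 2)
    (hq2 : q ≠ 2) (hr2 : r ≠ 2) (hqp : q ≠ p) (hqr : q ≠ r) (hpr : p ≠ r) {x : G}
    (hx : orderOf x = r) {Q D Z : Subgroup G} (hQ : IsPGroup q Q) (hD : IsPGroup p D) (hZD : Z ≤ D)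
    (hxQ : x ∈ normalizer (Q : Set G)) (hxD : x ∈ normalizer (D : Set G))
    (hxZ : x ∈ normalizer (Z : Set G)) (hQD : Q ≤ normalizer (D : Set G))
    (hQZ : Q ≤ centralizer (Z : Set G)) (hDZ : D ≤ normalizer (Z : Set G))
    (hfix : D ⊓ centralizer (zpowers x : Set G) ≤ Z) (hQx : ⁅Q, zpowers x⁆ = Q) :
    Q ≤ centralizer (D : Set G) := by
  have hcopQD : (Nat.card Q).Coprime (Nat.card D) := coprime_pgroup hQ hD hqp
  refine le_centralizer_of_stabilizes hZD hcopQD hQZ fun a ha h hh => ?_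
  set N := normalizer (Z : Set G) with hN
  have hQN : Q ≤ N := hQZ.trans (centralizer_le_normalizer _)
  have hZN : Z ≤ N := le_normalizer
  haveI : (Z.subgroupOf N).Normal := normal_subgroupOf_of_le_normalizer le_rfl
  let f : N →* N ⧸ Z.subgroupOf N := QuotientGroup.mk' _
  let x' : N := ⟨x, hxZ⟩
  have hx' : orderOf x' = r := (Subgroup.orderOf_mk x hxZ).trans hx
  have hfx : orderOf (f x') = r := by
    refine ((Nat.dvd_prime hr).1 (hx' ▸ orderOf_map_dvd f x')).resolve_left fun h1 => ?_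
    rw [orderOf_eq_one_iff, QuotientGroup.mk'_apply, QuotientGroup.eq_one_iff] at h1
    have h2 : r ∣ Nat.card D := hx ▸ (orderOf_dvd_natCard D (hZD h1))
    exact hpr (prime_dvd_pgroup_card hD hr h2).symm
  have hnorm : ∀ {Y : Subgroup G} {g : G} (hg : g ∈ N), g ∈ normalizer (Y : Set G) →
      (⟨g, hg⟩ : N) ∈ normalizer ((Y.subgroupOf N : Subgroup N) : Set N) := fun {Y g} hg hgY =>
    mem_normalizer_iff.mpr fun y => mem_normalizer_iff.mp hgY (y : G)
  have hmap : ∀ {Y : Subgroup N} {g : N}, g ∈ normalizer (Y : Set N) →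
      f g ∈ normalizer ((Y.map f : Subgroup _) : Set (N ⧸ Z.subgroupOf N)) := fun {Y g} hg =>
    Subgroup.le_normalizer_map f ⟨g, hg, rfl⟩
  have hXN : zpowers x' ≤ normalizer ((D.subgroupOf N : Subgroup N) : Set N) :=
    zpowers_le.mpr (hnorm hxZ hxD)
  have hzx : (zpowers x').map N.subtype = zpowers x := by rw [MonoidHom.map_zpowers]; rfl
  have hcopxD : (Nat.card (zpowers x')).Coprime (Nat.card (D.subgroupOf N)) := by
    rw [Nat.card_zpowers, hx', CfsgLib.Coprime.card_subgroupOf hDZ]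
    exact (hr.coprime_iff_not_dvd).mpr fun h2 => hpr (prime_dvd_pgroup_card hD hr h2).symm
  have hfree : (D.subgroupOf N).map f ⊓ centralizer (zpowers (f x') : Set (N ⧸ Z.subgroupOf N)) = ⊥ := by
    rw [← MonoidHom.map_zpowers, ← CfsgLib.Coprime.map_inf_centralizer f hXN hcopxD
      (Or.inl inferInstance), Subgroup.eq_bot_iff_forall]
    rintro _ ⟨d, hd, rfl⟩
    obtain ⟨hd1, hd2⟩ := mem_inf.mp hd
    rw [QuotientGroup.mk'_apply, QuotientGroup.eq_one_iff]
    refine hfix (mem_inf.mpr ⟨hd1, mem_centralizer_iff.mpr fun y hy => ?_⟩)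
    rw [← hzx] at hy
    obtain ⟨y', hy', rfl⟩ := hy
    exact congrArg Subtype.val (mem_centralizer_iff.mp hd2 y' hy')
  have key := CfsgLib.OddLocal.commutator_le_centralizer_of_fixedPointFree (p := q) (q := p)
    (x := f x') hr hq2 hp2 hr2 hqr hqp.symm hpr hfx
    (P := (Q.subgroupOf N).map f) (V := (D.subgroupOf N).map f)
    ((IsPGroup.comap_subtype hQ).map f) ((IsPGroup.comap_subtype hD).map f)
    (hmap (hnorm hxZ hxQ)) (hmap (hnorm hxZ hxD)) (by
      rintro _ ⟨g, hg, rfl⟩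
      exact hmap (hnorm g.2 (hQD hg))) hfree
  have hcomm : ⁅Q.subgroupOf N, zpowers x'⁆ = Q.subgroupOf N := by
    apply Subgroup.map_injective N.subtype_injective
    rw [map_commutator, map_subgroupOf_eq_of_le hQN, hzx, hQx]
  rw [← MonoidHom.map_zpowers, ← map_commutator, hcomm] at key
  have h1 := mem_centralizer_iff.mp (key ⟨⟨a, hQN ha⟩, ha, rfl⟩) (f ⟨h, hDZ hh⟩) ⟨⟨h, hDZ hh⟩, hh, rfl⟩
  have h2 : f (⟨a, hQN ha⟩ * ⟨h, hDZ hh⟩ * ⟨a, hQN ha⟩⁻¹ * ⟨h, hDZ hh⟩⁻¹) = 1 := by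
    simp only [map_mul, map_inv]
    rw [← h1]
    group
  rw [QuotientGroup.mk'_apply, QuotientGroup.eq_one_iff] at h2
  exact h2

/-- A noncyclic `D ≤ S` of exponent `p`, `P` central in it, stable under `N(S) ∩ N(P)`. -/
theorem exists_line_witness (hp2 : p ≠ 2) {S P : Subgroup G} (hS : IsPGroup p S)
    (hr : ¬ Cfsg.PRankLE p 2 S) (hPS : P ≤ S) (hP : Nat.card P = p) :
    ∃ D : Subgroup G, P ≤ D ∧ D ≤ S ∧ (∀ d ∈ D, d ^ p = 1) ∧ D ≤ centralizer (P : Set G) ∧
      (∀ g : G, g ∈ normalizer (S : Set G) → g ∈ normalizer (P : Set G) →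
        g ∈ normalizer (D : Set G)) ∧
      ∃ A : Subgroup G, A ≤ D ∧ IsSq p A := by
  have hPe : Cfsg.IsElementaryAbelian p P := by
    obtain ⟨a, ha, hao⟩ := exists_order_p (isPGroup_of_card_prime hP) (ne_bot_of_card_prime hP)
    rw [← zpowers_eq_of_card_prime hP ha fun e => hp.out.ne_one (by rw [← hao, e, orderOf_one])]
    exact elemAb_zpowers (hao ▸ pow_orderOf_eq_one a)
  have hPd := ne_bot_of_card_prime hP
  let Z : Subgroup G :=
    { carrier := {z | z ∈ S ∧ z ∈ centralizer (S : Set G) ∧ z ^ p = 1}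
      mul_mem' := fun {a b} ha hb => ⟨mul_mem ha.1 hb.1, mul_mem ha.2.1 hb.2.1, by
        rw [(show Commute a b from (mem_centralizer_iff.mp hb.2.1 a ha.1)).mul_pow, ha.2.2, hb.2.2,
          one_mul]⟩
      one_mem' := ⟨one_mem _, one_mem _, one_pow p⟩
      inv_mem' := fun {a} ha => ⟨inv_mem ha.1, inv_mem ha.2.1, by rw [inv_pow, ha.2.2, inv_one]⟩ }
  have hZS : Z ≤ S := fun z hz => hz.1
  have hPCZ : P ≤ centralizer (Z : Set G) := fun a ha =>
    mem_centralizer_iff.mpr fun z hz => (mem_centralizer_iff.mp hz.2.1 a (hPS ha)).symm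
  by_cases hZP : Z ≤ P
  · -- `P` is central: take a characteristic subgroup of exponent `p`
    have hZ : Z ≠ ⊥ := by
      intro hb
      have hS1 : S ≠ ⊥ := fun e => hPd (le_bot_iff.mp (e ▸ hPS))
      haveI : Nontrivial S := nontrivial_iff_ne_bot S |>.mpr hS1
      haveI := hS.center_nontrivial
      obtain ⟨z, ⟨⟨y, hyc, rfl⟩, hzo⟩⟩ := exists_order_p (P := (center S).map S.subtype)
        ((hS.to_subgroup _).map S.subtype) (by
          rw [Ne, map_eq_bot_iff_of_injective _ S.subtype_injective]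
          exact (nontrivial_iff_ne_bot _).mp inferInstance)
      have hm : S.subtype y ∈ Z := ⟨y.2, mem_centralizer_iff.mpr fun a ha =>
        congrArg Subtype.val (mem_center_iff.mp hyc ⟨a, ha⟩), hzo ▸ pow_orderOf_eq_one _⟩
      rw [hb, mem_bot] at hm
      exact hp.out.ne_one (by rw [← hzo, hm, orderOf_one])
    have hPZ : P ≤ Z := by
      obtain ⟨z, hz, hz1⟩ := (bot_or_exists_ne_one Z).resolve_left hZ
      rw [← zpowers_eq_of_card_prime hP (hZP hz) hz1]
      exact zpowers_le.mpr hz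
    obtain ⟨W, hWc, hWe, hW2, -⟩ := exists_char_exponent_rank_three hp2 hS hr
    obtain ⟨Y, hYW, hY, hY2⟩ := exists_elemSq_of_exponent hWe hW2
    set W' := W.map S.subtype
    have hW'S : W' ≤ S := map_subtype_le _
    have hPc : ∀ s ∈ S, ∀ a ∈ P, Commute s a := fun s hs a ha =>
      mem_centralizer_iff.mp (hPZ ha).2.1 s hs
    have hn : W' ≤ normalizer (P : Set G) := fun w hw => centralizer_le_normalizer _
      (mem_centralizer_iff.mpr fun a ha => (hPc w (hW'S hw) a ha).eq.symm)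
    refine ⟨P ⊔ W', le_sup_left, sup_le hPS hW'S, fun d hd => ?_, ?_, fun g hgS hgP => ?_, ?_⟩
    · obtain ⟨a, ha, w, hw, rfl⟩ := (CfsgLib.Coprime.mem_sup_of_le_normalizer hn).mp hd
      obtain ⟨w', hw', rfl⟩ := hw
      have : (S.subtype w') ^ p = 1 := by rw [← map_pow, hWe w' hw', map_one]
      rw [(hPc (S.subtype w') w'.2 a ha).symm.mul_pow, hPe.2 a ha, this, one_mul]
    · intro d hd
      exact mem_centralizer_iff.mpr fun a ha => (hPc d (sup_le hPS hW'S hd) a ha).eq.symm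
    · refine CfsgLib.Comp.le_normalizer_sup (M := zpowers g) (zpowers_le.mpr hgP) ?_ (mem_zpowers g)
      haveI := hWc
      exact zpowers_le.mpr (CfsgLib.ClassK.normalizer_le_normalizer_map S W hgS)
    · obtain ⟨A, hA, hAe, hAc⟩ := exists_elemAb_card (k := 2) (E := Y.map S.subtype)
        (elemAb_map S.subtype hY) (by rwa [card_map_of_injective S.subtype_injective])
      exact ⟨A, hA.trans ((map_mono hYW).trans le_sup_right), hAe, hAc⟩
  · have hZe : Cfsg.IsElementaryAbelian p Z := ⟨⟨⟨fun a b => Subtype.ext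
      (mem_centralizer_iff.mp b.2.2.1 a a.2.1)⟩⟩, fun z hz => hz.2.2⟩
    have hD := elemAb_sup hPe hZe hPCZ
    refine ⟨P ⊔ Z, le_sup_left, sup_le hPS hZS, hD.2, fun d hd => mem_centralizer_iff.mpr fun a ha =>
      congrArg Subtype.val (hD.1.is_comm.comm ⟨a, mem_sup_left ha⟩ ⟨d, hd⟩), fun g hgS hgP => ?_, ?_⟩
    · refine CfsgLib.Comp.le_normalizer_sup (M := zpowers g) (zpowers_le.mpr hgP) ?_ (mem_zpowers g)
      rw [zpowers_le, ← conjMap_eq_self_iff]
      refine eq_of_le_of_card_ge ?_ (card_conjMap g Z).ge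
      rintro _ ⟨z, ⟨h1, h2, h3⟩, rfl⟩
      refine ⟨(mem_normalizer_iff.mp hgS z).mp h1, mem_centralizer_iff.mpr fun s hs => ?_, ?_⟩
      · have hs' : g⁻¹ * s * g ∈ S := (mem_normalizer_iff''.mp hgS s).mp hs
        have e := mem_centralizer_iff.mp h2 _ hs'
        show s * (g * z * g⁻¹) = g * z * g⁻¹ * s
        calc s * (g * z * g⁻¹) = g * (g⁻¹ * s * g * z) * g⁻¹ := by group
          _ = g * (z * (g⁻¹ * s * g)) * g⁻¹ := by rw [e]
          _ = g * z * g⁻¹ * s := by group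
      · rw [← map_pow, h3, map_one]
    · have hlt : p ^ 1 < Nat.card ↥(P ⊔ Z) := by
        rw [pow_one]
        nth_rewrite 1 [← hP]
        refine lt_of_le_of_ne (card_le_of_le le_sup_left) fun e => hZP ?_
        exact le_sup_right.trans (eq_of_le_of_card_ge le_sup_left e.ge).ge
      obtain ⟨n, hn⟩ := IsPGroup.iff_card.mp (elemAb_isPGroup hD)
      obtain ⟨A, hA, hAe, hAc⟩ := exists_elemAb_card (k := 2) hD (by
        rw [hn] at hlt ⊢
        exact Nat.pow_le_pow_right hp.out.pos ((Nat.pow_lt_pow_iff_right hp.out.one_lt).mp hlt))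
      exact ⟨A, hA, hAe, hAc⟩

variable (hG : Cfsg.IsMinSimpleOddOrder G) (hM : IsCoatom M)
include hG hM

omit hM in
/-- Outside `H`, a maximal subgroup over `P`, `|P| = p ∈ β(H)`, has `p`-rank one. -/
theorem prankLE_one_of_beta (hH : IsCoatom H) (hpb : p ∈ Cfsg.beta H) {P : Subgroup G}
    (hP : Nat.card P = p) (hPH : P ≤ H) (hL : IsCoatom L) (hne : L ≠ H) (hPL : P ≤ L) :
    Cfsg.PRankLE p 1 L := by
  by_contra hr
  by_cases hσ : p ∈ Cfsg.sigma L
  · obtain ⟨B, -, -, hBe, hB3⟩ := exists_rank_three_centralizer hG hH hpb hPH hP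
    obtain ⟨T, hT, -⟩ := exists_sylowIn_le (IsPGroup.of_bot (p := p) (G := G)) (bot_le (a := L))
    obtain ⟨g, -, hg⟩ := (sylowIn_top hσ hT).exists_conj_le (elemAb_isPGroup hBe) le_top
    have hb : p ∈ Cfsg.beta L := ⟨⟨hp.out, not_prankLE_iff.mpr ⟨_, hg.trans hT.1,
      elemAb_map (MulAut.conj g).toMonoidHom hBe, by
        rw [card_conjMap]
        exact lt_of_lt_of_le (Nat.pow_lt_pow_right hp.out.one_lt (by norm_num)) hB3⟩⟩, hpb.2⟩
    obtain ⟨R, hR, -⟩ := exists_sylowIn_le (IsPGroup.of_bot (p := p) (G := G))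
      (bot_le (a := Cfsg.sigmaCore L))
    obtain ⟨R', hR', -⟩ := exists_sylowIn_le (IsPGroup.of_bot (p := p) (G := G))
      (bot_le (a := Cfsg.sigmaCore H))
    obtain ⟨⟨hCL, -⟩, -⟩ := centralizer_beta_or_derived hG hL hσ hPL hP hR (Or.inl hb)
    obtain ⟨⟨-, hu⟩, -⟩ := centralizer_beta_or_derived hG hH (mem_sigma_of_mem_beta hG hH hpb) hPH hP
      hR' (Or.inl hpb)
    exact hne (hu L hL hCL)
  · exact (Cfsg.Agent.S1408.result hG L hL p hσ (prankLE_two_of_not_sigma hG hL hσ) hr).1 hpb.2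

end CfsgLib.BG
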