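import Cfsg.Agent.Lib.BG.Tau2Irreducible
import Cfsg.Agent.Lib.StructB.Misc

/-!
# Complements of `M_σ` with `τ₁ ∪ τ₃` acting fixed-point-freely
-/

set_option autoImplicit false
set_option linter.style.haveILetI false
set_option linter.unusedSectionVars false

namespace CfsgLib.BG

open Subgroup CfsgLib.PLocal CfsgLib.OddLocal
open scoped commutatorElement

universe u
variable {G : Type u} [Group G] [Finite G]

theorem card_sup_dvd {H K : Subgroup G} (h : K ≤ normalizer (H : Set G)) :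
    Nat.card ↥(H ⊔ K) ∣ Nat.card H * Nat.card K := by
  refine ⟨Nat.card ↥(H ⊓ K), ?_⟩
  rw [← CfsgLib.Solvable.card_mul_set_mul_card_inf H K,
    ← coe_mul_of_right_le_normalizer_left H K h]
  rfl

/-- `Y` is a Sylow subgroup of every subgroup between `Y` and `K(YH)`. -/
theorem sylowIn_of_bound {p : ℕ} [hp : Fact p.Prime] {E₀ K Y H : Subgroup G}
    (hY : IsPGroup p Y) (hHY : H ≤ normalizer (Y : Set G)) (hn : Y ⊔ H ≤ normalizer (K : Set G))
    (hK : ¬ p ∣ Nat.card K) (hH : ¬ p ∣ Nat.card H) (hY₀ : Y ≤ E₀) (hle : E₀ ≤ K ⊔ (Y ⊔ H)) :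
    SylowIn p Y E₀ := by
  refine ⟨hY₀, hY, fun hd => ?_⟩
  have h1 : Nat.card Y * Y.relIndex E₀ ∣ Nat.card Y * (Nat.card K * Nat.card H) := by
    rw [CfsgLib.Coprime.card_mul_relIndex hY₀]
    refine (card_dvd_of_le hle).trans ((card_sup_dvd hn).trans ?_)
    rw [show Nat.card Y * (Nat.card K * Nat.card H) = Nat.card K * (Nat.card Y * Nat.card H) by ring]
    exact Nat.mul_dvd_mul_left _ (card_sup_dvd hHY)
  have h2 := Nat.dvd_of_mul_dvd_mul_left Nat.card_pos h1
  exact (hp.out.dvd_mul.mp (hd.trans h2)).elim hK hH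

theorem exists_exponent_pow {p : ℕ} [hp : Fact p.Prime] {P : Subgroup G} (hP : IsPGroup p P)
    (h1 : P ≠ ⊥) : ∃ a, 1 ≤ a ∧ Monoid.exponent P = p ^ a := by
  obtain ⟨n, hn⟩ := IsPGroup.iff_card.mp hP
  obtain ⟨a, -, ha⟩ := (Nat.dvd_prime_pow hp.out).mp (hn ▸ Group.exponent_dvd_nat_card (G := P))
  refine ⟨a, Nat.one_le_iff_ne_zero.mpr fun h0 => h1 ((Subgroup.eq_bot_iff_forall _).mpr fun x hx => ?_), ha⟩
  have h2 := Monoid.pow_exponent_eq_one (⟨x, hx⟩ : P)
  rw [ha, h0, pow_zero, pow_one] at h2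
  exact congrArg Subtype.val h2

theorem powImage_top_ne_bot {p : ℕ} [hp : Fact p.Prime] {P : Subgroup G} (hab : IsMulCommutative P)
    {a : ℕ} (ha : 1 ≤ a) (he : Monoid.exponent P = p ^ a) : powImage P hab (p ^ (a - 1)) ≠ ⊥ := by
  intro h0
  have h1 : Monoid.exponent P ∣ p ^ (a - 1) := Monoid.exponent_dvd_of_forall_pow_eq_one fun x => by
    have h2 : ((x : G) ^ p ^ (a - 1)) ∈ powImage P hab (p ^ (a - 1)) := ⟨x, x.2, rfl⟩
    rw [h0, mem_bot] at h2
    exact Subtype.ext h2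
  rw [he] at h1
  have := Nat.pow_dvd_pow_iff_le_right hp.out.one_lt |>.mp h1
  omega

theorem powImage_top_le {p : ℕ} [hp : Fact p.Prime] {P A : Subgroup G} (hab : IsMulCommutative P)
    (hΩ : ∀ x ∈ P, x ^ p = 1 → x ∈ A) {a : ℕ} (ha : 1 ≤ a) (he : Monoid.exponent P = p ^ a) :
    powImage P hab (p ^ (a - 1)) ≤ A := by
  rintro _ ⟨y, hy, rfl⟩
  refine hΩ _ (pow_mem hy _) ?_
  rw [← pow_mul, ← pow_succ, Nat.sub_add_cancel ha, ← he]
  exact congrArg Subtype.val (Monoid.pow_exponent_eq_one (⟨y, hy⟩ : P))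

theorem derived_normalizer_cyclic {X : Subgroup G} (hX : IsCyclic X) :
    ⁅normalizer (X : Set G), normalizer (X : Set G)⁆ ≤ centralizer (X : Set G) := by
  haveI := hX
  set φ : normalizer (X : Set G) →* MulAut X := CfsgLib.Coprime.conjHom le_rfl with hφ
  obtain ⟨w, hw⟩ := hX.exists_generator
  have hcomm : ∀ a b, φ a * φ b = φ b * φ a := by
    intro a b
    obtain ⟨i, hi⟩ := mem_zpowers_iff.mp (hw (φ a w))
    obtain ⟨j, hj⟩ := mem_zpowers_iff.mp (hw (φ b w))
    refine MulEquiv.ext fun x => ?_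
    obtain ⟨k, rfl⟩ := mem_zpowers_iff.mp (hw x)
    simp only [MulAut.mul_apply, map_zpow, ← hi, ← hj, ← zpow_mul]
    rw [mul_comm i j]
  rw [commutator_le]
  intro a ha b hb
  have h1 : φ ⁅(⟨a, ha⟩ : normalizer (X : Set G)), ⟨b, hb⟩⁆ = 1 := by
    rw [map_commutatorElement, commutatorElement_eq_one_iff_mul_comm]
    exact hcomm _ _
  refine mem_centralizer_iff.mpr fun x hx => ?_
  have h2 : ⁅a, b⁆ * x * ⁅a, b⁆⁻¹ = x := congrArg (fun f : MulAut X => ((f ⟨x, hx⟩ : X) : G)) h1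
  exact (mul_inv_eq_iff_eq_mul.mp h2).symm

variable {M E : Subgroup G}
variable (hG : Cfsg.IsMinSimpleOddOrder G) (hM : IsCoatom M)
include hG hM

theorem tau_cases (hE : Cfsg.IsComplIn E (Cfsg.sigmaCore M) M) {q : ℕ} [hq : Fact q.Prime]
    (hd : q ∣ Nat.card E) (h2 : q ∉ Cfsg.tau2 M) : q ∈ Cfsg.tau1 M ∪ Cfsg.tau3 M := by
  have hσ := not_sigma_of_dvd_compl hG hM hE hq.out hd
  have hr : Cfsg.PRankLE q 1 M := by
    by_contra hr
    exact h2 ⟨hq.out, hσ, prankLE_two_of_not_sigma hG hM hσ, hr⟩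
  by_cases hdd : q ∣ Nat.card ↥⁅M, M⁆
  · exact Or.inr ⟨hq.out, hσ, hdd, hr⟩
  · exact Or.inl ⟨hq.out, hσ, hd.trans (card_dvd_of_le hE.1), hdd, hr⟩

variable {p : ℕ} [hp : Fact p.Prime] {A A₀ : Subgroup G}

/-- An order-`p` part of a line `A₀` is no `p`-th power when the Sylow `p`-subgroups are nonabelian. -/
theorem IsExc.not_le_powImage (h : IsExc p M A A₀) {P S : Subgroup G} (hP : SylowIn p P M)
    (hAP : A ≤ P) (hS : SylowIn p S ⊤) (hPS : P ≤ S) (hne : P ≠ S) (hab : IsMulCommutative P)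
    {n : ℕ} (hn : p ∣ n) : ¬ A₀ ≤ powImage P hab n := by
  intro hle
  obtain ⟨g, hgS, hgA, hgP, hgM⟩ := h.exists_move_sylow hG hM hP hAP hS hPS hne
  have hSna : ¬ IsMulCommutative S := fun hc => hgM (h.centralizer_le
    (mem_centralizer_iff.mpr fun a ha =>
      congrArg Subtype.val (hc.is_comm.comm ⟨a, hPS (hAP ha)⟩ ⟨g, hgS⟩)))
  obtain ⟨Y, hY, hYC, hAY⟩ := ((h.isMaxSq hG hM).centralizer_sylow hG hS (hAP.trans hPS)).2 hSna
  rw [(h.sylow_eq_inf hG hM hP hAP hS hPS).2] at hAY hYC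
  have hYn : Y ≤ normalizer (A : Set G) :=
    (hYC.trans (h.sylow_center hG hM hP hAP)).trans (centralizer_le_normalizer _)
  have hpow : powImage P hab n ≤ Y := by
    rintro _ ⟨x, hx, rfl⟩
    obtain ⟨a, ha, y, hy, rfl⟩ := (CfsgLib.Coprime.mem_sup_of_le_normalizer hYn).mp (hAY.symm ▸ hx)
    have hc : Commute a y := congrArg Subtype.val (hab.is_comm.comm ⟨a, hAP ha⟩ ⟨y, hYC hy⟩)
    obtain ⟨m, rfl⟩ := hn
    rw [hc.mul_pow, pow_mul, h.sq.1.2 a ha, one_pow, one_mul]
    exact pow_mem hy _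
  refine hgM (h.norm (conjMap_eq_self_iff.mp (eq_of_isCyclic_card hY ?_ (hle.trans hpow)
    (by rw [card_conjMap, h.line.2]) h.line.2)))
  exact ((conjMap_mono hle).trans (conjMap_eq_self_iff.mpr (normalizer_le_powImage hgP)).le).trans hpow

/-- With nonabelian Sylow `p`-subgroups, `p`-elements of `E` with fixed points lie in `A₀`. -/
theorem IsExc.mem_line_of_fixed (h : IsExc p M A A₀) (hE : Cfsg.IsComplIn E (Cfsg.sigmaCore M) M)
    (hAE : A ≤ E) {P S : Subgroup G} (hPE : SylowIn p P E)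
    (hAP : A ≤ P) (hS : SylowIn p S ⊤) (hPS : P ≤ S) (hne : P ≠ S) {e y : G} (he : e ∈ E)
    (hep : IsPGroup p (zpowers e)) (hy : y ∈ Cfsg.sigmaCore M) (hy1 : y ≠ 1) (hey : Commute e y) :
    e ∈ A₀ := by
  have hP := sylowIn_of_compl hG hM hE h.not_sigma hPE
  obtain ⟨hA₀, hlines⟩ := h.nonabelian_lines hG hM hP hAP hS hPS hne
  have hA₀n : E ≤ normalizer (A₀ : Set G) := by
    rw [← hA₀]
    exact CfsgLib.Comp.le_normalizer_inf (h.compl_le_normalizer hG hM hE hAE)
      (CfsgLib.Comp.le_normalizer_centralizer (hE.1.trans (le_normalizer_sigmaCore M)))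
  obtain ⟨hab, hΩ, -⟩ := h.sylow_abelian hG hM hP hAP
  have key : ∀ x : G, x ∈ P → ∀ z ∈ Cfsg.sigmaCore M, z ≠ 1 → Commute x z → x ∈ A₀ := by
    intro x hx z hz hz1 hxz
    obtain ⟨j, hj⟩ := IsPGroup.iff_orderOf.mp hP.2.1 ⟨x, hx⟩
    rw [Subgroup.orderOf_mk] at hj
    have hfix : ∀ w : G, w ∈ A → w ≠ 1 → Commute w z → zpowers w = A₀ := by
      intro w hw hw1 hwz
      by_contra hne'
      refine hz1 (mem_bot.mp ((hlines _ (h.sq.card_zpowers hw hw1) hne').1 ▸
        mem_inf.mpr ⟨hz, mem_centralizer_iff.mpr fun v hv => ?_⟩))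
      obtain ⟨i, rfl⟩ := mem_zpowers_iff.mp hv
      exact (hwz.zpow_left i).eq
    rcases Nat.lt_or_ge j 2 with hj2 | hj2
    · rcases eq_or_ne x 1 with rfl | hx1
      · exact one_mem _
      have hxA : x ∈ A := (hΩ x hx).mp (orderOf_dvd_iff_pow_eq_one.mp (hj ▸
        (Nat.pow_dvd_pow p (by omega : j ≤ 1)).trans (pow_one p).dvd))
      exact (hfix x hxA hx1 hxz) ▸ mem_zpowers x
    exfalso
    set w := x ^ p ^ (j - 1) with hw
    have hwA : w ∈ A := (hΩ w (pow_mem hx _)).mp (by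
      rw [hw, ← pow_mul, ← pow_succ, Nat.sub_add_cancel (by omega : 1 ≤ j), ← hj, pow_orderOf_eq_one])
    have hw1 : w ≠ 1 := fun e1 => by
      have h1 := Nat.le_of_dvd (pow_pos hp.out.pos _) (hj ▸ orderOf_dvd_of_pow_eq_one e1)
      exact absurd h1 (not_le.mpr (Nat.pow_lt_pow_right hp.out.one_lt (by omega)))
    refine h.not_le_powImage hG hM hP hAP hS hPS hne hab (dvd_pow_self p (by omega : j - 1 ≠ 0)) ?_
    rw [← hfix w hwA hw1 (hxz.pow_left _), zpowers_le]
    exact ⟨x, hx, rfl⟩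
  obtain ⟨k, hk, hkP⟩ := hPE.exists_conj_le hep (zpowers_le.mpr he)
  have h1 := key (k * e * k⁻¹) (hkP (conj_mem_conjMap (mem_zpowers e))) (k * y * k⁻¹)
    ((mem_normalizer_iff.mp (le_normalizer_sigmaCore M (hE.1 hk)) y).mp hy)
    (fun e1 => hy1 (conj_eq_one_iff.mp e1)) (by
      show k * e * k⁻¹ * (k * y * k⁻¹) = k * y * k⁻¹ * (k * e * k⁻¹)
      calc k * e * k⁻¹ * (k * y * k⁻¹) = k * (e * y) * k⁻¹ := by group
        _ = k * (y * e) * k⁻¹ := by rw [hey.eq]
        _ = k * y * k⁻¹ * (k * e * k⁻¹) := by group)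
  exact (mem_normalizer_iff.mp (hA₀n hk) e).mpr h1

/-- A line fixed by `N(P)` is fixed-point-free on `M_σ`. -/
theorem IsExc.fpf_of_normalizer (h : IsExc p M A A₀) {P : Subgroup G} (hP : SylowIn p P M)
    (hAP : A ≤ P) {X : Subgroup G} (hX : IsLine p A X)
    (hN : normalizer (P : Set G) ≤ normalizer (X : Set G)) :
    Cfsg.sigmaCore M ⊓ centralizer (X : Set G) = ⊥ := by
  by_contra h1
  obtain ⟨L, hL, hle⟩ := (eq_top_or_exists_le_coatom (normalizer (X : Set G))).resolve_left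
    (line_normalizer_ne_top hG hM h.sq h.le hX)
  have := (h.onlyMax_centralizer hG hM hX h1).2 L hL ((centralizer_le_normalizer _).trans hle)
  subst this
  exact h.not_sigma (mem_sigma_of_normalizer_le
    ((dvd_card_of_pgroup_ne_bot h.sq.isPGroup h.sq.ne_bot).trans (card_dvd_of_le h.le)) hP
    (hN.trans hle))

/-- An `H`-invariant cyclic subgroup of maximal order acting fixed-point-freely (abelian case). -/
theorem IsExc.exists_cyclic_abelian (h : IsExc p M A A₀) {P : Subgroup G} (hPM : SylowIn p P M)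
    (hAP : A ≤ P) (hP : SylowIn p P ⊤) {H : Subgroup G} (hHM : H ≤ M)
    (hHP : H ≤ normalizer (P : Set G)) (hpH : ¬ p ∣ Nat.card H)
    (hH : ∀ r : ℕ, r.Prime → r ∣ Nat.card H → r ∉ Cfsg.sigma M ∧ Cfsg.PRankLE r 1 M)
    (hfree : ∀ x ∈ H, (orderOf x).Prime → Cfsg.sigmaCore M ⊓ centralizer ({x} : Set G) = ⊥) :
    ∃ Y : Subgroup G, Y ≤ P ∧ IsCyclic Y ∧ H ≤ normalizer (Y : Set G) ∧
      Nat.card Y = Monoid.exponent P ∧
      ∀ x ∈ Y, orderOf x = p → Cfsg.sigmaCore M ⊓ centralizer ({x} : Set G) = ⊥ := by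
  obtain ⟨hab, hΩ, hPA⟩ := h.sylow_abelian hG hM hPM hAP
  have hA := h.sq
  have hp2 : p ≠ 2 := prime_ne_two_of_pgroup hG hA.isPGroup hA.ne_bot
  have hP1 : P ≠ ⊥ := fun e => hA.ne_bot (le_bot_iff.mp (hAP.trans e.le))
  obtain ⟨a, ha, hea⟩ := exists_exponent_pow hP.2.1 hP1
  set T := powImage P hab (p ^ (a - 1)) with hTdef
  have hTA : T ≤ A := powImage_top_le hab (fun x hx => (hΩ x hx).mp) ha hea
  obtain ⟨X, hX, hHX, hfX, hXT⟩ : ∃ X, IsLine p A X ∧ H ≤ normalizer (X : Set G) ∧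
      Cfsg.sigmaCore M ⊓ centralizer (X : Set G) = ⊥ ∧ X ≤ T := by
    by_cases hTA' : T = A
    swap
    · have hTline : IsLine p A T := by
        refine ⟨hTA, ?_⟩
        have hd := card_dvd_of_le hTA
        rw [hA.2] at hd
        obtain ⟨i, hi, hcard⟩ := (Nat.dvd_prime_pow hp.out).mp hd
        rw [hcard]
        rcases (show i = 0 ∨ i = 1 ∨ i = 2 by omega) with rfl | rfl | rfl
        · exact absurd (card_eq_one.mp (by rw [hcard, pow_zero])) (powImage_top_ne_bot hab ha hea)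
        · exact pow_one p
        · exact absurd (eq_of_le_of_card_ge hTA (by rw [hcard, hA.2])) hTA'
      exact ⟨T, hTline, hHP.trans normalizer_le_powImage,
        h.fpf_of_normalizer hG hM hPM hAP hTline normalizer_le_powImage, le_rfl⟩
    by_cases hall : H ≤ linesFixer p A
    · obtain ⟨X, -, hX, -, -, hf, -⟩ := h.exists_fpf hG hM
      exact ⟨X, hX, fun x hx => mem_linesFixer.mp (hall hx) X hX, hf, hTA'.ge.trans' hX.1⟩
    obtain ⟨g, hgH, r, hr, k, hgk, hgl⟩ : ∃ g ∈ H, ∃ r : ℕ, r.Prime ∧ ∃ k, orderOf g = r ^ k ∧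
        g ∉ linesFixer p A := by
      obtain ⟨g, hg, hgn⟩ := SetLike.not_le_iff_exists.mp hall
      by_contra hno
      push Not at hno
      refine hgn (CfsgLib.StructB.mem_of_forall_primePow _ g fun x hx q k hq _ hxo _ => ?_)
      exact hno x (zpowers_le.mpr hg hx) q hq k hxo
    haveI : Fact r.Prime := ⟨hr⟩
    have hg1 : g ≠ 1 := fun e => hgl (e ▸ one_mem _)
    have hgp : IsPGroup r (zpowers g) := IsPGroup.of_card (n := k) (by rw [Nat.card_zpowers, hgk])
    have hrH : r ∣ Nat.card H := (dvd_card_of_pgroup_ne_bot hgp fun e =>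
      hg1 (zpowers_eq_bot.mp e)).trans (card_dvd_of_le (zpowers_le.mpr hgH))
    obtain ⟨hrσ, hr1⟩ := hH r hr hrH
    obtain ⟨X, hX, hgX⟩ := h.exists_fixed_line hG hM hPM hAP hP (hHM hgH) (hPA (hHP hgH)) hgp hrσ hr1
      fun y hy hyo => hfree y (zpowers_le.mpr hgH hy) (hyo ▸ hr)
    have hrk : Cfsg.PRankLE p 2 P := by
      intro B hBc hBe
      rw [← card_map_of_injective P.subtype_injective]
      have h1 := card_le_of_le (show B.map P.subtype ≤ A from by
        rintro _ ⟨b, hb, rfl⟩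
        exact (hΩ _ b.2).mp (congrArg Subtype.val (hBe b hb)))
      rwa [hA.2] at h1
    have hne : normalizer (P : Set G) ≠ ⊤ := minSimple_normalizer_ne_top hG hP1
      fun e => hM.1 (top_le_iff.mp (e ▸ hPM.1))
    have hder := derived_normalizer_le_centralizer hG hP hab hp2 hrk hne
    have hNX : normalizer (P : Set G) ≤ normalizer (X : Set G) := fun n hn => by
      refine fixes_of_small (Φ := fun Y => IsLine p A Y ∧ g ∈ normalizer (Y : Set G))
        (hG.1.of_dvd_nat (orderOf_dvd_natCard n)) (fun Z hZ => ?_) (fun X Y Z hX hY hZ h1 h2 h3 =>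
          hgl (hA.mem_linesFixer_of_three hX.1 hY.1 hZ.1 h1 h2 h3 hX.2 hY.2 hZ.2)) ⟨hX, hgX⟩
      refine ⟨⟨(conjMap_mono hZ.1.1).trans (conjMap_eq_self_iff.mpr (hPA hn)).le,
        by rw [card_conjMap, hZ.1.2]⟩, ?_⟩
      have hc : ⁅n⁻¹, g⁆ ∈ normalizer (Z : Set G) :=
        mem_linesFixer.mp (hA.centralizer_le_linesFixer (Subgroup.centralizer_le hAP
          (hder (commutator_mem_commutator (inv_mem hn) (hHP hgH))))) Z hZ.1
      have h2 := mul_mem hc hZ.2
      rw [commutatorElement_def, inv_inv, show n⁻¹ * g * n * g⁻¹ * g = n⁻¹ * g * n by group,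
        ← conjMap_eq_self_iff] at h2
      rw [← conjMap_eq_self_iff, conjMap_conjMap, ← conjMap_inv_conjMap n⁻¹ (conjMap (g * n) Z),
        inv_inv, conjMap_conjMap n⁻¹, ← mul_assoc, h2]
    exact ⟨X, hX, hHP.trans hNX, h.fpf_of_normalizer hG hM hPM hAP hX hNX, hX.1.trans hTA'.ge⟩
  obtain ⟨Y, hYP, hYc, hHY, hYcard, hXY⟩ := exists_invariant_cyclic hp2 hA hab hP.2.1 hAP
    (fun x hx => (hΩ x hx).mp) hHP hHX hX ((hp.out.coprime_iff_not_dvd.mpr hpH).symm) ha hXT
  refine ⟨Y, hYP, hYc, hHY, by rw [hYcard, hea], fun x hx hxo => ?_⟩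
  have := eq_of_isCyclic_card hYc (zpowers_le.mpr hx) hXY (by rw [Nat.card_zpowers, hxo]) hX.2
  rw [← centralizer_zpowers_eq, this, hfX]

/-- With abelian Sylow `p`-subgroups of `G`, the Sylow `p`-subgroup of `E` is normal. -/
theorem IsExc.sylow_normal (h : IsExc p M A A₀) (hE : Cfsg.IsComplIn E (Cfsg.sigmaCore M) M)
    (hAE : A ≤ E) {P : Subgroup G} (hPE : SylowIn p P E) (hAP : A ≤ P) (hP : SylowIn p P ⊤) :
    E ≤ normalizer (P : Set G) := by
  have hPM := sylowIn_of_compl hG hM hE h.not_sigma hPE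
  obtain ⟨hab, hΩ, hPA⟩ := h.sylow_abelian hG hM hPM hAP
  haveI := CfsgLib.Solvable.pPrimeCore_normal p E
  set K := (Cfsg.pPrimeCore p E).map E.subtype with hK
  have hKE : K ≤ E := map_subtype_le _
  have hKn : E ≤ normalizer (K : Set G) :=
    (normal_subgroupOf_iff_le_normalizer hKE).mp (by
      rw [hK, subgroupOf, comap_map_eq_self_of_injective E.subtype_injective]; infer_instance)
  have hcop : ∀ B : Subgroup G, IsPGroup p B → (Nat.card B).Coprime (Nat.card K) := fun B hB => by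
    refine coprime_pgroup_of_not_dvd hB fun hd => ?_
    rw [hK, card_map_of_injective E.subtype_injective] at hd
    exact hp.out.ne_one (Nat.eq_one_of_dvd_coprimes (CfsgLib.Solvable.pPrimeCore_coprime (G := E) p) hd dvd_rfl)
  have hprime : ∀ {q : ℕ}, q.Prime → q ∣ Nat.card K → q ≠ p := fun {q} hq hd e => by
    subst e
    rw [hK, card_map_of_injective E.subtype_injective] at hd
    exact hq.ne_one (Nat.eq_one_of_dvd_coprimes (CfsgLib.Solvable.pPrimeCore_coprime (G := E) q) hd dvd_rfl)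
  have hKA : K ≤ centralizer (A : Set G) := by
    refine le_of_inv_sylows (hAE.trans hKn) (hcop A h.sq.isPGroup) (Or.inl (isSolvable_of_le_max hG hM h.le))
      fun q hq R hR hR1 hRn => ?_
    haveI : Fact q.Prime := ⟨hq⟩
    have hqK : q ∣ Nat.card K := (dvd_card_of_pgroup_ne_bot hR.2.1 hR1).trans (card_dvd_of_le hR.1)
    exact h.centralizes_inv hG hM (hprime hq hqK) (not_sigma_of_dvd_compl hG hM hE hq
      (hqK.trans (card_dvd_of_le hKE))) hR.2.1 (hR.1.trans (hKE.trans hE.1)) hRn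
  have hKP : K ≤ centralizer (P : Set G) := by
    refine le_of_inv_sylows (hPE.1.trans hKn) (hcop P hP.2.1)
      (Or.inl (isSolvable_of_le_max hG hM hPM.1)) fun q hq R hR hR1 hRn => ?_
    haveI : Fact q.Prime := ⟨hq⟩
    have hqK : q ∣ Nat.card K := (dvd_card_of_pgroup_ne_bot hR.2.1 hR1).trans (card_dvd_of_le hR.1)
    have hqp := hprime hq hqK
    have hRE : R ≤ E := hR.1.trans hKE
    have hqE := hqK.trans (card_dvd_of_le hKE)
    by_cases hτ : q ∈ Cfsg.tau2 M
    · obtain ⟨B, B₀, hBE, h'⟩ := tau2_square hG hM hE hτ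
      obtain ⟨Q, hQ, hBQ⟩ := exists_sylowIn_le h'.sq.isPGroup hBE
      have hPB := h'.centralizes_other hG hM h hqp hE hBE hAE hPE
      have hΩB := (h'.sylow_abelian hG hM (sylowIn_of_compl hG hM hE h'.not_sigma hQ) hBQ).2.1
      have hPR : P ≤ centralizer (R : Set G) := by
        refine le_centralizer_of_fixes_order_p (prime_ne_two_of_pgroup hG hR.2.1 hR1) hR.2.1 hRn ?_
          fun x hx hxq y hy => ?_
        · obtain ⟨n, hn⟩ := IsPGroup.iff_card.mp hP.2.1
          rw [hn]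
          exact Nat.Coprime.pow_left _ ((Nat.coprime_primes hp.out hq).mpr hqp.symm)
        · obtain ⟨k, hk, hkQ⟩ := hQ.exists_conj_le
            (hR.2.1.to_le (zpowers_le.mpr hx)) (zpowers_le.mpr (hRE hx))
          have h1 : k * x * k⁻¹ ∈ B := (hΩB _ (hkQ (conj_mem_conjMap (mem_zpowers x)))).mp
            (by rw [conj_pow, hxq]; group)
          have h2 : x ∈ B := (mem_normalizer_iff.mp (h'.compl_le_normalizer hG hM hE hBE hk) x).mpr h1
          rw [← mem_centralizer_iff.mp (hPB hy) x h2]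
          group
      exact le_centralizer_iff.mp hPR
    rcases tau_cases hG hM hE hqE hτ with hτ1 | hτ3
    · rw [← commutator_eq_bot_iff_le_centralizer]
      by_contra hne
      exact hτ1.2.2.2.1 ((dvd_card_of_pgroup_ne_bot (hR.2.1.to_le
        (CfsgLib.Comp.commutator_le_of_le_normalizer hRn)) hne).trans
        (card_dvd_of_le (commutator_mono (hRE.trans hE.1) hPM.1)))
    obtain ⟨Q, hQ, hRQ⟩ := exists_sylowIn_le hR.2.1 hRE
    have hQπ : ∀ t : ℕ, t.Prime → t ∣ Nat.card Q → t = q := fun t ht hd => prime_dvd_pgroup_card hQ.2.1 ht hd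
    have hQd := tau3_le_derived hG hM hE hQ.1 fun t ht hd => (hQπ t ht hd) ▸ hτ3
    have hQn : E ≤ normalizer (Q : Set G) := hall_derived_normal hG hM hE (π := {q})
      ⟨hQ.1, hQπ, fun t _ ht => (Set.mem_singleton_iff.mp ht) ▸ hQ.2.2⟩ hQd
    have hCE : centralizer (A : Set G) ≤ E := by
      intro x hx
      have hxM : x ∈ M := h.centralizer_le hx
      obtain ⟨c, hc, e, he, rfl⟩ : ∃ n ∈ Cfsg.sigmaCore M, ∃ e ∈ E, n * e = x := by
        have hm' : x ∈ ((Cfsg.sigmaCore M ⊔ E : Subgroup G) : Set G) := by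
          rw [sup_comm, isComplIn_sup hE]; exact hxM
        rw [coe_mul_of_right_le_normalizer_left _ _ (hE.1.trans (le_normalizer_sigmaCore M))] at hm'
        exact hm'
      have hcn : c ∈ normalizer (A : Set G) := by
        have := mul_mem (centralizer_le_normalizer _ hx) (inv_mem (h.compl_le_normalizer hG hM hE hAE he))
        simpa [mul_assoc] using this
      have hd : Cfsg.sigmaCore M ⊓ E = ⊥ := by rw [inf_comm]; exact hE.2.2.1
      have hc1 : c = 1 := by
        rw [← mem_bot, ← h.centralizer_eq_bot hG hM]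
        exact ⟨hc, mem_centralizer_of_conj_le hc hd (hE.1.trans (le_normalizer_sigmaCore M)) hAE
          ((conjMap_eq_self_iff.mpr hcn).le.trans hAE)⟩
      rw [hc1, one_mul]; exact he
    have hQc : normalizer (A : Set G) ≤ normalizer ((Q ⊓ centralizer (A : Set G) : Subgroup G) : Set G) := by
      intro n hn
      refine conjMap_eq_self_iff.mp (eq_of_le_of_card_ge ?_ (by rw [card_conjMap]))
      have hle : conjMap n (Q ⊓ centralizer (A : Set G)) ≤ centralizer (A : Set G) :=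
        (conjMap_mono inf_le_right).trans (conjMap_eq_self_iff.mpr
          (CfsgLib.Comp.le_normalizer_centralizer le_rfl hn)).le
      refine le_inf ?_ hle
      obtain ⟨e, he, hle'⟩ := hQ.exists_conj_le
        ((hQ.2.1.to_le inf_le_left).map (MulAut.conj n).toMonoidHom) (hle.trans hCE)
      have h3 := conjMap_mono (g := e⁻¹) hle'
      rwa [conjMap_inv_conjMap, conjMap_eq_self_iff.mpr (inv_mem (hQn he))] at h3
    haveI : IsCyclic Q := isCyclic_tau3 hG hM hE hQ.1 fun t ht hd => (hQπ t ht hd) ▸ hτ3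
    have hcyc : IsCyclic ↥(Q ⊓ centralizer (A : Set G)) := isCyclic_of_le inf_le_left
    have hPc : P ≤ centralizer ((Q ⊓ centralizer (A : Set G) : Subgroup G) : Set G) :=
      ((sylow_le_derived_normalizer hG hP).trans (commutator_mono (hPA.trans hQc) (hPA.trans hQc))).trans
        (derived_normalizer_cyclic hcyc)
    exact (le_inf hRQ (hR.1.trans hKA)).trans (le_centralizer_iff.mp hPc)
  intro e he
  have hsol : Group.IsSolvable E := isSolvable_of_le_max hG hM hE.1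
  let S : Sylow p E := (hPE.2.1.comap_subtype).toSylow hPE.2.2
  obtain ⟨g, hg, n, hn, hgn⟩ := pLengthLE_one_decomp
    (Cfsg.Agent.S1410.result hG p E fun e' => hM.1 (top_le_iff.mp (e' ▸ hE.1))) S ⟨e, he⟩
  have hgP : (g : G) ∈ normalizer (P : Set G) := by
    have hg' : g ∈ normalizer ((P.subgroupOf E : Subgroup E) : Set E) := hg
    rw [mem_normalizer_iff]
    intro x
    constructor
    · intro hx
      exact (mem_normalizer_iff.mp hg' ⟨x, hPE.1 hx⟩).mp hx
    · intro hx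
      have h1 : x ∈ E := by
        have := mul_mem (mul_mem (inv_mem g.2) (hPE.1 hx)) g.2
        simpa [mul_assoc] using this
      exact (mem_normalizer_iff.mp hg' ⟨x, h1⟩).mpr hx
  rw [← show (g : G) * (n : G) = e from congrArg Subtype.val hgn]
  exact mul_mem hgP (centralizer_le_normalizer _ (hKP (mem_map_of_mem _ hn)))

end CfsgLib.BG
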