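import Cfsg.Agent.Lib.BG.TauThree

/-!
# The set `κ(M)`
-/

set_option autoImplicit false
set_option linter.style.haveILetI false
set_option linter.unusedSectionVars false

namespace CfsgLib.BG

open Subgroup CfsgLib.PLocal CfsgLib.OddLocal
open scoped commutatorElement

universe u
variable {G : Type u} [Group G] [Finite G] {M E : Subgroup G}
variable (hG : Cfsg.IsMinSimpleOddOrder G) (hM : IsCoatom M)
include hG hM

omit hG hM in
/-- Conjugation moves fixed points of `X` in a normalized subgroup to those of its conjugate. -/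
theorem fixed_conjMap_ne_bot {N X : Subgroup G} {c : G} (hc : c ∈ normalizer (N : Set G))
    (h : N ⊓ centralizer (X : Set G) ≠ ⊥) : N ⊓ centralizer (conjMap c X : Set G) ≠ ⊥ := by
  intro e
  refine h ((Subgroup.eq_bot_iff_forall _).mpr fun y hy => ?_)
  obtain ⟨hyN, hyX⟩ := mem_inf.mp hy
  have hy' : c * y * c⁻¹ ∈ N ⊓ centralizer (conjMap c X : Set G) := by
    refine mem_inf.mpr ⟨(mem_normalizer_iff.mp hc y).mp hyN, mem_centralizer_iff.mpr ?_⟩
    rintro _ ⟨a, ha, rfl⟩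
    show c * a * c⁻¹ * (c * y * c⁻¹) = c * y * c⁻¹ * (c * a * c⁻¹)
    calc c * a * c⁻¹ * (c * y * c⁻¹) = c * (a * y) * c⁻¹ := by group
      _ = c * (y * a) * c⁻¹ := by rw [mem_centralizer_iff.mp hyX a ha]
      _ = _ := by group
  rw [e, mem_bot, mul_inv_eq_one, mul_eq_left] at hy'
  exact hy'

theorem prankLE_one_of_kappa {p : ℕ} (hp : p ∈ Cfsg.kappa M) : Cfsg.PRankLE p 1 M := by
  haveI : Fact p.Prime := ⟨hp.1⟩
  by_contra h
  obtain ⟨B, hBM, hB⟩ := exists_sq_le_of_not_prankLE le_rfl h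
  obtain ⟨T, hT, -⟩ := exists_sylowIn_le (IsPGroup.of_bot (p := p) (G := G)) (bot_le (a := M))
  obtain ⟨c, -, hc⟩ := hT.exists_conj_le hB.isPGroup hBM
  let S : Sylow p M := (hT.2.1.comap_subtype (K := M)).toSylow hT.2.2
  haveI : IsCyclic (S : Subgroup M) := (hp.2.2.2 S).1
  haveI : IsCyclic T := by
    rw [← map_subgroupOf_eq_of_le hT.1]
    exact isCyclic_of_surjective ((S : Subgroup M).equivMapOfInjective M.subtype
      M.subtype_injective).toMonoidHom (MulEquiv.surjective _)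
  exact (hB.conjMap c).not_isCyclic (isCyclic_of_le hc)

theorem kappa_subset_tau13 {p : ℕ} (hp : p ∈ Cfsg.kappa M) : p ∈ Cfsg.tau1 M ∪ Cfsg.tau3 M := by
  by_cases hd : p ∣ Nat.card ↥⁅M, M⁆
  · exact Or.inr ⟨hp.1, hp.2.2.1, hd, prankLE_one_of_kappa hG hM hp⟩
  · exact Or.inl ⟨hp.1, hp.2.2.1, hp.2.1, hd, prankLE_one_of_kappa hG hM hp⟩

/-- Lines with fixed points in `M_σ` give members of `κ(M)`. -/
theorem mem_kappa_of_fixed {p : ℕ} [hp : Fact p.Prime]
    (hpτ : p ∈ Cfsg.tau1 M ∪ Cfsg.tau3 M) {X : Subgroup G} (hXM : X ≤ M) (hX : Nat.card X = p)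
    (hfix : Cfsg.sigmaCore M ⊓ centralizer (X : Set G) ≠ ⊥) : p ∈ Cfsg.kappa M := by
  have hpσ : p ∉ Cfsg.sigma M := hpτ.elim (fun h => h.2.1) fun h => h.2.1
  have hpr : Cfsg.PRankLE p 1 M := hpτ.elim (fun h => h.2.2.2.2) fun h => h.2.2.2
  have hXp := isPGroup_of_card_prime hX
  refine ⟨hp.out, hX ▸ card_dvd_of_le hXM, hpσ, fun S => ?_⟩
  set T := (S : Subgroup M).map M.subtype with hTdef
  have hT : SylowIn p T M := sylowIn_map S
  haveI : IsCyclic T := isCyclic_pgroup_of_prankLE_one hG hT.2.1 hT.1 hpr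
  have hSc : IsCyclic (S : Subgroup M) := isCyclic_of_injective
    ((S : Subgroup M).equivMapOfInjective M.subtype M.subtype_injective).toMonoidHom
    ((S : Subgroup M).equivMapOfInjective M.subtype M.subtype_injective).injective
  refine ⟨hSc, ?_⟩
  obtain ⟨c, hc, hcT⟩ := hT.exists_conj_le hXp hXM
  obtain ⟨a, ha, hao⟩ := exists_order_p (hXp.map _) (show conjMap c X ≠ ⊥ from
    ne_bot_of_card_prime (p := p) (by rw [card_conjMap, hX]))
  obtain ⟨z, hz, rfl⟩ := hcT ha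
  obtain ⟨y, hy, hy1⟩ := (bot_or_exists_ne_one _).resolve_left
    (fixed_conjMap_ne_bot (le_normalizer_sigmaCore M hc) hfix)
  obtain ⟨hyσ, hyC⟩ := mem_inf.mp hy
  exact ⟨z, hz, fun e => hp.out.ne_one (by rw [← hao, e, map_one, orderOf_one]), y, hyσ, hy1,
    mem_centralizer_iff.mp hyC _ ha⟩

/-- A member of `κ(M)` has a line with fixed points inside any complement. -/
theorem exists_fixed_line_of_kappa (hE : Cfsg.IsComplIn E (Cfsg.sigmaCore M) M) {p : ℕ}
    (hp : p ∈ Cfsg.kappa M) :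
    ∃ X : Subgroup G, X ≤ E ∧ Nat.card X = p ∧
      Cfsg.sigmaCore M ⊓ centralizer (X : Set G) ≠ ⊥ := by
  haveI : Fact p.Prime := ⟨hp.1⟩
  obtain ⟨-, x, hx, hx1, y, hy, hy1, hxy⟩ := hp.2.2.2 default
  have hxp : IsPGroup p (zpowers (x : G)) := by
    have h : IsPGroup p (((default : Sylow p M) : Subgroup M).map M.subtype) :=
      (default : Sylow p M).isPGroup'.map _
    exact h.to_le (zpowers_le.mpr ⟨x, hx, rfl⟩)
  obtain ⟨a, ha, hao⟩ := exists_order_p hxp (by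
    rw [Ne, zpowers_eq_bot]
    exact fun e => hx1 (Subtype.ext e))
  have hX : Nat.card (zpowers a) = p := by rw [Nat.card_zpowers, hao]
  have haM : a ∈ M := zpowers_le.mpr x.2 ha
  have hfix : Cfsg.sigmaCore M ⊓ centralizer (zpowers a : Set G) ≠ ⊥ := by
    intro e
    refine hy1 (mem_bot.mp (e ▸ mem_inf.mpr ⟨hy, ?_⟩))
    rw [centralizer_zpowers_eq]
    obtain ⟨i, rfl⟩ := mem_zpowers_iff.mp ha
    exact mem_centralizer_singleton_iff.mpr ((show Commute (x : G) y from hxy).zpow_left i).symm.eq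
  obtain ⟨c, hc, hcE⟩ := exists_conj_le_compl hG hM hE (zpowers_le.mpr haM)
    fun t ht hd => (prime_dvd_pgroup_card (isPGroup_of_card_prime hX) ht hd) ▸ hp.2.2.1
  exact ⟨_, hcE, by rw [card_conjMap, hX],
    fixed_conjMap_ne_bot (le_normalizer_sigmaCore M (sigmaCore_le M hc)) hfix⟩

/-- Every line of `M` of an order in `κ(M)` has fixed points in `M_σ`. -/
theorem fixed_of_kappa {p : ℕ} (hp : p ∈ Cfsg.kappa M) {X : Subgroup G} (hXM : X ≤ M)
    (hX : Nat.card X = p) : Cfsg.sigmaCore M ⊓ centralizer (X : Set G) ≠ ⊥ := by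
  haveI : Fact p.Prime := ⟨hp.1⟩
  have hXp := isPGroup_of_card_prime hX
  obtain ⟨E, hE, hXE⟩ := exists_compl_ge hG hM hXM
    fun t ht hd => (prime_dvd_pgroup_card hXp ht hd) ▸ hp.2.2.1
  obtain ⟨Y, hYE, hY, hfix⟩ := exists_fixed_line_of_kappa hG hM hE hp
  obtain ⟨S, hS, hXS⟩ := exists_sylowIn_le hXp hXE
  obtain ⟨e, he, heS⟩ := hS.exists_conj_le (isPGroup_of_card_prime hY) hYE
  rw [← eq_of_isCyclic_card (isCyclic_pgroup_of_prankLE_one hG hS.2.1 (hS.1.trans hE.1)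
    (prankLE_one_of_kappa hG hM hp)) heS hXS (by rw [card_conjMap, hY]) hX]
  exact fixed_conjMap_ne_bot (le_normalizer_sigmaCore M (hE.1 he)) hfix

/-- A line of `τ₁(M) ∪ τ₃(M)` lies in every complement up to conjugation. -/
theorem exists_line_of_dvd (hE : Cfsg.IsComplIn E (Cfsg.sigmaCore M) M) {t : ℕ} [ht : Fact t.Prime]
    (hd : t ∣ Nat.card M) (hσ : t ∉ Cfsg.sigma M) :
    ∃ Y : Subgroup G, Y ≤ E ∧ Nat.card Y = t := by
  obtain ⟨y, hyo⟩ := exists_prime_orderOf_dvd_card' (G := M) t hd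
  have hY : Nat.card (zpowers (y : G)) = t := by rw [Nat.card_zpowers, Subgroup.orderOf_coe, hyo]
  obtain ⟨c, -, hc⟩ := exists_conj_le_compl hG hM hE (zpowers_le.mpr y.2)
    fun u hu hud => (prime_dvd_pgroup_card (isPGroup_of_card_prime hY) hu hud) ▸ hσ
  exact ⟨_, hc, by rw [card_conjMap, hY]⟩

/-- Either `κ(M)` is empty or `τ₁(M)`, or it is all of `τ₁(M) ∪ τ₃(M)` and `τ₂(M)` is empty. -/
theorem kappa_cases :
    ((∀ t ∈ Cfsg.kappa M, t ∈ Cfsg.tau1 M) ∧ (Cfsg.kappa M = ∅ ∨ Cfsg.kappa M = Cfsg.tau1 M)) ∨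
      (Cfsg.tau2 M = ∅ ∧ Cfsg.kappa M = Cfsg.tau1 M ∪ Cfsg.tau3 M) := by
  by_cases h : ∀ t ∈ Cfsg.kappa M, t ∈ Cfsg.tau1 M
  · refine Or.inl ⟨h, ?_⟩
    refine (em (Cfsg.kappa M = ∅)).imp_right fun hne => ?_
    obtain ⟨r, hr⟩ := Set.nonempty_iff_ne_empty.mpr hne
    haveI : Fact r.Prime := ⟨hr.1⟩
    refine Set.Subset.antisymm h fun t ht => ?_
    haveI : Fact t.Prime := ⟨ht.1⟩
    obtain ⟨E, hE, -⟩ := exists_compl_ge hG hM (bot_le : (⊥ : Subgroup G) ≤ M)
      fun u hu hd => absurd (Subgroup.card_bot (G := G) ▸ hd) hu.not_dvd_one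
    obtain ⟨R, hRE, hR, hfix⟩ := exists_fixed_line_of_kappa hG hM hE hr
    obtain ⟨Y, hYE, hY⟩ := exists_line_of_dvd hG hM hE ht.2.2.1 ht.2.1
    obtain ⟨E₁, hE₁, -, hRE₁⟩ := CfsgLib.Coprime.exists_invariant_hall_ge (A := (⊥ : Subgroup G))
      bot_le (by rw [Subgroup.card_bot]; exact Nat.coprime_one_left _)
      (isSolvable_of_le_max hG hM hE.1) hRE bot_le (π := Cfsg.tau1 M)
      fun u hu hd => (prime_dvd_pgroup_card (isPGroup_of_card_prime hR) hu hd) ▸ h r hr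
    have htd : t ∣ Nat.card E₁ := by
      have h1 : t ∣ Nat.card E₁ * E₁.relIndex E := by
        rw [CfsgLib.Coprime.card_mul_relIndex hE₁.1]
        exact hY ▸ card_dvd_of_le hYE
      exact (ht.1.dvd_mul.mp h1).resolve_right (hE₁.2.2 t ht.1 ht)
    obtain ⟨z, hzo⟩ := exists_prime_orderOf_dvd_card' (G := E₁) t htd
    have hzo' : orderOf (z : G) = t := by rw [Subgroup.orderOf_coe]; exact hzo
    obtain ⟨x, hx, hxo⟩ := exists_order_p (isPGroup_of_card_prime hR) (ne_bot_of_card_prime hR)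
    have hx1 : x ≠ 1 := fun e => hr.1.ne_one (by rw [← hxo, e, orderOf_one])
    have hE₁M := hE₁.1.trans hE.1
    refine mem_kappa_of_fixed hG hM (Or.inl ht) (X := zpowers (z : G)) (zpowers_le.mpr (hE₁M z.2))
      (by rw [Nat.card_zpowers, hzo']) ?_
    rw [centralizer_zpowers_eq, prime_action_tau1 hG hM hE₁M hE₁.2.1 z.2
      (fun e => ht.1.ne_one (by rw [← hzo', e, orderOf_one])),
      ← prime_action_tau1 hG hM hE₁M hE₁.2.1 (hRE₁ hx) hx1, ← centralizer_zpowers_eq,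
      zpowers_eq_of_card_prime hR hx hx1]
    exact hfix
  · push Not at h
    obtain ⟨p, hp, hp1⟩ := h
    haveI : Fact p.Prime := ⟨hp.1⟩
    have hp3 : p ∈ Cfsg.tau3 M := (kappa_subset_tau13 hG hM hp).resolve_left hp1
    obtain ⟨E, hE, -⟩ := exists_compl_ge hG hM (bot_le : (⊥ : Subgroup G) ≤ M)
      fun u hu hd => absurd (Subgroup.card_bot (G := G) ▸ hd) hu.not_dvd_one
    obtain ⟨X, hXE, hX, hfix⟩ := exists_fixed_line_of_kappa hG hM hE hp
    obtain ⟨h2, hpr, hWE, -⟩ := tau3_fixed_structure hG hM hE hp3 hXE hX hfix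
    refine Or.inr ⟨h2, Set.Subset.antisymm (fun t ht => kappa_subset_tau13 hG hM ht) fun t ht => ?_⟩
    haveI : Fact t.Prime := ⟨ht.elim (fun h => h.1) fun h => h.1⟩
    have hσ : t ∉ Cfsg.sigma M := ht.elim (fun h => h.2.1) fun h => h.2.1
    have hd : t ∣ Nat.card M := ht.elim (fun h => h.2.2.1)
      fun h => h.2.2.1.trans (card_dvd_of_le (commutator_le_self M))
    obtain ⟨Y, hYE, hY⟩ := exists_line_of_dvd hG hM hE hd hσ
    refine mem_kappa_of_fixed hG hM ht (hYE.trans hE.1) hY fun e => hfix ?_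
    rw [← hWE]
    exact le_bot_iff.mp (e ▸ inf_le_inf_left _ (Subgroup.centralizer_le hYE))

/-- A line of `κ(M)` centralizes no line of another prime outside `σ(M)`. -/
theorem kappa_regular {r s : ℕ} [hr : Fact r.Prime] [hs : Fact s.Prime] (hrκ : r ∈ Cfsg.kappa M)
    (hsκ : s ∉ Cfsg.kappa M) (hsσ : s ∉ Cfsg.sigma M) {R Y : Subgroup G} (hRM : R ≤ M)
    (hR : Nat.card R = r) (hYM : Y ≤ M) (hY : Nat.card Y = s) (hYR : Y ≤ centralizer (R : Set G)) :
    False := by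
  have hRp := isPGroup_of_card_prime hR
  have hYp := isPGroup_of_card_prime hY
  have hfix := fixed_of_kappa hG hM hrκ hRM hR
  obtain ⟨E, hE, hRYE⟩ := exists_compl_ge hG hM (sup_le hRM hYM) fun t ht hd => by
    rcases ht.dvd_mul.mp (hd.trans (card_sup_dvd (hYR.trans (centralizer_le_normalizer _)))) with h | h
    · exact (prime_dvd_pgroup_card hRp ht h) ▸ hrκ.2.2.1
    · exact (prime_dvd_pgroup_card hYp ht h) ▸ hsσ
  have hYE := le_sup_right.trans hRYE
  have hRE := le_sup_left.trans hRYE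
  have hsd : s ∣ Nat.card E := hY ▸ card_dvd_of_le hYE
  rcases kappa_cases hG hM with ⟨hκ1, -⟩ | ⟨h2, hκ⟩
  · by_cases hs2 : s ∈ Cfsg.tau2 M
    · obtain ⟨A, A₀, hAE, hexc⟩ := tau2_square hG hM hE hs2
      obtain ⟨⟨hEA, hΩ⟩, -, -⟩ := Cfsg.Agent.S1418.result hG M hM E hE s hs2 A
        ⟨hAE, hexc.sq.1, hexc.sq.2⟩
      exact hfix (tau12_regular hG hM hs2 (hκ1 r hrκ) hexc.sq hexc.le ⟨hΩ Y hYE hY, hY⟩ hRM hR
        (hRE.trans hEA) (le_centralizer_iff.mp hYR))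
    · have hτ := tau_cases hG hM hE hsd hs2
      refine hsκ (mem_kappa_of_fixed hG hM hτ hYM hY fun e => hfix ?_)
      exact le_bot_iff.mp (e ▸ le_inf inf_le_left
        (centralizer_tau1_le hG hM (hκ1 r hrκ) hRM hR hYM hY hYR hsσ))
  · refine hsκ (hκ ▸ ?_)
    exact tau_cases hG hM hE hsd (by rw [h2]; exact Set.notMem_empty s)

/-- A Hall `κ(M)'`-subgroup of a complement is normal in it. -/
theorem hall_kappa'_normal (hE : Cfsg.IsComplIn E (Cfsg.sigmaCore M) M) {U : Subgroup G}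
    (hU : Cfsg.IsPiHallOf {q | q ∉ Cfsg.kappa M} U E) : E ≤ normalizer (U : Set G) := by
  rcases kappa_cases hG hM with ⟨hκ1, -⟩ | ⟨h2, hκ⟩
  · have hle : ⁅E, E⁆ ≤ E := derived_le_compl hG hM
    have hEd : E ≤ normalizer ((⁅E, E⁆ : Subgroup G) : Set G) := fun g hg => by
      rw [← conjMap_eq_self_iff]
      show Subgroup.map _ _ = _
      rw [map_commutator]
      exact congrArg₂ _ (conjMap_eq_self_iff.mpr (le_normalizer hg))
        (conjMap_eq_self_iff.mpr (le_normalizer hg))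
    have hdπ : ∀ t : ℕ, t.Prime → t ∣ Nat.card ↥⁅E, E⁆ → t ∉ Cfsg.kappa M := fun t _ hd h =>
      (hκ1 t h).2.2.2.1 (hd.trans (card_dvd_of_le (commutator_mono hE.1 hE.1)))
    have hdU : ⁅E, E⁆ ≤ U := by
      obtain ⟨V, hV, -, hdV⟩ := CfsgLib.Coprime.exists_invariant_hall_ge (A := (⊥ : Subgroup G))
        bot_le (by rw [Subgroup.card_bot]; exact Nat.coprime_one_left _)
        (isSolvable_of_le_max hG hM hE.1) hle bot_le (π := {q | q ∉ Cfsg.kappa M}) hdπ
      obtain ⟨c, hc, hcV⟩ := CfsgLib.Coprime.exists_conj_of_isPiHallOf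
        (isSolvable_of_le_max hG hM hE.1) hV hU
      rw [← conjMap_eq_self_iff.mpr (hEd hc)]
      exact (conjMap_mono hdV).trans hcV.le
    intro g hg
    rw [← conjMap_eq_self_iff]
    refine eq_of_le_of_card_ge ?_ (card_conjMap g U).ge
    rintro _ ⟨u, hu, rfl⟩
    show g * u * g⁻¹ ∈ U
    rw [show g * u * g⁻¹ = ⁅g, u⁆ * u by rw [commutatorElement_def]; group]
    exact mul_mem (hdU (commutator_mem_commutator hg (hU.1 hu))) hu
  · have hU1 : U = ⊥ := by
      refine Subgroup.card_eq_one.mp (Nat.eq_one_iff_not_exists_prime_dvd.mpr fun t ht hd => ?_)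
      haveI : Fact t.Prime := ⟨ht⟩
      exact hU.2.1 t ht hd (hκ ▸ tau_cases hG hM hE (hd.trans (card_dvd_of_le hU.1))
        (by rw [h2]; exact Set.notMem_empty t))
    rw [hU1, normalizer_eq_top]
    exact le_top

/-- A `κ(M)`-group acts on `M_σ` in a prime manner, if it is cyclic or `κ(M)` meets `τ₃(M)`. -/
theorem kappa_prime_action {K : Subgroup G} (hKM : K ≤ M)
    (hπ : ∀ t : ℕ, t.Prime → t ∣ Nat.card K → t ∈ Cfsg.kappa M) {k : G} (hk : k ∈ K) (hk1 : k ≠ 1) :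
    Cfsg.sigmaCore M ⊓ centralizer ({k} : Set G) = Cfsg.sigmaCore M ⊓ centralizer (K : Set G) := by
  rcases kappa_cases hG hM with ⟨hκ1, -⟩ | ⟨h2, hκ⟩
  · exact prime_action_tau1 hG hM hKM (fun t ht hd => hκ1 t (hπ t ht hd)) hk hk1
  refine le_antisymm ?_ (inf_le_inf_left _ (Subgroup.centralizer_le (Set.singleton_subset_iff.mpr hk)))
  obtain ⟨E, hE, hKE⟩ := exists_compl_ge hG hM hKM fun t ht hd => (hπ t ht hd).2.2.1
  by_cases h3 : ∃ p ∈ Cfsg.kappa M, p ∈ Cfsg.tau3 M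
  · obtain ⟨p, hp, hp3⟩ := h3
    haveI : Fact p.Prime := ⟨hp.1⟩
    obtain ⟨X, hXE, hX, hfix⟩ := exists_fixed_line_of_kappa hG hM hE hp
    obtain ⟨-, hpr, -, -⟩ := tau3_fixed_structure hG hM hE hp3 hXE hX hfix
    rw [hpr k (hKE hk) hk1]
    exact inf_le_inf_left _ (Subgroup.centralizer_le hKE)
  · push Not at h3
    exact (prime_action_tau1 hG hM hKM (fun t ht hd =>
      (kappa_subset_tau13 hG hM (hπ t ht hd)).resolve_right (h3 t (hπ t ht hd))) hk hk1).le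

end CfsgLib.BG
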