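import Cfsg.Agent.Lib.BG.Tools
import Cfsg.Agent.S1412
import Cfsg.Agent.S1453

/-!
# Centralizers of maximal elementary abelian subgroups of order `p ^ 2`
-/

set_option autoImplicit false
set_option linter.style.haveILetI false
set_option linter.unusedSectionVars false

namespace CfsgLib.BG

open Subgroup CfsgLib.PLocal CfsgLib.OddLocal

universe u
variable {G : Type u} [Group G] [Finite G] {p : ℕ} [hp : Fact p.Prime]

/-- `A` is of order `p ^ 2` and maximal among elementary abelian `p`-subgroups. -/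
def IsMaxSq (p : ℕ) (A : Subgroup G) : Prop :=
  IsSq p A ∧ ∀ B : Subgroup G, Cfsg.IsElementaryAbelian p B → A ≤ B → B = A

theorem IsMaxSq.mem_of_pow_eq_one {A : Subgroup G} (hA : IsMaxSq p A) {x : G}
    (hxC : x ∈ centralizer (A : Set G)) (hx : x ^ p = 1) : x ∈ A := by
  have hE : Cfsg.IsElementaryAbelian p (A ⊔ zpowers x) := by
    refine elemAb_sup hA.1.1 (elemAb_zpowers hx) fun a ha b hb => ?_
    obtain ⟨k, rfl⟩ := hb
    first | exact (Commute.zpow_right (mem_centralizer_iff.mp hxC a ha) k) | exact (Commute.zpow_right (mem_centralizer_iff.mp hxC a ha) k).symm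
  exact hA.2 _ hE le_sup_left ▸ mem_sup_right (mem_zpowers x)

theorem isMulCommutative_sup {H K : Subgroup G} (hH : IsMulCommutative H) (hK : IsMulCommutative K)
    (h : K ≤ centralizer (H : Set G)) : IsMulCommutative ↥(H ⊔ K) := by
  have e : (H ⊔ K) ≤ centralizer ((H ⊔ K : Subgroup G) : Set G) := by
    have hH' : H ≤ centralizer (H : Set G) := fun a ha => mem_centralizer_iff.mpr fun b hb =>
      congrArg Subtype.val (hH.is_comm.comm ⟨b, hb⟩ ⟨a, ha⟩)
    have hK' : K ≤ centralizer (K : Set G) := fun a ha => mem_centralizer_iff.mpr fun b hb =>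
      congrArg Subtype.val (hK.is_comm.comm ⟨b, hb⟩ ⟨a, ha⟩)
    have h' : H ≤ centralizer (K : Set G) := le_centralizer_iff.mp h
    rw [le_centralizer_iff, sup_le_iff]
    exact ⟨le_centralizer_iff.mp (sup_le hH' h), le_centralizer_iff.mp (sup_le h' hK')⟩
  exact ⟨⟨fun a b => Subtype.ext (mem_centralizer_iff.mp (e b.2) a a.2)⟩⟩

/-- In a Sylow `p`-subgroup `S ≥ A`, the centralizer of a maximal `A` is abelian, and is `A Y` with
`Y` cyclic when `S` is not abelian. -/
theorem IsMaxSq.centralizer_sylow (hG : Cfsg.IsMinSimpleOddOrder G) {A S : Subgroup G}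
    (hA : IsMaxSq p A) (hS : SylowIn p S ⊤) (hAS : A ≤ S) :
    IsMulCommutative ↥(S ⊓ centralizer (A : Set G)) ∧
      (¬ IsMulCommutative S → ∃ Y : Subgroup G, IsCyclic Y ∧ Y ≤ S ⊓ centralizer (A : Set G) ∧
        A ⊔ Y = S ⊓ centralizer (A : Set G)) := by
  set C := S ⊓ centralizer (A : Set G) with hC
  have hAC : A ≤ C := le_inf hAS hA.1.le_centralizer
  suffices key : IsMulCommutative S ∨
      ∃ Y : Subgroup G, IsCyclic Y ∧ Y ≤ C ∧ A ⊔ Y = C by
    rcases key with h | ⟨Y, hY, hYC, hAY⟩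
    · refine ⟨⟨⟨fun a b => Subtype.ext ?_⟩⟩, fun h' => absurd h h'⟩
      exact Subtype.ext (congrArg (fun t : S => (t : G)) (h.is_comm.comm ⟨a, a.2.1⟩ ⟨b, b.2.1⟩)) |> congrArg Subtype.val
    · refine ⟨?_, fun _ => ⟨Y, hY, hYC, hAY⟩⟩
      rw [← hAY]
      exact isMulCommutative_sup hA.1.comm (IsCyclic.isMulCommutative) (hYC.trans inf_le_right)
  have hp2 : p ≠ 2 := by
    rintro rfl
    exact (Nat.not_even_iff_odd.mpr hG.1) (even_iff_two_dvd.mpr
      ((dvd_card_of_pgroup_ne_bot hA.1.isPGroup hA.1.ne_bot).trans (card_subgroup_dvd_card A)))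
  have hidx : ¬ p ∣ S.index := by rw [← relIndex_top_right]; exact hS.2.2
  let P : Sylow p G := hS.2.1.toSylow hidx
  by_cases hr : Cfsg.PRankLE p 2 S
  · rcases Cfsg.Agent.S1412.result hG p P hr with h | ⟨P₁, P₂, hsup, hcomm, hna, hP₁, hexp, hcyc, hΩ⟩
    · exact Or.inl h
    refine Or.inr ?_
    have hP₁S : P₁ ≤ S := le_sup_left.trans hsup.le
    have hP₂S : P₂ ≤ S := le_sup_right.trans hsup.le
    have hc' : P₂ ≤ centralizer (P₁ : Set G) := fun b hb => mem_centralizer_iff.mpr fun a ha =>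
      hcomm a ha b hb
    have hpow : ∀ a ∈ P₁, a ^ p = 1 := fun a ha => by
      have := Monoid.pow_exponent_eq_one (⟨a, ha⟩ : P₁)
      rw [hexp] at this
      exact congrArg Subtype.val this
    have hΩle : ∀ b ∈ P₂, b ^ p = 1 → b ∈ P₁ := fun b hb h1 => by
      have : b ∈ closure {x : G | x ∈ P₂ ∧ x ^ p = 1} := subset_closure ⟨hb, h1⟩
      rw [hΩ] at this
      exact this.1
    have hdec : ∀ x ∈ S, ∃ a ∈ P₁, ∃ b ∈ P₂, a * b = x := fun x hx => by
      have hn : P₂ ≤ normalizer (P₁ : Set G) := hc'.trans (centralizer_le_normalizer _)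
      exact (CfsgLib.Coprime.mem_sup_of_le_normalizer hn).mp (hsup.symm ▸ hx)
    have hAP : A ≤ P₁ := fun x hx => by
      obtain ⟨a, ha, b, hb, rfl⟩ := hdec x (hAS hx)
      have h1 := hA.1.1.2 _ hx
      rw [(show Commute a b from hcomm a ha b hb).mul_pow, hpow a ha, one_mul] at h1
      exact mul_mem ha (hΩle b hb h1)
    have hP₂C : P₂ ≤ C := le_inf hP₂S (hc'.trans (centralizer_le hAP))
    have hCP₁ : C ⊓ P₁ = A := by
      by_contra hne
      have hlt : A < C ⊓ P₁ := lt_of_le_of_ne (le_inf hAC hAP) (Ne.symm hne)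
      have hdvd := card_dvd_of_le (inf_le_right (a := C) (b := P₁))
      rw [hP₁] at hdvd
      obtain ⟨k, hk, hcard⟩ := (Nat.dvd_prime_pow hp.out).mp hdvd
      have h2 : p ^ 2 < p ^ k := by
        rw [← hcard, ← hA.1.2]
        exact lt_of_le_of_ne (card_le_of_le hlt.le) fun h =>
          hlt.ne (eq_of_le_of_card_ge hlt.le h.ge)
      have h3 : k = 3 := by
        have := (Nat.pow_lt_pow_iff_right hp.out.one_lt).mp h2; omega
      have heq : C ⊓ P₁ = P₁ := eq_of_le_of_card_ge inf_le_right (by rw [hcard, h3, hP₁])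
      apply hna
      have hZ : P₁ ≤ centralizer (A : Set G) := (heq.ge.trans inf_le_left).trans inf_le_right
      obtain ⟨t, ht, htA⟩ := SetLike.exists_of_lt hlt
      have hgen : A ⊔ zpowers t = P₁ := by
        refine eq_of_le_of_card_ge (sup_le hAP (zpowers_le.mpr ht.2)) ?_
        have hlt' : A < A ⊔ zpowers t :=
          lt_of_le_of_ne le_sup_left fun h => htA (h ▸ mem_sup_right (mem_zpowers t))
        have hdvd' := card_dvd_of_le (sup_le hAP (zpowers_le.mpr ht.2))
        rw [hP₁] at hdvd' ⊢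
        obtain ⟨j, hj, hcard'⟩ := (Nat.dvd_prime_pow hp.out).mp hdvd'
        rw [hcard']
        refine Nat.pow_le_pow_right hp.out.pos ?_
        have h4 : p ^ 2 < p ^ j := by
          rw [← hcard', ← hA.1.2]
          exact lt_of_le_of_ne (card_le_of_le hlt'.le) fun h =>
            hlt'.ne (eq_of_le_of_card_ge hlt'.le h.ge)
        have := (Nat.pow_lt_pow_iff_right hp.out.one_lt).mp h4; omega
      rw [← hgen]
      exact isMulCommutative_sup hA.1.comm IsCyclic.isMulCommutative
        (zpowers_le.mpr (hZ ht.2))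
    refine ⟨P₂, hcyc, hP₂C, le_antisymm (sup_le hAC hP₂C) fun x hx => ?_⟩
    obtain ⟨a, ha, b, hb, rfl⟩ := hdec x hx.1
    have haC : a ∈ C ⊓ P₁ := ⟨(mul_mem_cancel_right (hP₂C hb)).mp hx, ha⟩
    exact mul_mem (mem_sup_left (hCP₁ ▸ haC)) (mem_sup_right hb)
  · refine Or.inr ?_
    obtain ⟨hET, -, -, hchar, hidx2⟩ := Cfsg.Agent.S1453.result (R := ↥S) p hp2 hS.2.1 hr (A.subgroupOf S)
      (elemAb_comap_of_injective S.subtype_injective hA.1.1)
      (by rw [CfsgLib.Coprime.card_subgroupOf hAS, hA.1.2])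
      (fun B hB hle => by
        have h := hA.2 _ (elemAb_map S.subtype hB) (by
          have := map_mono (f := S.subtype) hle
          rwa [subgroupOf_map_subtype, inf_eq_left.mpr hAS] at this)
        rw [← h, subgroupOf, comap_map_eq_self_of_injective S.subtype_injective])
    set T := Subgroup.centralizer ((Subgroup.closure {x : ↥S | x ∈ Subgroup.upperCentralSeries ↥S 2
      ∧ x ^ p = 1} : Subgroup ↥S) : Set ↥S) with hT
    set D := C ⊓ T.map S.subtype with hD
    obtain ⟨a, haA, haT⟩ : ∃ a ∈ A, a ∉ T.map S.subtype := by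
      by_contra hno
      push Not at hno
      refine hET fun x hx => ?_
      obtain ⟨y, hy, hyx⟩ := hno x hx
      exact S.subtype_injective hyx ▸ hy
    haveI : Finite S := inferInstance
    haveI := hchar
    haveI hTn : T.Normal := inferInstance
    have hΩ : Nat.card (closure {x : D | x ^ p = 1}) ≤ p := by
      have hsub : (closure {x : D | x ^ p = 1}).map D.subtype ≤ A ⊓ T.map S.subtype := by
        rw [map_le_iff_le_comap, closure_le]
        intro x (hx : x ^ p = 1)
        exact ⟨hA.mem_of_pow_eq_one x.2.1.2 (congrArg Subtype.val hx), x.2.2⟩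
      have h1 := card_le_of_le hsub
      rw [card_map_of_injective D.subtype_injective] at h1
      refine h1.trans ?_
      have hlt : A ⊓ T.map S.subtype < A :=
        lt_of_le_of_ne inf_le_left fun h => haT ((h.ge.trans inf_le_right) haA)
      have hdvd := card_dvd_of_le (inf_le_left (a := A) (b := T.map S.subtype))
      rw [hA.1.2] at hdvd
      obtain ⟨j, hj, hcard⟩ := (Nat.dvd_prime_pow hp.out).mp hdvd
      rw [hcard]
      refine (Nat.pow_le_pow_right hp.out.pos (?_ : j ≤ 1)).trans_eq (pow_one p)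
      by_contra hj1
      exact hlt.ne (eq_of_le_of_card_ge hlt.le (by
        rw [hcard, hA.1.2]; exact Nat.pow_le_pow_right hp.out.pos (by omega)))
    have hDS : D ≤ S := inf_le_left.trans inf_le_left
    refine ⟨D, CfsgLib.Transfer.isCyclic_of_card_omega_one_le hp2 (hS.2.1.to_le hDS) hΩ, inf_le_left,
      le_antisymm (sup_le hAC inf_le_left) fun x hx => ?_⟩
    -- `S = ⟨a⟩ T`
    have htop : zpowers (⟨a, hAS haA⟩ : S) ⊔ T = ⊤ := by
      rw [← index_eq_one]
      have h1 : (zpowers (⟨a, hAS haA⟩ : S) ⊔ T).index ∣ p := hidx2 ▸ index_dvd_of_le le_sup_right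
      refine ((Nat.dvd_prime hp.out).mp h1).resolve_right fun h => haT ?_
      refine ⟨⟨a, hAS haA⟩, ?_, rfl⟩
      have heq : T = zpowers (⟨a, hAS haA⟩ : S) ⊔ T := by
        refine eq_of_le_of_card_ge le_sup_right ?_
        refine Nat.le_of_mul_le_mul_right ?_ hp.out.pos
        conv_rhs => rw [← hidx2, card_mul_index]
        rw [← h, card_mul_index]
      exact heq ▸ mem_sup_left (mem_zpowers _)
    have hx' : (⟨x, hx.1⟩ : S) ∈ zpowers (⟨a, hAS haA⟩ : S) ⊔ T := htop ▸ mem_top _
    obtain ⟨u, hu, t, ht, hut⟩ :=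
      (CfsgLib.Coprime.mem_sup_of_le_normalizer' (N := T) (A := zpowers (⟨a, hAS haA⟩ : S))
        (by rw [normalizer_eq_top]; exact le_top)).mp (sup_comm (zpowers (⟨a, hAS haA⟩ : S)) T ▸ hx')
    have huA : (u : G) ∈ A := by
      obtain ⟨k, rfl⟩ := hu
      simpa using zpow_mem haA k
    have hx2 : x = (u : G) * t := congrArg Subtype.val hut.symm
    rw [hx2]
    refine mul_mem (mem_sup_left huA) (mem_sup_right ⟨?_, t, ht, rfl⟩)
    have := hx2 ▸ hx
    exact (mul_mem_cancel_left (hAC huA)).mp this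

end CfsgLib.BG
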