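import Cfsg.Agent.Lib.BG.PrimeCentralizer
import Cfsg.Agent.Lib.BG.SigmaTI

/-!
# Prime action of the `τ₁(M)`-subgroups on `M_σ` and their fixed points
-/

set_option autoImplicit false
set_option linter.style.haveILetI false
set_option linter.unusedSectionVars false

namespace CfsgLib.BG

open Subgroup CfsgLib.PLocal CfsgLib.OddLocal
open scoped commutatorElement

universe u
variable {G : Type u} [Group G] [Finite G] {M E : Subgroup G}

/-- An abelian Sylow `q`-subgroup of a group with a normal `q`-complement avoids the derived group. -/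
theorem sylow_inf_derived_eq_bot {q : ℕ} [Fact q.Prime] {X T : Subgroup G} (hT : SylowIn q T X)
    (hab : IsMulCommutative T) (h : Cfsg.HasNormalPComplement q X) : T ⊓ ⁅X, X⁆ = ⊥ := by
  let P : Sylow q X := (hT.2.1.comap_subtype).toSylow hT.2.2
  obtain ⟨N, hN, hc⟩ := (CfsgLib.Transfer.hasNormalPComplement_iff_exists_isComplement' P).mp h
  haveI := hN
  let f : X →* X ⧸ N := QuotientGroup.mk' N
  have hrep : ∀ a : X, ∃ b : X, b ∈ (P : Subgroup X) ∧ f a = f b := fun a => by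
    obtain ⟨⟨n, b⟩, hnb, -⟩ := hc.existsUnique a
    refine ⟨b, b.2, ?_⟩
    rw [← hnb, map_mul, show f (n : X) = 1 from (QuotientGroup.eq_one_iff _).mpr n.2, one_mul]
  have hle : commutator X ≤ N := by
    rw [_root_.commutator_def, commutator_le]
    intro a _ b _
    obtain ⟨a', ha', ea⟩ := hrep a
    obtain ⟨b', hb', eb⟩ := hrep b
    have hcomm : Commute a' b' :=
      Subtype.ext (congrArg Subtype.val (hab.is_comm.comm ⟨a', ha'⟩ ⟨b', hb'⟩) :)
    rw [← QuotientGroup.eq_one_iff]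
    show f ⁅a, b⁆ = 1
    rw [map_commutatorElement, ea, eb, ← map_commutatorElement,
      commutatorElement_eq_one_iff_mul_comm.mpr hcomm.eq, map_one]
  rw [eq_bot_iff, ← Subgroup.map_subtype_commutator]
  rintro _ ⟨hx, y, hy, rfl⟩
  have h1 : y ∈ N ⊓ (P : Subgroup X) := mem_inf.mpr ⟨hle hy, hx⟩
  rw [disjoint_iff.mp hc.disjoint, mem_bot] at h1
  rw [h1, map_one]
  exact one_mem _

variable (hG : Cfsg.IsMinSimpleOddOrder G) (hM : IsCoatom M)
include hG hM

/-- `K = K' C_K(P)` for a `τ₁(M)`-line `P ≤ K ≤ M`. -/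
theorem exists_derived_mul_centralizer {p : ℕ} [hp : Fact p.Prime] (hpτ : p ∈ Cfsg.tau1 M)
    {P K : Subgroup G} (hP : Nat.card P = p) (hPK : P ≤ K) (hKM : K ≤ M) {n : G} (hn : n ∈ K) :
    ∃ k ∈ ⁅K, K⁆, ∃ c ∈ K ⊓ centralizer (P : Set G), n = k * c := by
  have hPp := isPGroup_of_card_prime hP
  have hPn : P ≤ normalizer ((⁅K, K⁆ : Subgroup G) : Set G) := by
    refine hPK.trans fun g hg => ?_
    rw [← conjMap_eq_self_iff]
    show Subgroup.map _ _ = _
    rw [map_commutator]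
    exact congrArg₂ _ (conjMap_eq_self_iff.mpr (le_normalizer hg))
      (conjMap_eq_self_iff.mpr (le_normalizer hg))
  have hsyl : SylowIn p P (⁅K, K⁆ ⊔ P) := by
    refine ⟨le_sup_right, hPp, fun hd => ?_⟩
    have h1 := card_sup_dvd hPn
    rw [← CfsgLib.Coprime.card_mul_relIndex (le_sup_right : P ≤ ⁅K, K⁆ ⊔ P), mul_comm _ (Nat.card P)]
      at h1
    exact hpτ.2.2.2.1 ((hd.trans ((Nat.mul_dvd_mul_iff_left Nat.card_pos).mp h1)).trans
      (card_dvd_of_le (commutator_mono hKM hKM)))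
  have hle : conjMap n P ≤ ⁅K, K⁆ ⊔ P := by
    rintro _ ⟨a, ha, rfl⟩
    show n * a * n⁻¹ ∈ _
    rw [show n * a * n⁻¹ = ⁅n, a⁆ * a by rw [commutatorElement_def]; group]
    exact mul_mem (mem_sup_left (commutator_mem_commutator hn (hPK ha))) (mem_sup_right ha)
  obtain ⟨k₀, hk₀, hkP⟩ := hsyl.exists_conj_eq
    (hsyl.of_card_le (hPp.map _) hle (card_conjMap n P).ge)
  have hmem : k₀ * n ∈ normalizer (P : Set G) := by
    rw [← conjMap_eq_self_iff, ← conjMap_conjMap, hkP]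
  have hk₀K : k₀ ∈ K := sup_le (commutator_le_self K) hPK hk₀
  have hkn : k₀ * n ∈ centralizer (P : Set G) := by
    rw [mem_centralizer_iff]
    intro b hb
    rw [SetLike.mem_coe] at hb
    have h1 : ⁅k₀ * n, b⁆ ∈ P ⊓ ⁅M, M⁆ := mem_inf.mpr ⟨by
      rw [commutatorElement_def]
      exact mul_mem ((mem_normalizer_iff.mp hmem b).mp hb) (inv_mem hb),
      commutator_mem_commutator (hKM (mul_mem hk₀K hn)) (hKM (hPK hb))⟩
    rw [inf_derived_eq_bot hG (hPK.trans hKM) (fun t ht htd =>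
      (prime_dvd_pgroup_card hPp ht htd) ▸ hpτ), mem_bot,
      commutatorElement_eq_one_iff_mul_comm] at h1
    exact h1.symm
  obtain ⟨k', hk', a, ha, hka⟩ := (CfsgLib.Coprime.mem_sup_of_le_normalizer hPn).mp (inv_mem hk₀)
  have haC : a ∈ centralizer (P : Set G) := by
    obtain ⟨b, hb, hbo⟩ := exists_order_p hPp (ne_bot_of_card_prime hP)
    have hz : zpowers b = P := zpowers_eq_of_card_prime hP hb
      fun e => hp.out.ne_one (by rw [← hbo, e, orderOf_one])
    rw [← hz] at ha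
    obtain ⟨i, rfl⟩ := mem_zpowers_iff.mp ha
    rw [← hz, mem_centralizer_iff]
    rintro _ ⟨j, rfl⟩
    exact (Commute.zpow_zpow_self b j i).eq
  refine ⟨k', hk', a * (k₀ * n),
    mem_inf.mpr ⟨mul_mem (hPK ha) (mul_mem hk₀K hn), mul_mem haC hkn⟩, ?_⟩
  rw [← mul_assoc, hka]
  group

/-- A `τ₁(M)`-subgroup acts on `M_σ` in a prime manner. -/
theorem prime_action_tau1 {K : Subgroup G} (hKM : K ≤ M)
    (hπ : ∀ t : ℕ, t.Prime → t ∣ Nat.card K → t ∈ Cfsg.tau1 M) {x : G} (hx : x ∈ K) (hx1 : x ≠ 1) :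
    Cfsg.sigmaCore M ⊓ centralizer ({x} : Set G) = Cfsg.sigmaCore M ⊓ centralizer (K : Set G) := by
  refine le_antisymm ?_ (inf_le_inf_left _ (Subgroup.centralizer_le (Set.singleton_subset_iff.mpr hx)))
  haveI hc : IsCyclic K := isCyclic_tau1 hG hKM hπ
  have hcomm : ∀ a ∈ K, ∀ b ∈ K, Commute a b := fun a ha b hb =>
    congrArg Subtype.val ((IsCyclic.isMulCommutative (α := K)).is_comm.comm ⟨a, ha⟩ ⟨b, hb⟩)
  obtain ⟨p, hp, hpd⟩ := Nat.exists_prime_and_dvd (mt orderOf_eq_one_iff.mp hx1)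
  haveI : Fact p.Prime := ⟨hp⟩
  set x₀ := x ^ (orderOf x / p)
  have hx₀ : x₀ ∈ zpowers x := npow_mem_zpowers x _
  have hx₀K : x₀ ∈ K := zpowers_le.mpr hx hx₀
  have hx₀o : orderOf x₀ = p := orderOf_pow_orderOf_div (orderOf_pos x).ne' hpd
  have hpτ := hπ p hp (hx₀o ▸ Subgroup.orderOf_dvd_natCard K hx₀K)
  have hXc : Nat.card (zpowers x₀) = p := by rw [Nat.card_zpowers, hx₀o]
  intro y hy
  obtain ⟨hyσ, hyx⟩ := mem_inf.mp hy
  refine mem_inf.mpr ⟨hyσ, ?_⟩
  have hyX : y ∈ Cfsg.sigmaCore M ⊓ centralizer (zpowers x₀ : Set G) := by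
    refine mem_inf.mpr ⟨hyσ, ?_⟩
    rw [centralizer_zpowers_eq]
    obtain ⟨i, hi⟩ := mem_zpowers_iff.mp hx₀
    rw [← hi]
    exact mem_centralizer_singleton_iff.mpr
      (Commute.zpow_right (mem_centralizer_singleton_iff.mp hyx) i).eq
  suffices hK : K ≤ centralizer ({y} : Set G) from mem_centralizer_iff.mpr fun a ha =>
    mem_centralizer_singleton_iff.mp (hK ha)
  intro k hk
  refine CfsgLib.StructB.mem_of_forall_primePow _ k fun z hz s j hs hj hzo _ => ?_
  haveI : Fact s.Prime := ⟨hs⟩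
  have hzK : z ∈ K := zpowers_le.mpr hk hz
  have hsτ : s ∈ Cfsg.tau1 M :=
    hπ s hs ((hzo ▸ dvd_pow_self s (by omega : j ≠ 0)).trans (Subgroup.orderOf_dvd_natCard K hzK))
  have hzp : IsPGroup s (zpowers z) := IsPGroup.of_card (n := j) (by rw [Nat.card_zpowers, hzo])
  obtain ⟨z₀, hz₀, hz₀o⟩ := exists_order_p hzp (by
    rw [Ne, zpowers_eq_bot]
    intro e
    rw [e, orderOf_one] at hzo
    exact absurd hzo.symm (Nat.one_lt_pow (by omega) hs.one_lt).ne')
  have h1 := centralizer_tau1_le hG hM hpτ (zpowers_le.mpr (hKM hx₀K)) hXc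
    (zpowers_le.mpr (hKM (zpowers_le.mpr hzK hz₀))) (by rw [Nat.card_zpowers, hz₀o])
    (by
      rw [centralizer_zpowers_eq, zpowers_le]
      exact mem_centralizer_singleton_iff.mpr (hcomm _ (zpowers_le.mpr hzK hz₀) _ hx₀K).eq)
    hsτ.2.1 hyX
  rw [centralizer_zpowers_eq] at h1
  have h2 : y ∈ Cfsg.sigmaCore M ⊓ centralizer ({z₀} : Set G) := mem_inf.mpr ⟨hyσ, h1⟩
  rw [prime_action_cyclic hG hM hsτ.2.1 hsτ.2.2.2.2 hzp (zpowers_le.mpr (hKM hzK)) hz₀
    fun e => hs.ne_one (by rw [← hz₀o, e, orderOf_one])] at h2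
  exact mem_centralizer_singleton_iff.mpr
    (mem_centralizer_iff.mp (mem_inf.mp h2).2 z (mem_zpowers z))

/-- `E'` centralizes the `E`-invariant Sylow `q`-subgroups of `M_σ`, `q ∉ β(M)`. -/
theorem derived_compl_centralizes (hE : Cfsg.IsComplIn E (Cfsg.sigmaCore M) M) {q : ℕ}
    [hq : Fact q.Prime] (hqσ : q ∈ Cfsg.sigma M) (hqb : q ∉ Cfsg.beta M) {T : Subgroup G}
    (hT : IsPGroup q T) (hTσ : T ≤ Cfsg.sigmaCore M) (hTn : E ≤ normalizer (T : Set G)) :
    ⁅E, E⁆ ≤ centralizer (T : Set G) := by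
  have hle : ⁅E, E⁆ ≤ E := derived_le_compl hG hM
  refine le_of_inv_sylows (A := (⊥ : Subgroup G)) bot_le
    (by rw [Subgroup.card_bot]; exact Nat.coprime_one_left _)
    (Or.inr (isSolvable_of_le_max hG hM (hle.trans hE.1))) fun r hr R hR hR1 _ => ?_
  haveI : Fact r.Prime := ⟨hr⟩
  have hrσ := not_sigma_of_dvd_compl hG hM hE hr
    ((dvd_card_of_pgroup_ne_bot hR.2.1 hR1).trans (card_dvd_of_le (hR.1.trans hle)))
  exact le_centralizer_of_not_beta hG hM hR.2.1 hT (fun e => hrσ (e ▸ hqσ)) ((hR.1.trans hle).trans hTn)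
    (hR.1.trans (commutator_mono hE.1 hE.1)) (hTσ.trans (sigmaCore_le_derived hG hM))
    (fun h => hrσ (mem_sigma_of_mem_beta hG hM h)) hqb

/-- The `q`-elements of `C_{M_σ}(P)`, `q ∉ β(M)`, `|P| ∈ τ₁(M)`, lie in `(M_σ)'`. -/
theorem fixed_le_derived {p q : ℕ} [hp : Fact p.Prime] [hq : Fact q.Prime] (hpτ : p ∈ Cfsg.tau1 M)
    (hqσ : q ∈ Cfsg.sigma M) (hqb : q ∉ Cfsg.beta M) {P Q : Subgroup G} (hPM : P ≤ M)
    (hP : Nat.card P = p) (hQ : IsPGroup q Q) (hQσ : Q ≤ Cfsg.sigmaCore M)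
    (hQP : Q ≤ centralizer (P : Set G)) : Q ≤ ⁅Cfsg.sigmaCore M, Cfsg.sigmaCore M⁆ := by
  set N := Cfsg.sigmaCore M with hN
  have hNM : N ≤ M := sigmaCore_le M
  have hPp := isPGroup_of_card_prime hP
  have hPσ : ∀ t : ℕ, t.Prime → t ∣ Nat.card P → t ∉ Cfsg.sigma M :=
    fun t ht hd => (prime_dvd_pgroup_card hPp ht hd) ▸ hpτ.2.1
  obtain ⟨E, hE, hPE⟩ := exists_compl_ge hG hM hPM hPσ
  have hcopE : (Nat.card E).Coprime (Nat.card N) :=
    coprime_sigmaCore hG hM fun t ht hd => not_sigma_of_dvd_compl hG hM hE ht hd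
  have hEN : E ≤ normalizer (N : Set G) := hE.1.trans (le_normalizer_sigmaCore M)
  have hEsol : Group.IsSolvable E := isSolvable_of_le_max hG hM hE.1
  have hcopP : (Nat.card P).Coprime (Nat.card N) := coprime_sigmaCore hG hM hPσ
  obtain ⟨T₁, hQT₁, hPT₁⟩ := CfsgLib.Coprime.exists_invariant_sylow_ge (hPE.trans hEN) hcopP
    (Or.inl (isSolvable_of_le_max hG hM hPM)) hQ hQσ
    ((le_centralizer_iff.mp hQP).trans (centralizer_le_normalizer _))
  obtain ⟨T₂, hET⟩ := CfsgLib.Coprime.exists_invariant_sylow hEN hcopE (Or.inl hEsol) q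
  obtain ⟨c, hc, hcT⟩ := CfsgLib.Coprime.exists_conj_invariant_sylow (hPE.trans hEN) hcopP
    (Or.inl (isSolvable_of_le_max hG hM hPM)) T₁ T₂ hPT₁ (hPE.trans hET)
  obtain ⟨hcN, hcP⟩ := mem_inf.mp hc
  set T := (T₂ : Subgroup N).map N.subtype
  -- it suffices to treat the conjugate inside `T`
  suffices key : conjMap c Q ≤ ⁅N, N⁆ by
    intro w hw
    have h1 : c * w * c⁻¹ ∈ ⁅N, N⁆ := key (conj_mem_conjMap hw)
    rw [show w = ⁅c, w⁆⁻¹ * (c * w * c⁻¹) by rw [commutatorElement_def]; group]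
    exact mul_mem (inv_mem (commutator_mem_commutator hcN (hQσ hw))) h1
  have hQ' : conjMap c Q ≤ T ⊓ centralizer (P : Set G) := by
    rintro _ ⟨w, hw, rfl⟩
    exact mem_inf.mpr ⟨hcT.le ⟨w, hQT₁ hw, rfl⟩,
      mul_mem (mul_mem hcP (hQP hw)) (inv_mem hcP)⟩
  refine (le_trans hQ' ?_ : conjMap c Q ≤ ⁅N, N⁆)
  have hT : SylowIn q T N := sylowIn_map T₂
  have hWT := derived_compl_centralizes hG hM hE hqσ hqb hT.2.1 hT.1 hET
  set Y := T ⊓ centralizer (P : Set G) with hY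
  have hYσ : Y ≤ N := inf_le_left.trans hT.1
  have hEY : ∀ z ∈ E, z ∈ centralizer (P : Set G) → ∀ (s k : ℕ), s.Prime → 1 ≤ k →
      orderOf z = s ^ k → z ∈ centralizer (Y : Set G) := by
    intro z hzE hzP s k hs hk hzo
    haveI : Fact s.Prime := ⟨hs⟩
    have hzM : z ∈ M := hE.1 hzE
    have hzp : IsPGroup s (zpowers z) := IsPGroup.of_card (n := k) (by rw [Nat.card_zpowers, hzo])
    have hsσ : s ∉ Cfsg.sigma M := not_sigma_of_dvd_compl hG hM hE hs
      ((hzo ▸ dvd_pow_self s (by omega : k ≠ 0)).trans (Subgroup.orderOf_dvd_natCard E hzE))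
    by_cases hrk : Cfsg.PRankLE s 1 M
    · obtain ⟨z₀, hz₀, hz₀o⟩ := exists_order_p hzp (by
        rw [Ne, zpowers_eq_bot]
        intro e
        rw [e, orderOf_one] at hzo
        exact absurd hzo.symm (Nat.one_lt_pow (by omega) hs.one_lt).ne')
      have hz₀P : z₀ ∈ centralizer (P : Set G) := zpowers_le.mpr hzP hz₀
      have h1 := centralizer_tau1_le hG hM hpτ hPM hP (zpowers_le.mpr (zpowers_le.mpr hzM hz₀))
        (by rw [Nat.card_zpowers, hz₀o]) (zpowers_le.mpr hz₀P) hsσ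
      have h2 : Y ≤ N ⊓ centralizer ({z₀} : Set G) := le_inf hYσ (by
        rw [← centralizer_zpowers_eq]
        exact (le_inf hYσ inf_le_right).trans h1)
      rw [prime_action_cyclic hG hM hsσ hrk hzp (zpowers_le.mpr hzM) hz₀
        fun e => hs.ne_one (by rw [← hz₀o, e, orderOf_one])] at h2
      exact le_centralizer_iff.mp (h2.trans inf_le_right) (mem_zpowers z)
    · -- a square of `E` kills `Y`
      suffices hbot : Y = ⊥ by
        rw [hbot]
        exact mem_centralizer_iff.mpr fun w hw => by rw [mem_bot.mp hw, one_mul, mul_one]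
      obtain ⟨B, B₀, hBE, h⟩ := tau2_square hG hM hE (⟨hs, hsσ, prankLE_two_of_not_sigma hG hM hsσ, hrk⟩)
      have hps : p ≠ s := fun e => hrk (e ▸ hpτ.2.2.2.2)
      have hPB : P ≤ normalizer (B : Set G) := hPE.trans (h.compl_le_normalizer hG hM hE hBE)
      have hBY : B ≤ centralizer (Y : Set G) := by
        refine (CfsgLib.Coprime.commutator_sup_centralizer hPB (coprime_pgroup hPp h.sq.isPGroup hps)
          (Or.inl (isSolvable_of_le_max hG hM hPM))).ge.trans (sup_le ?_ ?_)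
        · exact (commutator_mono hBE hPE).trans (hWT.trans (Subgroup.centralizer_le inf_le_left))
        · intro b hb
          obtain ⟨hbB, hbP⟩ := mem_inf.mp hb
          rcases eq_or_ne b 1 with rfl | hb1
          · exact one_mem _
          have hbo : orderOf b = s := orderOf_eq_prime (h.sq.1.2 b hbB) hb1
          exact le_centralizer_iff.mp ((le_inf hYσ inf_le_right).trans (centralizer_tau1_le hG hM hpτ hPM
            hP (zpowers_le.mpr (h.le hbB)) (by rw [Nat.card_zpowers, hbo]) (zpowers_le.mpr hbP) hsσ))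
            (mem_zpowers b)
      exact le_bot_iff.mp ((le_inf hYσ (le_centralizer_iff.mp hBY)).trans (h.centralizer_eq_bot hG hM).le)
  have hEcent : E ≤ centralizer (Y : Set G) := by
    intro e he
    obtain ⟨k, hk, d, hd, rfl⟩ := exists_derived_mul_centralizer hG hM hpτ hP hPE hE.1 he
    obtain ⟨hdE, hdP⟩ := mem_inf.mp hd
    refine mul_mem (Subgroup.centralizer_le inf_le_left (hWT hk))
      (CfsgLib.StructB.mem_of_forall_primePow _ d fun z hz s j hs hj hzo _ => ?_)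
    exact hEY z (zpowers_le.mpr hdE hz) (zpowers_le.mpr hdP hz) s j hs hj hzo
  exact (le_inf hYσ (le_centralizer_iff.mp hEcent)).trans (sigmaCore_commutator_compl hG hM hE).1

/-- A fixed line of a `τ₁(M)`-subgroup in `M_σ` pins `M`. -/
theorem onlyMax_of_tau1_fixed {p q : ℕ} [hp : Fact p.Prime] [hq : Fact q.Prime]
    (hpτ : p ∈ Cfsg.tau1 M) (hqσ : q ∈ Cfsg.sigma M) {P X : Subgroup G} (hPM : P ≤ M)
    (hP : Nat.card P = p) (hX : Nat.card X = q) (hXσ : X ≤ Cfsg.sigmaCore M)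
    (hXP : X ≤ centralizer (P : Set G)) :
    OnlyMax (centralizer (X : Set G)) M ∧
      ∀ S : Subgroup G, SylowIn q S (Cfsg.sigmaCore M) → Cfsg.InUniqueMaximal S := by
  have h : q ∈ Cfsg.beta M ∨ X ≤ ⁅Cfsg.sigmaCore M, Cfsg.sigmaCore M⁆ := (em _).imp_right fun hb =>
    fixed_le_derived hG hM hpτ hqσ hb hPM hP (isPGroup_of_card_prime hX) hXσ hXP
  have hXM := hXσ.trans (sigmaCore_le M)
  refine ⟨?_, fun S hS => (centralizer_beta_or_derived hG hM hqσ hXM hX hS h).2⟩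
  obtain ⟨S, hS, -⟩ := exists_sylowIn_le (IsPGroup.of_bot (p := q) (G := G))
    (bot_le (a := Cfsg.sigmaCore M))
  exact (centralizer_beta_or_derived hG hM hqσ hXM hX hS h).1

/-- A `τ₁(M)`-line fixes nothing in an abelian Sylow subgroup of `M_σ` outside `β(M)`. -/
theorem fixed_eq_bot_of_abelian {p q : ℕ} [hp : Fact p.Prime] [hq : Fact q.Prime]
    (hpτ : p ∈ Cfsg.tau1 M) (hqσ : q ∈ Cfsg.sigma M) (hqb : q ∉ Cfsg.beta M) {P T : Subgroup G}
    (hPM : P ≤ M) (hP : Nat.card P = p) (hT : SylowIn q T (Cfsg.sigmaCore M))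
    (hab : IsMulCommutative T) : T ⊓ centralizer (P : Set G) = ⊥ := by
  rcases eq_or_ne T ⊥ with hT1 | hT1
  · rw [hT1, bot_inf_eq]
  have hqM : q ∣ Nat.card M := (dvd_card_of_pgroup_ne_bot hT.2.1 hT1).trans
    (card_dvd_of_le (hT.1.trans (sigmaCore_le M)))
  rw [eq_bot_iff, ← sylow_inf_derived_eq_bot hT hab
    ((Cfsg.Agent.S1414.result hG M hM).2.2.2.2 q hq.out hqM hqb).2.1]
  exact le_inf inf_le_left (fixed_le_derived hG hM hpτ hqσ hqb hPM hP (hT.2.1.to_le inf_le_left)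
    (inf_le_left.trans hT.1) inf_le_right)

/-- A `τ₁(M)`-line centralizes no Sylow subgroup of `M_σ`. -/
theorem not_centralizes_sylow {p q : ℕ} [hp : Fact p.Prime] [hq : Fact q.Prime]
    (hpτ : p ∈ Cfsg.tau1 M) {P T : Subgroup G} (hPM : P ≤ M) (hP : Nat.card P = p)
    (hT : SylowIn q T (Cfsg.sigmaCore M)) (hT1 : T ≠ ⊥) : ¬ T ≤ centralizer (P : Set G) := by
  intro hle
  have hqd : q ∣ Nat.card (Cfsg.sigmaCore M) :=
    (dvd_card_of_pgroup_ne_bot hT.2.1 hT1).trans (card_dvd_of_le hT.1)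
  have hqσ := mem_sigma_of_dvd_sigmaCore hq.out hqd
  have hqM := hqd.trans (card_dvd_of_le (sigmaCore_le M))
  by_cases hqb : q ∈ Cfsg.beta M
  · obtain ⟨H, hH, hNH⟩ := (eq_top_or_exists_le_coatom (normalizer (P : Set G))).resolve_left
      (minSimple_normalizer_ne_top hG (ne_bot_of_card_prime hP) fun h => hM.1 (top_le_iff.mp (h ▸ hPM)))
    obtain ⟨B, hBM, hB, hlt⟩ := not_prankLE_iff.mp hqb.1.2
    obtain ⟨g, -, hg⟩ := (sylowIn_of_sigmaCore hG hM hT hqσ).exists_conj_le (elemAb_isPGroup hB) hBM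
    have h3 : q ^ 3 ≤ Nat.card ↥(conjMap g B) := by
      rw [card_conjMap]; exact le_pow_three hG hB hlt
    have hHM := eq_of_rank_three hG hM (elemAb_map (MulAut.conj g).toMonoidHom hB) h3
      (hg.trans (hT.1.trans (sigmaCore_le M))) hH
      (hg.trans (hle.trans ((centralizer_le_normalizer _).trans hNH)))
    subst hHM
    exact not_conj_of_normalizer_le hG hH hpτ.2.1 hpτ.2.2.2.2 hH hP hNH 1 (conjMap_one H)
  · have hd := fixed_le_derived hG hM hpτ hqσ hqb hPM hP hT.2.1 hT.1 hle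
    have hnpc := ((Cfsg.Agent.S1414.result hG M hM).2.2.2.2 q hq.out hqM hqb).2.1
    -- a normal `q`-complement forces `T ≤ T'`
    let S₀ : Sylow q ↥(Cfsg.sigmaCore M) := (hT.2.1.comap_subtype).toSylow hT.2.2
    obtain ⟨K, hK, hc⟩ := (CfsgLib.Transfer.hasNormalPComplement_iff_exists_isComplement' S₀).mp hnpc
    let S : Subgroup ↥(Cfsg.sigmaCore M) := S₀
    haveI := hK
    let f : ↥(Cfsg.sigmaCore M) →* ↥(Cfsg.sigmaCore M) ⧸ K := QuotientGroup.mk' K
    have hle' : S ≤ K ⊔ ⁅S, S⁆ := by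
      intro a ha
      have h1 : (a : G) ∈ ⁅Cfsg.sigmaCore M, Cfsg.sigmaCore M⁆ := hd ha
      rw [← Subgroup.map_subtype_commutator] at h1
      obtain ⟨b, hb, hba⟩ := h1
      rw [(Cfsg.sigmaCore M).subtype_injective hba] at hb
      have hfS : Subgroup.map f S = ⊤ := by
        rw [eq_top_iff]
        intro w _
        obtain ⟨w', rfl⟩ := QuotientGroup.mk'_surjective K w
        obtain ⟨⟨n, b'⟩, hnb, -⟩ := hc.existsUnique w'
        refine ⟨b', b'.2, ?_⟩
        rw [← hnb, map_mul, (QuotientGroup.eq_one_iff _).mpr n.2 |> fun h => (show f (n : _) = 1 from h),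
          one_mul]
      have h2 : f a ∈ Subgroup.map f ⁅S, S⁆ := by
        rw [map_commutator, hfS]
        have := mem_map_of_mem f hb
        rwa [_root_.commutator_def, map_commutator,
          map_top_of_surjective f (QuotientGroup.mk'_surjective K)] at this
      obtain ⟨d, hd', hfd⟩ := h2
      rw [show a = (a * d⁻¹) * d by group]
      refine mul_mem (mem_sup_left ?_) (mem_sup_right hd')
      rw [← QuotientGroup.eq_one_iff]
      show f (a * d⁻¹) = 1
      rw [map_mul, map_inv, hfd, mul_inv_cancel]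
    have hSd : S ≤ ⁅S, S⁆ := by
      intro a ha
      obtain ⟨k, hk, d, hd', rfl⟩ := mem_sup_of_normal_left.mp (hle' ha)
      have hkS : k ∈ S := by
        have h1 := mul_mem ha (inv_mem (commutator_le_self _ hd'))
        rwa [mul_inv_cancel_right] at h1
      have h1 : k ∈ K ⊓ S := mem_inf.mpr ⟨hk, hkS⟩
      rw [disjoint_iff.mp hc.disjoint, mem_bot] at h1
      rwa [h1, one_mul]
    haveI : Nontrivial S := nontrivial_iff_ne_bot _ |>.mpr fun e => hT1 (by
      rw [← map_subgroupOf_eq_of_le hT.1, show T.subgroupOf _ = (⊥ : Subgroup ↥(Cfsg.sigmaCore M)) from e,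
        Subgroup.map_bot])
    haveI := S₀.isPGroup'.isNilpotent
    refine (Group.IsSolvable.commutator_lt_top_of_nontrivial S).ne ?_
    apply Subgroup.map_injective S.subtype_injective
    rw [Subgroup.map_subtype_commutator, ← MonoidHom.range_eq_map, Subgroup.range_subtype]
    exact le_antisymm (commutator_le_self _) hSd

end CfsgLib.BG
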