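import Cfsg.Agent.Lib.BG.Kappa
import Cfsg.Agent.Lib.BG.TauOne
import Cfsg.Agent.Lib.BG14.Dual
import Cfsg.Agent.Lib.BG14.PDataBasic
import Cfsg.Agent.S1438

/-!
# Nilpotent Hall subgroups of `G` lie in some `M_σ`
-/

set_option autoImplicit false
set_option linter.style.haveILetI false
set_option linter.unusedSectionVars false

namespace CfsgLib.BG

open Subgroup CfsgLib.PLocal CfsgLib.OddLocal
open scoped commutatorElement

universe u
variable {G : Type u} [Group G] [Finite G]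
variable (hG : Cfsg.IsMinSimpleOddOrder G)
include hG

/-- A Sylow subgroup at a prime outside `σ(L)` does not centralize one at a prime of `σ(L)`. -/
theorem false_of_sylow_commute {L : Subgroup G} (hL : IsCoatom L) {p r : ℕ} [hp : Fact p.Prime]
    [hr : Fact r.Prime] (hpσ : p ∉ Cfsg.sigma L) {P R : Subgroup G} (hP : SylowIn p P L) (hP1 : P ≠ ⊥)
    (hR : SylowIn r R (Cfsg.sigmaCore L)) (hR1 : R ≠ ⊥) (hc : R ≤ centralizer (P : Set G)) : False := by
  have hpL : p ∣ Nat.card L :=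
    (dvd_card_of_pgroup_ne_bot hP.2.1 hP1).trans (card_dvd_of_le hP.1)
  rcases CfsgLib.BG14.tau_cases hG hL hp.out hpL hpσ with h2 | h13
  · obtain ⟨A, hAL, hA⟩ := exists_sq_le_of_not_prankLE le_rfl h2.2.2.2
    obtain ⟨m, hm, hmA⟩ := hP.exists_conj_le hA.isPGroup hAL
    obtain ⟨-, -, -, hfix, -⟩ := Cfsg.Agent.S1417.result hG L hL p h2 (conjMap m A)
      ⟨hmA.trans hP.1, (hA.conjMap m).1, (hA.conjMap m).2⟩
    exact hR1 (le_bot_iff.mp (hfix ▸ le_inf hR.1 (hc.trans (centralizer_le hmA))))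
  obtain ⟨x, hx, hxo⟩ := exists_order_p hP.2.1 hP1
  have hxc : R ≤ centralizer (zpowers x : Set G) := hc.trans (centralizer_le (zpowers_le.mpr hx))
  have hfix : Cfsg.sigmaCore L ⊓ centralizer (zpowers x : Set G) ≠ ⊥ := fun e =>
    hR1 (le_bot_iff.mp (e ▸ le_inf hR.1 hxc))
  have hκ := mem_kappa_of_fixed hG hL h13 (X := zpowers x) (zpowers_le.mpr (hP.1 hx))
    (by rw [Nat.card_zpowers, hxo]) hfix
  obtain ⟨K, U, E, d⟩ := CfsgLib.BG14.exists_of_mem_kappa hG hL hκ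
  exact not_centralizes_sylow hG hL (q := r) (d.kappa_eq hG ▸ hκ) (zpowers_le.mpr (hP.1 hx))
    (by rw [Nat.card_zpowers, hxo]) hR hR1 hxc

/-- A nilpotent Hall subgroup of `G` lies in `M_σ` for some maximal `M`. -/
theorem exists_core_ge_of_nilpotent_hall {H : Subgroup G} (hn : Group.IsNilpotent H)
    (hh : (Nat.card H).Coprime H.index) (h1 : H ≠ ⊥) (h2 : H ≠ ⊤) :
    ∃ M : Subgroup G, IsCoatom M ∧ H ≤ Cfsg.sigmaCore M := by
  have hsyl : ∀ t : ℕ, t.Prime → t ∣ Nat.card H → ∀ T : Subgroup G, SylowIn t T H →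
      ∀ X : Subgroup G, H ≤ X → SylowIn t T X := by
    intro t ht htd T hT X hX
    refine ⟨hT.1.trans hX, hT.2.1, fun hd => ?_⟩
    rw [← relIndex_mul_relIndex _ _ _ hT.1 hX] at hd
    exact (ht.dvd_mul.mp hd).elim hT.2.2 fun h => ht.ne_one
      (Nat.eq_one_of_dvd_coprimes hh htd (h.trans (relIndex_dvd_index_of_normal_or_top hX)))
  obtain ⟨p, hp, hpd⟩ := Nat.exists_prime_and_dvd (fun e => h1 (Subgroup.card_eq_one.mp e))
  haveI : Fact p.Prime := ⟨hp⟩
  obtain ⟨P, hP, -⟩ := exists_sylowIn_le (IsPGroup.of_bot (p := p) (G := G)) (bot_le (a := H))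
  have hP1 : P ≠ ⊥ := fun e => hP.2.2 (by rw [e, relIndex_bot_left]; exact hpd)
  obtain ⟨M, hM, hNP⟩ := CfsgLib.BG14.exists_coatom_normalizer hG hP1
    (fun e => h2 (top_le_iff.mp (e ▸ hP.1)))
  have hHn : H ≤ normalizer (P : Set G) := le_normalizer_of_hall_nilpotent hG hn (π := {p})
    ⟨hP.1, fun t ht hd => prime_dvd_pgroup_card hP.2.1 ht hd, fun t ht htp => by
      rw [Set.mem_singleton_iff] at htp; subst htp; exact hP.2.2⟩
  have hHM : H ≤ M := hHn.trans hNP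
  have hPM := hsyl p hp hpd P hP M hHM
  have hpσ : p ∈ Cfsg.sigma M := mem_sigma_of_normalizer_le (hpd.trans (card_dvd_of_le hHM)) hPM hNP
  have hPS : P ≤ Cfsg.sigmaCore M := le_sigmaCore_of_pi hG hM (hPM.1) fun t ht hd =>
    (prime_dvd_pgroup_card hP.2.1 ht hd) ▸ hpσ
  have hPS' : SylowIn p P (Cfsg.sigmaCore M) := by
    refine ⟨hPS, hP.2.1, fun hd => hPM.2.2 ?_⟩
    rw [← relIndex_mul_relIndex _ _ _ hPS (sigmaCore_le M)]
    exact hd.mul_right _
  refine ⟨M, hM, le_sigmaCore_of_pi hG hM hHM fun r hr hrd => by_contra fun hrσ => ?_⟩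
  haveI : Fact r.Prime := ⟨hr⟩
  obtain ⟨R, hR, -⟩ := exists_sylowIn_le (IsPGroup.of_bot (p := r) (G := G)) (bot_le (a := H))
  have hR1 : R ≠ ⊥ := fun e => hR.2.2 (by rw [e, relIndex_bot_left]; exact hrd)
  have hne : p ≠ r := fun e => hrσ (e ▸ hpσ)
  refine false_of_sylow_commute hG hM hrσ (hsyl r hr hrd R hR M hHM) hR1 hPS' hP1 ?_
  refine le_centralizer_of_coprime_of_le_nilpotent hn hP.1 hR.1 (coprime_of_forall fun t ht h3 h4 => ?_)
  exact hne ((prime_dvd_pgroup_card hP.2.1 ht h3).symm.trans (prime_dvd_pgroup_card hR.2.1 ht h4))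
where
  relIndex_dvd_index_of_normal_or_top {H X : Subgroup G} (h : H ≤ X) : H.relIndex X ∣ H.index :=
    ⟨X.index, (Subgroup.relIndex_mul_index h).symm⟩

theorem nilpotent_hall_fusion (H : Subgroup G) (hn : Group.IsNilpotent H)
    (hh : (Nat.card H).Coprime H.index) :
    ∀ x ∈ H, ∀ g : G, g * x * g⁻¹ ∈ H →
      ∃ n ∈ normalizer (H : Set G), n * x * n⁻¹ = g * x * g⁻¹ := by
  intro x hx g hgx
  rcases eq_or_ne H ⊥ with rfl | h1
  · rw [mem_bot] at hx
    subst hx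
    exact ⟨1, one_mem _, by simp⟩
  rcases eq_or_ne H ⊤ with rfl | h2
  · exact ⟨g, mem_normalizer_iff.mpr fun y => by simp, rfl⟩
  obtain ⟨M, hM, hHS⟩ := exists_core_ge_of_nilpotent_hall hG hn hh h1 h2
  obtain ⟨-, hfus⟩ := Cfsg.Agent.S1438.result hG M hM H hHS h1
    (hh.coprime_dvd_right ⟨(Cfsg.sigmaCore M).index, (Subgroup.relIndex_mul_index hHS).symm⟩)
  obtain ⟨n, hnm, he⟩ := hfus x hx g hgx
  exact ⟨n, (mem_inf.mp hnm).2, he⟩

end CfsgLib.BG
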