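import Cfsg.Agent.Lib.BG.SigmaTI
import Cfsg.Agent.Lib.BG.FrobeniusType

/-!
# Prime action of the complement on `M_σ`: cyclic Sylow subgroups
-/

set_option autoImplicit false
set_option linter.style.haveILetI false
set_option linter.unusedSectionVars false

namespace CfsgLib.BG

open Subgroup CfsgLib.PLocal CfsgLib.OddLocal
open scoped commutatorElement

universe u
variable {G : Type u} [Group G] [Finite G] {M H E : Subgroup G}
variable (hG : Cfsg.IsMinSimpleOddOrder G) (hM : IsCoatom M)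
include hG hM

/-- A maximal subgroup over `N_G(X)`, `|X| = p ∉ σ(M)`, `M` of `p`-rank one, is not conjugate to `M`. -/
theorem not_conj_of_normalizer_le {p : ℕ} [hp : Fact p.Prime] (hpσ : p ∉ Cfsg.sigma M)
    (hr : Cfsg.PRankLE p 1 M) (hH : IsCoatom H) {X : Subgroup G} (hX : Nat.card X = p)
    (hN : normalizer (X : Set G) ≤ H) (g : G) : conjMap g H ≠ M := by
  intro e
  have hN' : normalizer (conjMap g X : Set G) ≤ M := by
    rw [← conjMap_normalizer, ← e]
    exact conjMap_mono hN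
  exact (Cfsg.Agent.S1409.result hG M hM p hpσ (conjMap g X) (by rw [card_conjMap, hX]) hN').1.2 hr

/-- No `p`-group, `p ∈ σ(H)`, acts without fixed points on a `σ(M)`-group of `H`, `H` not conjugate
to `M`. -/
theorem false_of_sigma_act (hH : IsCoatom H) (hnc : ∀ g : G, conjMap g H ≠ M) {p q : ℕ}
    [hp : Fact p.Prime] [hq : Fact q.Prime] (hpH : p ∈ Cfsg.sigma H) (hqM : q ∈ Cfsg.sigma M)
    (hpq : p ≠ q) {P Q : Subgroup G} (hP : IsPGroup p P) (hPH : P ≤ H) (hQ : IsPGroup q Q)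
    (hQH : Q ≤ H) (hn : P ≤ normalizer (Q : Set G)) (hQP : ⁅Q, P⁆ = Q) (hQ1 : Q ≠ ⊥) : False := by
  have hqb : q ∉ Cfsg.beta H := fun h => by
    obtain ⟨g, hg⟩ := eq_conj_of_alpha hG hM hH hqM h.1
    exact hnc g hg
  by_cases hpb : p ∈ Cfsg.beta H
  · -- `P` lies in `H_β`, which meets `Q` trivially
    set B := Cfsg.piCoreOf (Cfsg.beta H) H with hB
    have hBH : B ≤ H := map_subtype_le _
    have hBn : H ≤ normalizer (B : Set G) := by
      refine (normal_subgroupOf_iff_le_normalizer hBH).mp ?_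
      rw [hB, Cfsg.piCoreOf, subgroupOf, comap_map_eq_self_of_injective H.subtype_injective]
      infer_instance
    have hBhall : Cfsg.IsPiHallOf (Cfsg.beta H) B H := (Cfsg.Agent.S1414.result hG H hH).1
    have hPB : P ≤ B := fun x hx => by
      refine CfsgLib.Solvable.mem_of_coprime_relIndex
        ((normal_subgroupOf_iff_le_normalizer hBH).mpr hBn) (hPH hx) ?_
      refine coprime_of_forall fun r hr h1 h2 => ?_
      have hrp := prime_dvd_pgroup_card hP hr (h1.trans (orderOf_dvd_natCard P hx))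
      exact hBhall.2.2 r hr (hrp ▸ hpb) h2
    have hQB : Q ≤ B := hQP.ge.trans ((commutator_mono le_rfl hPB).trans
      (le_normalizer_iff_commutator_le_right.mp (hQH.trans hBn)))
    exact hqb (hBhall.2.1 q hq.out ((dvd_card_of_pgroup_ne_bot hQ hQ1).trans (card_dvd_of_le hQB)))
  · -- `QP` is then nilpotent inside `H'`
    have hPσ : P ≤ Cfsg.sigmaCore H := le_sigmaCore_of_pi hG hH hPH fun r hr hd =>
      (prime_dvd_pgroup_card hP hr hd) ▸ hpH
    have hPd : P ≤ ⁅H, H⁆ := hPσ.trans (sigmaCore_le_derived hG hH)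
    have hQd : Q ≤ ⁅H, H⁆ := hQP.ge.trans (commutator_mono hQH hPH)
    have hc := le_centralizer_of_not_beta hG hH hP hQ hpq hn hPd hQd hpb hqb
    exact hQ1 (hQP ▸ commutator_eq_bot_iff_le_centralizer.mpr (le_centralizer_iff.mp hc))

/-- A Sylow subgroup `P` of `G` with `H_σ P` normal in `H` centralizes the `σ(M)`-groups it normalizes
in `H`, if `H_σ` is nilpotent and `H` is not conjugate to `M`. -/
theorem false_of_normal_act (hH : IsCoatom H) (hnc : ∀ g : G, conjMap g H ≠ M)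
    (hnil : Group.IsNilpotent (Cfsg.sigmaCore H)) {p q : ℕ} [hp : Fact p.Prime] [hq : Fact q.Prime]
    (hqM : q ∈ Cfsg.sigma M) (hpq : p ≠ q) {P P₀ Q : Subgroup G} (hP₀ : IsPGroup p P₀)
    (hP₀H : P₀ ≤ H) (hPP₀ : P ≤ P₀) (hP₀n : H ≤ normalizer (Cfsg.sigmaCore H ⊔ P₀ : Subgroup G))
    (hQ : IsPGroup q Q) (hQH : Q ≤ H) (hQP : ⁅Q, P⁆ = Q) (hQ1 : Q ≠ ⊥) : False := by
  have hQle : Q ≤ Cfsg.sigmaCore H ⊔ P₀ := hQP.ge.trans
    ((commutator_mono le_rfl (hPP₀.trans le_sup_right)).trans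
      (le_normalizer_iff_commutator_le_right.mp (hQH.trans hP₀n)))
  have hd : q ∣ Nat.card ↥(Cfsg.sigmaCore H ⊔ P₀) :=
    (dvd_card_of_pgroup_ne_bot hQ hQ1).trans (card_dvd_of_le hQle)
  rcases hq.out.dvd_mul.mp (hd.trans (card_sup_dvd (hP₀H.trans (le_normalizer_sigmaCore H)))) with h | h
  · obtain ⟨g, hg⟩ := eq_conj_of_nilpotent hG hH hnil hM (mem_sigma_of_dvd_sigmaCore hq.out h) hqM
    exact hnc g hg.symm
  · exact hpq (prime_dvd_pgroup_card hP₀ hq.out h).symm

omit hG hM in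
theorem line_le_powImage {p : ℕ} [hp : Fact p.Prime] {P R X : Subgroup G} (hP : IsPGroup p P)
    (hPc : IsCyclic P) (hX : Nat.card X = p) (hXP : X ≤ P) (hne : X ≠ P) (hPR : P ≤ R)
    (hR : IsMulCommutative R) : X ≤ powImage R hR p := by
  obtain ⟨w, hw⟩ := hPc.exists_generator
  obtain ⟨x, hxX, hxo⟩ := exists_order_p (isPGroup_of_card_prime hX) (ne_bot_of_card_prime hX)
  have hXz : zpowers x = X := zpowers_eq_of_card_prime hX hxX
    fun h => hp.out.ne_one (by rw [← hxo, h, orderOf_one])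
  obtain ⟨k, hk⟩ := mem_zpowers_iff.mp (hw ⟨x, hXP hxX⟩)
  have hk' : (w : G) ^ k = x := congrArg Subtype.val hk
  rw [← hXz, zpowers_le]
  by_cases hd : (p : ℤ) ∣ k
  · obtain ⟨j, rfl⟩ := hd
    refine ⟨(w : G) ^ j, zpow_mem (hPR w.2) j, ?_⟩
    show ((w : G) ^ j) ^ p = x
    rw [← zpow_natCast, ← zpow_mul, mul_comm, hk']
  · exfalso
    refine hne (le_antisymm hXP fun y hy => ?_)
    obtain ⟨i, hi⟩ := mem_zpowers_iff.mp (hw ⟨y, hy⟩)
    have hi' : (w : G) ^ i = y := congrArg Subtype.val hi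
    obtain ⟨n, hn⟩ := IsPGroup.iff_orderOf.mp hP w
    rw [← Subgroup.orderOf_coe] at hn
    obtain ⟨u, v, huv⟩ : IsCoprime k ((p : ℤ) ^ n) :=
      IsCoprime.pow_right ((Nat.prime_iff_prime_int.mp hp.out).coprime_iff_not_dvd.mpr hd).symm
    have h1 : (w : G) ^ ((p : ℤ) ^ n) = 1 := by
      rw [show ((p : ℤ) ^ n) = ((p ^ n : ℕ) : ℤ) by push_cast; rfl, zpow_natCast, ← hn, pow_orderOf_eq_one]
    have h2 : (w : G) = x ^ u := by
      calc (w : G) = (w : G) ^ (u * k + v * (p : ℤ) ^ n) := by rw [huv, zpow_one]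
        _ = x ^ u := by
          rw [zpow_add, mul_comm u k, zpow_mul, hk', mul_comm v, zpow_mul, h1, one_zpow, mul_one]
    rw [← hi', h2, ← zpow_mul, ← hXz]
    exact zpow_mem (mem_zpowers x) _

/-- A cyclic `p`-subgroup of `M`, `p ∉ σ(M)` of rank one, acts on `M_σ` in a prime manner. -/
theorem prime_action_cyclic {p : ℕ} [hp : Fact p.Prime] (hpσ : p ∉ Cfsg.sigma M)
    (hr : Cfsg.PRankLE p 1 M) {P : Subgroup G} (hP : IsPGroup p P) (hPM : P ≤ M) {x : G}
    (hx : x ∈ P) (hx1 : x ≠ 1) :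
    Cfsg.sigmaCore M ⊓ centralizer ({x} : Set G) = Cfsg.sigmaCore M ⊓ centralizer (P : Set G) := by
  refine le_antisymm ?_ (inf_le_inf_left _ (Subgroup.centralizer_le (Set.singleton_subset_iff.mpr hx)))
  refine le_inf inf_le_left ?_
  have hPc : IsCyclic P := isCyclic_pgroup_of_prankLE_one hG hP hPM hr
  obtain ⟨x₀, hx₀, hx₀o⟩ := exists_order_p (P := zpowers x) (hP.to_le (zpowers_le.mpr hx))
    (by rwa [Ne, zpowers_eq_bot])
  set X := zpowers x₀ with hXdef
  have hX : Nat.card X = p := by rw [hXdef, Nat.card_zpowers, hx₀o]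
  have hXP : X ≤ P := zpowers_le.mpr (zpowers_le.mpr hx hx₀)
  have hCx : centralizer ({x} : Set G) ≤ centralizer (X : Set G) := by
    rw [hXdef, centralizer_zpowers_eq]
    intro c hc
    obtain ⟨k, rfl⟩ := mem_zpowers_iff.mp hx₀
    exact mem_centralizer_singleton_iff.mpr
      (Commute.zpow_right (mem_centralizer_singleton_iff.mp hc) k).eq
  refine (inf_le_inf_left _ hCx).trans ?_
  set Y := Cfsg.sigmaCore M ⊓ centralizer (X : Set G) with hY
  rcases eq_or_ne X P with hXeq | hXne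
  · exact hY ▸ hXeq ▸ inf_le_right
  -- a maximal subgroup over `N_G(X)`
  have hX1 := ne_bot_of_card_prime hX
  obtain ⟨H, hH, hNH⟩ := (eq_top_or_exists_le_coatom (normalizer (X : Set G))).resolve_left
    (minSimple_normalizer_ne_top hG hX1 fun h => hM.1 (top_le_iff.mp (h ▸ hXP.trans hPM)))
  have hnc := not_conj_of_normalizer_le hG hM hpσ hr hH hX hNH
  have hPX : P ≤ centralizer (X : Set G) := by
    haveI := hPc
    intro a ha
    exact mem_centralizer_iff.mpr fun b hb =>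
      congrArg Subtype.val ((IsCyclic.isMulCommutative (α := P)).is_comm.comm ⟨b, hXP hb⟩ ⟨a, ha⟩)
  have hPH : P ≤ H := hPX.trans ((centralizer_le_normalizer _).trans hNH)
  have hYH : Y ≤ H := inf_le_right.trans ((centralizer_le_normalizer _).trans hNH)
  have hYn : P ≤ normalizer (Y : Set G) :=
    CfsgLib.Comp.le_normalizer_inf (hPM.trans (le_normalizer_sigmaCore M))
      (CfsgLib.Comp.le_normalizer_centralizer (hPX.trans (centralizer_le_normalizer _)))
  have hYπ : ∀ s : ℕ, s.Prime → s ∣ Nat.card Y → s ∈ Cfsg.sigma M := fun s hs hd =>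
    mem_sigma_of_dvd_sigmaCore hs (hd.trans (card_dvd_of_le inf_le_left))
  have hcopY : (Nat.card P).Coprime (Nat.card Y) := coprime_of_forall fun s hs h1 h2 =>
    hpσ ((prime_dvd_pgroup_card hP hs h1) ▸ hYπ s hs h2)
  refine le_of_inv_sylows hYn hcopY (Or.inl (isSolvable_of_le_max hG hM hPM)) fun q hq R hR hR1 hRn => ?_
  haveI : Fact q.Prime := ⟨hq⟩
  have hqM : q ∈ Cfsg.sigma M :=
    hYπ q hq ((dvd_card_of_pgroup_ne_bot hR.2.1 hR1).trans (card_dvd_of_le hR.1))
  have hpq : p ≠ q := fun e => hpσ (e ▸ hqM)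
  rw [le_centralizer_iff]
  refine le_centralizer_iff.mp (commutator_eq_bot_iff_le_centralizer.mp ?_)
  by_contra hne
  set Q := ⁅R, P⁆ with hQdef
  have hcopR : (Nat.card P).Coprime (Nat.card R) := hcopY.coprime_dvd_right (card_dvd_of_le hR.1)
  have hQR : Q ≤ R := le_normalizer_iff_commutator_le_left.mp hRn
  have hQQ : ⁅Q, P⁆ = Q := CfsgLib.Coprime.commutator_commutator_eq hRn hcopR
    (Or.inl (isSolvable_of_le_max hG hM hPM))
  have hQH : Q ≤ H := hQR.trans (hR.1.trans hYH)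
  have hQp : IsPGroup q Q := hR.2.1.to_le hQR
  have hQn : P ≤ normalizer (Q : Set G) := by
    intro a ha
    rw [← conjMap_eq_self_iff, hQdef]
    show Subgroup.map _ _ = _
    rw [map_commutator]
    exact congrArg₂ _ (conjMap_eq_self_iff.mpr (hRn ha)) (conjMap_eq_self_iff.mpr (le_normalizer ha))
  by_cases hpH : p ∈ Cfsg.sigma H
  · exact false_of_sigma_act hG hM hH hnc hpH hqM hpq hP hPH hQp hQH hQn hQQ hne
  obtain ⟨⟨-, hr2⟩, -, -⟩ := Cfsg.Agent.S1409.result hG H hH p hpH X hX hNH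
  obtain ⟨PH, hPHs, hPle⟩ := exists_sylowIn_le hP hPH
  obtain ⟨A', hA'H, hA'⟩ := exists_sq_le_of_not_prankLE le_rfl hr2
  obtain ⟨c, -, hcP⟩ := hPHs.exists_conj_le hA'.isPGroup hA'H
  set A := conjMap c A'
  obtain ⟨A₀, h⟩ := exists_exc hG hH hpH (hA'.conjMap c) (hcP.trans hPHs.1)
  obtain ⟨hab, hΩ, -⟩ := h.sylow_abelian hG hH hPHs hcP
  obtain ⟨S, hS, hPHS⟩ := exists_sylowIn_le hPHs.2.1 (le_top (a := PH))
  by_cases heq : PH = S
  · subst heq
    obtain ⟨F, hF, hPHF⟩ := exists_compl_ge hG hH hPHs.1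
      fun s hs hd => (prime_dvd_pgroup_card hPHs.2.1 hs hd) ▸ hpH
    have hn := h.sylow_normal hG hH hF (hcP.trans hPHF) (sylowIn_compl_of hG hH hF hPHs hPHF) hcP hS
    refine false_of_normal_act hG hM hH hnc (h.nilpotent hG hH) hqM hpq hPHs.2.1 hPHs.1 hPle ?_
      hQp hQH hQQ hne
    have h1 : F ≤ normalizer ((Cfsg.sigmaCore H ⊔ PH : Subgroup G) : Set G) :=
      CfsgLib.Comp.le_normalizer_sup (hF.1.trans (le_normalizer_sigmaCore H)) hn
    have h2 : Cfsg.sigmaCore H ≤ normalizer ((Cfsg.sigmaCore H ⊔ PH : Subgroup G) : Set G) :=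
      (le_sup_left : Cfsg.sigmaCore H ≤ Cfsg.sigmaCore H ⊔ PH).trans
        (Subgroup.le_normalizer (H := Cfsg.sigmaCore H ⊔ PH))
    exact (isComplIn_sup hF).ge.trans (sup_le h1 h2)
  · -- the nonabelian case forces `P = X`
    have hXA : IsLine p A X := ⟨fun a ha => (hΩ a (hPle (hXP ha))).mp (by
      rw [← orderOf_dvd_iff_pow_eq_one, ← hX]
      exact orderOf_dvd_natCard X ha), hX⟩
    obtain ⟨-, hlines⟩ := h.nonabelian_lines hG hH hPHs hcP hS hPHS heq
    have hXA₀ : X = A₀ := by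
      by_contra h'
      exact (hlines X hXA h').2 ((centralizer_le_normalizer _).trans hNH)
    exact h.not_le_powImage hG hH hPHs hcP hS hPHS heq hab dvd_rfl
      (hXA₀ ▸ line_le_powImage hP hPc hX hXP hXne hPle hab)

end CfsgLib.BG
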