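import Cfsg.Agent.Lib.BG.BetaActMain

/-!
# `C_{M_σ}(P)` is centralized by the prime-order elements of `C_E(P)`, `|P| ∈ τ₁(M)`
-/

set_option autoImplicit false
set_option linter.style.haveILetI false
set_option linter.unusedSectionVars false

namespace CfsgLib.BG

open Subgroup CfsgLib.PLocal CfsgLib.OddLocal
open scoped commutatorElement

universe u
variable {G : Type u} [Group G] [Finite G] {M H : Subgroup G}
variable (hG : Cfsg.IsMinSimpleOddOrder G)
include hG

/-- With cyclic Sylow `p`-subgroups in `σ(H)`, something of smaller prime order in `C_H(R)` moves `P`. -/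
theorem exists_smaller_mover (hH : IsCoatom H) {p r : ℕ} [hp : Fact p.Prime] [hr : Fact r.Prime]
    (hpH : p ∈ Cfsg.sigma H) (hpb : p ∉ Cfsg.beta H) (hr1 : Cfsg.PRankLE p 1 H) {P R : Subgroup G}
    (hP : Nat.card P = p) (hPH : P ≤ H) (hNP : normalizer (P : Set G) ≤ H)
    (hR : Nat.card R = r) (hRP : R ≤ centralizer (P : Set G)) (hrτ : r ∈ Cfsg.tau1 H) :
    ∃ (s : ℕ) (X : Subgroup G), s.Prime ∧ s < p ∧ Nat.card X = s ∧ X ≤ H ∧
      X ≤ centralizer (R : Set G) ∧ s ∉ Cfsg.sigma H ∧ ¬ X ≤ centralizer (P : Set G) := by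
  have hPp := isPGroup_of_card_prime hP
  have hRp := isPGroup_of_card_prime hR
  have hP1 := ne_bot_of_card_prime hP
  have hrp : r ≠ p := fun e => hrτ.2.1 (e ▸ hpH)
  have hRH : R ≤ H := hRP.trans ((centralizer_le_normalizer _).trans hNP)
  set C₁ := centralizer (P : Set G) with hC₁
  have hC₁H : C₁ ≤ H := (centralizer_le_normalizer _).trans hNP
  -- an `R`-invariant Sylow `p`-subgroup of `C(P)`
  obtain ⟨T, hT, hPT⟩ := exists_sylowIn_le hPp hPH
  have hTtop := sylowIn_top hpH hT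
  have hTc : IsCyclic T := isCyclic_pgroup_of_prankLE_one hG hT.2.1 hT.1 hr1
  haveI := hTc
  have hTC : T ≤ C₁ := fun a ha => mem_centralizer_iff.mpr fun b hb =>
    congrArg Subtype.val ((IsCyclic.isMulCommutative (α := T)).is_comm.comm ⟨b, hPT hb⟩ ⟨a, ha⟩)
  haveI hC₁sol : Group.IsSolvable C₁ := isSolvable_of_le_max hG hH hC₁H
  -- a `p`-closed `{p, r}`-Hall subgroup of `C(P)` over `R` carries the Sylow subgroup
  obtain ⟨S, hS, hSC, hRS⟩ : ∃ S : Subgroup G, SylowIn p S ⊤ ∧ S ≤ C₁ ∧ R ≤ normalizer (S : Set G) := by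
    obtain ⟨K, hK, -, hRK⟩ := CfsgLib.Coprime.exists_invariant_hall_ge (A := (⊥ : Subgroup G)) bot_le
      (by rw [Subgroup.card_bot]; exact Nat.coprime_one_left _) hC₁sol hRP bot_le
      (π := {t | t = p ∨ t = r}) fun t ht hd => Or.inr (prime_dvd_pgroup_card hRp ht hd)
    obtain ⟨S, hSK, -⟩ := exists_sylowIn_le (IsPGroup.of_bot (p := p) (G := G)) (bot_le (a := K))
    have hSC : SylowIn p S C₁ := by
      refine ⟨hSK.1.trans hK.1, hSK.2.1, fun hd => ?_⟩
      rw [← relIndex_mul_relIndex _ _ _ hSK.1 hK.1] at hd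
      exact (hp.out.dvd_mul.mp hd).elim hSK.2.2 (hK.2.2 p hp.out (Or.inl rfl))
    refine ⟨S, hTtop.of_card_le hSC.2.1 le_top (hSC.card_le hT.2.1 hTC), hSC.1, hRK.trans ?_⟩
    have hKH : K ≤ H := hK.1.trans hC₁H
    have hKp : IsPGroup p ↥⁅K, K⁆ := isPGroup_of_prime_dvd fun t ht hd => by
      rcases hK.2.1 t ht (hd.trans (card_dvd_of_le (commutator_le_self K))) with h | h
      · exact h
      · exact absurd (hd.trans (card_dvd_of_le (commutator_mono hKH hKH))) (h ▸ hrτ.2.2.2.1)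
    have hle : ⁅K, K⁆ ≤ S := by
      obtain ⟨k, hk, hle⟩ := hSK.exists_conj_le hKp (commutator_le_self K)
      refine le_trans (ge_of_eq ?_) hle
      show Subgroup.map _ _ = _
      rw [map_commutator]
      exact congrArg₂ _ (conjMap_eq_self_iff.mpr (le_normalizer hk))
        (conjMap_eq_self_iff.mpr (le_normalizer hk))
    intro k hk
    rw [← conjMap_eq_self_iff]
    refine eq_of_le_of_card_ge ?_ (card_conjMap k S).ge
    rintro _ ⟨a, ha, rfl⟩
    show k * a * k⁻¹ ∈ S
    rw [show k * a * k⁻¹ = ⁅k, a⁆ * a by rw [commutatorElement_def]; group]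
    exact mul_mem (hle (commutator_mem_commutator hk (hSK.1 ha))) ha
  have hScyc : IsCyclic S := by
    obtain ⟨d, -, hd⟩ := hS.exists_conj_eq hTtop
    rw [← hd]
    exact isCyclic_of_surjective (T.equivMapOfInjective _ (MulAut.conj d).injective).toMonoidHom
      (MulEquiv.surjective _)
  haveI := hScyc
  have hPS : P ≤ S := by
    have hn : P ≤ normalizer (S : Set G) :=
      (le_centralizer_iff.mp hSC).trans (centralizer_le_normalizer _)
    exact le_sup_right.trans (hS.eq_of_le (isPGroup_of_prime_dvd fun t ht hd => by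
      rcases ht.dvd_mul.mp (hd.trans (card_sup_dvd hn)) with h | h
      · exact prime_dvd_pgroup_card hS.2.1 ht h
      · exact prime_dvd_pgroup_card hPp ht h) le_top (le_sup_left : S ≤ S ⊔ P)).ge
  have hSab : S ≤ centralizer (S : Set G) := fun a ha => mem_centralizer_iff.mpr fun b hb =>
    congrArg Subtype.val ((IsCyclic.isMulCommutative (α := S)).is_comm.comm ⟨b, hb⟩ ⟨a, ha⟩)
  set N := normalizer (S : Set G) with hN
  have hNN : N ≤ normalizer (P : Set G) := normalizer_le_of_le_cyclic hScyc hPS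
  have hNH : N ≤ H := hNN.trans hNP
  have hSH : S ≤ H := le_normalizer.trans hNH
  have hN' : ⁅N, N⁆ ≤ centralizer (S : Set G) := derived_normalizer_cyclic hScyc
  -- a `p'`-group fixing `P` pointwise centralizes `S`
  have hp2 : p ≠ 2 := prime_ne_two_of_pgroup hG hPp hP1
  have hfixS : ∀ A : Subgroup G, A ≤ N → (Nat.card A).Coprime p → A ≤ C₁ →
      A ≤ centralizer (S : Set G) := by
    intro A hA hcop hAC
    refine le_centralizer_of_fixes_order_p hp2 hS.2.1 hA hcop fun x hx hxp a ha => ?_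
    have hxP : x ∈ P := by
      rcases eq_or_ne x 1 with rfl | hx1
      · exact one_mem P
      exact (eq_of_isCyclic_card hScyc (zpowers_le.mpr hx) hPS
        (by rw [Nat.card_zpowers, orderOf_eq_prime hxp hx1]) hP).le (mem_zpowers x)
    rw [← mem_centralizer_iff.mp (hAC ha) x hxP, mul_inv_cancel_right]
  have hRC : R ≤ centralizer (S : Set G) :=
    hfixS R hRS (by rw [hR]; exact (Nat.coprime_primes hr.out hp.out).mpr hrp) hRP
  set D := N ⊓ centralizer (R : Set G) with hD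
  have hDC : ¬ D ≤ centralizer (S : Set G) := by
    intro hle
    have hRN : R ≤ normalizer ((⁅N, N⁆ : Subgroup G) : Set G) := hRS.trans fun g hg => by
      rw [← conjMap_eq_self_iff]
      show Subgroup.map _ _ = _
      rw [map_commutator]
      exact congrArg₂ _ (conjMap_eq_self_iff.mpr (le_normalizer hg))
        (conjMap_eq_self_iff.mpr (le_normalizer hg))
    have hsyl : SylowIn r R (⁅N, N⁆ ⊔ R) := by
      refine ⟨le_sup_right, hRp, fun hd => ?_⟩
      have h1 := card_sup_dvd hRN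
      rw [← CfsgLib.Coprime.card_mul_relIndex (le_sup_right : R ≤ ⁅N, N⁆ ⊔ R), mul_comm _ (Nat.card R)]
        at h1
      exact hrτ.2.2.2.1 ((hd.trans ((Nat.mul_dvd_mul_iff_left Nat.card_pos).mp h1)).trans
        (card_dvd_of_le (commutator_mono hNH hNH)))
    have hall : N ≤ centralizer (S : Set G) := by
      intro n hn
      have hnR : conjMap n R ≤ ⁅N, N⁆ ⊔ R := by
        rintro _ ⟨a, ha, rfl⟩
        show n * a * n⁻¹ ∈ _
        rw [show n * a * n⁻¹ = ⁅n, a⁆ * a by rw [commutatorElement_def]; group]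
        exact mul_mem (mem_sup_left (commutator_mem_commutator hn (hRS ha))) (mem_sup_right ha)
      obtain ⟨k, hk, hkR⟩ := hsyl.exists_conj_eq
        (hsyl.of_card_le (hRp.map _) hnR (card_conjMap n R).ge)
      have hkC : k ∈ centralizer (S : Set G) := sup_le hN' hRC hk
      have hkN : k ∈ N := sup_le (commutator_le_self N) hRS hk
      have hmem : k * n ∈ normalizer (R : Set G) := by
        rw [← conjMap_eq_self_iff, ← conjMap_conjMap, hkR]
      have hD' : k * n ∈ D := mem_inf.mpr ⟨mul_mem hkN hn, mem_centralizer_iff.mpr fun b hb => by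
        rw [SetLike.mem_coe] at hb
        have h1 : ⁅k * n, b⁆ ∈ R ⊓ ⁅H, H⁆ := mem_inf.mpr ⟨by
          rw [commutatorElement_def]
          exact mul_mem ((mem_normalizer_iff.mp hmem b).mp hb) (inv_mem hb),
          commutator_mem_commutator (hNH (mul_mem hkN hn)) (hRH hb)⟩
        rw [inf_derived_eq_bot hG hRH (fun t ht htd =>
          (prime_dvd_pgroup_card hRp ht htd) ▸ hrτ), mem_bot,
          commutatorElement_eq_one_iff_mul_comm] at h1
        exact h1.symm⟩
      rw [show n = k⁻¹ * (k * n) by group]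
      exact mul_mem (inv_mem hkC) (hle hD')
    refine hP1 (le_bot_iff.mp (hPS.trans ((sylow_le_commutator_normalizer hG hS).trans ?_)))
    rw [commutator_eq_bot_iff_le_centralizer.mpr (le_centralizer_iff.mp hall)]
  obtain ⟨n, hn, hnC⟩ := SetLike.not_le_iff_exists.mp hDC
  obtain ⟨z, hzn, s, k, hs, hzo, hzC⟩ : ∃ z ∈ zpowers n, ∃ (s k : ℕ), s.Prime ∧
      orderOf z = s ^ k ∧ z ∉ centralizer (S : Set G) := by
    by_contra hno
    push Not at hno
    exact hnC (CfsgLib.StructB.mem_of_forall_primePow _ n fun x hx t j ht _ hxo _ => hno x hx t j ht hxo)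
  haveI : Fact s.Prime := ⟨hs⟩
  obtain ⟨hzN, hzR⟩ := mem_inf.mp (zpowers_le.mpr hn hzn)
  set Z := zpowers z with hZ
  have hZN : Z ≤ N := zpowers_le.mpr hzN
  have hZp : IsPGroup s Z := IsPGroup.of_card (n := k) (by rw [hZ, Nat.card_zpowers, hzo])
  have hsp : s ≠ p := by
    rintro rfl
    refine hzC (hSab ?_)
    exact (hS.eq_of_le (isPGroup_of_prime_dvd fun t ht hd => by
      rcases ht.dvd_mul.mp (hd.trans (card_sup_dvd hZN)) with h | h
      · exact prime_dvd_pgroup_card hS.2.1 ht h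
      · exact prime_dvd_pgroup_card hZp ht h) le_top (le_sup_left : S ≤ S ⊔ Z)).ge
      (mem_sup_right (mem_zpowers z))
  have hSσ : S ≤ Cfsg.sigmaCore H := le_sigmaCore_of_pi hG hH hSH fun t ht hd =>
    (prime_dvd_pgroup_card hS.2.1 ht hd) ▸ hpH
  have hSd : S ≤ ⁅H, H⁆ := hSσ.trans (sigmaCore_le_derived hG hH)
  have hsσ : s ∉ Cfsg.sigma H := by
    intro hσ
    apply hzC
    have hzσ : Z ≤ Cfsg.sigmaCore H := le_sigmaCore_of_pi hG hH (hZN.trans hNH) fun t ht hd =>
      (prime_dvd_pgroup_card hZp ht hd) ▸ hσ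
    by_cases hsb : s ∈ Cfsg.beta H
    · set B := Cfsg.piCoreOf (Cfsg.beta H) H with hB
      have hBH : B ≤ H := map_subtype_le _
      have hBn : H ≤ normalizer (B : Set G) := by
        refine (normal_subgroupOf_iff_le_normalizer hBH).mp ?_
        rw [hB, Cfsg.piCoreOf, subgroupOf, comap_map_eq_self_of_injective H.subtype_injective]
        infer_instance
      have hBhall : Cfsg.IsPiHallOf (Cfsg.beta H) B H := (Cfsg.Agent.S1414.result hG H hH).1
      have hZB : Z ≤ B := fun x hx => by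
        refine CfsgLib.Solvable.mem_of_coprime_relIndex
          ((normal_subgroupOf_iff_le_normalizer hBH).mpr hBn) (hNH (hZN hx)) ?_
        refine coprime_of_forall fun t ht h1 h2 => ?_
        have hts := prime_dvd_pgroup_card hZp ht (h1.trans (orderOf_dvd_natCard Z hx))
        exact hBhall.2.2 t ht (hts ▸ hsb) h2
      have hbot : S ⊓ B = ⊥ := CfsgLib.Coprime.inf_eq_bot_of_coprime (coprime_of_forall fun t ht h1 h2 =>
        hpb ((prime_dvd_pgroup_card hS.2.1 ht h1) ▸ hBhall.2.1 t ht h2))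
      refine le_centralizer_iff.mp (commutator_eq_bot_iff_le_centralizer.mp (le_bot_iff.mp (hbot ▸ ?_)))
        (mem_zpowers z)
      exact le_inf (le_normalizer_iff_commutator_le_left.mp hZN)
        ((commutator_mono le_rfl hZB).trans (le_normalizer_iff_commutator_le_right.mp (hSH.trans hBn)))
    · exact le_centralizer_of_not_beta hG hH hZp hS.2.1 hsp hZN
        (hzσ.trans (sigmaCore_le_derived hG hH)) hSd hsb hpb (mem_zpowers z)
  have hlt : ∀ x ∈ N, orderOf x = s → x ∉ C₁ → s < p := by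
    intro x hx hxo hxC
    have h := dvd_pred_of_line (r := s) (h := x) hP
      (IsPGroup.of_card (n := 1) (by rw [Nat.card_zpowers, hxo, pow_one])) (hNN hx) fun hle =>
        hxC (mem_centralizer_iff.mpr fun b hb => mem_centralizer_singleton_iff.mp (hle hb))
    have h1 : 1 % s = 1 := Nat.mod_eq_of_lt hs.one_lt
    rw [h1] at h
    by_contra hlt'
    rcases lt_or_eq_of_le (not_lt.mp hlt') with hlt'' | heq
    · rw [Nat.mod_eq_of_lt hlt''] at h
      exact hp.out.ne_one h
    · exact hsp heq.symm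
  suffices hx : ∃ x, x ∈ D ∧ orderOf x = s ∧ x ∉ C₁ by
    obtain ⟨x, hxD, hxo, hxC⟩ := hx
    obtain ⟨hxN, hxR⟩ := mem_inf.mp hxD
    exact ⟨s, zpowers x, hs, hlt x hxN hxo hxC, by rw [Nat.card_zpowers, hxo],
      zpowers_le.mpr (hNH hxN), zpowers_le.mpr hxR, hsσ, fun h => hxC (h (mem_zpowers x))⟩
  by_cases hrk : Cfsg.PRankLE s 1 H
  · -- prime action of `Z` on `H_σ`
    have hZ1 : Z ≠ ⊥ := fun e => hzC (by
      rw [show z = 1 from mem_bot.mp (e ▸ mem_zpowers z)]
      exact one_mem _)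
    obtain ⟨x, hxZ, hxo⟩ := exists_order_p hZp hZ1
    have hxD : x ∈ D := zpowers_le.mpr (mem_inf.mpr ⟨hzN, hzR⟩) hxZ
    refine ⟨x, hxD, hxo, fun hxC => hzC ?_⟩
    have hxS : zpowers x ≤ centralizer (S : Set G) := hfixS _ (zpowers_le.mpr hxD.1)
      (by rw [Nat.card_zpowers, hxo]; exact (Nat.coprime_primes hs hp.out).mpr hsp)
      (zpowers_le.mpr hxC)
    have h1 : S ≤ Cfsg.sigmaCore H ⊓ centralizer ({x} : Set G) := le_inf hSσ (by
      rw [← centralizer_zpowers_eq]
      exact le_centralizer_iff.mp hxS)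
    rw [prime_action_cyclic hG hH hsσ hrk hZp (hZN.trans hNH) hxZ
      fun e => hs.ne_one (by rw [← hxo, e, orderOf_one])] at h1
    exact le_centralizer_iff.mp (h1.trans inf_le_right) (mem_zpowers z)
  · -- a line of the square of a complement commuting with `R`
    have hsτ : s ∈ Cfsg.tau2 H := ⟨hs, hsσ, prankLE_two_of_not_sigma hG hH hsσ, hrk⟩
    obtain ⟨F, hF, hRF⟩ := exists_compl_ge hG hH hRH
      fun t ht hd => (prime_dvd_pgroup_card hRp ht hd) ▸ hrτ.2.1
    obtain ⟨B, B₀, hBF, hexc⟩ := tau2_square hG hH hF hsτ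
    have hSn : H ≤ N := sylow_le_normalizer_of_nilpotent hG hH (hexc.nilpotent hG hH)
      (sylowIn_of_le hS hSσ le_top)
    have hBN : B ≤ N := hexc.le.trans hSn
    have hRB : R ≤ normalizer (B : Set G) := hRF.trans (hexc.compl_le_normalizer hG hH hF hBF)
    have hrs : r ≠ s := fun e => hrk (e ▸ hrτ.2.2.2.2)
    have hcopRB : (Nat.card R).Coprime (Nat.card B) := coprime_pgroup hRp hexc.sq.isPGroup hrs
    have hBC : ¬ B ⊓ centralizer (R : Set G) ≤ C₁ := by
      intro hle
      have hBC1 : B ≤ C₁ := by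
        refine (CfsgLib.Coprime.commutator_sup_centralizer hRB hcopRB
          (Or.inl (isSolvable_of_le_max hG hH hRH))).ge.trans (sup_le ?_ hle)
        haveI : IsCyclic P := isCyclic_of_le hPS
        exact (commutator_mono (hBN.trans hNN) (hRP.trans (centralizer_le_normalizer _))).trans
          (derived_normalizer_cyclic inferInstance)
      have hBS : B ≤ centralizer (S : Set G) := hfixS B hBN
        (by rw [hexc.sq.2]; exact Nat.Coprime.pow_left _ ((Nat.coprime_primes hs hp.out).mpr hsp)) hBC1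
      exact hP1 (le_bot_iff.mp ((hPS.trans (le_inf hSσ (le_centralizer_iff.mp hBS))).trans
        (hexc.centralizer_eq_bot hG hH).le))
    obtain ⟨b, hb, hbC⟩ := SetLike.not_le_iff_exists.mp hBC
    obtain ⟨hbB, hbR⟩ := mem_inf.mp hb
    exact ⟨b, mem_inf.mpr ⟨hBN hbB, hbR⟩,
      orderOf_eq_prime (hexc.sq.1.2 b hbB) (fun e => hbC (e ▸ one_mem _)), hbC⟩

/-- A failure of `C_{M_σ}(P) ≤ C(R)` yields a maximal subgroup where `R` has a smaller mover. -/
theorem exists_failure_step (hM : IsCoatom M) {p r : ℕ} [hp : Fact p.Prime] [hr : Fact r.Prime]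
    (hpτ : p ∈ Cfsg.tau1 M) {P R : Subgroup G} (hPM : P ≤ M) (hP : Nat.card P = p) (hRM : R ≤ M)
    (hR : Nat.card R = r) (hRP : R ≤ centralizer (P : Set G)) (hrσ : r ∉ Cfsg.sigma M)
    (hfail : ¬ Cfsg.sigmaCore M ⊓ centralizer (P : Set G) ≤ centralizer (R : Set G)) :
    ∃ (H : Subgroup G) (s : ℕ) (X : Subgroup G), IsCoatom H ∧ r ∈ Cfsg.tau1 H ∧ s.Prime ∧ s < p ∧
      Nat.card X = s ∧ R ≤ H ∧ X ≤ H ∧ X ≤ centralizer (R : Set G) ∧ s ∉ Cfsg.sigma H ∧
      P ≤ Cfsg.sigmaCore H ∧ ¬ X ≤ centralizer (P : Set G) := by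
  obtain ⟨-, hpσ, -, -, hpr⟩ := id hpτ
  have hPp := isPGroup_of_card_prime hP
  have hRp := isPGroup_of_card_prime hR
  set Y := Cfsg.sigmaCore M ⊓ centralizer (P : Set G) with hY
  have hYn : R ≤ normalizer (Y : Set G) :=
    CfsgLib.Comp.le_normalizer_inf (hRM.trans (le_normalizer_sigmaCore M))
      (CfsgLib.Comp.le_normalizer_centralizer (hRP.trans (centralizer_le_normalizer _)))
  have hYπ : ∀ t : ℕ, t.Prime → t ∣ Nat.card Y → t ∈ Cfsg.sigma M := fun t ht hd =>
    mem_sigma_of_dvd_sigmaCore ht (hd.trans (card_dvd_of_le inf_le_left))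
  have hcopY : (Nat.card R).Coprime (Nat.card Y) := coprime_of_forall fun t ht h1 h2 =>
    hrσ ((prime_dvd_pgroup_card hRp ht h1) ▸ hYπ t ht h2)
  have hRsol : Group.IsSolvable R := isSolvable_of_le_max hG hM hRM
  obtain ⟨q, hq, V, hV, hV1, hVn, hVC⟩ : ∃ q, q.Prime ∧ ∃ V : Subgroup G, SylowIn q V Y ∧ V ≠ ⊥ ∧
      R ≤ normalizer (V : Set G) ∧ ¬ V ≤ centralizer (R : Set G) := by
    by_contra hno
    push Not at hno
    exact hfail (le_of_inv_sylows hYn hcopY (Or.inl hRsol) fun q hq V hV hV1 hVn =>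
      hno q hq V hV hV1 hVn)
  haveI : Fact q.Prime := ⟨hq⟩
  have hqM : q ∈ Cfsg.sigma M :=
    hYπ q hq ((dvd_card_of_pgroup_ne_bot hV.2.1 hV1).trans (card_dvd_of_le hV.1))
  have hpq : p ≠ q := fun e => hpσ (e ▸ hqM)
  have hrq : r ≠ q := fun e => hrσ (e ▸ hqM)
  set Q := ⁅V, R⁆ with hQdef
  have hcopV : (Nat.card R).Coprime (Nat.card V) := hcopY.coprime_dvd_right (card_dvd_of_le hV.1)
  have hQR : ⁅Q, R⁆ = Q := CfsgLib.Coprime.commutator_commutator_eq hVn hcopV (Or.inl hRsol)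
  have hQY : Q ≤ Y := (le_normalizer_iff_commutator_le_left.mp hVn).trans hV.1
  have hQ : IsPGroup q Q := hV.2.1.to_le (le_normalizer_iff_commutator_le_left.mp hVn)
  have hQ1 : Q ≠ ⊥ := fun e => hVC (commutator_eq_bot_iff_le_centralizer.mp e)
  have hQM : Q ≤ M := hQY.trans (inf_le_left.trans (sigmaCore_le M))
  have hQP : Q ≤ centralizer (P : Set G) := hQY.trans inf_le_right
  have hRQ : R ≤ normalizer (Q : Set G) := Subgroup.normalizer_commutator_ge_right V R
  obtain ⟨H, hH, hNH⟩ := (eq_top_or_exists_le_coatom (normalizer (P : Set G))).resolve_left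
    (minSimple_normalizer_ne_top hG (ne_bot_of_card_prime hP) fun h => hM.1 (top_le_iff.mp (h ▸ hPM)))
  have hnc := not_conj_of_normalizer_le hG hM hpσ hpr hH hP hNH
  have hPH : P ≤ H := le_normalizer.trans hNH
  have hQH : Q ≤ H := hQP.trans ((centralizer_le_normalizer _).trans hNH)
  have hRH : R ≤ H := hRP.trans ((centralizer_le_normalizer _).trans hNH)
  have hrτ : r ∈ Cfsg.tau1 H := tau1_of_act hG hM hH hnc hqM hrq hR hRH hQ hQH hRQ hQR hQ1
  have hrp : r ≠ p := by
    rintro rfl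
    have hsup : IsPGroup r ↥(P ⊔ R) := isPGroup_of_prime_dvd fun t ht hd => by
      rcases ht.dvd_mul.mp (hd.trans (card_sup_dvd (hRP.trans (centralizer_le_normalizer _)))) with h | h
      · exact prime_dvd_pgroup_card hPp ht h
      · exact prime_dvd_pgroup_card hRp ht h
    have heq : R = P := eq_of_isCyclic_card
      (isCyclic_pgroup_of_prankLE_one hG hsup (sup_le hPM hRM) hpr) le_sup_right le_sup_left hR hP
    refine hQ1 (hQR ▸ commutator_eq_bot_iff_le_centralizer.mpr ?_)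
    rw [heq]
    exact hQP
  by_cases hpH : p ∈ Cfsg.sigma H
  swap
  · exfalso
    obtain ⟨⟨-, hr2⟩, hid, -⟩ := Cfsg.Agent.S1409.result hG H hH p hpH P hP hNH
    -- `A` normalizes `Q`
    have hqσ : q ∉ Cfsg.sigma H := by
      intro h'
      obtain ⟨A, hAH, hA⟩ := exists_sq_le_of_not_prankLE le_rfl hr2
      obtain ⟨A₀, hexc⟩ := exists_exc hG hH hpH hA hAH
      obtain ⟨g, hg⟩ := eq_conj_of_nilpotent hG hH (hexc.nilpotent hG hH) hM h' hqM
      exact hnc g hg.symm
    have hn : P ≤ normalizer ((Q ⊔ R : Subgroup G) : Set G) :=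
      (le_centralizer_iff.mp (sup_le hQP hRP)).trans (centralizer_le_normalizer _)
    obtain ⟨F, hF, hQRF⟩ := exists_compl_ge hG hH (sup_le (sup_le hQH hRH) hPH : Q ⊔ R ⊔ P ≤ H)
      fun t ht hd => by
        rcases ht.dvd_mul.mp (hd.trans (card_sup_dvd hn)) with h | h
        · rcases ht.dvd_mul.mp (h.trans (card_sup_dvd hRQ)) with h | h
          · exact (prime_dvd_pgroup_card hQ ht h) ▸ hqσ
          · exact (prime_dvd_pgroup_card hRp ht h) ▸ hrτ.2.1
        · exact (prime_dvd_pgroup_card hPp ht h) ▸ hpH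
    obtain ⟨A, A₀, hAF, hexc⟩ := tau2_square hG hH hF
      (⟨hp.out, hpH, prankLE_two_of_not_sigma hG hH hpH, hr2⟩ : p ∈ Cfsg.tau2 H)
    have hPA : IsLine p A P := by
      refine ⟨?_, hP⟩
      obtain ⟨T, hT, hAT⟩ := exists_sylowIn_le hexc.sq.isPGroup hAF
      obtain ⟨f, hf, hfT⟩ := hT.exists_conj_le hPp (le_sup_right.trans hQRF)
      have hn := hexc.compl_le_normalizer hG hH hF hAF hf
      have hΩ := (hexc.sylow_abelian hG hH (sylowIn_of_compl hG hH hF hpH hT) hAT).2.1
      intro a ha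
      have h1 : f * a * f⁻¹ ∈ A := (hΩ _ (hfT (conj_mem_conjMap ha))).mp (by
        rw [conj_pow, show a ^ p = 1 by
          rw [← orderOf_dvd_iff_pow_eq_one, ← hP]; exact orderOf_dvd_natCard P ha]
        group)
      exact (mem_normalizer_iff.mp hn a).mpr h1
    have hAQ : Q ≤ centralizer (A : Set G) := by
      have hQRA : Q ⊔ R ≤ normalizer (A : Set G) :=
        (le_sup_left.trans hQRF).trans (hexc.compl_le_normalizer hG hH hF hAF)
      obtain ⟨Z, hZ, hZP, -⟩ := hexc.sq.exists_line_ne' hPA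
      obtain ⟨C, -, hCA, hCd, hCs, hHC⟩ := exists_invariant_factor_in (H := Q ⊔ R) (V := A)
        (W := ⊥) (K := P) (C₀ := Z) hexc.sq.comm hQRA
        (by rw [normalizer_eq_top]; exact le_top)
        ((sup_le hQP hRP).trans (centralizer_le_normalizer _)) hPA.1 hZ.1
        (IsLine.inf_eq_bot hZ hPA hZP) (IsLine.sup_eq hexc.sq hZ hPA hZP) bot_le
        (by
          rw [hP]
          refine ((hp.out.coprime_iff_not_dvd.mpr fun hd => ?_)).symm
          rcases hp.out.dvd_mul.mp (hd.trans (card_sup_dvd hRQ)) with h | h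
          · exact hpq (prime_dvd_pgroup_card hQ hp.out h)
          · exact hrp (prime_dvd_pgroup_card hRp hp.out h).symm)
      have hn : P ≤ normalizer (C : Set G) := hPA.1.trans ((hexc.sq.le_centralizer.trans
        (Subgroup.centralizer_le hCA)).trans (centralizer_le_normalizer _))
      have hCc : Nat.card C = p := Nat.eq_of_mul_eq_mul_right hp.out.pos (by
        rw [← sq, ← hexc.sq.2, ← hCs,
          CfsgLib.Coprime.card_sup_of_inf_eq_bot hn (inf_comm C P ▸ hCd), hP])
      haveI : IsCyclic C := isCyclic_of_prime_card hCc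
      have hQC : Q ≤ centralizer (C : Set G) := hQR.ge.trans
        ((commutator_mono (le_sup_left.trans hHC) (le_sup_right.trans hHC)).trans
          (derived_normalizer_cyclic inferInstance))
      refine le_centralizer_iff.mp ?_
      rw [← hCs]
      exact sup_le (le_centralizer_iff.mp hQC) (le_centralizer_iff.mp hQP)
    exact false_of_square_centralizer hG hM hpq hpr hqM hid hexc.sq hPA hPM hQ hQ1 hQM
      ((le_centralizer_iff.mp hAQ).trans (centralizer_le_normalizer _)) hRQ hQR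
  by_cases hpb : p ∈ Cfsg.beta H
  · exact (false_of_beta_act hG hM hH hnc hpτ hpb hqM hrτ hrq hPM hPH hP hR hRH hRP hQ hQ1 hQM hQP
      hRQ hQR).elim
  have hPσ : P ≤ Cfsg.sigmaCore H := le_sigmaCore_of_pi hG hH hPH fun t ht hd =>
    (prime_dvd_pgroup_card hPp ht hd) ▸ hpH
  by_cases hr1 : Cfsg.PRankLE p 1 H
  · obtain ⟨s, X, hs, hsp, hX, hXH, hXR, hsσ, hXP⟩ :=
      exists_smaller_mover hG hH hpH hpb hr1 hP hPH hNH hR hRP hrτ
    exact ⟨H, s, X, hH, hrτ, hs, hsp, hX, hRH, hXH, hXR, hsσ, hPσ, hXP⟩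
  exfalso
  -- a square through `P` centralizing `Q`
  have hqb : q ∉ Cfsg.beta H := fun h => by
    obtain ⟨g, hg⟩ := eq_conj_of_alpha hG hM hH hqM h.1
    exact hnc g hg
  have hPd : P ≤ ⁅H, H⁆ := hPσ.trans (sigmaCore_le_derived hG hH)
  have hQd : Q ≤ ⁅H, H⁆ := hQR.ge.trans (commutator_mono hQH hRH)
  have hn : P ≤ normalizer (Q : Set G) :=
    (le_centralizer_iff.mp hQP).trans (centralizer_le_normalizer _)
  obtain ⟨K, hK, -, hQK⟩ := CfsgLib.Coprime.exists_invariant_hall_ge (A := (⊥ : Subgroup G)) bot_le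
    (by rw [Subgroup.card_bot]; exact Nat.coprime_one_left _)
    (isSolvable_of_le_max hG hH (commutator_le_self H)) (sup_le hQd hPd : Q ⊔ P ≤ ⁅H, H⁆) bot_le
    (π := {t | t.Prime ∧ t ∉ Cfsg.beta H}) fun t ht hd => by
      refine ⟨ht, ?_⟩
      rcases ht.dvd_mul.mp (hd.trans (card_sup_dvd hn)) with h | h
      · exact (prime_dvd_pgroup_card hQ ht h) ▸ hqb
      · exact (prime_dvd_pgroup_card hPp ht h) ▸ hpb
  have hnil : Group.IsNilpotent K := nilpotent_of_not_beta hG hH hK.1 fun t ht hd => (hK.2.1 t ht hd).2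
  obtain ⟨T, hT, hPT⟩ := exists_sylowIn_le hPp (le_sup_right.trans hQK)
  have hσH : Cfsg.sigmaCore H ≤ ⁅H, H⁆ := sigmaCore_le_derived hG hH
  have hTH : SylowIn p T H := by
    refine ⟨(hT.1.trans hK.1).trans (commutator_le_self H), hT.2.1, fun hd => ?_⟩
    rw [← relIndex_mul_relIndex _ _ _ (hT.1.trans hK.1) (commutator_le_self H),
      ← relIndex_mul_relIndex _ _ _ hT.1 hK.1] at hd
    rcases hp.out.dvd_mul.mp hd with h | h
    · exact (hp.out.dvd_mul.mp h).elim hT.2.2 (hK.2.2 p hp.out ⟨hp.out, hpb⟩)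
    · exact (sigmaCore_hall hG hH).2.2 p hp.out hpH (h.trans (relIndex_dvd_of_le_left H hσH))
  have hTnc : ¬ IsCyclic T := by
    intro hc
    obtain ⟨A, hAH, hA⟩ := exists_sq_le_of_not_prankLE le_rfl hr1
    obtain ⟨g, -, hg⟩ := hTH.exists_conj_le hA.isPGroup hAH
    haveI := hc
    exact (hA.conjMap g).not_isCyclic (isCyclic_of_le hg)
  obtain ⟨a, ha, hao⟩ := exists_order_p hPp (ne_bot_of_card_prime hP)
  obtain ⟨A, hAT, hA, haA⟩ := exists_sq_mem (prime_ne_two_of_pgroup hG hPp (ne_bot_of_card_prime hP))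
    hT.2.1 hTnc (hPT ha) hao
  have hPA : IsLine p A P := by
    refine ⟨?_, hP⟩
    rw [← zpowers_eq_of_card_prime hP ha fun e => hp.out.ne_one (by rw [← hao, e, orderOf_one])]
    exact zpowers_le.mpr haA
  have hid : ¬ Cfsg.IsIdealPrime p G := fun hid => hpb ⟨⟨hp.out, fun h2 => by
    obtain ⟨E, -, hE, hlt⟩ := not_prankLE_iff.mp
      (show ¬ Cfsg.PRankLE p 2 (⊤ : Subgroup G) from fun h' => hid.2.1 (by
        intro E hE1 hE2
        exact elemAb_card_le (H := (⊤ : Subgroup G)) ⟨hE1, hE2⟩ le_top h'))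
    obtain ⟨g, -, hg⟩ := (sylowIn_top hpH hTH).exists_conj_le (elemAb_isPGroup hE) le_top
    exact not_prankLE_iff.mpr ⟨_, hg.trans hTH.1, elemAb_map (MulAut.conj g).toMonoidHom hE,
      by rwa [card_conjMap]⟩ h2⟩, hid⟩
  have hAQ : A ≤ centralizer (Q : Set G) := hAT.trans (le_centralizer_of_nilpotent hnil hT.1
    (le_sup_left.trans hQK) (coprime_pgroup hT.2.1 hQ hpq))
  exact false_of_square_centralizer hG hM hpq hpr hqM hid hA hPA hPM hQ hQ1 hQM
    (hAQ.trans (centralizer_le_normalizer _)) hRQ hQR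

/-- `C_{M_σ}(P) ≤ C(R)` for `|P| = p ∈ τ₁(M)`, `R ≤ C_M(P)` of prime order outside `σ(M)`. -/
theorem centralizer_tau1_le (hM : IsCoatom M) {p r : ℕ} [hp : Fact p.Prime] [hr : Fact r.Prime]
    (hpτ : p ∈ Cfsg.tau1 M) {P R : Subgroup G} (hPM : P ≤ M) (hP : Nat.card P = p) (hRM : R ≤ M)
    (hR : Nat.card R = r) (hRP : R ≤ centralizer (P : Set G)) (hrσ : r ∉ Cfsg.sigma M) :
    Cfsg.sigmaCore M ⊓ centralizer (P : Set G) ≤ centralizer (R : Set G) := by
  induction p using Nat.strong_induction_on generalizing M P R r with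
  | _ p ih =>
  by_contra hfail
  haveI : Fact p.Prime := ⟨hpτ.1⟩
  obtain ⟨H, s, X, hH, hrH, hs, hsp, hX, hRH, hXH, hXR, hsσ, hPσ, hXP⟩ :=
    exists_failure_step hG hM hpτ hPM hP hRM hR hRP hrσ hfail
  haveI : Fact s.Prime := ⟨hs⟩
  have hfail' : ¬ Cfsg.sigmaCore H ⊓ centralizer (R : Set G) ≤ centralizer (X : Set G) := fun h =>
    hXP (le_centralizer_iff.mp ((le_inf hPσ (le_centralizer_iff.mp hRP)).trans h))
  obtain ⟨L, t, Y, hL, hsL, ht, -, hY, hXL, hYL, hYX, htσ, hRσ, hYR⟩ :=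
    exists_failure_step hG hH hrH hRH hR hXH hX hXR hsσ hfail'
  haveI : Fact t.Prime := ⟨ht⟩
  exact hYR (le_centralizer_iff.mp ((le_inf hRσ (le_centralizer_iff.mp hXR)).trans
    (ih s hsp hL hsL hXL hX hYL hY hYX htσ)))

end CfsgLib.BG
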