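import Cfsg.Agent.Lib.BG.Tools
import Cfsg.Agent.Lib.Transfer.Focal
import Cfsg.Agent.Lib.OddLocal.FittingHall
import Cfsg.Agent.Lib.Solvable.Fitting
import Cfsg.Agent.Lib.Coprime.Hall

/-!
# Sylow subgroups at primes of `σ(M)`
-/

set_option autoImplicit false
set_option linter.style.haveILetI false

namespace CfsgLib.BG

open Subgroup CfsgLib.PLocal CfsgLib.OddLocal
open scoped commutatorElement

universe u
variable {G : Type u} [Group G]

theorem sylowIn_map {p : ℕ} [Fact p.Prime] [Finite G] {H : Subgroup G} (P : Sylow p H) :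
    SylowIn p ((P : Subgroup H).map H.subtype) H :=
  ⟨map_subtype_le _, P.2.map _, CfsgLib.Fusion.not_dvd_relIndex_of_sylow P⟩

theorem sigmaCore_le (M : Subgroup G) : Cfsg.sigmaCore M ≤ M := map_subtype_le _

theorem le_normalizer_sigmaCore [Finite G] (M : Subgroup G) :
    M ≤ normalizer (Cfsg.sigmaCore M : Set G) :=
  le_normalizer.trans (le_normalizer_piCoreOf (Cfsg.sigma M) M)

theorem mem_sigma_of_dvd_sigmaCore [Finite G] {M : Subgroup G} {p : ℕ} (hp : p.Prime)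
    (h : p ∣ Nat.card (Cfsg.sigmaCore M)) : p ∈ Cfsg.sigma M :=
  piCoreOf_spec (Cfsg.sigma M) M p hp h

theorem le_sigmaCore {M N : Subgroup G} (hNM : N ≤ M) (hn : M ≤ normalizer (N : Set G))
    (h : ∀ p : ℕ, p.Prime → p ∣ Nat.card N → p ∈ Cfsg.sigma M) : N ≤ Cfsg.sigmaCore M :=
  le_piCoreOf hNM hn h

variable [Finite G] {M : Subgroup G}

theorem normalizer_sylow_le {p : ℕ} [Fact p.Prime] (hp : p ∈ Cfsg.sigma M) {T : Subgroup G}
    (hT : SylowIn p T M) : normalizer (T : Set G) ≤ M := by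
  obtain ⟨-, -, P, hP⟩ := hp
  obtain ⟨k, hk, hkT⟩ := hT.exists_conj_eq (sylowIn_map P)
  intro g hg
  rw [← hkT, ← conjMap_normalizer] at hg
  obtain ⟨y, hy, rfl⟩ := hg
  exact mul_mem (mul_mem hk (hP hy)) (inv_mem hk)

theorem mem_sigma_of_normalizer_le {p : ℕ} [hp : Fact p.Prime] (hpM : p ∣ Nat.card M) {T : Subgroup G}
    (hT : SylowIn p T M) (hN : normalizer (T : Set G) ≤ M) : p ∈ Cfsg.sigma M := by
  obtain ⟨P⟩ : Nonempty (Sylow p M) := inferInstance
  refine ⟨hp.out, hpM, P, ?_⟩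
  obtain ⟨k, hk, hkT⟩ := (sylowIn_map P).exists_conj_eq hT
  intro g hg
  rw [← hkT, ← conjMap_normalizer] at hg
  obtain ⟨y, hy, rfl⟩ := hg
  exact mul_mem (mul_mem hk (hN hy)) (inv_mem hk)

omit [Finite G] in
theorem pgroup_eq_of_sylowIn {p : ℕ} [Fact p.Prime] [Finite G] {T S H : Subgroup G}
    (hT : SylowIn p T H) (hS : IsPGroup p S) (hTS : T ≤ S) (hN : normalizer (T : Set G) ≤ H) :
    T = S := by
  by_contra hne
  obtain ⟨x, hx, hxn, hxT⟩ := CfsgLib.Transfer.exists_mem_normalizer_not_mem hS (lt_of_le_of_ne hTS hne)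
  exact hxT (sylow_le_of_pGroup_ge hT hS hTS ▸ mem_inf.mpr ⟨hx, hN hxn⟩)

theorem sylowIn_top {p : ℕ} [Fact p.Prime] (hp : p ∈ Cfsg.sigma M) {T : Subgroup G}
    (hT : SylowIn p T M) : SylowIn p T ⊤ := by
  obtain ⟨S, hS, hTS⟩ := exists_sylowIn_le hT.2.1 (le_top (a := T))
  rwa [pgroup_eq_of_sylowIn hT hS.2.1 hTS (normalizer_sylow_le hp hT)]

end CfsgLib.BG
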