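import Cfsg.Agent.Lib.BG.SigmaBase
import Cfsg.Agent.S1404

/-!
# Sylow subgroups at primes of `σ(M)` lie in `M'`
-/

set_option autoImplicit false
set_option linter.style.haveILetI false

namespace CfsgLib.BG

open Subgroup CfsgLib.PLocal CfsgLib.OddLocal
open scoped commutatorElement

universe u
variable {G : Type u} [Group G] [Finite G] {M : Subgroup G}
variable (hG : Cfsg.IsMinSimpleOddOrder G) (hM : IsCoatom M)
include hG hM

/-- `M` controls fusion in its σ-Sylow subgroups, hence they lie in `M'`. -/
theorem sylowIn_le_derived {p : ℕ} [hpf : Fact p.Prime] (hp : p ∈ Cfsg.sigma M) {T : Subgroup G}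
    (hT : SylowIn p T M) : T ≤ ⁅M, M⁆ := by
  have htop := sylowIn_top hp hT
  have hidx : ¬ p ∣ T.index := by rw [← relIndex_top_right]; exact htop.2.2
  let P : Sylow p G := htop.2.1.toSylow hidx
  have hPT : (P : Subgroup G) = T := rfl
  have h := CfsgLib.Transfer.commutator_inf_eq_of_controls P (V := M) (hPT ▸ hT.1) fun x hx g hgx => ?_
  · have hcomm : commutator G = ⊤ := by
      refine (minSimple_eq_bot_or_top hG (commutator G)).resolve_left fun h0 => ?_
      refine minSimple_not_commutative hG ⟨⟨fun a b => ?_⟩⟩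
      have := commutator_mem_commutator (mem_top a) (mem_top b)
      rw [← commutator_def, h0, mem_bot] at this
      exact commutatorElement_eq_one_iff_mul_comm.mp this
    rw [hcomm, top_inf_eq, hPT] at h
    exact h.le.trans inf_le_left
  · by_cases hx1 : x = 1
    · exact ⟨1, one_mem M, by subst hx1; group⟩
    obtain ⟨hc, -⟩ := Cfsg.Agent.S1404.result hG M hM p hp (zpowers x)
      ((htop.2.1).to_le (zpowers_le.mpr hx)) (by simpa using hx1) ((zpowers_le.mpr hx).trans hT.1)
    obtain ⟨m, hm, c, hc', rfl⟩ := hc g (by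
      rw [MonoidHom.map_zpowers]
      exact (zpowers_le.mpr hgx).trans hT.1)
    refine ⟨m, hm, ?_⟩
    have hxc : x * c = c * x := mem_centralizer_iff.mp hc' x (mem_zpowers x)
    calc m * x * m⁻¹ = m * (x * c) * c⁻¹ * m⁻¹ := by group
      _ = m * c * x * (m * c)⁻¹ := by rw [hxc]; group

end CfsgLib.BG
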