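import Cfsg.Agent.Lib.BG.SigmaDerived
import Cfsg.Agent.S1405

/-!
# The Hall subgroup `M_σ` of a maximal subgroup `M`
-/

set_option autoImplicit false
set_option linter.style.haveILetI false

namespace CfsgLib.BG

open Subgroup CfsgLib.PLocal CfsgLib.OddLocal
open scoped commutatorElement

universe u
variable {G : Type u} [Group G] [Finite G] {M : Subgroup G}
variable (hG : Cfsg.IsMinSimpleOddOrder G) (hM : IsCoatom M)
include hG hM

/-- `M_σ` is a Hall `σ(M)`-subgroup of `M`. -/
theorem sigmaCore_hall : Cfsg.IsPiHallOf (Cfsg.sigma M) (Cfsg.sigmaCore M) M := by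
  classical
  refine ⟨sigmaCore_le M, fun p hp h => mem_sigma_of_dvd_sigmaCore hp h, fun p hp hpσ hd => ?_⟩
  haveI : Fact p.Prime := ⟨hp⟩
  obtain ⟨-, -, hασ, -, hnil⟩ := Cfsg.Agent.S1405.result hG M hM
  set f := QuotientGroup.mk' (Cfsg.piCore (Cfsg.alpha M) ↥M) with hf
  set N := (commutator ↥M).map f with hN
  haveI : N.Normal := Normal.map inferInstance f (QuotientGroup.mk'_surjective _)
  obtain ⟨T, hT, -⟩ := exists_sylowIn_le (IsPGroup.of_bot (p := p) (G := G)) (bot_le (a := M))
  have hTd : T.subgroupOf M ≤ commutator ↥M := by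
    intro x hx
    have hx' : (x : G) ∈ ⁅M, M⁆ := sylowIn_le_derived hG hM hpσ hT (mem_subgroupOf.mp hx)
    rw [← Subgroup.map_subtype_commutator] at hx'
    obtain ⟨y, hy, hyx⟩ := hx'
    exact (M.subtype_injective hyx) ▸ hy
  -- the image of `T` lies in `O_p` of the nilpotent normal subgroup `N`
  haveI := CfsgLib.Solvable.pCore_characteristic p ↥N
  set O := (Cfsg.pCore p ↥N).map N.subtype with hO
  haveI hOn : O.Normal := CfsgLib.Solvable.map_subtype_normal _
  have hOp : IsPGroup p O := (CfsgLib.Solvable.pCore_isPGroup p).map _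
  have himg : (T.subgroupOf M).map f ≤ O := by
    have hle : (T.subgroupOf M).map f ≤ N := map_mono hTd
    have hpg : IsPGroup p (((T.subgroupOf M).map f).subgroupOf N) :=
      ((hT.2.1.comap_of_injective M.subtype M.subtype_injective).map f).comap_of_injective N.subtype
        N.subtype_injective
    obtain ⟨W, hW⟩ := hpg.exists_le_sylow
    haveI := hnil
    have hWn : (W : Subgroup N).Normal :=
      ((Group.isNilpotent_of_finite_tfae (G := ↥N)).out 0 3 rfl rfl).mp hnil p inferInstance W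
    have := hW.trans (CfsgLib.Solvable.le_pCore hWn W.2)
    have h2 := map_mono (f := N.subtype) this
    rwa [subgroupOf_map_subtype, inf_eq_left.mpr hle] at h2
  have hle : T ≤ Cfsg.sigmaCore M := by
    refine le_trans ?_ (map_mono (f := M.subtype) (le_piCore (π := Cfsg.sigma M) (hOn.comap f) ?_))
    · have := map_mono (f := M.subtype) ((le_comap_map f (T.subgroupOf M)).trans (comap_mono himg))
      rwa [subgroupOf_map_subtype, inf_eq_left.mpr hT.1] at this
    · intro r hr hrd
      have h1 : Nat.card ↥(O.comap f) ∣ Nat.card ↥(Cfsg.piCore (Cfsg.alpha M) ↥M) * Nat.card O := by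
        rw [hf, CfsgLib.Solvable.card_comap_mk']; exact dvd_of_eq (mul_comm _ _)
      rcases hr.dvd_mul.mp (hrd.trans h1) with h2 | h2
      · have h3 : r ∣ Nat.card (Cfsg.alphaCore M) := by
          rwa [Cfsg.alphaCore, card_map_of_injective M.subtype_injective]
        exact mem_sigma_of_dvd_sigmaCore hr (h3.trans (card_dvd_of_le hασ))
      · haveI : Fact r.Prime := ⟨hr⟩
        obtain ⟨n, hn⟩ := IsPGroup.iff_card.mp hOp
        rw [hn] at h2
        exact ((Nat.prime_dvd_prime_iff_eq hr hp).mp (hr.dvd_of_dvd_pow h2)) ▸ hpσ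
  exact hT.2.2 (hd.trans (relIndex_dvd_of_le_left M hle))

theorem sigmaCore_hall_top : Cfsg.IsPiHall (Cfsg.sigma M) (Cfsg.sigmaCore M) := by
  refine ⟨fun p hp h => mem_sigma_of_dvd_sigmaCore hp h, fun p hp hpσ hd => ?_⟩
  haveI : Fact p.Prime := ⟨hp⟩
  obtain ⟨T, hT, -⟩ := exists_sylowIn_le (IsPGroup.of_bot (p := p) (G := G)) (bot_le (a := M))
  have h1 : ¬ p ∣ M.index := by
    intro h
    have := (sylowIn_top hpσ hT).2.2
    rw [relIndex_top_right, ← relIndex_mul_index hT.1] at this
    exact this (dvd_mul_of_dvd_right h _)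
  rw [← relIndex_mul_index (sigmaCore_le M)] at hd
  exact (hp.dvd_mul.mp hd).elim ((sigmaCore_hall hG hM).2.2 p hp hpσ) h1

theorem eq_sigmaCore_of_hall {N : Subgroup G} (hn : M ≤ normalizer (N : Set G))
    (hN : Cfsg.IsPiHallOf (Cfsg.sigma M) N M) : N = Cfsg.sigmaCore M :=
  eq_of_le_of_card_ge (le_sigmaCore hN.1 hn hN.2.1)
    (CfsgLib.Coprime.card_eq_of_isPiHallOf (sigmaCore_hall hG hM) hN).le

end CfsgLib.BG
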