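import Cfsg.Agent.Lib.BG.Tau2Normal
import Cfsg.Agent.S1406

/-!
# Squares `A` of `M`: `C_G(A) ≤ M`, and the case that no line pins `M`
-/

set_option autoImplicit false
set_option linter.style.haveILetI false
set_option linter.unusedSectionVars false

namespace CfsgLib.BG

open Subgroup CfsgLib.PLocal CfsgLib.OddLocal
open scoped commutatorElement

universe u
variable {G : Type u} [Group G] [Finite G] {M L : Subgroup G} {p : ℕ} [hp : Fact p.Prime]
  {A A₀ : Subgroup G}

/-- `M` is the only maximal subgroup over `X`. -/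
def OnlyMax (X M : Subgroup G) : Prop :=
  X ≤ M ∧ ∀ L : Subgroup G, IsCoatom L → X ≤ L → L = M

variable (hG : Cfsg.IsMinSimpleOddOrder G) (hM : IsCoatom M)
include hG hM

theorem onlyMax_of_forall {X : Subgroup G} (hX : X ≠ ⊤)
    (h : ∀ L : Subgroup G, IsCoatom L → X ≤ L → L = M) : OnlyMax X M := by
  obtain ⟨L, hL, hXL⟩ := (eq_top_or_exists_le_coatom X).resolve_left hX
  exact ⟨h L hL hXL ▸ hXL, h⟩

theorem line_normalizer_ne_top (hA : IsSq p A) (hAM : A ≤ M) {X : Subgroup G} (hX : IsLine p A X) :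
    normalizer (X : Set G) ≠ ⊤ :=
  minSimple_normalizer_ne_top hG (ne_bot_of_card_prime hX.2)
    fun h => hM.1 (top_le_iff.mp (h ▸ hX.1.trans hAM))

omit hM in
theorem le_normalizer_line (hA : IsSq p A) {X : Subgroup G} (hX : IsLine p A X) :
    A ≤ normalizer (X : Set G) :=
  (hA.le_centralizer.trans (Subgroup.centralizer_le hX.1)).trans (centralizer_le_normalizer _)

/-- A line `X` with `C_{M_σ}(X) ≠ 1` pins `M`. -/
theorem IsExc.onlyMax_centralizer (h : IsExc p M A A₀) {X : Subgroup G} (hX : IsLine p A X)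
    (h1 : Cfsg.sigmaCore M ⊓ centralizer (X : Set G) ≠ ⊥) :
    OnlyMax (centralizer (X : Set G)) M := by
  refine onlyMax_of_forall hG hM ?_ fun L hL hle => ?_
  · exact fun e => line_normalizer_ne_top hG hM h.sq h.le hX
      (top_le_iff.mp (e ▸ centralizer_le_normalizer _))
  · by_contra hne
    exact h1 (le_bot_iff.mp ((inf_le_inf_left _ hle).trans (h.inf_other hG hM hL hne
      ((h.sq.le_centralizer.trans (Subgroup.centralizer_le hX.1)).trans hle)).le))

theorem IsExc.exists_pin (h : IsExc p M A A₀) :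
    ∃ X, IsLine p A X ∧ OnlyMax (normalizer (X : Set G)) M := by
  obtain ⟨X, hX, h1⟩ := h.sq.exists_line_ne_bot (h.le.trans (le_normalizer_sigmaCore M))
    (not_dvd_sigmaCore hG hM h.not_sigma) (sigmaCore_ne_bot hG hM)
  refine ⟨X, hX, onlyMax_of_forall hG hM (line_normalizer_ne_top hG hM h.sq h.le hX) fun L hL hle => ?_⟩
  exact (h.onlyMax_centralizer hG hM hX h1).2 L hL ((centralizer_le_normalizer _).trans hle)

/-- The `α`-part when no line pins `M`. -/
theorem alpha_empty_of_no_pin (hA : IsSq p A) (hAM : A ≤ M) (hpσ : p ∈ Cfsg.sigma M)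
    (hno : ∀ X, IsLine p A X → ¬ OnlyMax (normalizer (X : Set G)) M) : ∀ q, q ∉ Cfsg.alpha M := by
  have hlink : ∀ X, IsLine p A X → ∃ L, IsCoatom L ∧ L ≠ M ∧ normalizer (X : Set G) ≤ L := by
    intro X hX
    by_contra hnone
    push Not at hnone
    exact hno X hX (onlyMax_of_forall hG hM (line_normalizer_ne_top hG hM hA hAM hX)
      fun L hL hle => by_contra fun hne => hnone L hL hne hle)
  obtain ⟨S, hS, hAS⟩ := exists_sylowIn_le hA.isPGroup hAM
  have hStop := sylowIn_top hpσ hS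
  -- `p ∉ α(M)`
  have hpα : p ∉ Cfsg.alpha M := by
    intro hpa
    haveI : Nontrivial S := nontrivial_iff_ne_bot S |>.mpr fun e => hA.ne_bot (le_bot_iff.mp (e ▸ hAS))
    haveI := hS.2.1.center_nontrivial
    obtain ⟨z, ⟨⟨y, hyc, rfl⟩, hzo⟩⟩ := exists_order_p (P := (center S).map S.subtype)
      ((hS.2.1.to_subgroup _).map S.subtype) (by
        rw [Ne, map_eq_bot_iff_of_injective _ S.subtype_injective]
        exact (nontrivial_iff_ne_bot _).mp inferInstance)
    have hzp : (S.subtype y) ^ p = 1 := hzo ▸ pow_orderOf_eq_one _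
    have hSz : S ≤ centralizer (zpowers (S.subtype y) : Set G) := by
      intro a ha
      rw [mem_centralizer_iff]
      intro z hz
      obtain ⟨k, rfl⟩ := mem_zpowers_iff.mp hz
      exact ((show Commute a (S.subtype y) from
        congrArg Subtype.val (mem_center_iff.mp hyc ⟨a, ha⟩)).zpow_right k).eq.symm
    obtain ⟨E, hEM, hE, hlt⟩ := not_prankLE_iff.mp hpa.2
    obtain ⟨m, hm, hmS⟩ := hS.exists_conj_le (elemAb_isPGroup hE) hEM
    have hE3 : p ^ 3 ≤ Nat.card ↥(conjMap m E) := by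
      rw [card_conjMap]
      obtain ⟨n, hn⟩ := IsPGroup.iff_card.mp (elemAb_isPGroup hE)
      rw [hn] at hlt ⊢
      exact Nat.pow_le_pow_right hp.out.pos ((Nat.pow_lt_pow_iff_right hp.out.one_lt).mp hlt)
    have hEe := elemAb_map (MulAut.conj m).toMonoidHom hE
    by_cases hzA : S.subtype y ∈ A
    · have hX : IsLine p A (zpowers (S.subtype y)) :=
        ⟨zpowers_le.mpr hzA, by rw [Nat.card_zpowers, hzo]⟩
      obtain ⟨L, hL, hne, hle⟩ := hlink _ hX
      exact hne (eq_of_rank_three hG hM hEe hE3 (hmS.trans hS.1) hL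
        (hmS.trans (hSz.trans ((centralizer_le_normalizer _).trans hle))))
    · have hC : A ≤ centralizer (zpowers (S.subtype y) : Set G) := hAS.trans hSz
      have hB := elemAb_sup hA.1 (elemAb_zpowers hzp) hC
      have hB3 : p ^ 3 ≤ Nat.card ↥(A ⊔ zpowers (S.subtype y)) := by
        obtain ⟨n, hn⟩ := IsPGroup.iff_card.mp (elemAb_isPGroup hB)
        have h2 : Nat.card A < Nat.card ↥(A ⊔ zpowers (S.subtype y)) :=
          lt_of_le_of_ne (card_le_of_le le_sup_left) fun e => hzA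
            ((eq_of_le_of_card_ge le_sup_left e.ge).symm ▸ mem_sup_right (mem_zpowers _))
        rw [hA.2, hn] at h2
        rw [hn]
        exact Nat.pow_le_pow_right hp.out.pos ((Nat.pow_lt_pow_iff_right hp.out.one_lt).mp h2)
      obtain ⟨X, hX⟩ := hA.exists_line
      obtain ⟨L, hL, hne, hle⟩ := hlink X hX
      refine hne (eq_of_rank_three hG hM hB hB3 (sup_le hAM (zpowers_le.mpr (hS.1 y.2))) hL
        (sup_le ((le_normalizer_line hG hA hX).trans hle) ?_))
      exact ((le_centralizer_iff.mp hC).trans ((Subgroup.centralizer_le hX.1).trans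
        (centralizer_le_normalizer _))).trans hle
  have hpb : p ∉ Cfsg.beta M := fun h => hpα h.1
  have hAσ : A ≤ Cfsg.sigmaCore M := le_sigmaCore_of_pi hG hM hAM fun t ht htd =>
    (prime_dvd_pgroup_card hA.isPGroup ht htd) ▸ hpσ
  -- `A` centralizes `M_α`
  intro q hqa
  set N := Cfsg.alphaCore M with hN
  obtain ⟨hNhall, -, hNσ, -, -⟩ := Cfsg.Agent.S1405.result hG M hM
  have hNn : M ≤ normalizer (N : Set G) := le_normalizer.trans (le_normalizer_piCoreOf (Cfsg.alpha M) M)
  have hpN : ¬ p ∣ Nat.card N := fun hd => hpα (hNhall.2.1 p hp.out hd)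
  have hsol : Group.IsSolvable A := isSolvable_of_le_max hG hM hAM
  have hAN : N ≤ centralizer (A : Set G) := by
    refine hA.le_of_forall_line (hAM.trans hNn) hpN fun X hX => ?_
    obtain ⟨L, hL, hne, hle⟩ := hlink X hX
    have hAL : A ≤ L := (le_normalizer_line hG hA hX).trans hle
    set T := N ⊓ centralizer (X : Set G) with hT
    have hTn : A ≤ normalizer (T : Set G) := CfsgLib.Comp.le_normalizer_inf (hAM.trans hNn)
      ((hA.le_centralizer.trans (Subgroup.centralizer_le hX.1)).trans le_normalizer)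
    have hcop : (Nat.card A).Coprime (Nat.card T) :=
      (coprime_pgroup_of_not_dvd hA.isPGroup hpN).coprime_dvd_right (card_dvd_of_le inf_le_left)
    refine le_of_inv_sylows hTn hcop (Or.inl hsol) fun r hr R hR hR1 hRn => ?_
    haveI : Fact r.Prime := ⟨hr⟩
    have hrα : r ∈ Cfsg.alpha M := hNhall.2.1 r hr
      ((dvd_card_of_pgroup_ne_bot hR.2.1 hR1).trans (card_dvd_of_le (hR.1.trans inf_le_left)))
    have hrσ := alpha_subset_sigma hG hM hrα
    have hrp : r ≠ p := fun e => hpα (e ▸ hrα)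
    have hRσ : R ≤ Cfsg.sigmaCore M := (hR.1.trans inf_le_left).trans hNσ
    by_cases hrb : r ∈ Cfsg.beta M
    swap
    · exact le_centralizer_iff.mp (le_centralizer_of_not_beta hG hM hA.isPGroup hR.2.1 hrp.symm hRn
        (hAσ.trans (sigmaCore_le_derived hG hM)) (hRσ.trans (sigmaCore_le_derived hG hM)) hpb hrb)
    have hRL : R ≤ L := (hR.1.trans inf_le_right).trans ((centralizer_le_normalizer _).trans hle)
    by_cases hrL : r ∈ Cfsg.sigma L
    · exfalso
      obtain ⟨g, hg⟩ := eq_conj_of_alpha hG hL hM hrL hrα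
      obtain ⟨hfus, -⟩ := Cfsg.Agent.S1404.result hG M hM r hrσ R hR.2.1 hR1 (hRσ.trans (sigmaCore_le M))
      obtain ⟨m, hm, c, hc, hgc⟩ := hfus g⁻¹ (by
        have := conjMap_mono (g := g⁻¹) hRL
        rw [← hg, conjMap_inv_conjMap] at this
        exact this)
      have hgM : g ∈ M := inv_mem_iff.mp (hgc ▸ mul_mem hm
        (centralizer_le_of_beta hG hM hrb hR.2.1 hR1 (hRσ.trans (sigmaCore_le M)) hc))
      exact hne (hg ▸ conjMap_eq_of_mem hgM)
    by_cases hpL : p ∈ Cfsg.sigma L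
    · rw [← commutator_eq_bot_iff_le_centralizer, ← le_bot_iff]
      refine le_trans (le_inf (CfsgLib.Comp.commutator_le_of_le_normalizer hRn) ?_)
        (inf_sigmaCore_eq_bot hG hL (X := R) fun s hs hd =>
          (prime_dvd_pgroup_card hR.2.1 hs hd) ▸ hrL).le
      rw [commutator_comm]
      exact (commutator_mono (le_sigmaCore_of_pi hG hL hAL fun t ht htd =>
        (prime_dvd_pgroup_card hA.isPGroup ht htd) ▸ hpL) hRL).trans
          (CfsgLib.Comp.commutator_le_of_le_normalizer (le_normalizer_sigmaCore L))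
    · obtain ⟨Z, h'⟩ := exists_exc hG hL hpL hA hAL
      exact h'.centralizes_inv hG hL hrp hrL hR.2.1 hRL hRn
  -- but `C_{M_α}(X)` has rank at most one
  obtain ⟨X, hX⟩ := hA.exists_line
  obtain ⟨L, hL, hne, hle⟩ := hlink X hX
  haveI : Fact q.Prime := ⟨hqa.1⟩
  have hr1 : ¬ Cfsg.RankLE 1 ↥(N ⊓ centralizer (X : Set G)) := by
    obtain ⟨E, hEM, hE, hlt⟩ := not_prankLE_iff.mp hqa.2
    obtain ⟨Q, hQ, -⟩ := exists_sylowIn_le (IsPGroup.of_bot (p := q) (G := G)) (bot_le (a := N))
    have hQM : SylowIn q Q M := by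
      refine ⟨hQ.1.trans hNhall.1, hQ.2.1, ?_⟩
      rw [← relIndex_mul_relIndex _ _ _ hQ.1 hNhall.1]
      exact fun hd => ((Fact.out : q.Prime).dvd_mul.mp hd).elim hQ.2.2 (hNhall.2.2 q Fact.out hqa)
    obtain ⟨m, -, hmQ⟩ := hQM.exists_conj_le (elemAb_isPGroup hE) hEM
    refine not_rankLE_of_not_prankLE hqa.1 (not_prankLE_iff.mpr ⟨conjMap m E,
      le_inf (hmQ.trans hQ.1) ((hmQ.trans hQ.1).trans (hAN.trans (Subgroup.centralizer_le hX.1))),
      elemAb_map (MulAut.conj m).toMonoidHom hE, ?_⟩)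
    rw [card_conjMap]
    exact lt_of_le_of_lt (Nat.pow_le_pow_right hqa.1.pos one_le_two) hlt
  have hU := Cfsg.Agent.S1406.result hG M hM X (hX.1.trans hAM)
    (fun t ht htd => (prime_dvd_pgroup_card hX.isPGroup ht htd) ▸ hpα) hr1
  exact hne (hU.unique ⟨hL, inf_le_right.trans ((centralizer_le_normalizer _).trans hle)⟩
    ⟨hM, inf_le_left⟩)

/-- When no line pins `M`: `p ∈ σ(M)`, `M'` is nilpotent and `C_G(A) ≤ M`. -/
theorem no_pin (hA : IsSq p A) (hAM : A ≤ M)
    (hno : ∀ X, IsLine p A X → ¬ OnlyMax (normalizer (X : Set G)) M) :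
    p ∈ Cfsg.sigma M ∧ (∀ q, q ∉ Cfsg.alpha M) ∧ Group.IsNilpotent ↥⁅M, M⁆ ∧
      centralizer (A : Set G) ≤ M := by
  have hpσ : p ∈ Cfsg.sigma M := by
    by_contra hσ
    obtain ⟨A₀, h⟩ := exists_exc hG hM hσ hA hAM
    obtain ⟨X, hX, hpin⟩ := h.exists_pin hG hM
    exact hno X hX hpin
  have hα := alpha_empty_of_no_pin hG hM hA hAM hpσ hno
  have hnil : Group.IsNilpotent ↥⁅M, M⁆ :=
    nilpotent_of_not_beta hG hM le_rfl fun t _ _ h => hα t h.1
  refine ⟨hpσ, hα, hnil, ?_⟩
  have hnilσ : Group.IsNilpotent (Cfsg.sigmaCore M) := isNilpotent_of_le hnil (sigmaCore_le_derived hG hM)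
  obtain ⟨S, hS, hAS⟩ := exists_sylowIn_le hA.isPGroup hAM
  have hAσ : A ≤ Cfsg.sigmaCore M := le_sigmaCore_of_pi hG hM hAM fun t ht htd =>
    (prime_dvd_pgroup_card hA.isPGroup ht htd) ▸ hpσ
  have hSσ : S ≤ Cfsg.sigmaCore M := le_sigmaCore_of_pi hG hM hS.1 fun t ht htd =>
    (prime_dvd_pgroup_card hS.2.1 ht htd) ▸ hpσ
  have hSn : M ≤ normalizer (S : Set G) :=
    sylow_le_normalizer_of_nilpotent hG hM hnilσ (sylowIn_of_le hS hSσ (sigmaCore_le M))
  have hS1 : S ≠ ⊥ := fun e => hA.ne_bot (le_bot_iff.mp (e ▸ hAS))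
  have hrank := prankLE_two_of_not_alpha hG hM (hα p)
  -- elements of order `p` centralizing `A` lie in `A`
  have hmem : ∀ x ∈ S, x ^ p = 1 → x ∈ centralizer (A : Set G) → x ∈ A := by
    intro x hx hxp hxC
    by_contra hxA
    have hB := elemAb_sup hA.1 (elemAb_zpowers hxp) (by
      rw [le_centralizer_iff, zpowers_le]; exact hxC)
    have h2 : Nat.card A < Nat.card ↥(A ⊔ zpowers x) := lt_of_le_of_ne (card_le_of_le le_sup_left)
      fun e => hxA ((eq_of_le_of_card_ge le_sup_left e.ge).symm ▸ mem_sup_right (mem_zpowers x))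
    rw [hA.2] at h2
    exact absurd (elemAb_card_le hB (sup_le hAM (zpowers_le.mpr (hS.1 hx))) hrank) (not_le.mpr h2)
  by_cases hab : IsMulCommutative S
  · -- `A` is normal in `M`
    have hAn : M ≤ normalizer (A : Set G) := by
      intro g hg
      rw [← conjMap_eq_self_iff]
      refine eq_of_le_of_card_ge ?_ (by rw [card_conjMap])
      rintro _ ⟨a, ha, rfl⟩
      have haS : g * a * g⁻¹ ∈ S := (mem_normalizer_iff.mp (hSn hg) a).mp (hAS ha)
      refine hmem _ haS (by show (g * a * g⁻¹) ^ p = 1; rw [conj_pow, hA.1.2 a ha]; group) (mem_centralizer_iff.mpr fun b hb => ?_)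
      exact congrArg Subtype.val (hab.is_comm.comm ⟨b, hAS hb⟩ ⟨_, haS⟩)
    exact (centralizer_le_normalizer _).trans (normalizer_eq_max hG hM hA.ne_bot hAM hAn).le
  -- `S` is not abelian: a central line would pin `M`
  exfalso
  haveI : Nontrivial S := nontrivial_iff_ne_bot S |>.mpr hS1
  haveI := hS.2.1.center_nontrivial
  obtain ⟨z, ⟨⟨y, hyc, rfl⟩, hzo⟩⟩ := exists_order_p (P := (center S).map S.subtype)
    ((hS.2.1.to_subgroup _).map S.subtype) (by
      rw [Ne, map_eq_bot_iff_of_injective _ S.subtype_injective]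
      exact (nontrivial_iff_ne_bot _).mp inferInstance)
  have hcomm : ∀ a ∈ S, Commute a (S.subtype y) := fun a ha =>
    congrArg Subtype.val (mem_center_iff.mp hyc ⟨a, ha⟩)
  have hzA : S.subtype y ∈ A := hmem _ y.2 (hzo ▸ pow_orderOf_eq_one _)
    (mem_centralizer_iff.mpr fun a ha => (hcomm a (hAS ha)).eq)
  refine hno (zpowers (S.subtype y)) ⟨zpowers_le.mpr hzA, by rw [Nat.card_zpowers, hzo]⟩
    (onlyMax_of_forall hG hM (line_normalizer_ne_top hG hM hA hAM
      ⟨zpowers_le.mpr hzA, by rw [Nat.card_zpowers, hzo]⟩) fun L hL hle => ?_)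
  have hSL : S ≤ L := by
    intro a ha
    refine hle (centralizer_le_normalizer _ ?_)
    rw [mem_centralizer_iff]
    intro w hw
    obtain ⟨k, rfl⟩ := mem_zpowers_iff.mp hw
    exact ((hcomm a ha).zpow_right k).eq.symm
  have hSsL : SylowIn p S L := sylowIn_of_le (sylowIn_top hpσ hS) hSL le_top
  by_cases hpL : p ∈ Cfsg.sigma L
  · have hML : M ≤ L := hSn.trans (normalizer_sylow_le hpL hSsL)
    exact (hM.le_iff.mp hML).resolve_left hL.1
  · obtain ⟨Z, h'⟩ := exists_exc hG hL hpL hA (hAS.trans hSL)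
    exact absurd (h'.sylow_abelian hG hL hSsL hAS).1 hab

theorem centralizer_le_max (hA : IsSq p A) (hAM : A ≤ M) : centralizer (A : Set G) ≤ M := by
  by_cases hno : ∀ X, IsLine p A X → ¬ OnlyMax (normalizer (X : Set G)) M
  · exact (no_pin hG hM hA hAM hno).2.2.2
  push Not at hno
  obtain ⟨X, hX, hpin⟩ := hno
  exact ((Subgroup.centralizer_le hX.1).trans (centralizer_le_normalizer _)).trans hpin.1

end CfsgLib.BG
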