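import Cfsg.Agent.Lib.BG.SigmaPartition
import Cfsg.Agent.S1408
import Cfsg.Agent.S1409
import Cfsg.Agent.S1417
import Cfsg.Agent.S1418

/-!
# Lines with fixed points in `M_σ` lie in the `σ`-part of a maximal subgroup over their normalizer
-/

set_option autoImplicit false
set_option linter.style.haveILetI false
set_option linter.unusedSectionVars false

namespace CfsgLib.BG

open Subgroup CfsgLib.PLocal CfsgLib.OddLocal
open scoped commutatorElement

universe u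
variable {G : Type u} [Group G] [Finite G] {M H : Subgroup G}
variable (hG : Cfsg.IsMinSimpleOddOrder G) (hM : IsCoatom M)
include hG hM

/-- For a `τ₂(M)`-square `A`, some maximal subgroup `L ≠ M` over `N(A)` has `p ∈ σ(L)`. -/
theorem exists_max_over_square {p : ℕ} [hp : Fact p.Prime] (hpσ : p ∉ Cfsg.sigma M) {A : Subgroup G}
    (hA : IsSq p A) (hAM : A ≤ M) :
    ∃ L : Subgroup G, IsCoatom L ∧ normalizer (A : Set G) ≤ L ∧ p ∈ Cfsg.sigma L ∧ L ≠ M := by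
  obtain ⟨L, hL, hNL⟩ := (eq_top_or_exists_le_coatom (normalizer (A : Set G))).resolve_left
    (minSimple_normalizer_ne_top hG hA.ne_bot fun h => hM.1 (top_le_iff.mp (h ▸ hAM)))
  have hpL : p ∈ Cfsg.sigma L := by
    by_contra hσ
    have hAL : A ≤ L := le_normalizer.trans hNL
    obtain ⟨F, hF, hAF⟩ := exists_compl_ge hG hL hAL
      fun t ht hd => (prime_dvd_pgroup_card hA.isPGroup ht hd) ▸ hσ
    exact (Cfsg.Agent.S1418.result hG L hL F hF p (mem_tau2_of_sq hG hL hσ hAL hA) A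
      ⟨hAF, hA.1, hA.2⟩).2.1.2.2 hNL
  exact ⟨L, hL, hNL, hpL, fun e => hpσ (e ▸ hpL)⟩

omit hM in
/-- A `τ₃(L)`-group normalizing a non-ideal square of `L_σ` centralizes it. -/
theorem square_le_centralizer_of_tau3 {L : Subgroup G} (hL : IsCoatom L) {p q : ℕ} [hp : Fact p.Prime]
    [hq : Fact q.Prime] (hpL : p ∈ Cfsg.sigma L) (hid : ¬ Cfsg.IsIdealPrime p G) {A V : Subgroup G}
    (hA : IsSq p A) (hAL : A ≤ L) (hV : IsPGroup q V) (hVL : V ≤ L)
    (hVA : V ≤ normalizer (A : Set G)) (hqτ : q ∈ Cfsg.tau3 L) : A ≤ centralizer (V : Set G) := by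
  obtain ⟨F, hF, hVF⟩ := exists_compl_ge hG hL hVL
    fun t ht hd => (prime_dvd_pgroup_card hV ht hd) ▸ hqτ.2.1
  have hVd : V ≤ ⁅L, L⁆ := (tau3_le_derived hG hL hF hVF fun t ht hd =>
    (prime_dvd_pgroup_card hV ht hd) ▸ hqτ).trans (commutator_mono hF.1 hF.1)
  have hAd : A ≤ ⁅L, L⁆ := (le_sigmaCore_of_pi hG hL hAL fun t ht hd =>
    (prime_dvd_pgroup_card hA.isPGroup ht hd) ▸ hpL).trans (sigmaCore_le_derived hG hL)
  exact le_centralizer_iff.mp (le_centralizer_of_not_beta hG hL hV hA.isPGroup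
    (fun e => hqτ.2.1 (e ▸ hpL)) hVA hVd hAd
    (fun h => hqτ.2.1 (mem_sigma_of_mem_beta hG hL h)) (fun h => hid h.2))

/-- A fixed line pins `M`, or the fixer centralizes a whole Sylow subgroup of `G`. -/
theorem exists_pinned_or_sylow {p : ℕ} [hp : Fact p.Prime]
    (hpτ : p ∈ Cfsg.tau1 M ∪ Cfsg.tau3 M) {X : Subgroup G} (hXM : X ≤ M) (hX : Nat.card X = p)
    (hfix : Cfsg.sigmaCore M ⊓ centralizer (X : Set G) ≠ ⊥) :
    ∃ (q : ℕ) (Q : Subgroup G), q.Prime ∧ q ∈ Cfsg.sigma M ∧ Nat.card Q = q ∧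
      Q ≤ Cfsg.sigmaCore M ∧ Q ≤ centralizer (X : Set G) ∧
      (centralizer (Q : Set G) ≤ M ∨
        ∃ T : Subgroup G, SylowIn q T ⊤ ∧ Q ≤ T ∧ T ≤ M ∧ T ≤ centralizer (X : Set G)) := by
  obtain ⟨q, hq, hqd⟩ := exists_prime_dvd_of_ne_bot hG hfix
  haveI : Fact q.Prime := ⟨hq⟩
  obtain ⟨Q₀, hQ₀, -⟩ := exists_sylowIn_le (IsPGroup.of_bot (p := q) (G := G))
    (bot_le (a := Cfsg.sigmaCore M ⊓ centralizer (X : Set G)))
  have hQ₀1 : Q₀ ≠ ⊥ := fun e => hQ₀.2.2 (by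
    rw [e, relIndex_bot_left]
    exact hqd)
  obtain ⟨y, hy, hyo⟩ := exists_order_p hQ₀.2.1 hQ₀1
  have hQc : Nat.card (zpowers y) = q := by rw [Nat.card_zpowers, hyo]
  have hyI := hQ₀.1 hy
  have hQσ : zpowers y ≤ Cfsg.sigmaCore M := zpowers_le.mpr (mem_inf.mp hyI).1
  have hQX : zpowers y ≤ centralizer (X : Set G) := zpowers_le.mpr (mem_inf.mp hyI).2
  have hqσ : q ∈ Cfsg.sigma M :=
    mem_sigma_of_dvd_sigmaCore hq (hQc ▸ card_dvd_of_le hQσ)
  by_cases h1 : p ∈ Cfsg.tau1 M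
  · exact ⟨q, zpowers y, hq, hqσ, hQc, hQσ, hQX,
      Or.inl (onlyMax_of_tau1_fixed hG hM h1 hqσ hXM hX hQc hQσ hQX).1.1⟩
  have h3 : p ∈ Cfsg.tau3 M := hpτ.resolve_left h1
  by_cases hqb : q ∈ Cfsg.beta M
  · obtain ⟨S, hS, -⟩ := exists_sylowIn_le (IsPGroup.of_bot (p := q) (G := G))
      (bot_le (a := Cfsg.sigmaCore M))
    exact ⟨q, zpowers y, hq, hqσ, hQc, hQσ, hQX, Or.inl (centralizer_beta_or_derived hG hM hqσ
      (hQσ.trans (sigmaCore_le M)) hQc hS (Or.inl hqb)).1.1⟩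
  obtain ⟨E, hE, hXE⟩ := exists_compl_ge hG hM hXM
    fun t ht hd => (prime_dvd_pgroup_card (isPGroup_of_card_prime hX) ht hd) ▸ h3.2.1
  obtain ⟨T', hET⟩ := CfsgLib.Coprime.exists_invariant_sylow (hE.1.trans (le_normalizer_sigmaCore M))
    (coprime_sigmaCore hG hM fun t ht hd => not_sigma_of_dvd_compl hG hM hE ht hd)
    (Or.inl (isSolvable_of_le_max hG hM hE.1)) q
  set T := (T' : Subgroup (Cfsg.sigmaCore M)).map (Cfsg.sigmaCore M).subtype
  have hT : SylowIn q T (Cfsg.sigmaCore M) := sylowIn_map T'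
  have hXT : T ≤ centralizer (X : Set G) := le_centralizer_iff.mp
    ((tau3_le_derived hG hM hE hXE fun t ht hd =>
      (prime_dvd_pgroup_card (isPGroup_of_card_prime hX) ht hd) ▸ h3).trans
      (derived_compl_centralizes hG hM hE hqσ hqb hT.2.1 hT.1 hET))
  have hTM := sylowIn_of_sigmaCore hG hM hT hqσ
  have hT1 : T ≠ ⊥ := fun e => hT.2.2 (by
    rw [e, relIndex_bot_left]
    exact hQc ▸ card_dvd_of_le hQσ)
  obtain ⟨z, hz, hzo⟩ := exists_order_p hT.2.1 hT1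
  exact ⟨q, zpowers z, hq, hqσ, by rw [Nat.card_zpowers, hzo], zpowers_le.mpr (hT.1 hz),
    zpowers_le.mpr (hXT hz), Or.inr ⟨T, sylowIn_top hqσ hTM, zpowers_le.mpr hz, hTM.1, hXT⟩⟩

/-- `p ∈ σ(H)` for `H ⊇ N(X)`, `|X| = p ∈ τ₁(M) ∪ τ₃(M)`, with `C_{M_σ}(X) ≠ 1`. -/
theorem sigma_of_fixed {p : ℕ} [hp : Fact p.Prime] (hpτ : p ∈ Cfsg.tau1 M ∪ Cfsg.tau3 M)
    {X : Subgroup G} (hXM : X ≤ M) (hX : Nat.card X = p)
    (hfix : Cfsg.sigmaCore M ⊓ centralizer (X : Set G) ≠ ⊥) (hH : IsCoatom H)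
    (hNH : normalizer (X : Set G) ≤ H) : p ∈ Cfsg.sigma H := by
  have hpσ : p ∉ Cfsg.sigma M := hpτ.elim (fun h => h.2.1) fun h => h.2.1
  have hpr : Cfsg.PRankLE p 1 M := hpτ.elim (fun h => h.2.2.2.2) fun h => h.2.2.2
  obtain ⟨q, Q, hq, hqM, hQ, hQσ, hQX, hpin⟩ := exists_pinned_or_sylow hG hM hpτ hXM hX hfix
  haveI : Fact q.Prime := ⟨hq⟩
  by_contra hpH
  have hnc := not_conj_of_normalizer_le hG hM hpσ hpr hH hX hNH
  have hXp := isPGroup_of_card_prime hX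
  have hqH : q ∉ Cfsg.sigma H := sigma_disjoint hG hM hH hnc hqM
  obtain ⟨⟨hr2', hr2⟩, hid, -⟩ := Cfsg.Agent.S1409.result hG H hH p hpH X hX hNH
  have hpq : p ≠ q := fun e => hpσ (e ▸ hqM)
  have hpH2 : p ∈ Cfsg.tau2 H := ⟨hp.out, hpH, hr2', hr2⟩
  have hCH : centralizer (X : Set G) ≤ H := (centralizer_le_normalizer _).trans hNH
  -- the `q`-group to be used
  obtain ⟨V, hV, hQV, hVX, hVcase⟩ : ∃ V : Subgroup G, IsPGroup q V ∧ Q ≤ V ∧
      V ≤ centralizer (X : Set G) ∧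
      (centralizer (V : Set G) ≤ M ∧ V = Q ∨ SylowIn q V ⊤ ∧ centralizer (V : Set G) ≤ M) := by
    rcases hpin with h | ⟨T, hT, hQT, hTM, hTX⟩
    · exact ⟨Q, isPGroup_of_card_prime hQ, le_rfl, hQX, Or.inl ⟨h, rfl⟩⟩
    · exact ⟨T, hT.2.1, hQT, hTX, Or.inr ⟨hT, (centralizer_le_normalizer _).trans
        (normalizer_sylow_le hqM (sylowIn_of_le hT hTM le_top))⟩⟩
  have hCV : centralizer (V : Set G) ≤ M := hVcase.elim (fun h => h.1) fun h => h.2
  have hVH : V ≤ H := hVX.trans hCH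
  have hn : V ≤ normalizer (X : Set G) := hVX.trans (centralizer_le_normalizer _)
  obtain ⟨F, hF, hXVF⟩ := exists_compl_ge hG hH
    (sup_le (le_normalizer.trans hNH) hVH : X ⊔ V ≤ H) fun t ht hd => by
      rcases ht.dvd_mul.mp (hd.trans (card_sup_dvd hn)) with h | h
      · exact (prime_dvd_pgroup_card hXp ht h) ▸ hpH
      · exact (prime_dvd_pgroup_card hV ht h) ▸ hqH
  obtain ⟨A, A₀, hAF, hexc⟩ := tau2_square hG hH hF hpH2
  obtain ⟨⟨hFA, hΩ⟩, -, -⟩ := Cfsg.Agent.S1418.result hG H hH F hF p hpH2 A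
    ⟨hAF, hexc.sq.1, hexc.sq.2⟩
  have hXA : X ≤ A := hΩ X (le_sup_left.trans hXVF) hX
  have hVA : V ≤ normalizer (A : Set G) := (le_sup_right.trans hXVF).trans hFA
  have hAV : ¬ A ≤ centralizer (V : Set G) := fun h =>
    hexc.sq.not_prankLE_one (h.trans hCV) hpr
  obtain ⟨L, hL, hNL, hpL, hLH⟩ := exists_max_over_square hG hH hpH hexc.sq hexc.le
  have hVL : V ≤ L := hVA.trans hNL
  have hAL : A ≤ L := le_normalizer.trans hNL
  have hncL : ∀ g : G, conjMap g L ≠ M := fun g e => hpσ (by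
    rw [← e, sigma_conjMap]
    exact hpL)
  have hqL : q ∉ Cfsg.sigma L := sigma_disjoint hG hM hL hncL hqM
  have hQ1 := ne_bot_of_card_prime hQ
  obtain ⟨y, hy, hyo⟩ := exists_order_p (isPGroup_of_card_prime hQ) hQ1
  have hyz : zpowers y = Q := zpowers_eq_of_card_prime hQ hy
    fun e => hq.ne_one (by rw [← hyo, e, orderOf_one])
  obtain ⟨x, hx, hxo⟩ := exists_order_p hXp (ne_bot_of_card_prime hX)
  have hx1 : x ≠ 1 := fun e => hp.out.ne_one (by rw [← hxo, e, orderOf_one])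
  have hXσL : X ≤ Cfsg.sigmaCore L := le_sigmaCore_of_pi hG hL (hXA.trans hAL)
    fun t ht hd => (prime_dvd_pgroup_card hXp ht hd) ▸ hpL
  have hqdL : q ∣ Nat.card L := hQ ▸ card_dvd_of_le (hQV.trans hVL)
  have hqr : Cfsg.PRankLE q 1 L := by
    by_contra h
    have hqτ : q ∈ Cfsg.tau2 L := ⟨hq, hqL, prankLE_two_of_not_sigma hG hL hqL, h⟩
    rcases hVcase with ⟨hC, rfl⟩ | ⟨hT, -⟩
    · -- `C(Q)` would pin both `L` and `M`
      obtain ⟨-, hu⟩ := centralizer_tau2_element hG hL (hVL hy)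
        (fun e => hq.ne_one (by rw [← hyo, e, orderOf_one]))
        (fun t ht hd => by
          rw [hyo] at hd
          exact ((Nat.prime_dvd_prime_iff_eq ht hq).mp hd) ▸ hqτ)
        (hXσL hx) hx1 (mem_centralizer_iff.mp (hVX hy) x hx).symm
      have hCy : centralizer ({y} : Set G) ≤ M := by
        rw [← centralizer_zpowers_eq, hyz]
        exact hC
      exact hncL 1 (by rw [conjMap_one]; exact (hu M hM hCy).symm)
    · -- `H` would have `τ₂` for both primes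
      obtain ⟨B, hBL, hB⟩ := exists_sq_le_of_not_prankLE le_rfl h
      obtain ⟨g, -, hg⟩ := hT.exists_conj_le hB.isPGroup le_top
      have hqH2 : q ∈ Cfsg.tau2 H := mem_tau2_of_sq hG hH hqH (hg.trans hVH) (hB.conjMap g)
      exact false_of_tau2_pair hG hM hH hpq hpr hqM hpH2 hqH2
  by_cases hd : q ∣ Nat.card ↥⁅L, L⁆
  · exact hAV (square_le_centralizer_of_tau3 hG hL hpL hid hexc.sq hAL hV hVL hVA
      ⟨hq, hqL, hd, hqr⟩)
  · have hu := (onlyMax_of_tau1_fixed hG hL (⟨hq, hqL, hqdL, hd, hqr⟩ : q ∈ Cfsg.tau1 L) hpL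
      (hQV.trans hVL) hQ hX hXσL (le_centralizer_iff.mp hQX)).1
    exact hLH (hu.2 H hH hCH).symm

/-- A `τ₁(M)`-line centralizing a line of a `τ₂(M)`-square fixes nothing in `M_σ`. -/
theorem tau12_regular {p q : ℕ} [hp : Fact p.Prime] [hq : Fact q.Prime] (hpτ : p ∈ Cfsg.tau2 M)
    (hqτ : q ∈ Cfsg.tau1 M) {A P Q : Subgroup G} (hA : IsSq p A) (hAM : A ≤ M) (hP : IsLine p A P)
    (hQM : Q ≤ M) (hQ : Nat.card Q = q) (hQA : Q ≤ normalizer (A : Set G))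
    (hQP : Q ≤ centralizer (P : Set G)) :
    Cfsg.sigmaCore M ⊓ centralizer (Q : Set G) = ⊥ := by
  obtain ⟨A₀, hexc⟩ := exists_exc hG hM hpτ.2.1 hA hAM
  have hQp := isPGroup_of_card_prime hQ
  have hQσ : ∀ t : ℕ, t.Prime → t ∣ Nat.card Q → t ∉ Cfsg.sigma M :=
    fun t ht hd => (prime_dvd_pgroup_card hQp ht hd) ▸ hqτ.2.1
  have h13 : ∀ X : Subgroup G, IsLine p A X → Q ≤ centralizer (X : Set G) →
      Cfsg.sigmaCore M ⊓ centralizer (Q : Set G) ≤ centralizer (X : Set G) := fun X hX hc =>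
    centralizer_tau1_le hG hM hqτ hQM hQ (hX.1.trans hAM) hX.2 (le_centralizer_iff.mp hc) hpτ.2.1
  by_cases hAQ : A ≤ centralizer (Q : Set G)
  · refine le_bot_iff.mp ((Cfsg.Agent.S1417.result hG M hM p hpτ A ⟨hAM, hA.1, hA.2⟩).2.2.2.1 ▸ ?_)
    refine le_inf inf_le_left ?_
    obtain ⟨Z, hZ, hZP, -⟩ := hA.exists_line_ne' hP
    rw [← IsLine.sup_eq hA hZ hP hZP]
    exact le_centralizer_iff.mp (sup_le
      (le_centralizer_iff.mp (h13 Z hZ (le_centralizer_iff.mp (hZ.1.trans hAQ))))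
      (le_centralizer_iff.mp (h13 P hP hQP)))
  obtain ⟨L, hL, hNL, hpL, hne⟩ := exists_max_over_square hG hM hpτ.2.1 hA hAM
  have hAL : A ≤ L := le_normalizer.trans hNL
  have h0 := hexc.inf_other hG hM hL hne hAL
  have hQL : Q ≤ L := hQA.trans hNL
  refine le_bot_iff.mp (h0 ▸ le_inf inf_le_left ?_)
  have hid := (Cfsg.Agent.S1408.result hG M hM p hpτ.2.1 hpτ.2.2.1 hpτ.2.2.2).1
  have hPσL : P ≤ Cfsg.sigmaCore L := le_sigmaCore_of_pi hG hL (hP.1.trans hAL)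
    fun t ht hd => (prime_dvd_pgroup_card (isPGroup_of_card_prime hP.2) ht hd) ▸ hpL
  obtain ⟨y, hy, hyo⟩ := exists_order_p hQp (ne_bot_of_card_prime hQ)
  have hy1 : y ≠ 1 := fun e => hq.out.ne_one (by rw [← hyo, e, orderOf_one])
  have hyz : zpowers y = Q := zpowers_eq_of_card_prime hQ hy hy1
  by_cases hqL : q ∈ Cfsg.sigma L
  · by_cases hqb : q ∈ Cfsg.beta L
    · obtain ⟨S, hS, -⟩ := exists_sylowIn_le (IsPGroup.of_bot (p := q) (G := G))
        (bot_le (a := Cfsg.sigmaCore L))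
      exact inf_le_right.trans (centralizer_beta_or_derived hG hL hqL hQL hQ hS (Or.inl hqb)).1.1
    · refine absurd (le_centralizer_iff.mp (le_centralizer_of_not_beta hG hL hQp hA.isPGroup
        (fun e => absurd (e ▸ hqτ.2.2.2.2) hpτ.2.2.2) hQA ?_ ?_ hqb fun h => hid h.2)) hAQ
      · exact (le_sigmaCore_of_pi hG hL hQL fun t ht hd =>
          (prime_dvd_pgroup_card hQp ht hd) ▸ hqL).trans (sigmaCore_le_derived hG hL)
      · exact (le_sigmaCore_of_pi hG hL hAL fun t ht hd =>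
          (prime_dvd_pgroup_card hA.isPGroup ht hd) ▸ hpL).trans (sigmaCore_le_derived hG hL)
  obtain ⟨x, hx, hxo⟩ := exists_order_p (isPGroup_of_card_prime hP.2) (ne_bot_of_card_prime hP.2)
  by_cases hr : Cfsg.PRankLE q 1 L
  · by_cases hd : q ∣ Nat.card ↥⁅L, L⁆
    · exact absurd (square_le_centralizer_of_tau3 hG hL hpL hid hA hAL hQp hQL hQA
        ⟨hq.out, hqL, hd, hr⟩) hAQ
    · exact (h13 P hP hQP).trans (onlyMax_of_tau1_fixed hG hL
        (⟨hq.out, hqL, hQ ▸ card_dvd_of_le hQL, hd, hr⟩ : q ∈ Cfsg.tau1 L) hpL hQL hQ hP.2 hPσL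
        (le_centralizer_iff.mp hQP)).1.1
  · refine inf_le_right.trans ?_
    rw [← hyz, centralizer_zpowers_eq]
    exact (centralizer_tau2_element hG hL (hQL hy) hy1
      (fun t ht hd => by
        rw [hyo] at hd
        exact ((Nat.prime_dvd_prime_iff_eq ht hq.out).mp hd) ▸
          ⟨hq.out, hqL, prankLE_two_of_not_sigma hG hL hqL, hr⟩)
      (hPσL hx) (fun e => hp.out.ne_one (by rw [← hxo, e, orderOf_one]))
      (mem_centralizer_iff.mp (hQP hy) x hx).symm).1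

end CfsgLib.BG
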