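import Cfsg.Agent.Lib.BG.TauOne

/-!
# Non-conjugate maximal subgroups have disjoint `σ`-sets
-/

set_option autoImplicit false
set_option linter.style.haveILetI false
set_option linter.unusedSectionVars false

namespace CfsgLib.BG

open Subgroup CfsgLib.PLocal CfsgLib.OddLocal
open scoped commutatorElement

universe u
variable {G : Type u} [Group G] [Finite G] {M H : Subgroup G}
variable (hG : Cfsg.IsMinSimpleOddOrder G) (hM : IsCoatom M)
include hG hM

/-- No `σ(H)`-element of `C_M(x)`, `x ∈ N(T)` a `τ₁`-element of both, for a common Sylow subgroup `T`. -/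
theorem false_of_fixed_sigma_other (hH : IsCoatom H) (hnc : ∀ g : G, conjMap g H ≠ M) {q s v : ℕ}
    [hq : Fact q.Prime] [hs : Fact s.Prime] [hv : Fact v.Prime] (hqM : q ∈ Cfsg.sigma M)
    (hqH : q ∈ Cfsg.sigma H) (hqb : q ∉ Cfsg.beta M) {T : Subgroup G} (hT : SylowIn q T ⊤)
    (hTM : T ≤ M) (hTH : T ≤ H) (hT1 : T ≠ ⊥) (hab : IsMulCommutative T) {x : G}
    (hxo : orderOf x = s) (hsM : s ∈ Cfsg.tau1 M) (hsH : s ∈ Cfsg.tau1 H) (hxM : x ∈ M)
    (hxT : x ∈ normalizer (T : Set G)) {w : G} (hwo : orderOf w = v) (hvH : v ∈ Cfsg.sigma H)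
    (hvM : v ∉ Cfsg.sigma M) (hwM : w ∈ M) (hwx : Commute w x) : False := by
  have hnc' : ∀ g : G, conjMap g M ≠ H := fun g e => hnc g⁻¹ (by rw [← e, conjMap_inv_conjMap])
  have hNM : normalizer (T : Set G) ≤ M := normalizer_sylow_le hqM (sylowIn_of_le hT hTM le_top)
  have hNH : normalizer (T : Set G) ≤ H := normalizer_sylow_le hqH (sylowIn_of_le hT hTH le_top)
  have hTσ : T ≤ Cfsg.sigmaCore M := le_sigmaCore_of_pi hG hM hTM fun r hr hd =>
    (prime_dvd_pgroup_card hT.2.1 hr hd) ▸ hqM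
  have hTsyl : SylowIn q T (Cfsg.sigmaCore M) := sylowIn_of_le hT hTσ le_top
  have hrk : ∀ r : ℕ, r.Prime → r ∉ Cfsg.sigma M → Cfsg.PRankLE r 1 M := by
    intro r hr hσ
    haveI : Fact r.Prime := ⟨hr⟩
    by_contra h
    obtain ⟨B, hBM, hB⟩ := exists_sq_le_of_not_prankLE le_rfl h
    obtain ⟨B₀, hexc⟩ := exists_exc hG hM hσ hB hBM
    obtain ⟨g, hg⟩ := eq_conj_of_nilpotent hG hM (hexc.nilpotent hG hM) hH hqM hqH
    exact hnc' g hg.symm
  set X := zpowers x
  set W₀ := zpowers w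
  have hWX : W₀ ≤ normalizer (X : Set G) :=
    (zpowers_le.mpr (mem_centralizer_iff.mpr fun b hb => by
      obtain ⟨i, rfl⟩ := mem_zpowers_iff.mp hb
      exact (hwx.symm.zpow_left i).eq)).trans (centralizer_le_normalizer _)
  obtain ⟨E₀, hE₀, hle⟩ := exists_compl_ge hG hM
    (sup_le (zpowers_le.mpr hxM) (zpowers_le.mpr hwM) : X ⊔ W₀ ≤ M) fun r hr hd => by
      rcases hr.dvd_mul.mp (hd.trans (card_sup_dvd hWX)) with h | h
      · rw [Nat.card_zpowers, hxo] at h
        exact (Nat.prime_dvd_prime_iff_eq hr hs.out).mp h ▸ hsM.2.1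
      · rw [Nat.card_zpowers, hwo] at h
        exact (Nat.prime_dvd_prime_iff_eq hr hv.out).mp h ▸ hvM
  have hEN : E₀ ≤ normalizer (Cfsg.sigmaCore M : Set G) := hE₀.1.trans (le_normalizer_sigmaCore M)
  have hcop : (Nat.card E₀).Coprime (Nat.card (Cfsg.sigmaCore M)) :=
    coprime_sigmaCore hG hM fun r hr hd => not_sigma_of_dvd_compl hG hM hE₀ hr hd
  obtain ⟨T₁, hT₁⟩ := CfsgLib.Coprime.exists_invariant_sylow hEN hcop
    (Or.inl (isSolvable_of_le_max hG hM hE₀.1)) q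
  have hXE : X ≤ E₀ := le_sup_left.trans hle
  let T₂ : Sylow q ↥(Cfsg.sigmaCore M) := (hTsyl.2.1.comap_subtype).toSylow hTsyl.2.2
  have hT₂ : (T₂ : Subgroup ↥(Cfsg.sigmaCore M)).map (Cfsg.sigmaCore M).subtype = T :=
    map_subgroupOf_eq_of_le hTσ
  obtain ⟨c, hc, hcT⟩ := CfsgLib.Coprime.exists_conj_invariant_sylow (hXE.trans hEN)
    (hcop.coprime_dvd_left (card_dvd_of_le hXE))
    (Or.inl (isSolvable_of_le_max hG hM (zpowers_le.mpr hxM))) T₁ T₂ (hXE.trans hT₁)
    (by rw [hT₂]; exact zpowers_le.mpr hxT)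
  rw [hT₂] at hcT
  obtain ⟨hcσ, hcX⟩ := mem_inf.mp hc
  have hE := compl_conjMap hG hM hE₀ (sigmaCore_le M hcσ)
  set E := conjMap c E₀ with hEdef
  have hET : E ≤ normalizer (T : Set G) := by
    rw [← hcT, hEdef]
    exact (conjMap_mono hT₁).trans (conjMap_normalizer c _).le
  have hcx : c * x * c⁻¹ = x := by
    rw [← mem_centralizer_iff.mp hcX x (mem_zpowers x), mul_inv_cancel_right]
  have hxE : x ∈ E := hcx ▸ conj_mem_conjMap (hXE (mem_zpowers x))
  set w₀ := c * w * c⁻¹ with hw₀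
  have hw₀E : w₀ ∈ E := conj_mem_conjMap (hle (mem_sup_right (mem_zpowers w)))
  have hw₀o : orderOf w₀ = v := by
    rw [← hwo]
    exact orderOf_injective (MulAut.conj c).toMonoidHom (MulAut.conj c).injective w
  have hw₀x : Commute w₀ x := by
    show w₀ * x = x * w₀
    calc w₀ * x = c * w * c⁻¹ * (c * x * c⁻¹) := by rw [hcx]
      _ = c * (w * x) * c⁻¹ := by group
      _ = c * (x * w) * c⁻¹ := by rw [hwx.eq]
      _ = c * x * c⁻¹ * (c * w * c⁻¹) := by group
      _ = x * w₀ := by rw [hcx]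
  set W := zpowers w₀ with hW
  have hWc : Nat.card W = v := by rw [hW, Nat.card_zpowers, hw₀o]
  have hWE : W ≤ E := zpowers_le.mpr hw₀E
  have hWH : W ≤ H := hWE.trans (hET.trans hNH)
  have hWσH : W ≤ Cfsg.sigmaCore H := le_sigmaCore_of_pi hG hH hWH fun r hr hd => by
    rw [hWc] at hd
    exact (Nat.prime_dvd_prime_iff_eq hr hv.out).mp hd ▸ hvH
  -- a `τ₁(M)`-element of `E` moves `T` and is a `τ₁(H)`-element
  have hτ : ∀ {r : ℕ} [Fact r.Prime], r ∈ Cfsg.tau1 M → r ∣ Nat.card E → r ∈ Cfsg.tau1 H := by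
    intro r _ hrτ hd
    obtain ⟨y, hy⟩ := exists_prime_orderOf_dvd_card' r hd
    have hyo : orderOf (y : G) = r := (Subgroup.orderOf_coe y).trans hy
    have hY : Nat.card (zpowers (y : G)) = r := by rw [Nat.card_zpowers, hyo]
    have hYn : zpowers (y : G) ≤ normalizer (T : Set G) := zpowers_le.mpr (hET y.2)
    have hf := fixed_eq_bot_of_abelian hG hM hrτ hqM hqb (zpowers_le.mpr (hE.1 y.2)) hY hTsyl hab
    have hrq : r ≠ q := fun e => hrτ.2.1 (e ▸ hqM)
    exact tau1_of_act hG hM hH hnc hqM hrq hY (zpowers_le.mpr (hNH (hET y.2))) hT.2.1 hTH hYn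
      (commutator_eq_self hYn (coprime_pgroup (isPGroup_of_card_prime hY) hT.2.1 hrq)
        (Or.inl (isSolvable_of_le_max hG hM (zpowers_le.mpr (hE.1 y.2)))) hf) hT1
  have hvE : v ∣ Nat.card E := hWc ▸ card_dvd_of_le hWE
  have hvd : v ∣ Nat.card ↥⁅M, M⁆ := by
    by_contra hnd
    exact (hτ ⟨hv.out, hvM, hvE.trans (card_dvd_of_le hE.1), hnd, hrk v hv.out hvM⟩ hvE).2.1 hvH
  have hvτ : v ∈ Cfsg.tau3 M := ⟨hv.out, hvM, hvd, hrk v hv.out hvM⟩
  obtain ⟨S, hS, hWS⟩ := exists_sylowIn_le (isPGroup_of_card_prime hWc) hWE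
  have hSd : S ≤ ⁅E, E⁆ := tau3_le_derived hG hM hE hS.1 fun r hr hd =>
    (prime_dvd_pgroup_card hS.2.1 hr hd) ▸ hvτ
  have hSn : E ≤ normalizer (S : Set G) := hall_derived_normal hG hM hE (π := {v})
    ⟨hS.1, fun r hr hd => prime_dvd_pgroup_card hS.2.1 hr hd,
      fun r _ hrv => (Set.mem_singleton_iff.mp hrv) ▸ hS.2.2⟩ hSd
  have hSc : IsCyclic S :=
    isCyclic_pgroup_of_prankLE_one hG hS.2.1 (hS.1.trans hE.1) (hrk v hv.out hvM)
  haveI := hSc
  have hWn : E ≤ normalizer (W : Set G) := hSn.trans (normalizer_le_of_le_cyclic hSc hWS)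
  have hSab : S ≤ centralizer (S : Set G) := fun a ha => mem_centralizer_iff.mpr fun b hb =>
    congrArg Subtype.val ((IsCyclic.isMulCommutative (α := S)).is_comm.comm ⟨b, hb⟩ ⟨a, ha⟩)
  have hSmem : ∀ z ∈ E, IsPGroup v (zpowers z) → z ∈ S := by
    intro z hz hzp
    obtain ⟨e, he, hez⟩ := hS.exists_conj_le hzp (zpowers_le.mpr hz)
    exact (mem_normalizer_iff.mp (hSn he) z).mpr (hez (conj_mem_conjMap (mem_zpowers z)))
  have hcent : E ≤ centralizer (W : Set G) := by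
    intro e he
    refine CfsgLib.StructB.mem_of_forall_primePow _ e fun z hz r k hr hk hzo _ => ?_
    haveI : Fact r.Prime := ⟨hr⟩
    have hzE : z ∈ E := zpowers_le.mpr he hz
    have hzp : IsPGroup r (zpowers z) := IsPGroup.of_card (n := k) (by rw [Nat.card_zpowers, hzo])
    have hrd : r ∣ Nat.card E :=
      (hzo ▸ dvd_pow_self r (by omega : k ≠ 0)).trans (Subgroup.orderOf_dvd_natCard E hzE)
    have hrσ := not_sigma_of_dvd_compl hG hM hE hr hrd
    rcases eq_or_ne r v with rfl | -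
    · exact Subgroup.centralizer_le hWS (hSab (hSmem z hzE hzp))
    by_cases hd' : r ∣ Nat.card ↥⁅M, M⁆
    · have hzd : zpowers z ≤ ⁅E, E⁆ := tau3_le_derived hG hM hE (zpowers_le.mpr hzE) fun t ht htd =>
        (prime_dvd_pgroup_card hzp ht htd) ▸ ⟨hr, hrσ, hd', hrk r hr hrσ⟩
      have hcomm := isMulCommutative_of_nilpotent hG hM ((derived_le_compl hG hM).trans hE.1)
        (derived_compl_nilpotent hG hM hE) fun t ht htd => not_sigma_of_dvd_compl hG hM hE ht
          (htd.trans (card_dvd_of_le (derived_le_compl hG hM)))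
      exact mem_centralizer_iff.mpr fun b hb => congrArg Subtype.val
        (hcomm.is_comm.comm ⟨b, (hWS.trans hSd) hb⟩ ⟨z, hzd (mem_zpowers z)⟩)
    have hrτ : r ∈ Cfsg.tau1 M := ⟨hr, hrσ, hrd.trans (card_dvd_of_le hE.1), hd', hrk r hr hrσ⟩
    have hEsol := isSolvable_of_le_max hG hM hE.1
    have hcb : (Nat.card (⊥ : Subgroup G)).Coprime (Nat.card E) := by
      rw [Subgroup.card_bot]; exact Nat.coprime_one_left _
    obtain ⟨K, hK, -, hxK⟩ := CfsgLib.Coprime.exists_invariant_hall_ge (A := (⊥ : Subgroup G))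
      bot_le hcb hEsol (zpowers_le.mpr hxE : X ≤ E) bot_le (π := Cfsg.tau1 M) fun t ht htd => by
        rw [Nat.card_zpowers, hxo] at htd
        exact (Nat.prime_dvd_prime_iff_eq ht hs.out).mp htd ▸ hsM
    obtain ⟨K', hK', -, hzK⟩ := CfsgLib.Coprime.exists_invariant_hall_ge (A := (⊥ : Subgroup G))
      bot_le hcb hEsol (zpowers_le.mpr hzE) bot_le (π := Cfsg.tau1 M)
      fun t ht htd => (prime_dvd_pgroup_card hzp ht htd) ▸ hrτ
    obtain ⟨d, hd, hdK⟩ := CfsgLib.Coprime.exists_conj_of_isPiHallOf hEsol hK' hK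
    have hzK' : d * z * d⁻¹ ∈ K := hdK.le ⟨z, hzK (mem_zpowers z), rfl⟩
    have hKH : K ≤ H := hK.1.trans (hET.trans hNH)
    have hKτ : ∀ t : ℕ, t.Prime → t ∣ Nat.card K → t ∈ Cfsg.tau1 H := fun t ht htd => by
      haveI : Fact t.Prime := ⟨ht⟩
      exact hτ (hK.2.1 t ht htd) (htd.trans (card_dvd_of_le hK.1))
    have h1 : w₀ ∈ Cfsg.sigmaCore H ⊓ centralizer ({x} : Set G) :=
      mem_inf.mpr ⟨hWσH (mem_zpowers w₀), mem_centralizer_singleton_iff.mpr hw₀x.eq⟩
    rw [prime_action_tau1 hG hH hKH hKτ (hxK (mem_zpowers x))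
      fun e => hs.out.ne_one (by rw [← hxo, e, orderOf_one])] at h1
    have h2 : d * z * d⁻¹ ∈ centralizer (W : Set G) :=
      le_centralizer_iff.mp (zpowers_le.mpr (mem_inf.mp h1).2) hzK'
    have h3 : d ∈ normalizer ((centralizer (W : Set G) : Subgroup G) : Set G) :=
      CfsgLib.Comp.le_normalizer_centralizer hWn hd
    exact (mem_normalizer_iff.mp h3 z).mpr h2
  -- `S` is then central in `E`, against `S ≤ E'`
  let SE : Sylow v E := (hS.2.1.comap_subtype).toSylow hS.2.2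
  have hcen : normalizer ((SE : Subgroup E) : Set E) ≤ centralizer ((SE : Subgroup E) : Set E) := by
    intro e _
    rw [mem_centralizer_iff]
    intro b hb
    refine Subtype.ext ?_
    have he : (e : G) ∈ centralizer (S : Set G) := by
      refine CfsgLib.StructB.mem_of_forall_primePow _ (e : G) fun z hz r k hr _ hzo _ => ?_
      haveI : Fact r.Prime := ⟨hr⟩
      have hzE : z ∈ E := zpowers_le.mpr e.2 hz
      have hzp : IsPGroup r (zpowers z) := IsPGroup.of_card (n := k) (by rw [Nat.card_zpowers, hzo])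
      rcases eq_or_ne r v with rfl | hrv
      · exact hSab (hSmem z hzE hzp)
      refine le_centralizer_of_fixes_order_p (A := zpowers z)
        (prime_ne_two_of_pgroup hG (isPGroup_of_card_prime hWc) (ne_bot_of_card_prime hWc)) hS.2.1
        (zpowers_le.mpr (hSn hzE)) ?_ (fun a ha hap b' hb' => ?_) (mem_zpowers z)
      · rw [Nat.card_zpowers, hzo]
        exact Nat.Coprime.pow_left _ ((Nat.coprime_primes hr hv.out).mpr hrv)
      · have haW : a ∈ W := by
          rcases eq_or_ne a 1 with rfl | ha1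
          · exact one_mem _
          exact (eq_of_isCyclic_card hSc (zpowers_le.mpr ha) hWS
            (by rw [Nat.card_zpowers, orderOf_eq_prime hap ha1]) hWc).le (mem_zpowers a)
        rw [← mem_centralizer_iff.mp (hcent (zpowers_le.mpr hzE hb')) a haW, mul_inv_cancel_right]
    exact mem_centralizer_iff.mp he b hb
  have hbot := sylow_inf_derived_eq_bot hS (IsCyclic.isMulCommutative (α := S))
    (CfsgLib.Transfer.hasNormalPComplement_of_normalizer_le_centralizer SE hcen)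
  exact ne_bot_of_card_prime hWc (le_bot_iff.mp (hWS.trans ((le_inf le_rfl hSd).trans hbot.le)))

/-- The fixed points of a `τ₁(M)`-line in `M_σ` involve no prime of `σ(H)`, `H` not conjugate to `M`. -/
theorem fixed_not_common (hH : IsCoatom H) (hnc : ∀ g : G, conjMap g H ≠ M) {p t : ℕ}
    [hp : Fact p.Prime] [ht : Fact t.Prime] (hpτ : p ∈ Cfsg.tau1 M) {P X : Subgroup G} (hPM : P ≤ M)
    (hP : Nat.card P = p) (hX : Nat.card X = t) (hXσ : X ≤ Cfsg.sigmaCore M)
    (hXP : X ≤ centralizer (P : Set G)) : t ∉ Cfsg.sigma H := by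
  intro htH
  have hPp := isPGroup_of_card_prime hP
  have htM : t ∈ Cfsg.sigma M := mem_sigma_of_dvd_sigmaCore ht.out (hX ▸ card_dvd_of_le hXσ)
  have htα : t ∉ Cfsg.alpha M := fun h => by
    obtain ⟨g, hg⟩ := eq_conj_of_alpha hG hH hM htH h
    exact hnc g⁻¹ (by rw [← hg, conjMap_inv_conjMap])
  obtain ⟨T', hXT, -⟩ := CfsgLib.Coprime.exists_invariant_sylow_ge
    (hPM.trans (le_normalizer_sigmaCore M))
    (coprime_sigmaCore hG hM fun r hr hd => (prime_dvd_pgroup_card hPp hr hd) ▸ hpτ.2.1)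
    (Or.inl (isSolvable_of_le_max hG hM hPM)) (isPGroup_of_card_prime hX) hXσ
    ((le_centralizer_iff.mp hXP).trans (centralizer_le_normalizer _))
  set T := (T' : Subgroup (Cfsg.sigmaCore M)).map (Cfsg.sigmaCore M).subtype
  have hT : SylowIn t T (Cfsg.sigmaCore M) := sylowIn_map T'
  have hTM := sylowIn_of_sigmaCore hG hM hT htM
  have hab : IsMulCommutative T := by
    by_contra hna
    obtain ⟨S, hS, -⟩ := exists_sylowIn_le (IsPGroup.of_bot (p := t) (G := G)) (bot_le (a := H))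
    obtain ⟨g, -, hg⟩ := (sylowIn_top htH hS).exists_conj_le hT.2.1 le_top
    have hTH : T ≤ conjMap g⁻¹ H := by
      have := conjMap_mono (g := g⁻¹) (hg.trans hS.1)
      rwa [conjMap_inv_conjMap] at this
    exact hnc g⁻¹ ((unique_of_nonabelian hG hT.2.1 hna).unique
      ⟨isCoatom_conjMap hH g⁻¹, hTH⟩ ⟨hM, hTM.1⟩)
  exact ne_bot_of_card_prime hX (le_bot_iff.mp ((le_inf hXT hXP).trans
    (fixed_eq_bot_of_abelian hG hM hpτ htM (fun h => htα h.1) hPM hP hT hab).le))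

/-- Auxiliary form with a common Sylow subgroup. -/
theorem false_of_common_sigma_sylow (hH : IsCoatom H) (hnc : ∀ g : G, conjMap g H ≠ M) {q : ℕ}
    [hq : Fact q.Prime] (hqM : q ∈ Cfsg.sigma M) (hqH : q ∈ Cfsg.sigma H) {T : Subgroup G}
    (hT : SylowIn q T ⊤) (hTM : T ≤ M) (hTH : T ≤ H) : False := by
  have hnc' : ∀ g : G, conjMap g M ≠ H := fun g e => hnc g⁻¹ (by rw [← e, conjMap_inv_conjMap])
  have hαM : q ∉ Cfsg.alpha M := fun h => by
    obtain ⟨g, hg⟩ := eq_conj_of_alpha hG hH hM hqH h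
    exact hnc' g hg
  have hαH : q ∉ Cfsg.alpha H := fun h => by
    obtain ⟨g, hg⟩ := eq_conj_of_alpha hG hM hH hqM h
    exact hnc g hg
  have hne : M ≠ H := fun e => hnc 1 (by rw [conjMap_one, e])
  have hT1 : T ≠ ⊥ := fun e => hT.2.2 (by
    rw [e, relIndex_bot_left, Subgroup.card_top]
    exact hqM.2.1.trans (card_subgroup_dvd_card M))
  have hab : IsMulCommutative T := by
    by_contra hna
    exact hne ((unique_of_nonabelian hG hT.2.1 hna).unique ⟨hM, hTM⟩ ⟨hH, hTH⟩)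
  set N := normalizer (T : Set G) with hN
  have hNM : N ≤ M := normalizer_sylow_le hqM (sylowIn_of_le hT hTM le_top)
  have hNH : N ≤ H := normalizer_sylow_le hqH (sylowIn_of_le hT hTH le_top)
  obtain ⟨n, hn, hnC⟩ := SetLike.not_le_iff_exists.mp (show ¬ N ≤ centralizer (T : Set G) from fun hle =>
    hT1 (le_bot_iff.mp ((sylow_le_commutator_normalizer hG hT).trans
      (commutator_eq_bot_iff_le_centralizer.mpr (le_centralizer_iff.mp hle)).le)))
  obtain ⟨z₀, hz₀n, s, k, hs, hk, hzo, hz₀C⟩ : ∃ z ∈ zpowers n, ∃ (s k : ℕ), s.Prime ∧ 1 ≤ k ∧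
      orderOf z = s ^ k ∧ z ∉ centralizer (T : Set G) := by
    by_contra hno
    push Not at hno
    exact hnC (CfsgLib.StructB.mem_of_forall_primePow _ n fun y hy r j hr hj hyo _ => hno y hy r j hr hj hyo)
  haveI : Fact s.Prime := ⟨hs⟩
  have hz₀N : z₀ ∈ N := zpowers_le.mpr hn hz₀n
  set Z := zpowers z₀
  have hZN : Z ≤ N := zpowers_le.mpr hz₀N
  have hZp : IsPGroup s Z := IsPGroup.of_card (n := k) (by rw [Nat.card_zpowers, hzo])
  have hsq : s ≠ q := by
    rintro rfl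
    refine hz₀C (mem_centralizer_iff.mpr fun b hb => ?_)
    have hzT : z₀ ∈ T := (hT.eq_of_le (isPGroup_of_prime_dvd fun t ht hd => by
      rcases ht.dvd_mul.mp (hd.trans (card_sup_dvd hZN)) with h | h
      · exact prime_dvd_pgroup_card hT.2.1 ht h
      · exact prime_dvd_pgroup_card hZp ht h) le_top (le_sup_left : T ≤ T ⊔ Z)).ge
      (mem_sup_right (mem_zpowers z₀))
    exact congrArg Subtype.val (hab.is_comm.comm ⟨b, hb⟩ ⟨z₀, hzT⟩)
  have hcopZ : (Nat.card Z).Coprime (Nat.card T) := coprime_pgroup hZp hT.2.1 hsq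
  have hZsol : Group.IsSolvable Z := isSolvable_of_le_max hG hM (hZN.trans hNM)
  have hQT : ⁅T, Z⁆ ≤ T := le_normalizer_iff_commutator_le_left.mp hZN
  have hQQ := CfsgLib.Coprime.commutator_commutator_eq hZN hcopZ (Or.inl hZsol)
  have hQn : Z ≤ normalizer ((⁅T, Z⁆ : Subgroup G) : Set G) := Subgroup.normalizer_commutator_ge_right T Z
  have hQ1 : ⁅T, Z⁆ ≠ ⊥ := fun e => hz₀C
    (le_centralizer_iff.mp (commutator_eq_bot_iff_le_centralizer.mp e) (mem_zpowers z₀))
  have hsσM : s ∉ Cfsg.sigma M := fun h => false_of_sigma_act hG hH hM hnc' h hqH hsq hZp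
    (hZN.trans hNM) (hT.2.1.to_le hQT) (hQT.trans hTM) hQn hQQ hQ1
  have hrk : Cfsg.PRankLE s 1 M := by
    by_contra h
    obtain ⟨B, hBM, hB⟩ := exists_sq_le_of_not_prankLE le_rfl h
    obtain ⟨B₀, hexc⟩ := exists_exc hG hM hsσM hB hBM
    obtain ⟨g, hg⟩ := eq_conj_of_nilpotent hG hM (hexc.nilpotent hG hM) hH hqM hqH
    exact hnc' g hg.symm
  obtain ⟨x, hxZ, hxo⟩ := exists_order_p hZp (by
    rw [Ne, zpowers_eq_bot]
    intro e
    exact hz₀C (e ▸ one_mem _))
  have hx1 : x ≠ 1 := fun e => hs.ne_one (by rw [← hxo, e, orderOf_one])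
  have hxN : x ∈ N := hZN hxZ
  set X := zpowers x
  have hX : Nat.card X = s := by rw [Nat.card_zpowers, hxo]
  have hTσ : T ≤ Cfsg.sigmaCore M := le_sigmaCore_of_pi hG hM hTM fun r hr hd =>
    (prime_dvd_pgroup_card hT.2.1 hr hd) ▸ hqM
  have hXn : X ≤ N := zpowers_le.mpr hxN
  have hcopX : (Nat.card X).Coprime (Nat.card T) := hcopZ.coprime_dvd_left
    (card_dvd_of_le (zpowers_le.mpr hxZ))
  have hXsol : Group.IsSolvable X := isSolvable_of_le_max hG hM (hXn.trans hNM)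
  have hQX1 : ⁅T, X⁆ ≠ ⊥ := fun e => hz₀C (by
    have h1 : T ≤ Cfsg.sigmaCore M ⊓ centralizer ({x} : Set G) := le_inf hTσ (by
      rw [← centralizer_zpowers_eq]
      exact commutator_eq_bot_iff_le_centralizer.mp e)
    rw [prime_action_cyclic hG hM hsσM hrk hZp (hZN.trans hNM) hxZ hx1] at h1
    exact le_centralizer_iff.mp (h1.trans inf_le_right) (mem_zpowers z₀))
  have hQTX : ⁅T, X⁆ ≤ T := le_normalizer_iff_commutator_le_left.mp hXn
  have hQQX := CfsgLib.Coprime.commutator_commutator_eq hXn hcopX (Or.inl hXsol)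
  have hsτM : s ∈ Cfsg.tau1 M := tau1_of_act hG hH hM hnc' hqH hsq hX (hXn.trans hNM)
    (hT.2.1.to_le hQTX) (hQTX.trans hTM) (Subgroup.normalizer_commutator_ge_right T X) hQQX hQX1
  have hsτH : s ∈ Cfsg.tau1 H := tau1_of_act hG hM hH hnc hqM hsq hX (hXn.trans hNH)
    (hT.2.1.to_le hQTX) (hQTX.trans hTH) (Subgroup.normalizer_commutator_ge_right T X) hQQX hQX1
  have hxM : x ∈ M := hNM hxN
  have hxH : x ∈ H := hNH hxN
  -- fixed points of `x` on both sides
  have hfix : ∀ {L L' : Subgroup G}, IsCoatom L → IsCoatom L' → (∀ g : G, conjMap g L' ≠ L) →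
      q ∈ Cfsg.sigma L → q ∈ Cfsg.sigma L' → x ∈ L →
      Cfsg.sigmaCore L ⊓ centralizer (X : Set G) ≠ ⊥ := by
    intro L L' hL hL' hnc'' hqL hqL' hxL hbot
    obtain ⟨g, hg⟩ := eq_conj_of_nilpotent hG hL
      (isNilpotent_of_fpf_line hX ((zpowers_le.mpr hxL).trans (le_normalizer_sigmaCore L)) hbot) hL' hqL hqL'
    exact hnc'' g⁻¹ (by rw [hg, conjMap_inv_conjMap])
  obtain ⟨t, ht, htd⟩ := Nat.exists_prime_and_dvd (fun h =>
    hfix hM hH hnc hqM hqH hxM (card_eq_one.mp h))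
  haveI : Fact t.Prime := ⟨ht⟩
  obtain ⟨z, hz⟩ := exists_prime_orderOf_dvd_card' t htd
  obtain ⟨v, hv, hvd⟩ := Nat.exists_prime_and_dvd (fun h =>
    hfix hH hM hnc' hqH hqM hxH (card_eq_one.mp h))
  haveI : Fact v.Prime := ⟨hv⟩
  obtain ⟨w, hw⟩ := exists_prime_orderOf_dvd_card' v hvd
  obtain ⟨hzσ, hzX⟩ := mem_inf.mp z.2
  obtain ⟨hwσ, hwX⟩ := mem_inf.mp w.2
  have hzo' : orderOf (z : G) = t := (Subgroup.orderOf_coe z).trans hz
  have hwo' : orderOf (w : G) = v := (Subgroup.orderOf_coe w).trans hw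
  have htM : t ∈ Cfsg.sigma M :=
    mem_sigma_of_dvd_sigmaCore ht (hzo' ▸ Subgroup.orderOf_dvd_natCard _ hzσ)
  have hvH : v ∈ Cfsg.sigma H :=
    mem_sigma_of_dvd_sigmaCore hv (hwo' ▸ Subgroup.orderOf_dvd_natCard _ hwσ)
  have hZc : Nat.card (zpowers (z : G)) = t := by rw [Nat.card_zpowers, hzo']
  have hWc : Nat.card (zpowers (w : G)) = v := by rw [Nat.card_zpowers, hwo']
  have htH : t ∉ Cfsg.sigma H := fixed_not_common hG hM hH hnc hsτM (hXn.trans hNM) hX hZc
    (zpowers_le.mpr hzσ) (zpowers_le.mpr hzX)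
  have hvM : v ∉ Cfsg.sigma M := fixed_not_common hG hH hM hnc' hsτH (hXn.trans hNH) hX hWc
    (zpowers_le.mpr hwσ) (zpowers_le.mpr hwX)
  obtain ⟨⟨hCz, -⟩, -⟩ := onlyMax_of_tau1_fixed hG hM hsτM htM (hXn.trans hNM) hX hZc
    (zpowers_le.mpr hzσ) (zpowers_le.mpr hzX)
  obtain ⟨⟨hCw, -⟩, -⟩ := onlyMax_of_tau1_fixed hG hH hsτH hvH (hXn.trans hNH) hX hWc
    (zpowers_le.mpr hwσ) (zpowers_le.mpr hwX)
  obtain ⟨L, hL, hNL⟩ := (eq_top_or_exists_le_coatom (normalizer (X : Set G))).resolve_left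
    (minSimple_normalizer_ne_top hG (ne_bot_of_card_prime hX)
      fun h => hM.1 (top_le_iff.mp (h ▸ hXn.trans hNM)))
  have hCL : centralizer (X : Set G) ≤ L := (centralizer_le_normalizer _).trans hNL
  have hncML := not_conj_of_normalizer_le hG hM hsσM hrk hL hX hNL
  have hncHL := not_conj_of_normalizer_le hG hH hsτH.2.1 hsτH.2.2.2.2 hL hX hNL
  -- both primes have rank one in `L`
  have hrank : ∀ {K : Subgroup G} {r : ℕ} [Fact r.Prime] {y : G}, IsCoatom K →
      (∀ g : G, conjMap g L ≠ K) → r ∈ Cfsg.sigma K → r ∉ Cfsg.sigma L → s ∈ Cfsg.tau1 K → x ∈ K →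
      orderOf y = r → y ∈ centralizer (X : Set G) → centralizer (zpowers y : Set G) ≤ K →
      Cfsg.PRankLE r 1 L := by
    intro K r _ y hK hncK hrK hrL hsK hxK hyo hyX hCy
    by_contra h
    have hr' : r.Prime := Fact.out
    by_cases hsL : s ∈ Cfsg.sigma L
    · have hyc : Nat.card (zpowers y) = r := by rw [Nat.card_zpowers, hyo]
      obtain ⟨S, hS, hyS⟩ := exists_sylowIn_le (isPGroup_of_card_prime hyc)
        (zpowers_le.mpr (hCL hyX))
      obtain ⟨B', hB'L, hB'⟩ := exists_sq_le_of_not_prankLE le_rfl h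
      obtain ⟨c, -, hcS⟩ := hS.exists_conj_le hB'.isPGroup hB'L
      obtain ⟨B₀, hexc⟩ := exists_exc hG hL hrL (hB'.conjMap c) (hcS.trans hS.1)
      obtain ⟨-, hΩ, -⟩ := hexc.sylow_abelian hG hL hS hcS
      have hyB : y ∈ conjMap c B' := (hΩ y (hyS (mem_zpowers y))).mp (hyo ▸ pow_orderOf_eq_one y)
      have hBK : conjMap c B' ≤ K := le_trans (fun b hb => mem_centralizer_iff.mpr fun a ha => by
        obtain ⟨i, rfl⟩ := mem_zpowers_iff.mp ha
        exact congrArg Subtype.val (hexc.sq.comm.is_comm.comm ⟨y ^ i, zpow_mem hyB i⟩ ⟨b, hb⟩)) hCy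
      have h0 := hexc.inf_other hG hL hK (fun e => hncK 1 (by rw [conjMap_one, e])) hBK
      have hxL : x ∈ Cfsg.sigmaCore L := le_sigmaCore_of_pi hG hL
        ((le_normalizer : X ≤ normalizer (X : Set G)).trans hNL)
        (fun r' hr'' hd => by
          rw [hX] at hd
          exact (Nat.prime_dvd_prime_iff_eq hr'' hs).mp hd ▸ hsL) (mem_zpowers x)
      exact hx1 (mem_bot.mp (h0 ▸ mem_inf.mpr ⟨hxL, hxK⟩))
    · obtain ⟨⟨hr2, hr1⟩, -, -⟩ := Cfsg.Agent.S1409.result hG L hL s hsL X hX hNL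
      exact false_of_tau2_pair hG hK hL (fun e => hsK.2.1 (by rw [e]; exact hrK)) hsK.2.2.2.2 hrK
        ⟨hs, hsL, hr2, hr1⟩ ⟨hr', hrL, prankLE_two_of_not_sigma hG hL hrL, h⟩
  have htL : t ∉ Cfsg.sigma L := fixed_not_common hG hM hL hncML hsτM (hXn.trans hNM) hX hZc
    (zpowers_le.mpr hzσ) (zpowers_le.mpr hzX)
  have hvL : v ∉ Cfsg.sigma L := fixed_not_common hG hH hL hncHL hsτH (hXn.trans hNH) hX hWc
    (zpowers_le.mpr hwσ) (zpowers_le.mpr hwX)
  have htr := hrank hM hncML htM htL hsτM hxM hzo' hzX hCz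
  have hvr := hrank hH hncHL hvH hvL hsτH hxH hwo' hwX hCw
  have htv : t ≠ v := fun e => hvM (e ▸ htM)
  have hCsol : Group.IsSolvable ↥(centralizer (X : Set G)) := isSolvable_of_le_max hG hL hCL
  have hcb : (Nat.card (⊥ : Subgroup G)).Coprime (Nat.card ↥(centralizer (X : Set G))) := by
    rw [Subgroup.card_bot]; exact Nat.coprime_one_left _
  obtain ⟨K, hK, -, hzK⟩ := CfsgLib.Coprime.exists_invariant_hall_ge (A := (⊥ : Subgroup G))
    bot_le hcb hCsol (zpowers_le.mpr hzX) bot_le (π := {r | r = t ∨ r = v}) fun r hr hd => by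
      rw [hZc] at hd
      exact Or.inl ((Nat.prime_dvd_prime_iff_eq hr ht).mp hd)
  obtain ⟨K', hK', -, hwK⟩ := CfsgLib.Coprime.exists_invariant_hall_ge (A := (⊥ : Subgroup G))
    bot_le hcb hCsol (zpowers_le.mpr hwX) bot_le (π := {r | r = t ∨ r = v}) fun r hr hd => by
      rw [hWc] at hd
      exact Or.inr ((Nat.prime_dvd_prime_iff_eq hr hv).mp hd)
  obtain ⟨c, hc, hcK⟩ := CfsgLib.Coprime.exists_conj_of_isPiHallOf hCsol hK' hK
  have hw' : c * w * c⁻¹ ∈ K := hcK.le ⟨w, hwK (mem_zpowers (w : G)), rfl⟩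
  have hKL : K ≤ L := hK.1.trans hCL
  have hw'o : orderOf (c * (w : G) * c⁻¹) = v := by
    rw [← hwo']
    exact orderOf_injective (MulAut.conj c).toMonoidHom (MulAut.conj c).injective (w : G)
  have hcom : ∀ y ∈ centralizer (X : Set G), Commute y x := fun y hy =>
    (mem_centralizer_iff.mp hy x (mem_zpowers x)).symm
  rcases lt_or_gt_of_ne htv with hlt | hlt
  · -- the Sylow `v`-subgroup of `K` is normal, so `z` normalizes `⟨c w c⁻¹⟩`
    obtain ⟨S, hS, hwS⟩ := exists_sylowIn_le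
      (isPGroup_of_card_prime (by rw [Nat.card_zpowers, hw'o] : Nat.card (zpowers (c * (w : G) * c⁻¹)) = v))
      (zpowers_le.mpr hw')
    have hn := sylow_normal_of_lt hG hL hKL (fun r hr hd => hK.2.1 r hr hd) hlt
      ((hZc ▸ card_dvd_of_le hzK) : t ∣ Nat.card K) (prankLE_two_of_not_sigma hG hL htL) hS
    have hz1 : (z : G) ∈ normalizer (zpowers (c * (w : G) * c⁻¹) : Set G) :=
      normalizer_le_of_le_cyclic (isCyclic_pgroup_of_prankLE_one hG hS.2.1 (hS.1.trans hKL) hvr) hwS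
        (hn (hzK (mem_zpowers (z : G))))
    have hz2 : c⁻¹ * z * c ∈ normalizer (zpowers (w : G) : Set G) := by
      have h1 : conjMap c⁻¹ (zpowers (c * (w : G) * c⁻¹)) = zpowers (w : G) := by
        show Subgroup.map _ _ = _
        rw [MonoidHom.map_zpowers]
        congr 1
        show c⁻¹ * (c * (w : G) * c⁻¹) * c⁻¹⁻¹ = w
        group
      rw [← h1, ← conjMap_normalizer]
      refine ⟨z, hz1, ?_⟩
      show c⁻¹ * (z : G) * c⁻¹⁻¹ = _
      rw [inv_inv]
    have hzH : c⁻¹ * z * c ∈ H := by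
      refine le_trans ?_ (le_refl H) hz2
      rw [(Cfsg.Agent.S1404.result hG H hH v hvH (zpowers (w : G)) (isPGroup_of_card_prime hWc)
        (ne_bot_of_card_prime hWc) ((zpowers_le.mpr hwσ).trans (sigmaCore_le H))).2]
      exact sup_le inf_le_left hCw
    exact false_of_fixed_sigma_other hG hH hM hnc' hqH hqM (fun h => hαH h.1) hT hTH hTM hT1 hab hxo
      hsτH hsτM hxH hxN (w := c⁻¹ * z * c) (by
        rw [← hzo', show c⁻¹ * (z : G) * c = c⁻¹ * z * c⁻¹⁻¹ by rw [inv_inv]]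
        exact orderOf_injective (MulAut.conj c⁻¹).toMonoidHom (MulAut.conj c⁻¹).injective (z : G))
      htM htH hzH (hcom _ (mul_mem (mul_mem (inv_mem hc) hzX) hc))
  · -- the Sylow `t`-subgroup of `K` is normal, so `c w c⁻¹ ∈ M`
    obtain ⟨S, hS, hzS⟩ := exists_sylowIn_le (isPGroup_of_card_prime hZc) hzK
    have hn := sylow_normal_of_lt hG hL hKL (fun r hr hd => (hK.2.1 r hr hd).symm) hlt
      (hw'o ▸ Subgroup.orderOf_dvd_natCard K hw') (prankLE_two_of_not_sigma hG hL hvL) hS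
    have hw1 : c * (w : G) * c⁻¹ ∈ normalizer (zpowers (z : G) : Set G) :=
      normalizer_le_of_le_cyclic (isCyclic_pgroup_of_prankLE_one hG hS.2.1 (hS.1.trans hKL) htr) hzS
        (hn hw')
    have hwM : c * (w : G) * c⁻¹ ∈ M := by
      refine le_trans ?_ (le_refl M) hw1
      rw [(Cfsg.Agent.S1404.result hG M hM t htM (zpowers (z : G)) (isPGroup_of_card_prime hZc)
        (ne_bot_of_card_prime hZc) ((zpowers_le.mpr hzσ).trans (sigmaCore_le M))).2]
      exact sup_le inf_le_left hCz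
    exact false_of_fixed_sigma_other hG hM hH hnc hqM hqH (fun h => hαM h.1) hT hTM hTH hT1 hab hxo
      hsτM hsτH hxM hxN hw'o hvH hvM hwM (hcom _ (hK.1 hw'))

/-- Non-conjugate maximal subgroups have disjoint `σ`-sets. -/
theorem sigma_disjoint (hH : IsCoatom H) (hnc : ∀ g : G, conjMap g H ≠ M) {q : ℕ}
    (hqM : q ∈ Cfsg.sigma M) : q ∉ Cfsg.sigma H := by
  intro hqH
  haveI : Fact q.Prime := ⟨hqM.1⟩
  obtain ⟨T, hT, -⟩ := exists_sylowIn_le (IsPGroup.of_bot (p := q) (G := G)) (bot_le (a := M))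
  obtain ⟨S, hS, -⟩ := exists_sylowIn_le (IsPGroup.of_bot (p := q) (G := G)) (bot_le (a := H))
  obtain ⟨g, -, hg⟩ := (sylowIn_top hqM hT).exists_conj_eq (sylowIn_top hqH hS)
  refine false_of_common_sigma_sylow hG hM (isCoatom_conjMap hH g)
    (fun d => by rw [conjMap_conjMap]; exact hnc (d * g)) hqM (mem_sigma_conjMap_of g hqH)
    (sylowIn_top hqM hT) hT.1 ?_
  rw [← hg]
  exact conjMap_mono hS.1

/-- A common prime of `σ` makes two maximal subgroups conjugate. -/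
theorem eq_conj_of_sigma (hH : IsCoatom H) {q : ℕ} (hqM : q ∈ Cfsg.sigma M)
    (hqH : q ∈ Cfsg.sigma H) : ∃ g : G, H = conjMap g M := by
  by_contra hno
  push Not at hno
  exact sigma_disjoint hG hM hH (fun g e => hno g⁻¹ (by rw [← e, conjMap_inv_conjMap])) hqM hqH

end CfsgLib.BG
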