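import Cfsg.Agent.Lib.BG.Tau
import Cfsg.Agent.Lib.BG.Narrow
import Cfsg.Agent.Lib.OddLocal.Transitivity
import Cfsg.Agent.Lib.Comp.Normalize
import Cfsg.Agent.Lib.Solvable.Products
import Cfsg.Agent.S1392
import Cfsg.Agent.S1394
import Cfsg.Agent.S1395
import Cfsg.Agent.S1396
import Cfsg.Agent.S1408
import Cfsg.Agent.S1410
import Cfsg.Agent.S1411

/-!
# `A`-invariant subgroups, `A` of order `p ^ 2` with `p ∉ σ(M)`

Also: no such `A` centralizes `M_σ`.
-/

set_option autoImplicit false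
set_option linter.style.haveILetI false
set_option linter.unusedSectionVars false

namespace CfsgLib.BG

open Subgroup CfsgLib.PLocal CfsgLib.OddLocal
open scoped commutatorElement

universe u
variable {G : Type u} [Group G] [Finite G] {M : Subgroup G} {p : ℕ} [hp : Fact p.Prime]
  {A : Subgroup G}
variable (hG : Cfsg.IsMinSimpleOddOrder G) (hM : IsCoatom M)
include hG hM

theorem isMaxSq_of_not_sigma (hσ : p ∉ Cfsg.sigma M) (hA : IsSq p A) (hAM : A ≤ M) :
    IsMaxSq p A :=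
  ⟨hA, (Cfsg.Agent.S1408.result hG M hM p hσ (prankLE_two_of_not_sigma hG hM hσ)
    (hA.not_prankLE_one hAM)).2 A hAM hA.1 hA.2⟩

theorem not_ideal_of_not_sigma (hσ : p ∉ Cfsg.sigma M) (hA : IsSq p A) (hAM : A ≤ M) :
    ¬ Cfsg.IsIdealPrime p G :=
  (Cfsg.Agent.S1408.result hG M hM p hσ (prankLE_two_of_not_sigma hG hM hσ)
    (hA.not_prankLE_one hAM)).1

omit hM in
theorem transitivity_of_isMaxSq (hA : IsMaxSq p A) : Cfsg.TransitivityHypothesis A := by
  refine Cfsg.Agent.S1396.result hG p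
    ((dvd_card_of_pgroup_ne_bot hA.1.isPGroup hA.1.ne_bot).trans (card_subgroup_dvd_card A))
    A hA.1.isPGroup hA.1.comm
    (Or.inl ⟨fun x hx => ⟨fun h => hA.mem_of_pow_eq_one hx h, fun h => hA.1.1.2 x h⟩,
      fun H hH => Cfsg.Agent.S1410.result hG p H hH⟩)

theorem not_dvd_sigmaCore (hσ : p ∉ Cfsg.sigma M) : ¬ p ∣ Nat.card (Cfsg.sigmaCore M) :=
  fun h => hσ (mem_sigma_of_dvd_sigmaCore hp.out h)

theorem coprime_of_isSq (hσ : p ∉ Cfsg.sigma M) (hA : IsSq p A) :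
    (Nat.card A).Coprime (Nat.card (Cfsg.sigmaCore M)) :=
  coprime_pgroup_of_not_dvd hA.isPGroup (not_dvd_sigmaCore hG hM hσ)

omit hM in
theorem coprime_of_pgroup_le (hA : IsSq p A) {q : ℕ} [Fact q.Prime] {R : Subgroup G}
    (hR : IsPGroup q R) (h : p ≠ q) : (Nat.card A).Coprime (Nat.card R) :=
  coprime_pgroup hA.isPGroup hR h

/-- An `A`-invariant Sylow `q`-subgroup of `M_σ`, containing a given `A`-invariant `q`-subgroup, is
a maximal `A`-invariant `q`-subgroup of `G`. -/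
theorem exists_inv_sylow {q : ℕ} [Fact q.Prime] {X R : Subgroup G}
    (hcop : (Nat.card X).Coprime (Nat.card (Cfsg.sigmaCore M))) (hXM : X ≤ M)
    (hq : q ∈ Cfsg.sigma M) (hR : IsPGroup q R) (hRM : R ≤ Cfsg.sigmaCore M)
    (hRn : X ≤ normalizer (R : Set G)) :
    ∃ Q : Subgroup G, R ≤ Q ∧ SylowIn q Q M ∧ Q ≤ Cfsg.sigmaCore M ∧ X ≤ normalizer (Q : Set G) ∧
      Q ∈ Cfsg.maxInvSubgroups ⊤ X {q} := by
  obtain ⟨P, hRP, hPn⟩ := CfsgLib.Coprime.exists_invariant_sylow_ge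
    (hXM.trans (le_normalizer_sigmaCore M)) hcop (Or.inl (isSolvable_of_le_max hG hM hXM)) hR hRM hRn
  have hle : (P : Subgroup (Cfsg.sigmaCore M)).map (Cfsg.sigmaCore M).subtype ≤ Cfsg.sigmaCore M :=
    map_subtype_le _
  have hS : SylowIn q ((P : Subgroup (Cfsg.sigmaCore M)).map (Cfsg.sigmaCore M).subtype) M := by
    refine ⟨hle.trans (sigmaCore_le M), P.2.map _, ?_⟩
    rw [← relIndex_mul_relIndex _ _ _ hle (sigmaCore_le M)]
    exact fun hd => ((Fact.out : q.Prime).dvd_mul.mp hd).elim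
      (CfsgLib.Fusion.not_dvd_relIndex_of_sylow P)
      ((sigmaCore_hall hG hM).2.2 q Fact.out hq)
  refine ⟨_, hRP, hS, hle, hPn, inv_of_isPGroup hS.2.1 hPn, fun Y hY hle' => ?_⟩
  exact ((sylowIn_top hq hS).eq_of_le (isPGroup_of_mem_inv hY) le_top hle').symm

/-- With `C_G(A) ≤ M`: an `A`-invariant `q`-subgroup (`q ∈ σ(M)`) meeting `M_σ` lies in `M_σ`. -/
theorem inv_le_sigmaCore (hσ : p ∉ Cfsg.sigma M) (hA : IsSq p A) (hAM : A ≤ M)
    (hC : centralizer (A : Set G) ≤ M) {q : ℕ} [hqf : Fact q.Prime] (hq : q ∈ Cfsg.sigma M)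
    {R : Subgroup G} (hR : IsPGroup q R) (hRn : A ≤ normalizer (R : Set G))
    (hne : R ⊓ Cfsg.sigmaCore M ≠ ⊥) : R ≤ Cfsg.sigmaCore M := by
  have hmax := isMaxSq_of_not_sigma hG hM hσ hA hAM
  set R₀ := R ⊓ Cfsg.sigmaCore M with hR₀
  have hR₀n : A ≤ normalizer (R₀ : Set G) :=
    CfsgLib.Comp.le_normalizer_inf hRn (hAM.trans (le_normalizer_sigmaCore M))
  obtain ⟨Q, hR₀Q, hQ, hQσ, -, hQmax⟩ := exists_inv_sylow hG hM (coprime_of_isSq hG hM hσ hA) hAM hq
    (hR.to_le inf_le_left) inf_le_right hR₀n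
  obtain ⟨R', hR', hRR'⟩ := exists_maxInv_ge (inv_of_isPGroup hR hRn)
  have hqA : ¬ q ∣ Nat.card A := fun h => by
    rw [prime_dvd_pgroup_card hA.isPGroup hqf.out h] at hq
    exact hσ hq
  have hH : normalizer (R₀ : Set G) ≠ ⊤ := by
    refine minSimple_normalizer_ne_top hG hne fun h => hM.1 (top_le_iff.mp ?_)
    rw [← h]; exact inf_le_right.trans (sigmaCore_le M)
  obtain ⟨k, hk, hkQ⟩ := Cfsg.Agent.S1392.result hG A (transitivity_of_isMaxSq hG hmax) q hqf.out hqA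
    Q R' hQmax hR' (normalizer (R₀ : Set G)) hH hR₀n
    (fun h => hne (le_bot_iff.mp ((le_inf le_normalizer hR₀Q).trans h.le)))
    (fun h => hne (le_bot_iff.mp ((le_inf le_normalizer (inf_le_left.trans hRR')).trans h.le)))
  have hkM : k ∈ M := hC (piCoreOf_le _ _ hk)
  refine hRR'.trans (hkQ ▸ ?_)
  have hkn := le_normalizer_sigmaCore M hkM
  rw [← conjMap_eq_self_iff.mpr hkn]
  exact conjMap_mono hQσ

omit hM in
theorem exists_prime_dvd_of_ne_bot {D : Subgroup G} (hD : D ≠ ⊥) :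
    ∃ q : ℕ, q.Prime ∧ q ∣ Nat.card D :=
  Nat.exists_prime_and_dvd fun h => hD (card_eq_one.mp h)

/-- A nontrivial `X`-invariant Sylow subgroup in coprime action. -/
theorem exists_inv_sylow_ne_bot {X D : Subgroup G} (hXM : X ≤ M) (hn : X ≤ normalizer (D : Set G))
    (hcop : (Nat.card X).Coprime (Nat.card D)) {q : ℕ} [hq : Fact q.Prime] (hd : q ∣ Nat.card D) :
    ∃ R : Subgroup G, R ≤ D ∧ SylowIn q R D ∧ R ≠ ⊥ ∧ X ≤ normalizer (R : Set G) := by
  obtain ⟨P, hP⟩ := CfsgLib.Coprime.exists_invariant_sylow hn hcop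
    (Or.inl (isSolvable_of_le_max hG hM hXM)) q
  refine ⟨_, map_subtype_le _, sylowIn_map P, fun h => ?_, hP⟩
  have := (sylowIn_map P).2.2
  rw [h, relIndex_bot_left] at this
  exact this hd

/-- `M_σ` meets no other conjugate of `M` containing `A` (if `C_G(A) ≤ M`). -/
theorem sigmaCore_inf_conj (hσ : p ∉ Cfsg.sigma M) (hA : IsSq p A) (hAM : A ≤ M)
    (hC : centralizer (A : Set G) ≤ M) {g : G} (hg : g ∉ M) (hAg : A ≤ conjMap g M) :
    Cfsg.sigmaCore M ⊓ conjMap g M = ⊥ := by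
  by_contra hne
  have hM' := isCoatom_conjMap hM g
  obtain ⟨q, hq, hd⟩ := exists_prime_dvd_of_ne_bot hG hne
  haveI : Fact q.Prime := ⟨hq⟩
  have hqσ : q ∈ Cfsg.sigma M := mem_sigma_of_dvd_sigmaCore hq (hd.trans (card_dvd_of_le inf_le_left))
  obtain ⟨R, hRD, hR, hR1, hRn⟩ := exists_inv_sylow_ne_bot hG hM hAM
    (CfsgLib.Comp.le_normalizer_inf (hAM.trans (le_normalizer_sigmaCore M)) (hAg.trans le_normalizer))
    ((coprime_of_isSq hG hM hσ hA).coprime_dvd_right (card_dvd_of_le inf_le_left)) hd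
  have hσ' : p ∉ Cfsg.sigma (conjMap g M) := by rwa [sigma_conjMap]
  have hqσ' : q ∈ Cfsg.sigma (conjMap g M) := by rwa [sigma_conjMap]
  have hRσ' : R ≤ Cfsg.sigmaCore (conjMap g M) :=
    le_sigmaCore_of_pi hG hM' (hRD.trans inf_le_right) fun r hr hrd =>
      (prime_dvd_pgroup_card hR.2.1 hr hrd) ▸ hqσ'
  obtain ⟨Q, hRQ, hQ, -, hQn, -⟩ := exists_inv_sylow hG hM' (coprime_of_isSq hG hM' hσ' hA) hAg hqσ'
    hR.2.1 hRσ' hRn
  have hQM : Q ≤ M := (inv_le_sigmaCore hG hM hσ hA hAM hC hqσ hQ.2.1 hQn fun h =>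
    hR1 (le_bot_iff.mp ((le_inf hRQ (hRD.trans inf_le_left)).trans h.le))).trans (sigmaCore_le M)
  have htop := sylowIn_top hqσ' hQ
  have hQM' : SylowIn q Q M := ⟨hQM, hQ.2.1, fun hd' => htop.2.2 (hd'.trans
    ⟨M.relIndex ⊤, (relIndex_mul_relIndex _ _ _ hQM le_top).symm⟩)⟩
  have hQg : SylowIn q (conjMap g⁻¹ Q) M := by
    have := hQ.conj g⁻¹
    rwa [conjMap_inv_conjMap] at this
  obtain ⟨m, hm, hmQ⟩ := hQM'.exists_conj_eq hQg
  rw [conjMap_conjMap, conjMap_eq_self_iff] at hmQ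
  have := normalizer_sylow_le hqσ hQM' hmQ
  exact hg (inv_mem_iff.mp ((mul_mem_cancel_left hm).mp this))

/-- If `C_{M_σ}(A) ≠ 1` then the Sylow `p`-subgroups of `M` above `A` lie in `M'`. -/
theorem sylow_le_derived (hσ : p ∉ Cfsg.sigma M) (hA : IsSq p A) (hAM : A ≤ M)
    (hC1 : Cfsg.sigmaCore M ⊓ centralizer (A : Set G) ≠ ⊥) {P : Subgroup G} (hP : SylowIn p P M)
    (hAP : A ≤ P) : P ≤ ⁅M, M⁆ := by
  set N := Cfsg.sigmaCore M
  have hmax := isMaxSq_of_not_sigma hG hM hσ hA hAM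
  -- an invariant Sylow subgroup `Q` of `M_σ`
  obtain ⟨q, hq, hqdC⟩ := exists_prime_dvd_of_ne_bot hG hC1
  have hqd : q ∣ Nat.card N := hqdC.trans (card_dvd_of_le inf_le_left)
  haveI : Fact q.Prime := ⟨hq⟩
  have hqσ := mem_sigma_of_dvd_sigmaCore hq hqd
  have hcopP : (Nat.card P).Coprime (Nat.card N) :=
    coprime_pgroup_of_not_dvd hP.2.1 (not_dvd_sigmaCore hG hM hσ)
  obtain ⟨Q, -, hQ, hQN, hQn, hQmax⟩ := exists_inv_sylow hG hM hcopP hP.1 hqσ
    (IsPGroup.of_bot (p := q) (G := G)) bot_le (by rw [normalizer_eq_top]; exact le_top)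
  have hqA : ¬ q ∣ Nat.card A := fun h =>
    hσ ((prime_dvd_pgroup_card hA.isPGroup hq h) ▸ hqσ)
  have hQ1 : Q ≠ ⊥ := fun h => by
    have := hQ.2.2
    rw [h, relIndex_bot_left] at this
    exact this (hqd.trans (card_dvd_of_le (sigmaCore_le M)))
  have hqC : q ∣ Nat.card (centralizer (A : Set G)) := hqdC.trans (card_dvd_of_le inf_le_right)
  have hZ : ¬ Cfsg.RankLE 1 ↥(A ⊓ centralizer (A : Set G)) :=
    hA.not_rankLE_one (le_inf le_rfl hA.le_centralizer)
  have htr := transitivity_of_isMaxSq hG hmax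
  have hPtop : P ≠ ⊤ := fun h => hM.1 (top_le_iff.mp (h ▸ hP.1))
  haveI := hP.2.1.isNilpotent
  obtain ⟨-, -, -, hd⟩ := Cfsg.Agent.S1395.result hG A htr q hq hqA P hPtop
    (fun r hr hrd => (prime_dvd_pgroup_card hP.2.1 hr hrd) ▸
      dvd_card_of_pgroup_ne_bot hA.isPGroup hA.ne_bot)
    hAP (CfsgLib.Solvable.isSubnormal_of_isNilpotent _)
    (Cfsg.Agent.S1394.result hG A htr hZ q hq hqA hqC)
  obtain ⟨hd1, hd2⟩ := hd Q hQmax
  have hNQ : normalizer (Q : Set G) ≤ M := normalizer_sylow_le hqσ hQ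
  set K := Cfsg.piCoreOf (Cfsg.primesNotDvd (Nat.card A)) (centralizer (P : Set G))
  set L := normalizer (P : Set G) ⊓ M with hL
  have hLn : L ≤ normalizer (K : Set G) :=
    inf_le_left.trans ((CfsgLib.Comp.le_normalizer_centralizer le_rfl).trans
      (le_normalizer_piCoreOf _ _))
  have hsup : normalizer (P : Set G) = K ⊔ L := by
    refine le_antisymm (hd2.le.trans (sup_le_sup_left (inf_le_inf_left _ hNQ) _)) (sup_le ?_ inf_le_left)
    exact (piCoreOf_le _ _).trans (centralizer_le_normalizer _)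
  have hPL : P ≤ L := le_inf le_normalizer hP.1
  -- `P` is a Sylow subgroup of `G`
  have htop : SylowIn p P ⊤ := by
    obtain ⟨S, hS, hPS⟩ := exists_sylowIn_le hP.2.1 (le_top (a := P))
    rcases eq_or_ne P S with h | hne
    · rwa [h]
    exfalso
    have hbig := card_lt_card_inf_normalizer hS.2.1 (lt_of_le_of_ne hPS hne)
    have hPN : SylowIn p P (normalizer (P : Set G)) := by
      refine ⟨le_normalizer, hP.2.1, ?_⟩
      have h1 : ¬ p ∣ P.relIndex L := fun hd => hP.2.2 (hd.trans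
        ⟨L.relIndex M, (relIndex_mul_relIndex _ _ _ hPL inf_le_right).symm⟩)
      rw [← relIndex_mul_relIndex _ _ _ hPL inf_le_left]
      intro hd
      rcases hp.out.dvd_mul.mp hd with h | h
      · exact h1 h
      rw [hsup] at h
      have h1 : L.relIndex (K ⊔ L) * Nat.card (K ⊓ L : Subgroup G) = Nat.card K := by
        refine Nat.eq_of_mul_eq_mul_left (Nat.card_pos (α := L)) ?_
        rw [← mul_assoc, CfsgLib.Coprime.card_mul_relIndex (le_sup_right (a := K)), mul_comm (Nat.card L),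
          ← CfsgLib.Solvable.card_mul_set_mul_card_inf K L, ← coe_mul_of_right_le_normalizer_left K L hLn]
        rfl
      exact (piCoreOf_spec _ (centralizer (P : Set G)) p hp.out (h.trans ⟨_, h1.symm⟩)).2
        (dvd_card_of_pgroup_ne_bot hA.isPGroup hA.ne_bot)
    exact absurd (hPN.card_le (hS.2.1.to_le inf_le_left) inf_le_right) (not_le.mpr hbig)
  -- hence `P ≤ M'` and `E` normalizes `P`
  have hPd : P ≤ ⁅M, M⁆ := by
    have hidx : ¬ p ∣ P.index := by rw [← relIndex_top_right]; exact htop.2.2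
    let S : Sylow p G := htop.2.1.toSylow hidx
    have hcop : (Nat.card (P.subgroupOf (normalizer (P : Set G)))).Coprime
        (P.subgroupOf (normalizer (P : Set G))).index := by
      rw [CfsgLib.Coprime.card_subgroupOf le_normalizer]
      obtain ⟨n, hn⟩ := IsPGroup.iff_card.mp hP.2.1
      rw [hn]
      refine Nat.Coprime.pow_left _ (hp.out.coprime_iff_not_dvd.mpr fun h => ?_)
      exact htop.2.2 (h.trans ⟨(normalizer (P : Set G)).relIndex ⊤,
        (relIndex_mul_relIndex _ _ _ le_normalizer le_top).symm⟩)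
    obtain ⟨V, hV⟩ := exists_right_complement'_of_coprime hcop
    obtain ⟨-, h7⟩ := Cfsg.Agent.S1411.result hG p S (V.map (normalizer (P : Set G)).subtype) (by
      refine ⟨le_normalizer, map_subtype_le _, ?_, fun x hx => ?_⟩
      · refine (Subgroup.eq_bot_iff_forall _).mpr ?_
        rintro _ ⟨hx, y, hy, rfl⟩
        have : y ∈ P.subgroupOf (normalizer (P : Set G)) ⊓ V := mem_inf.mpr ⟨hx, hy⟩
        rw [disjoint_iff.mp hV.disjoint, mem_bot] at this
        rw [this, map_one]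
      · obtain ⟨⟨a, b⟩, hab, -⟩ := hV.existsUnique ⟨x, hx⟩
        exact ⟨_, a.2, _, ⟨b, b.2, rfl⟩, (congrArg Subtype.val hab).symm⟩)
    exact ((le_inf le_rfl h7).trans hd1).trans (commutator_mono hNQ hNQ)
  exact hPd


/-- No `A` of order `p ^ 2` with `p ∉ σ(M)` centralizes `M_σ`. -/
theorem not_centralizes (hσ : p ∉ Cfsg.sigma M) (hA : IsSq p A) (hAM : A ≤ M) :
    ¬ A ≤ centralizer (Cfsg.sigmaCore M : Set G) := by
  intro hcent
  set N := Cfsg.sigmaCore M
  have hmax := isMaxSq_of_not_sigma hG hM hσ hA hAM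
  obtain ⟨E, hE, hAE⟩ := exists_compl_ge hG hM hAM
    (fun r hr hd => (prime_dvd_pgroup_card hA.isPGroup hr hd) ▸ hσ)
  obtain ⟨P, hPE, hAP⟩ := exists_sylowIn_le hA.isPGroup hAE
  have hP := sylowIn_of_compl hG hM hE hσ hPE
  have hp1 : P ≠ ⊥ := fun h => hA.ne_bot (le_bot_iff.mp (h ▸ hAP))
  have hpM : p ∣ Nat.card M := (dvd_card_of_pgroup_ne_bot hP.2.1 hp1).trans (card_dvd_of_le hP.1)
  have hC1 : Cfsg.sigmaCore M ⊓ centralizer (A : Set G) ≠ ⊥ := by
    rw [inf_eq_left.mpr (le_centralizer_iff.mp hcent)]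
    exact sigmaCore_ne_bot hG hM
  have hPd := sylow_le_derived hG hM hσ hA hAM hC1 hP hAP
  have hEP : E ≤ normalizer (P : Set G) := hall_derived_normal hG hM hE
    (π := {p}) ⟨hPE.1, fun r hr hrd => prime_dvd_pgroup_card hP.2.1 hr hrd,
      fun r _ hrp => (Set.mem_singleton_iff.mp hrp) ▸ hPE.2.2⟩ (inf_derived_eq hG hM hE hPE.1 hPd)
  -- the subgroup `W = Ω₁(Z(P))`
  set W := closure {x : G | x ∈ P ∧ x ∈ centralizer (P : Set G) ∧ x ^ p = 1} with hW
  have hWA : W ≤ A := (closure_le _).mpr fun x hx =>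
    hmax.mem_of_pow_eq_one (centralizer_le hAP hx.2.1) hx.2.2
  have hWn : normalizer (P : Set G) ≤ normalizer (W : Set G) := by
    intro g hg
    rw [← conjMap_eq_self_iff, hW]
    show Subgroup.map _ _ = _
    rw [MonoidHom.map_closure]
    congr 1
    have key : ∀ g : G, g ∈ normalizer (P : Set G) → ∀ x : G,
        x ∈ P ∧ x ∈ centralizer (P : Set G) ∧ x ^ p = 1 →
        g * x * g⁻¹ ∈ P ∧ g * x * g⁻¹ ∈ centralizer (P : Set G) ∧ (g * x * g⁻¹) ^ p = 1 := by
      rintro g hg x ⟨h1, h2, h3⟩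
      refine ⟨(mem_normalizer_iff.mp hg x).mp h1,
        (mem_normalizer_iff.mp (CfsgLib.Comp.le_normalizer_centralizer le_rfl hg) x).mp h2, ?_⟩
      rw [conj_pow, h3]; group
    ext x
    constructor
    · rintro ⟨y, hy, rfl⟩
      exact key g hg y hy
    · intro hx
      refine ⟨g⁻¹ * x * g⁻¹⁻¹, key g⁻¹ (inv_mem hg) x hx, ?_⟩
      show g * (g⁻¹ * x * g⁻¹⁻¹) * g⁻¹ = x
      group
  have hW1 : W ≠ ⊥ := by
    haveI : Nontrivial P := nontrivial_iff_ne_bot P |>.mpr hp1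
    haveI := hP.2.1.center_nontrivial
    obtain ⟨z, hz⟩ := exists_order_p (P := (center P).map P.subtype)
      ((hP.2.1.to_subgroup _).map P.subtype) (by
        rw [Ne, map_eq_bot_iff_of_injective _ P.subtype_injective]
        exact (nontrivial_iff_ne_bot _).mp inferInstance)
    obtain ⟨⟨y, hyc, rfl⟩, hzo⟩ := hz
    intro h
    have hmem : (y : G) ∈ W := subset_closure ⟨y.2, mem_centralizer_iff.mpr fun a ha =>
      congrArg Subtype.val (mem_center_iff.mp hyc ⟨a, ha⟩), by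
        show (P.subtype y) ^ p = 1
        rw [← hzo]; exact pow_orderOf_eq_one _⟩
    rw [h, mem_bot] at hmem
    have : orderOf (P.subtype y) = 1 := orderOf_eq_one_iff.mpr hmem
    exact hp.out.ne_one (hzo ▸ this)
  have hWM : M ≤ normalizer (W : Set G) := by
    rw [← isComplIn_sup hE]
    refine sup_le (hEP.trans hWn) ((le_centralizer_iff.mp (hWA.trans hcent)).trans
      (centralizer_le_normalizer _))
  have hNM : normalizer (P : Set G) ≤ M :=
    hWn.trans (normalizer_eq_max hG hM hW1 (hWA.trans hAM) hWM).le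
  exact hσ (mem_sigma_of_normalizer_le hpM hP hNM)

end CfsgLib.BG
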