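import Cfsg.Agent.Lib.BG.Compl
import Mathlib.GroupTheory.SpecificGroups.ZGroup

/-!
# The primes in `τ₁(M)` and `τ₃(M)`
-/

set_option autoImplicit false
set_option linter.style.haveILetI false
set_option linter.unusedSectionVars false

namespace CfsgLib.BG

open Subgroup CfsgLib.PLocal CfsgLib.OddLocal
open scoped commutatorElement

universe u
variable {G : Type u} [Group G] [Finite G] {M E : Subgroup G}
variable (hG : Cfsg.IsMinSimpleOddOrder G)
include hG

theorem isCyclic_pgroup_of_prankLE_one {p : ℕ} [hp : Fact p.Prime] {P H : Subgroup G}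
    (hP : IsPGroup p P) (h : P ≤ H) (hr : Cfsg.PRankLE p 1 H) : IsCyclic P := by
  by_contra hnc
  have h1 : P ≠ ⊥ := fun h => hnc (h ▸ inferInstance)
  obtain ⟨A, hAP, hA⟩ := exists_sq_of_not_isCyclic (prime_ne_two_of_pgroup hG hP h1) hP hnc
  exact hA.not_prankLE_one (hAP.trans h) hr

theorem le_normalizer_of_hall_nilpotent {π : Set ℕ} {N H : Subgroup G} (hN : Group.IsNilpotent N)
    (hH : Cfsg.IsPiHallOf π H N) : N ≤ normalizer (H : Set G) := by
  set Y := Cfsg.piCore π ↥N with hY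
  have hYidx : ∀ p : ℕ, p.Prime → p ∈ π → ¬ p ∣ Y.index := by
    intro p hp hπ hd
    haveI : Fact p.Prime := ⟨hp⟩
    obtain ⟨W⟩ : Nonempty (Sylow p N) := inferInstance
    have hWn : (W : Subgroup N).Normal :=
      ((Group.isNilpotent_of_finite_tfae (G := ↥N)).out 0 3 rfl rfl).mp hN p inferInstance W
    have hle : (W : Subgroup N) ≤ Y := le_piCore hWn fun r hr hrd => by
      obtain ⟨n, hn⟩ := IsPGroup.iff_card.mp W.2
      rw [hn] at hrd
      exact (Nat.prime_dvd_prime_iff_eq hr hp).mp (hr.dvd_of_dvd_pow hrd) ▸ hπ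
    exact W.not_dvd_index (hd.trans (index_dvd_of_le hle))
  have hle : H.subgroupOf N ≤ Y := by
    intro x hx
    refine CfsgLib.Solvable.mem_of_coprime_relIndex (N := ⊤) inferInstance (mem_top x) ?_
    rw [relIndex_top_right]
    refine CfsgLib.Coprime.coprime_of_pi (fun p hp hd => hH.2.1 p hp ?_) hYidx
    exact hd.trans (orderOf_dvd_natCard (⟨x, hx⟩ : H.subgroupOf N) |>.trans
      (dvd_of_eq (CfsgLib.Coprime.card_subgroupOf hH.1)) |> fun h => by rwa [Subgroup.orderOf_mk] at h)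
  have heq : H.subgroupOf N = Y := by
    refine eq_of_le_of_card_ge hle (Nat.le_of_dvd Nat.card_pos ?_)
    rw [CfsgLib.Coprime.card_subgroupOf hH.1]
    refine (CfsgLib.Coprime.coprime_of_pi (π := π) (piCore_spec (G := ↥N) π) hH.2.2).dvd_of_dvd_mul_right ?_
    rw [CfsgLib.Coprime.card_mul_relIndex hH.1]
    exact card_subgroup_dvd_card Y
  exact (normal_subgroupOf_iff_le_normalizer hH.1).mp (heq ▸ inferInstance)

theorem isZGroup_of_prankLE_one {H : Subgroup G}
    (h : ∀ p : ℕ, p.Prime → p ∣ Nat.card H → Cfsg.PRankLE p 1 H) : IsZGroup H := by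
  refine ⟨fun p hp P => ?_⟩
  haveI : Fact p.Prime := ⟨hp⟩
  rcases eq_or_ne ((P : Subgroup H).map H.subtype) ⊥ with h1 | h1
  · rw [Subgroup.map_eq_bot_iff_of_injective _ H.subtype_injective] at h1
    rw [h1]; infer_instance
  · haveI := isCyclic_pgroup_of_prankLE_one hG (P.2.map H.subtype) (map_subtype_le _)
      (h p hp ((dvd_card_of_pgroup_ne_bot (P.2.map _) h1).trans (card_dvd_of_le (map_subtype_le _))))
    exact ((equivMapOfInjective _ H.subtype H.subtype_injective).isCyclic).mpr this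

theorem inf_derived_eq_bot {E₁ : Subgroup G} (hE₁ : E₁ ≤ M)
    (h : ∀ p : ℕ, p.Prime → p ∣ Nat.card E₁ → p ∈ Cfsg.tau1 M) :
    E₁ ⊓ ⁅M, M⁆ = ⊥ :=
  CfsgLib.Coprime.inf_eq_bot_of_coprime
    (coprime_of_forall fun r hr h1 h2 => (h r hr h1).2.2.2.1 h2)

/-- A `τ₁(M)`-subgroup of `M` is cyclic. -/
theorem isCyclic_tau1 {E₁ : Subgroup G} (hE₁ : E₁ ≤ M)
    (h : ∀ p : ℕ, p.Prime → p ∣ Nat.card E₁ → p ∈ Cfsg.tau1 M) : IsCyclic E₁ := by
  haveI : IsZGroup E₁ := isZGroup_of_prankLE_one hG fun p hp hd =>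
    prankLE_mono hE₁ (h p hp hd).2.2.2.2
  have hbot := inf_derived_eq_bot hG hE₁ h
  haveI : IsMulCommutative E₁ := ⟨⟨fun a b => Subtype.ext (by
    have hc : ⁅(a : G), (b : G)⁆ ∈ E₁ ⊓ ⁅M, M⁆ :=
      mem_inf.mpr ⟨mul_mem (mul_mem (mul_mem a.2 b.2) (inv_mem a.2)) (inv_mem b.2),
        commutator_mem_commutator (hE₁ a.2) (hE₁ b.2)⟩
    rw [hbot, mem_bot] at hc
    exact commutatorElement_eq_one_iff_mul_comm.mp hc)⟩⟩
  haveI : Group.IsNilpotent E₁ := by
    letI : CommGroup E₁ := { (inferInstance : Group E₁) with mul_comm := mul_comm' }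
    infer_instance
  infer_instance

variable (hM : IsCoatom M)
include hM

theorem derived_le_compl {E : Subgroup G} : ⁅E, E⁆ ≤ E :=
  le_normalizer_iff_commutator_le_left.mp le_normalizer

/-- A `τ₃(M)`-subgroup of `E` lies in `E'`. -/
theorem tau3_le_derived (hE : Cfsg.IsComplIn E (Cfsg.sigmaCore M) M) {X : Subgroup G} (hX : X ≤ E)
    (h : ∀ p : ℕ, p.Prime → p ∣ Nat.card X → p ∈ Cfsg.tau3 M) : X ≤ ⁅E, E⁆ := by
  have hle : ⁅E, E⁆ ≤ E := derived_le_compl hG hM
  have hn : (⁅E, E⁆.subgroupOf E).Normal := by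
    rw [← Subgroup.map_subtype_commutator, subgroupOf,
      comap_map_eq_self_of_injective E.subtype_injective]
    infer_instance
  intro x hx
  refine CfsgLib.Solvable.mem_of_coprime_relIndex hn (hX hx) (coprime_of_forall fun p hp h1 h2 => ?_)
  haveI : Fact p.Prime := ⟨hp⟩
  obtain ⟨-, hσ, hd, hr⟩ := h p hp (h1.trans (X.orderOf_dvd_natCard hx))
  obtain ⟨P⟩ : Nonempty (Sylow p E) := inferInstance
  haveI : IsCyclic (P : Subgroup E) := by
    haveI := isCyclic_pgroup_of_prankLE_one hG (P.2.map E.subtype)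
      ((map_subtype_le _).trans hE.1) hr
    exact ((equivMapOfInjective _ E.subtype E.subtype_injective).isCyclic).mpr this
  have hmap : (commutator ↥E).map E.subtype = ⁅E, E⁆ := Subgroup.map_subtype_commutator E
  rcases Sylow.not_dvd_card_commutator_or_not_dvd_index_commutator P with hc | hc
  · apply hc
    rw [← card_map_of_injective E.subtype_injective, hmap]
    rw [derived_eq hG hM hE] at hd
    have hnE : ⁅E, E⁆ ≤ normalizer (Cfsg.sigmaCore M : Set G) :=
      (hle.trans hE.1).trans (le_normalizer_sigmaCore M)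
    have hinf : ⁅E, E⁆ ⊓ Cfsg.sigmaCore M = ⊥ :=
      le_bot_iff.mp ((inf_le_inf_right _ hle).trans hE.2.2.1.le)
    rw [CfsgLib.Coprime.card_sup_of_inf_eq_bot hnE hinf] at hd
    exact (hp.dvd_mul.mp hd).resolve_left fun h' => hσ (mem_sigma_of_dvd_sigmaCore hp h')
  · apply hc
    rw [← hmap] at h2
    rwa [relIndex, subgroupOf, comap_map_eq_self_of_injective E.subtype_injective] at h2

theorem isCyclic_tau3 (hE : Cfsg.IsComplIn E (Cfsg.sigmaCore M) M) {X : Subgroup G} (hX : X ≤ E)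
    (h : ∀ p : ℕ, p.Prime → p ∣ Nat.card X → p ∈ Cfsg.tau3 M) : IsCyclic X := by
  haveI : IsZGroup X := isZGroup_of_prankLE_one hG fun p hp hd =>
    prankLE_mono (hX.trans hE.1) (h p hp hd).2.2.2
  haveI := derived_compl_nilpotent hG hM hE
  haveI : Group.IsNilpotent (X.subgroupOf ⁅E, E⁆) := inferInstance
  haveI : Group.IsNilpotent X := Group.nilpotent_of_mulEquiv (subgroupOfEquivOfLe (tau3_le_derived hG hM hE hX h))
  infer_instance

/-- A Hall subgroup of `E` lying in the nilpotent group `E'` is normal in `E`. -/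
theorem hall_derived_normal (hE : Cfsg.IsComplIn E (Cfsg.sigmaCore M) M) {π : Set ℕ} {H : Subgroup G}
    (hH : Cfsg.IsPiHallOf π H E) (hle : H ≤ ⁅E, E⁆) : E ≤ normalizer (H : Set G) := by
  intro e he
  have hle' : ⁅E, E⁆ ≤ E := derived_le_compl hG hM
  have hHd : Cfsg.IsPiHallOf π H ⁅E, E⁆ :=
    ⟨hle, hH.2.1, fun p hp hπ hd => hH.2.2 p hp hπ
      (hd.trans ⟨(⁅E, E⁆).relIndex E, (relIndex_mul_relIndex _ _ _ hle hle').symm⟩)⟩
  have hn : e ∈ normalizer ((⁅E, E⁆ : Subgroup G) : Set G) := by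
    rw [CfsgLib.Coprime.mem_normalizer_iff_map_conj, Subgroup.map_commutator,
      CfsgLib.Coprime.map_conj_of_mem_normalizer (le_normalizer he)]
  obtain ⟨g, hg, hge⟩ := CfsgLib.Coprime.exists_conj_of_isPiHallOf
    (isSolvable_of_le_max hG hM (hle'.trans hE.1))
    hHd (CfsgLib.Coprime.isPiHallOf_map_conj hHd hn)
  have hgn : g ∈ normalizer (H : Set G) :=
    le_normalizer_of_hall_nilpotent hG (derived_compl_nilpotent hG hM hE) hHd hg
  rw [CfsgLib.Coprime.mem_normalizer_iff_map_conj, ← hge,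
    CfsgLib.Coprime.map_conj_of_mem_normalizer hgn]

/-- A Hall `τ₃(M)`-subgroup of `E` is normal in `E`. -/
theorem tau3_hall_normal (hE : Cfsg.IsComplIn E (Cfsg.sigmaCore M) M) {E₃ : Subgroup G}
    (hE₃ : Cfsg.IsPiHallOf (Cfsg.tau3 M) E₃ E) : E ≤ normalizer (E₃ : Set G) :=
  hall_derived_normal hG hM hE hE₃ (tau3_le_derived hG hM hE hE₃.1 hE₃.2.1)

end CfsgLib.BG
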