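import Cfsg.Agent.Lib.BG.Exceptional
import Cfsg.Agent.Lib.BG.Beta
import Cfsg.Agent.Lib.Coprime.Sylow
import Cfsg.Agent.Lib.OddLocal.HallHigmanFix

/-!
# For `p ∉ σ(M)` every `A ∈ E_p^2(M)` has a line `A₀` with `N_G(A₀) ≤ M`
-/

set_option autoImplicit false
set_option linter.style.haveILetI false
set_option linter.unusedSectionVars false

namespace CfsgLib.BG

open Subgroup CfsgLib.PLocal CfsgLib.OddLocal
open scoped commutatorElement

universe u
variable {G : Type u} [Group G] [Finite G] {M L : Subgroup G} {p : ℕ} [hp : Fact p.Prime]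
  {A A₁ : Subgroup G}

/-- Coprime action without fixed points: `[R, A] = R`. -/
theorem commutator_eq_self {A R : Subgroup G} (hn : A ≤ normalizer (R : Set G))
    (hcop : (Nat.card A).Coprime (Nat.card R)) (hs : Group.IsSolvable A ∨ Group.IsSolvable R)
    (h : R ⊓ centralizer (A : Set G) = ⊥) : ⁅R, A⁆ = R := by
  conv_rhs => rw [← CfsgLib.Coprime.commutator_sup_centralizer hn hcop hs, h, sup_bot_eq]

/-- A solvable group is generated by invariant Sylow subgroups. -/
theorem le_of_inv_sylows {A D K : Subgroup G} (hn : A ≤ normalizer (D : Set G))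
    (hcop : (Nat.card A).Coprime (Nat.card D)) (hs : Group.IsSolvable A ∨ Group.IsSolvable D)
    (h : ∀ q : ℕ, q.Prime → ∀ R : Subgroup G, SylowIn q R D → R ≠ ⊥ → A ≤ normalizer (R : Set G) →
      R ≤ K) : D ≤ K := by
  suffices hDK : (D ⊓ K).relIndex D = 1 by
    refine (eq_of_le_of_card_ge inf_le_left (le_of_eq ?_) : D ⊓ K = D).ge.trans inf_le_right
    rw [← CfsgLib.Coprime.card_mul_relIndex (inf_le_left : D ⊓ K ≤ D), hDK, mul_one]
  by_contra hne
  obtain ⟨r, hr, hd⟩ := Nat.exists_prime_and_dvd hne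
  haveI : Fact r.Prime := ⟨hr⟩
  obtain ⟨P, hP⟩ := CfsgLib.Coprime.exists_invariant_sylow hn hcop hs r
  have hR := sylowIn_map P
  rcases eq_or_ne ((P : Subgroup D).map D.subtype) ⊥ with h0 | h0
  · refine hR.2.2 (hd.trans (relIndex_dvd_of_le_left _ ?_))
    rw [h0]; exact bot_le
  · exact hR.2.2 (hd.trans (relIndex_dvd_of_le_left _ (le_inf hR.1 (h r hr _ hR h0 hP))))

theorem sylowIn_of_le {r : ℕ} [Fact r.Prime] {T D K : Subgroup G} (hT : SylowIn r T K) (hTD : T ≤ D)
    (hDK : D ≤ K) : SylowIn r T D :=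
  ⟨hTD, hT.2.1, fun hd => hT.2.2 (hd.trans
    ⟨D.relIndex K, (relIndex_mul_relIndex _ _ _ hTD hDK).symm⟩)⟩

/-- An element of a normal subgroup `N` moving `X ≤ E` inside `E`, `N ∩ E = 1`, centralizes `X`. -/
theorem mem_centralizer_of_conj_le {N E X : Subgroup G} {c : G} (hc : c ∈ N)
    (hd : N ⊓ E = ⊥) (hEN : E ≤ normalizer (N : Set G)) (hX : X ≤ E) (hcX : conjMap c X ≤ E) :
    c ∈ centralizer (X : Set G) := by
  rw [mem_centralizer_iff]
  intro a ha
  have h1 : c * a * c⁻¹ * a⁻¹ ∈ E := mul_mem (hcX (conj_mem_conjMap ha)) (inv_mem (hX ha))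
  have h2 : c * a * c⁻¹ * a⁻¹ ∈ N := by
    rw [show c * a * c⁻¹ * a⁻¹ = c * (a * c⁻¹ * a⁻¹) by group]
    exact mul_mem hc ((mem_normalizer_iff.mp (hEN (hX ha)) _).mp (inv_mem hc))
  have h3 : c * a * c⁻¹ * a⁻¹ = 1 := by
    rw [← mem_bot, ← hd]
    exact ⟨h2, h1⟩
  rw [mul_inv_eq_one, mul_inv_eq_iff_eq_mul] at h3
  exact h3.symm

variable (hG : Cfsg.IsMinSimpleOddOrder G) (hM : IsCoatom M)
include hG hM

theorem sylowIn_of_sigmaCore {r : ℕ} [Fact r.Prime] {T : Subgroup G}
    (hT : SylowIn r T (Cfsg.sigmaCore M)) (hr : r ∈ Cfsg.sigma M) : SylowIn r T M := by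
  refine ⟨hT.1.trans (sigmaCore_le M), hT.2.1, ?_⟩
  rw [← relIndex_mul_relIndex _ _ _ hT.1 (sigmaCore_le M)]
  exact fun hd => ((Fact.out : r.Prime).dvd_mul.mp hd).elim hT.2.2
    ((sigmaCore_hall hG hM).2.2 r Fact.out hr)

theorem not_beta_of_sq (hσ : p ∉ Cfsg.sigma M) (hA : IsSq p A) (hAM : A ≤ M) {K : Subgroup G} :
    p ∉ Cfsg.beta K := fun h => not_ideal_of_not_sigma hG hM hσ hA hAM h.2

/-- If no line of `A` has its normalizer in `M` then `σ(M)` avoids `σ(L)`, `L` exceptional for `A`. -/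
theorem disjoint_of_no_line (hA : IsSq p A) (hAM : A ≤ M)
    (hno : ∀ X, IsLine p A X → ¬ normalizer (X : Set G) ≤ M) (hL : IsCoatom L)
    (h : IsExc p L A A₁) : ∀ q ∈ Cfsg.sigma M, q ∉ Cfsg.sigma L := by
  intro q hqM hqL
  obtain ⟨g, hg⟩ := eq_conj_of_nilpotent hG hL (h.nilpotent hG hL) hM hqL hqM
  have h' : IsExc p M (conjMap g A) (conjMap g A₁) := by rw [hg]; exact h.conj g
  obtain ⟨P, hP, hAP⟩ := exists_sylowIn_le hA.isPGroup hAM
  obtain ⟨m, hm, hmP⟩ := hP.exists_conj_le h'.sq.isPGroup h'.le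
  have h'' : IsExc p M (conjMap m (conjMap g A)) (conjMap m (conjMap g A₁)) := by
    have := h'.conj m
    rwa [conjMap_eq_of_mem hm] at this
  have hle : A ≤ conjMap m (conjMap g A) := fun a ha =>
    ((h''.sylow_abelian hG hM hP hmP).2.1 a (hAP ha)).mp (hA.1.2 a ha)
  have heq := eq_of_le_of_card_ge hle (by rw [card_conjMap, card_conjMap])
  exact hno _ ⟨heq ▸ h''.line.1, h''.line.2⟩ h''.norm

/-- No Sylow subgroup of `L_σ` lies in `M` when `L` is exceptional for `A` and no line fits `M`. -/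
theorem case_one (hσ : p ∉ Cfsg.sigma M) (hA : IsSq p A) (hAM : A ≤ M)
    (hno : ∀ X, IsLine p A X → ¬ normalizer (X : Set G) ≤ M) (hL : IsCoatom L)
    (h : IsExc p L A A₁) {r : ℕ} [hr : Fact r.Prime] {T : Subgroup G}
    (hT : SylowIn r T (Cfsg.sigmaCore L)) (hT1 : T ≠ ⊥) (hTM : T ≤ M) : False := by
  have hdis := disjoint_of_no_line hG hM hA hAM hno hL h
  have hLM : L ≠ M := fun e => hno A₁ h.line (e ▸ h.norm)
  have hrL : r ∈ Cfsg.sigma L := mem_sigma_of_dvd_sigmaCore hr.out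
    ((dvd_card_of_pgroup_ne_bot hT.2.1 hT1).trans (card_dvd_of_le hT.1))
  have hrM : r ∉ Cfsg.sigma M := fun h' => hdis r h' hrL
  have hrp : p ≠ r := fun e => h.not_sigma (e ▸ hrL)
  have hTn : L ≤ normalizer (T : Set G) :=
    sylow_le_normalizer_of_nilpotent hG hL (h.nilpotent hG hL) hT
  have hNT : normalizer (T : Set G) = L :=
    normalizer_eq_max hG hL hT1 (hT.1.trans (sigmaCore_le L)) hTn
  have hTtop := sylowIn_top hrL (sylowIn_of_sigmaCore hG hL hT hrL)
  have hcopAT : (Nat.card A).Coprime (Nat.card T) := coprime_pgroup hA.isPGroup hT.2.1 hrp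
  have hAn : A ≤ normalizer (T : Set G) := h.le.trans hTn
  have hTA : ⁅T, A⁆ = T := commutator_eq_self hAn hcopAT
    (Or.inl (isSolvable_of_le_max hG hM hAM))
    (le_bot_iff.mp ((inf_le_inf_right _ hT.1).trans (h.centralizer_eq_bot hG hL).le))
  have hπ : ∀ s : ℕ, s.Prime → s ∣ Nat.card ↥(A ⊔ T) → s ∉ Cfsg.sigma M := by
    intro s hs hd
    have h1 : Nat.card ↥(A ⊔ T) ∣ Nat.card A * Nat.card T := by
      refine ⟨Nat.card ↥(A ⊓ T), ?_⟩
      rw [← CfsgLib.Solvable.card_mul_set_mul_card_inf A T,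
        ← coe_mul_of_left_le_normalizer_right A T hAn]
      rfl
    rcases hs.dvd_mul.mp (hd.trans h1) with h' | h'
    · exact (prime_dvd_pgroup_card hA.isPGroup hs h') ▸ hσ
    · exact (prime_dvd_pgroup_card hT.2.1 hs h') ▸ hrM
  obtain ⟨E, hE, hATE⟩ := exists_compl_ge hG hM (sup_le hAM hTM) hπ
  have hAE : A ≤ E := le_sup_left.trans hATE
  have hTd : T ≤ ⁅E, E⁆ := hTA.ge.trans (commutator_mono (le_sup_right.trans hATE) hAE)
  have hEL : E ≤ L := hNT ▸ hall_derived_normal hG hM hE (π := {r})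
    ⟨le_sup_right.trans hATE, fun s hs hd => prime_dvd_pgroup_card hT.2.1 hs hd,
      fun s _ hsr => (Set.mem_singleton_iff.mp hsr) ▸
        (sylowIn_of_le hTtop (le_sup_right.trans hATE) le_top).2.2⟩ hTd
  have hN : Cfsg.sigmaCore M ⊓ E = ⊥ := by
    rw [inf_comm]
    exact inf_sigmaCore_eq_bot hG hM fun s hs hd => not_sigma_of_dvd_compl hG hM hE hs hd
  have hEN : E ≤ normalizer (Cfsg.sigmaCore M : Set G) := hE.1.trans (le_normalizer_sigmaCore M)
  have hCL : centralizer (A : Set G) ≤ L := h.centralizer_le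
  -- `N_M(A) ≤ L`
  have hNMA : M ⊓ normalizer (A : Set G) ≤ L := by
    rintro m ⟨hm, hmA⟩
    obtain ⟨n, hn, e, he, rfl⟩ : ∃ n ∈ Cfsg.sigmaCore M, ∃ e ∈ E, n * e = m := by
      have hm' : m ∈ ((E ⊔ Cfsg.sigmaCore M : Subgroup G) : Set G) := by
        rw [isComplIn_sup hE]; exact hm
      rw [sup_comm, coe_mul_of_right_le_normalizer_left _ _ hEN] at hm'
      exact hm'
    have h1 : conjMap n (conjMap e A) = A := by
      rw [conjMap_conjMap]; exact conjMap_eq_self_iff.mpr hmA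
    have h2 : conjMap e A ≤ E := (conjMap_mono hAE).trans (conjMap_eq_of_mem he).le
    have h3 : n ∈ centralizer (conjMap e A : Set G) :=
      mem_centralizer_of_conj_le hn hN hEN h2 (h1.le.trans hAE)
    have h4 : conjMap e A = A :=
      (conjMap_eq_self_iff.mpr (centralizer_le_normalizer _ h3)).symm.trans h1
    rw [h4] at h3
    exact mul_mem (hCL h3) (hEL he)
  -- `C_{M_σ}(A) = 1`
  have hC : Cfsg.sigmaCore M ⊓ centralizer (A : Set G) = ⊥ := by
    by_contra hC1
    obtain ⟨q, hq, hqdC⟩ := exists_prime_dvd_of_ne_bot hG hC1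
    haveI : Fact q.Prime := ⟨hq⟩
    have hqσ := mem_sigma_of_dvd_sigmaCore hq (hqdC.trans (card_dvd_of_le inf_le_left))
    obtain ⟨Q, -, hQ, -, hQn, hQmax⟩ := exists_inv_sylow hG hM (coprime_of_isSq hG hM hσ hA) hAM
      hqσ (IsPGroup.of_bot (p := q) (G := G)) bot_le (by rw [normalizer_eq_top]; exact le_top)
    have hqA : ¬ q ∣ Nat.card A := fun h' => hσ ((prime_dvd_pgroup_card hA.isPGroup hq h') ▸ hqσ)
    obtain ⟨g, hg, hgL⟩ := h.exists_move hG hL
    obtain ⟨k, hk, hkQ⟩ := Cfsg.Agent.S1394.result hG A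
      (transitivity_of_isMaxSq hG (isMaxSq_of_not_sigma hG hM hσ hA hAM))
      (hA.not_rankLE_one (le_inf le_rfl hA.le_centralizer)) q hq hqA
      (hqdC.trans (card_dvd_of_le inf_le_right)) Q hQmax _ (map_conj_mem_maxInv hg hQmax)
    have hkC : k ∈ centralizer (A : Set G) := piCoreOf_le _ _ hk
    have h1 : conjMap (k⁻¹ * g) Q = Q := by
      rw [← conjMap_conjMap, show conjMap g Q = conjMap k Q from hkQ, conjMap_inv_conjMap]
    have h2 : k⁻¹ * g ∈ M ⊓ normalizer (A : Set G) :=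
      mem_inf.mpr ⟨normalizer_sylow_le hqσ hQ (conjMap_eq_self_iff.mp h1),
        mul_mem (inv_mem (centralizer_le_normalizer _ hkC)) hg⟩
    exact hgL (by simpa using mul_mem (hCL hkC) (hNMA h2))
  -- a prime in `β(M)`
  obtain ⟨u, hu, hub⟩ : ∃ u : ℕ, u.Prime ∧ u ∈ Cfsg.beta M := by
    by_contra hno'
    push Not at hno'
    have hnil : Group.IsNilpotent ↥⁅M, M⁆ := nilpotent_of_not_beta hG hM le_rfl fun s hs _ => hno' s hs
    have hcomm : T ≤ centralizer (Cfsg.sigmaCore M : Set G) :=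
      le_centralizer_of_nilpotent hnil (hTA.ge.trans (commutator_mono hTM hAM))
        (sigmaCore_le_derived hG hM) (coprime_pgroup_of_not_dvd hT.2.1
          fun hd => hrM (mem_sigma_of_dvd_sigmaCore hr.out hd))
    have hML : Cfsg.sigmaCore M ≤ L :=
      (le_centralizer_iff.mp hcomm).trans ((centralizer_le_normalizer _).trans hNT.le)
    have hcent : Cfsg.sigmaCore M ≤ centralizer (Cfsg.sigmaCore L : Set G) := by
      refine le_of_inv_sylows (hAM.trans (le_normalizer_sigmaCore M)) (coprime_of_isSq hG hM hσ hA)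
        (Or.inl (isSolvable_of_le_max hG hM hAM)) fun q hq R hR hR1 hRn => ?_
      haveI : Fact q.Prime := ⟨hq⟩
      have hqσ := mem_sigma_of_dvd_sigmaCore hq
        ((dvd_card_of_pgroup_ne_bot hR.2.1 hR1).trans (card_dvd_of_le hR.1))
      have hqp : q ≠ p := fun e => hσ (e ▸ hqσ)
      have := h.commutator_le_centralizer hG hL hqp (hdis q hqσ) hR.2.1 (hR.1.trans hML) hRn
      rwa [commutator_eq_self hRn (coprime_pgroup hA.isPGroup hR.2.1 hqp.symm)
        (Or.inl (isSolvable_of_le_max hG hM hAM))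
        (le_bot_iff.mp ((inf_le_inf_right _ hR.1).trans hC.le))] at this
    exact not_mutual hG hM hL hdis hML ((le_centralizer_iff.mp hcent).trans
      ((centralizer_le_normalizer _).trans (normalizer_sigmaCore hG hM).le))
  haveI : Fact u.Prime := ⟨hu⟩
  have huσ := mem_sigma_of_mem_beta hG hM hub
  obtain ⟨U, -, hU, hUσ, hUn, -⟩ := exists_inv_sylow hG hM
    (coprime_sigmaCore hG hM hπ) (sup_le hAM hTM) huσ
    (IsPGroup.of_bot (p := u) (G := G)) bot_le (by rw [normalizer_eq_top]; exact le_top)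
  have hUL : ¬ U ≤ L := by
    intro hle
    obtain ⟨B, hBM, hB, hlt⟩ := not_prankLE_iff.mp hub.1.2
    obtain ⟨m, -, hm⟩ := hU.exists_conj_le (elemAb_isPGroup hB) hBM
    have := elemAb_card_le (elemAb_map (MulAut.conj m).toMonoidHom hB) (hm.trans hle)
      (prankLE_two_of_not_sigma hG hL (hdis u huσ))
    rw [card_conjMap] at this
    exact absurd this (not_le.mpr hlt)
  obtain ⟨g, hg, hgL⟩ := h.exists_move hG hL
  have hgA : conjMap g A = A := conjMap_eq_self_iff.mpr hg
  set Y := conjMap g A₁ with hY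
  have hYA : Y ≤ A := (conjMap_mono h.line.1).trans hgA.le
  have hYc : Nat.card Y = p := by rw [hY, card_conjMap, h.line.2]
  have hfpf : Cfsg.sigmaCore L ⊓ centralizer (Y : Set G) = ⊥ :=
    h.fpf_conj hG hL hgL (hgA.ge.trans (conjMap_mono h.le))
  obtain ⟨y, hyY, hyo⟩ := exists_order_p (isPGroup_of_card_prime hYc) (ne_bot_of_card_prime hYc)
  have hzy : zpowers y = Y := zpowers_eq_of_card_prime hYc hyY
    fun e => hp.out.ne_one (by rw [← hyo, e, orderOf_one])
  have hTY : ⁅T, Y⁆ = T := commutator_eq_self (hYA.trans hAn)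
    (hcopAT.coprime_dvd_left (card_dvd_of_le hYA))
    (Or.inl (isSolvable_of_le_max hG hM (hYA.trans hAM)))
    (le_bot_iff.mp ((inf_le_inf_right _ hT.1).trans hfpf.le))
  set R := U ⊓ centralizer (Y : Set G) with hR
  have hR1 : R ≠ ⊥ := by
    intro h0
    refine hUL ((le_centralizer_iff.mp ?_).trans ((centralizer_le_normalizer _).trans hNT.le))
    have hU1 : U ≠ ⊥ := fun e => hUL (e ▸ bot_le)
    have hur : u ≠ r := fun e => hrM (e ▸ huσ)
    have hup : u ≠ p := fun e => hσ (e ▸ huσ)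
    have := commutator_le_centralizer_of_fixedPointFree hp.out (prime_ne_two_of_pgroup hG hT.2.1 hT1)
      (prime_ne_two_of_pgroup hG hU.2.1 hU1) (prime_ne_two_of_pgroup hG hA.isPGroup hA.ne_bot)
      hrp.symm hur hup hyo hT.2.1 hU.2.1 (hAn (hYA hyY)) (hUn (le_sup_left (b := T) (hYA hyY)))
      (le_sup_right.trans hUn) (by rw [hzy]; exact h0)
    rwa [hzy, hTY] at this
  have hup : u ≠ p := fun e => hσ (e ▸ huσ)
  have h' : IsExc p (conjMap g L) A Y := by
    have := h.conj g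
    rwa [hgA] at this
  have hRL : R ≤ conjMap g L :=
    inf_le_right.trans ((centralizer_le_normalizer _).trans h'.norm)
  have hRn : A ≤ normalizer (R : Set G) := CfsgLib.Comp.le_normalizer_inf
    (le_sup_left.trans hUn)
    ((hA.le_centralizer.trans (Subgroup.centralizer_le hYA)).trans le_normalizer)
  have hRp : IsPGroup u R := hU.2.1.to_le inf_le_left
  have hRc : R ≤ centralizer (Cfsg.sigmaCore (conjMap g L) : Set G) := by
    have := h'.commutator_le_centralizer hG (isCoatom_conjMap hL g) hup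
      (by rw [sigma_conjMap]; exact hdis u huσ) hRp hRL hRn
    rwa [commutator_eq_self hRn (coprime_pgroup hA.isPGroup hRp hup.symm)
      (Or.inl (isSolvable_of_le_max hG hM hAM))
      (le_bot_iff.mp ((inf_le_inf_right _ (inf_le_left.trans hUσ)).trans hC.le))] at this
  have hTg : conjMap g T ≤ M := by
    refine ((conjMap_mono hT.1).trans ((sigmaCore_conjMap g).ge.trans (le_centralizer_iff.mp hRc))).trans ?_
    exact centralizer_le_of_beta hG hM hub hRp hR1 (inf_le_left.trans hU.1)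
  have hAgT : A ≤ normalizer (conjMap g T : Set G) := by
    rw [← conjMap_normalizer]; exact h'.le.trans (conjMap_mono hTn)
  have hπ' : ∀ s : ℕ, s.Prime → s ∣ Nat.card ↥(A ⊔ conjMap g T) → s ∉ Cfsg.sigma M := by
    intro s hs hd
    have h1 : Nat.card ↥(A ⊔ conjMap g T) ∣ Nat.card A * Nat.card ↥(conjMap g T) := by
      refine ⟨Nat.card ↥(A ⊓ conjMap g T), ?_⟩
      rw [← CfsgLib.Solvable.card_mul_set_mul_card_inf A (conjMap g T),
        ← coe_mul_of_left_le_normalizer_right A _ hAgT]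
      rfl
    rcases hs.dvd_mul.mp (hd.trans h1) with h' | h'
    · exact (prime_dvd_pgroup_card hA.isPGroup hs h') ▸ hσ
    · exact (prime_dvd_pgroup_card (hT.2.1.map _) hs h') ▸ hrM
  obtain ⟨E', hE', hAT'⟩ := exists_compl_ge hG hM (sup_le hAM hTg) hπ'
  obtain ⟨c, hc, hcE⟩ := compl_conj hG hM hE hE'
  have hc1 : c = 1 := by
    rw [← mem_bot, ← hC]
    exact ⟨hc, mem_centralizer_of_conj_le hc hN hEN hAE
      ((conjMap_mono (le_sup_left.trans hAT')).trans hcE.le)⟩
  rw [hc1] at hcE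
  have hTgL : conjMap g T ≤ L := by
    refine (le_sup_right.trans hAT').trans (le_trans (le_of_eq ?_) hEL)
    rw [← hcE, conjMap_eq_self_iff.mpr (one_mem _)]
  have hTL : SylowIn r T L := sylowIn_of_sigmaCore hG hL hT hrL
  have hTT : conjMap g T ≤ T := by
    obtain ⟨l, hl, hle⟩ := hTL.exists_conj_le (hT.2.1.map _ : IsPGroup r (conjMap g T)) hTgL
    intro x hx
    have := hle (conj_mem_conjMap (g := l) hx)
    exact (mem_normalizer_iff.mp (hTn hl) x).mpr this
  exact hgL (hNT ▸ conjMap_eq_self_iff.mp (eq_of_le_of_card_ge hTT (by rw [card_conjMap])))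

/-- For `p ∉ σ(M)`, every square of `M` has a line whose normalizer lies in `M`. -/
theorem exists_exc (hσ : p ∉ Cfsg.sigma M) (hA : IsSq p A) (hAM : A ≤ M) :
    ∃ A₀, IsExc p M A A₀ := by
  by_contra hne
  have hno : ∀ X, IsLine p A X → ¬ normalizer (X : Set G) ≤ M := fun X hX h =>
    hne ⟨X, hσ, hA, hAM, hX, h⟩
  have hsol : Group.IsSolvable A := isSolvable_of_le_max hG hM hAM
  have hcase : ∀ L : Subgroup G, IsCoatom L → ∀ X, IsExc p L A X → ¬ Cfsg.sigmaCore L ≤ M := by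
    intro L hL X h hle
    obtain ⟨r, hr, hrd⟩ := exists_prime_dvd_of_ne_bot hG (sigmaCore_ne_bot hG hL)
    haveI : Fact r.Prime := ⟨hr⟩
    obtain ⟨T, hT, -⟩ := exists_sylowIn_le (IsPGroup.of_bot (p := r) (G := G))
      (bot_le (a := Cfsg.sigmaCore L))
    refine case_one hG hM hσ hA hAM hno hL h hT (fun h0 => ?_) (hT.1.trans hle)
    have := hT.2.2
    rw [h0, relIndex_bot_left] at this
    exact this hrd
  -- moved invariant `q`-subgroups give exceptional maximal subgroups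
  have hexc : ∀ X, IsLine p A X → ∀ (q : ℕ), q.Prime → ∀ R : Subgroup G, IsPGroup q R →
      R ≤ Cfsg.sigmaCore M → R ≤ centralizer (X : Set G) → A ≤ normalizer (R : Set G) →
      ⁅R, A⁆ ≠ ⊥ → ∃ L, IsCoatom L ∧ IsExc p L A X ∧
        ⁅R, A⁆ ≤ centralizer (Cfsg.sigmaCore L : Set G) := by
    intro X hX q hq R hR hRσ hRX hRn hmove
    haveI : Fact q.Prime := ⟨hq⟩
    have hR1 : R ≠ ⊥ := fun h => hmove (by rw [h]; simp)
    have hqσ : q ∈ Cfsg.sigma M := mem_sigma_of_dvd_sigmaCore hq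
      ((dvd_card_of_pgroup_ne_bot hR hR1).trans (card_dvd_of_le hRσ))
    have hqp : q ≠ p := fun e => hσ (e ▸ hqσ)
    obtain ⟨L, hL, hNL⟩ := (eq_top_or_exists_le_coatom (normalizer (X : Set G))).resolve_left
      (minSimple_normalizer_ne_top hG (ne_bot_of_card_prime hX.2)
        (fun h => hM.1 (top_le_iff.mp (h ▸ hX.1.trans hAM))))
    have hAL : A ≤ L :=
      ((hA.le_centralizer.trans (Subgroup.centralizer_le hX.1)).trans
        (centralizer_le_normalizer _)).trans hNL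
    have hRL : R ≤ L := (hRX.trans (centralizer_le_normalizer _)).trans hNL
    have hpL : p ∉ Cfsg.sigma L := by
      intro hpL
      have hAσ : A ≤ Cfsg.sigmaCore L := le_sigmaCore_of_pi hG hL hAL fun s hs hd =>
        (prime_dvd_pgroup_card hA.isPGroup hs hd) ▸ hpL
      refine hmove ((commutator_eq_bot_iff_le_centralizer).mpr ?_)
      by_cases hqL : q ∈ Cfsg.sigma L
      · have hRσL : R ≤ Cfsg.sigmaCore L := le_sigmaCore_of_pi hG hL hRL fun s hs hd =>
          (prime_dvd_pgroup_card hR hs hd) ▸ hqL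
        by_cases hqb : q ∈ Cfsg.beta L
        · obtain ⟨g, hg⟩ := eq_conj_of_alpha hG hM hL hqσ hqb.1
          exact absurd (by rwa [← hg, sigma_conjMap]) hσ
        exact le_centralizer_iff.mp (le_centralizer_of_not_beta hG hL hA.isPGroup hR hqp.symm hRn
          (hAσ.trans (sigmaCore_le_derived hG hL)) (hRσL.trans (sigmaCore_le_derived hG hL))
          (not_beta_of_sq hG hM hσ hA hAM) hqb)
      · refine commutator_eq_bot_iff_le_centralizer.mp (le_bot_iff.mp ?_)
        refine le_trans (le_inf ((commutator_mono le_rfl le_rfl).trans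
          (CfsgLib.Comp.commutator_le_of_le_normalizer hRn)) ?_)
          (inf_sigmaCore_eq_bot hG hL (X := R) fun s hs hd =>
            (prime_dvd_pgroup_card hR hs hd) ▸ hqL).le
        rw [commutator_comm]
        exact (commutator_mono hAσ hRL).trans
          (CfsgLib.Comp.commutator_le_of_le_normalizer (le_normalizer_sigmaCore L))
    refine ⟨L, hL, ⟨hpL, hA, hAL, hX, hNL⟩, ?_⟩
    have h : IsExc p L A X := ⟨hpL, hA, hAL, hX, hNL⟩
    exact h.commutator_le_centralizer hG hL hqp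
      (disjoint_of_no_line hG hM hA hAM hno hL h q hqσ) hR hRL hRn
  have hlineN : ∀ (U : Subgroup G) X, IsLine p A X → A ≤ normalizer (U : Set G) →
      A ≤ normalizer ((U ⊓ centralizer (X : Set G) : Subgroup G) : Set G) := fun U X hX hUn =>
    CfsgLib.Comp.le_normalizer_inf hUn
      ((hA.le_centralizer.trans (Subgroup.centralizer_le hX.1)).trans le_normalizer)
  -- `A` centralizes the `β`-part
  have hbeta : ∀ u : ℕ, u.Prime → u ∈ Cfsg.beta M → ∀ U : Subgroup G, IsPGroup u U →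
      U ≤ Cfsg.sigmaCore M → A ≤ normalizer (U : Set G) → U ≤ centralizer (A : Set G) := by
    intro u hu hub U hUp hUσ hUn
    haveI : Fact u.Prime := ⟨hu⟩
    have hup : p ≠ u := fun e => hσ (e.symm ▸ mem_sigma_of_mem_beta hG hM hub)
    refine hA.le_of_forall_line hUn (fun hd => hup (prime_dvd_pgroup_card hUp hp.out hd))
      fun X hX => commutator_eq_bot_iff_le_centralizer.mp ?_
    by_contra hmove
    obtain ⟨L, hL, h, hc⟩ := hexc X hX u hu _ (hUp.to_le inf_le_left) (inf_le_left.trans hUσ)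
      inf_le_right (hlineN U X hX hUn) hmove
    have hle : ⁅U ⊓ centralizer (X : Set G), A⁆ ≤ U :=
      (CfsgLib.Comp.commutator_le_of_le_normalizer (hlineN U X hX hUn)).trans inf_le_left
    exact hcase L hL X h ((le_centralizer_iff.mp hc).trans (centralizer_le_of_beta hG hM hub
      (hUp.to_le hle) hmove (hle.trans (hUσ.trans (sigmaCore_le M)))))
  have hcop := coprime_of_isSq hG hM hσ hA
  have hAn := hAM.trans (le_normalizer_sigmaCore M)
  -- `C_{M_σ}(A) = 1`
  have hC : Cfsg.sigmaCore M ⊓ centralizer (A : Set G) = ⊥ := by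
    by_contra hC1
    obtain ⟨P, hP, hAP⟩ := exists_sylowIn_le hA.isPGroup hAM
    have hAd := hAP.trans (sylow_le_derived hG hM hσ hA hAM hC1 hP hAP)
    refine not_centralizes hG hM hσ hA hAM (le_centralizer_iff.mp ?_)
    refine le_of_inv_sylows hAn hcop (Or.inl hsol) fun q hq R hR hR1 hRn => ?_
    haveI : Fact q.Prime := ⟨hq⟩
    by_cases hqb : q ∈ Cfsg.beta M
    · exact hbeta q hq hqb R hR.2.1 hR.1 hRn
    have hqσ := mem_sigma_of_dvd_sigmaCore hq
      ((dvd_card_of_pgroup_ne_bot hR.2.1 hR1).trans (card_dvd_of_le hR.1))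
    exact le_centralizer_iff.mp (le_centralizer_of_not_beta hG hM hA.isPGroup hR.2.1
      (fun e => hσ (e ▸ hqσ)) hRn hAd (hR.1.trans (sigmaCore_le_derived hG hM))
      (not_beta_of_sq hG hM hσ hA hAM) hqb)
  have hnb : ∀ u : ℕ, u.Prime → u ∉ Cfsg.beta M := by
    intro u hu hub
    haveI : Fact u.Prime := ⟨hu⟩
    obtain ⟨U, -, hU, hUσ, hUn, -⟩ := exists_inv_sylow hG hM hcop hAM
      (mem_sigma_of_mem_beta hG hM hub) (IsPGroup.of_bot (p := u) (G := G)) bot_le
      (by rw [normalizer_eq_top]; exact le_top)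
    have hU1 : U ≠ ⊥ := fun h0 => by
      have := hU.2.2
      rw [h0, relIndex_bot_left] at this
      exact this (mem_sigma_of_mem_beta hG hM hub).2.1
    exact hU1 (le_bot_iff.mp ((le_inf hUσ (hbeta u hu hub U hU.2.1 hUσ hUn)).trans hC.le))
  have hnilM : Group.IsNilpotent ↥⁅M, M⁆ := nilpotent_of_not_beta hG hM le_rfl fun s hs _ => hnb s hs
  have hnil : Group.IsNilpotent (Cfsg.sigmaCore M) :=
    isNilpotent_of_le hnilM (sigmaCore_le_derived hG hM)
  obtain ⟨q, hq, hqd⟩ := exists_prime_dvd_of_ne_bot hG (sigmaCore_ne_bot hG hM)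
  haveI : Fact q.Prime := ⟨hq⟩
  have hqσ := mem_sigma_of_dvd_sigmaCore hq hqd
  have hqp : q ≠ p := fun e => hσ (e ▸ hqσ)
  obtain ⟨Q, -, hQ, hQσ, hQn, -⟩ := exists_inv_sylow hG hM hcop hAM hqσ
    (IsPGroup.of_bot (p := q) (G := G)) bot_le (by rw [normalizer_eq_top]; exact le_top)
  have hQ1 : Q ≠ ⊥ := fun h0 => by
    have := hQ.2.2
    rw [h0, relIndex_bot_left] at this
    exact this (hqd.trans (card_dvd_of_le (sigmaCore_le M)))
  have hQN : M ≤ normalizer (Q : Set G) :=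
    sylow_le_normalizer_of_nilpotent hG hM hnil (sylowIn_of_le hQ hQσ (sigmaCore_le M))
  have hfix : ∀ R : Subgroup G, R ≤ Q → A ≤ normalizer (R : Set G) → ⁅R, A⁆ = R := fun R hRQ hRn =>
    commutator_eq_self hRn (coprime_pgroup hA.isPGroup (hQ.2.1.to_le hRQ) hqp.symm) (Or.inl hsol)
      (le_bot_iff.mp ((inf_le_inf_right _ (hRQ.trans hQσ)).trans hC.le))
  obtain ⟨X, hX, hX1⟩ := hA.exists_line_ne_bot hQn
    (fun hd => hqp (prime_dvd_pgroup_card hQ.2.1 hp.out hd).symm) hQ1
  obtain ⟨L, hL, h, -⟩ := hexc X hX q hq _ (hQ.2.1.to_le inf_le_left) (inf_le_left.trans hQσ)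
    inf_le_right (hlineN Q X hX hQn) (by rw [hfix _ inf_le_left (hlineN Q X hX hQn)]; exact hX1)
  have hdis := disjoint_of_no_line hG hM hA hAM hno hL h
  set R := Q ⊓ L with hR
  have hR1 : R ≠ ⊥ := fun h0 => hX1 (le_bot_iff.mp ((le_inf inf_le_left
    ((inf_le_right.trans (centralizer_le_normalizer _)).trans h.norm)).trans h0.le))
  have hRp : IsPGroup q R := hQ.2.1.to_le inf_le_left
  have hRn : A ≤ normalizer (R : Set G) :=
    CfsgLib.Comp.le_normalizer_inf hQn (h.le.trans le_normalizer)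
  have hRc : R ≤ centralizer (Cfsg.sigmaCore L : Set G) := by
    have := h.commutator_le_centralizer hG hL hqp (hdis q hqσ) hRp inf_le_right hRn
    rwa [hfix R inf_le_left hRn] at this
  have hLn : Cfsg.sigmaCore L ≤ normalizer (R : Set G) :=
    (le_centralizer_iff.mp hRc).trans (centralizer_le_normalizer _)
  obtain ⟨L', hL', hNL'⟩ := (eq_top_or_exists_le_coatom (normalizer (R : Set G))).resolve_left
    (minSimple_normalizer_ne_top hG hR1
      (fun h' => hM.1 (top_le_iff.mp (h' ▸ inf_le_left.trans hQ.1))))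
  rcases eq_or_ne L' M with rfl | hL'M
  · exact hcase L hL X h (hLn.trans hNL')
  rcases eq_or_ne L' L with rfl | hL'L
  · have hRQ : R = Q := by
      by_contra hne'
      have hlt := card_lt_card_inf_normalizer hQ.2.1 (lt_of_le_of_ne inf_le_left hne')
      exact absurd (card_le_of_le (le_inf inf_le_left (inf_le_right.trans hNL') :
        Q ⊓ normalizer (R : Set G) ≤ R)) (not_le.mpr hlt)
    rw [hRQ] at hLn
    exact hcase _ hL X h (hLn.trans (normalizer_eq_max hG hM hQ1 hQ.1 hQN).le)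
  have hAL' : A ≤ L' := hRn.trans hNL'
  have hσL : Cfsg.sigmaCore L ≤ L' := hLn.trans hNL'
  have hne0 := sigmaCore_ne_bot hG hL
  have hpL' : p ∉ Cfsg.sigma L' := fun hp' => hne0 (le_bot_iff.mp
    ((le_inf le_rfl hσL).trans (h.inf_eq_bot_of_sigma hG hL hL' hAL' hp').le))
  by_cases hex : ∀ Z, IsLine p A Z → ¬ normalizer (Z : Set G) ≤ L'
  · obtain ⟨r, hr, hrd⟩ := exists_prime_dvd_of_ne_bot hG hne0
    haveI : Fact r.Prime := ⟨hr⟩
    obtain ⟨T, hT, -⟩ := exists_sylowIn_le (IsPGroup.of_bot (p := r) (G := G))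
      (bot_le (a := Cfsg.sigmaCore L))
    refine case_one hG hL' hpL' hA hAL' hex hL h hT (fun h0 => ?_) (hT.1.trans hσL)
    have := hT.2.2
    rw [h0, relIndex_bot_left] at this
    exact this hrd
  push Not at hex
  obtain ⟨Z, hZ, hNZ⟩ := hex
  have h' : IsExc p L' A Z := ⟨hpL', hA, hAL', hZ, hNZ⟩
  have hdis' : ∀ s ∈ Cfsg.sigma L, s ∉ Cfsg.sigma L' := by
    intro s hs hs'
    obtain ⟨g, rfl⟩ := eq_conj_of_nilpotent hG hL (h.nilpotent hG hL) hL' hs hs'
    exact hne0 (le_bot_iff.mp ((le_inf le_rfl hσL).trans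
      (h.inf_conj hG hL (fun hg => hL'L (conjMap_eq_of_mem hg)) hAL').le))
  have hcL : Cfsg.sigmaCore L ≤ centralizer (Cfsg.sigmaCore L' : Set G) := by
    refine le_of_inv_sylows (h.le.trans (le_normalizer_sigmaCore L))
      (coprime_of_isSq hG hL h.not_sigma hA) (Or.inl hsol) fun r hr T hT hT1 hTn => ?_
    haveI : Fact r.Prime := ⟨hr⟩
    have hrσ := mem_sigma_of_dvd_sigmaCore hr
      ((dvd_card_of_pgroup_ne_bot hT.2.1 hT1).trans (card_dvd_of_le hT.1))
    have hrp : r ≠ p := fun e => h.not_sigma (e ▸ hrσ)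
    have := h'.commutator_le_centralizer hG hL' hrp (hdis' r hrσ) hT.2.1 (hT.1.trans hσL) hTn
    rwa [commutator_eq_self hTn (coprime_pgroup hA.isPGroup hT.2.1 hrp.symm) (Or.inl hsol)
      (le_bot_iff.mp ((inf_le_inf_right _ hT.1).trans (h.centralizer_eq_bot hG hL).le))] at this
  exact not_mutual hG hL hL' hdis' hσL ((le_centralizer_iff.mp hcL).trans
    ((centralizer_le_normalizer _).trans (normalizer_sigmaCore hG hL).le))

end CfsgLib.BG
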