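import Cfsg.Agent.Lib.BG.Tau2Facts
import Cfsg.Agent.Lib.BG.Beta
import Cfsg.Agent.Lib.BG.SquareLines
import Cfsg.Agent.Lib.Coprime.Abelian

/-!
# Elements outside `τ₂(M)` fix a line of the square
-/

set_option autoImplicit false
set_option linter.style.haveILetI false
set_option linter.unusedSectionVars false

namespace CfsgLib.BG

open Subgroup CfsgLib.PLocal CfsgLib.OddLocal
open scoped commutatorElement

universe u v
variable {G : Type u} [Group G] [Finite G]

theorem eq_of_isCyclic_card {H : Type v} [Group H] [Finite H] {r : ℕ} [hr : Fact r.Prime]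
    {T X Y : Subgroup H} (hT : IsCyclic T) (hX : X ≤ T) (hY : Y ≤ T) (hXc : Nat.card X = r)
    (hYc : Nat.card Y = r) : X = Y := by
  have hel : ∀ Z : Subgroup H, Nat.card Z = r → Cfsg.IsElementaryAbelian r Z := fun Z hZ => by
    obtain ⟨a, ha, hao⟩ := exists_order_p (isPGroup_of_card_prime hZ) (ne_bot_of_card_prime hZ)
    rw [← zpowers_eq_of_card_prime hZ ha fun h => hr.out.ne_one (by rw [← hao, h, orderOf_one])]
    exact elemAb_zpowers (hao ▸ pow_orderOf_eq_one a)
  have hcomm : X ≤ centralizer (Y : Set H) := fun a ha => mem_centralizer_iff.mpr fun b hb =>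
    congrArg Subtype.val ((IsCyclic.isMulCommutative (α := T)).is_comm.comm ⟨b, hY hb⟩ ⟨a, hX ha⟩)
  have hB := elemAb_sup (hel X hXc) (hel Y hYc) hcomm
  haveI := hT
  haveI : IsCyclic ↥(X ⊔ Y) := isCyclic_of_le (sup_le hX hY)
  have hexp : Monoid.exponent ↥(X ⊔ Y) ∣ r := Monoid.exponent_dvd_of_forall_pow_eq_one
    fun a => Subtype.ext (hB.2 a a.2)
  rw [IsCyclic.exponent_eq_card] at hexp
  have hle := Nat.le_of_dvd hr.out.pos hexp
  exact (eq_of_le_of_card_ge le_sup_left (hXc ▸ hle)).trans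
    (eq_of_le_of_card_ge le_sup_right (hYc ▸ hle)).symm

variable {M : Subgroup G} {p : ℕ} [hp : Fact p.Prime] {A A₀ : Subgroup G}
variable (hG : Cfsg.IsMinSimpleOddOrder G) (hM : IsCoatom M)
include hG hM

/-- An element acting irreducibly on `A` lies in no derived subgroup of a maximal subgroup over `A`. -/
theorem not_mem_derived (hA : IsSq p A) {P : Subgroup G} (hP : SylowIn p P ⊤)
    (hΩ : ∀ x ∈ P, x ^ p = 1 → x ∈ A) {g : G} {r : ℕ} [hr : Fact r.Prime]
    (hg : IsPGroup r (zpowers g)) (hrp : r ≠ p) (hcomm : ⁅A, zpowers g⁆ = A) {L : Subgroup G}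
    (hL : IsCoatom L) (hAL : A ≤ L) (hgL : g ∈ L) : g ∉ ⁅L, L⁆ := by
  intro hgd
  have hα : p ∉ Cfsg.alpha L := fun hα => hα.2 (by
    intro E hEc hEe
    rw [← card_map_of_injective L.subtype_injective]
    have hE := elemAb_map L.subtype (⟨hEc, hEe⟩ : Cfsg.IsElementaryAbelian p E)
    obtain ⟨k, -, hk⟩ := hP.exists_conj_le (elemAb_isPGroup hE) le_top
    have h1 : conjMap k (E.map L.subtype) ≤ A := fun x hx =>
      hΩ x (hk hx) ((elemAb_map (MulAut.conj k).toMonoidHom hE).2 x hx)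
    have h2 := card_le_of_le h1
    rwa [card_conjMap, hA.2] at h2)
  have hAd : A ≤ ⁅L, L⁆ := hcomm.ge.trans (commutator_mono hAL (zpowers_le.mpr hgL))
  set K := Cfsg.piCore (Cfsg.alpha L) ↥L
  set f := QuotientGroup.mk' K
  have hAd' : A.subgroupOf L ≤ commutator ↥L := fun y hy => by
    have h2 := hAd hy
    rw [← Subgroup.map_subtype_commutator] at h2
    obtain ⟨z, hz, hzy⟩ := h2
    exact L.subtype_injective hzy ▸ hz
  have hgd' : zpowers (⟨g, hgL⟩ : L) ≤ commutator ↥L := by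
    rw [zpowers_le]
    rw [← Subgroup.map_subtype_commutator] at hgd
    obtain ⟨z, hz, hzy⟩ := hgd
    exact (Subtype.ext hzy : z = ⟨g, hgL⟩) ▸ hz
  have hgp : IsPGroup r (zpowers (⟨g, hgL⟩ : L)) := by
    intro x
    obtain ⟨n, hn⟩ := hg ⟨(x : L), by
      obtain ⟨k, hk⟩ := mem_zpowers_iff.mp x.2
      exact ⟨k, by rw [← hk]; simp⟩⟩
    exact ⟨n, Subtype.ext (Subtype.ext (by simpa using congrArg Subtype.val hn))⟩
  have hAp : IsPGroup p (A.subgroupOf L) := hA.isPGroup.comap_subtype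
  have hc : (A.subgroupOf L).map f ≤ centralizer (((zpowers (⟨g, hgL⟩ : L)).map f : Subgroup _) : Set _) :=
    le_centralizer_of_nilpotent (G := ↥L ⧸ K) (isNilpotent_commutator_quotient_alpha hG hL) (map_mono hAd')
      (map_mono hgd') (coprime_pgroup (hAp.map f) (hgp.map f) hrp.symm)
  have hAK : ⁅A.subgroupOf L, zpowers (⟨g, hgL⟩ : L)⁆ ≤ K := by
    have h0 : (⁅A.subgroupOf L, zpowers (⟨g, hgL⟩ : L)⁆).map f = ⊥ := by
      rw [map_commutator, commutator_eq_bot_iff_le_centralizer]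
      exact hc
    rw [Subgroup.map_eq_bot_iff, QuotientGroup.ker_mk'] at h0
    exact h0
  have hmap : (⁅A.subgroupOf L, zpowers (⟨g, hgL⟩ : L)⁆).map L.subtype = A := by
    rw [map_commutator, map_subgroupOf_eq_of_le hAL, MonoidHom.map_zpowers]
    exact hcomm
  have hd : Nat.card A ∣ Nat.card K := by
    rw [← hmap, card_map_of_injective L.subtype_injective]
    exact card_dvd_of_le hAK
  refine hα (piCore_spec (G := ↥L) (Cfsg.alpha L) p hp.out ((dvd_pow_self p two_ne_zero).trans ?_))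
  rwa [hA.2] at hd

/-- An `r`-element of `M` acting on `A`, with `r ∉ σ(M)` of rank one whose elements of order `r`
act fixed-point-freely on `M_σ`, fixes a line. -/
theorem IsExc.exists_fixed_line (h : IsExc p M A A₀) {P : Subgroup G} (hPM : SylowIn p P M)
    (hAP : A ≤ P) (hP : SylowIn p P ⊤) {r : ℕ} [hr : Fact r.Prime] {g : G} (hgM : g ∈ M)
    (hgA : g ∈ normalizer (A : Set G)) (hg : IsPGroup r (zpowers g)) (hrσ : r ∉ Cfsg.sigma M)
    (hr1 : Cfsg.PRankLE r 1 M)
    (hfree : ∀ y ∈ zpowers g, orderOf y = r →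
      Cfsg.sigmaCore M ⊓ centralizer ({y} : Set G) = ⊥) :
    ∃ X, IsLine p A X ∧ g ∈ normalizer (X : Set G) := by
  by_contra hno
  push Not at hno
  have hA := h.sq
  obtain ⟨hPab, hΩ, -⟩ := h.sylow_abelian hG hM hPM hAP
  have hrp : r ≠ p := fun e => by subst e; exact hA.not_prankLE_one h.le hr1
  have hgodd : Odd (orderOf g) := hG.1.of_dvd_nat (orderOf_dvd_natCard g)
  obtain ⟨k, hk⟩ := IsPGroup.iff_orderOf.mp hg ⟨g, mem_zpowers g⟩
  rw [Subgroup.orderOf_mk] at hk
  have hKn : zpowers g ≤ normalizer (A : Set G) := zpowers_le.mpr hgA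
  -- lines invariant under `g`
  have hinv : ∀ (t : G), Commute t g →
      A ⊓ centralizer ({t} : Set G) = ⊥ ∨ A ⊓ centralizer ({t} : Set G) = A := by
    intro t ht
    have hd := card_dvd_of_le (inf_le_left (a := A) (b := centralizer ({t} : Set G)))
    rw [hA.2] at hd
    obtain ⟨i, hi, hcard⟩ := (Nat.dvd_prime_pow hp.out).mp hd
    rcases i with _ | _ | i
    · exact Or.inl (card_eq_one.mp (by rw [hcard, pow_zero]))
    · exfalso
      refine hno _ ⟨inf_le_left, by rw [hcard, pow_one]⟩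
        (conjMap_eq_self_iff.mp (eq_of_le_of_card_ge ?_ (by rw [card_conjMap])))
      rintro _ ⟨a, ha, rfl⟩
      obtain ⟨ha1, ha2⟩ := mem_inf.mp ha
      refine mem_inf.mpr ⟨(mem_normalizer_iff.mp hgA a).mp ha1, mem_centralizer_singleton_iff.mpr ?_⟩
      have h1 := mem_centralizer_singleton_iff.mp ha2
      show (g * a * g⁻¹) * t = t * (g * a * g⁻¹)
      calc (g * a * g⁻¹) * t = g * (a * t) * g⁻¹ := by
            rw [mul_assoc (g * a), ← (ht.inv_right).eq]; group
        _ = g * (t * a) * g⁻¹ := by rw [h1]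
        _ = t * (g * a * g⁻¹) := by rw [← mul_assoc, ← ht.eq]; group
    · exact Or.inr (eq_of_le_of_card_ge inf_le_left (by
        rw [hcard, hA.2]; exact Nat.pow_le_pow_right hp.out.pos (by omega)))
  have hgfree : A ⊓ centralizer (zpowers g : Set G) = ⊥ := by
    rw [centralizer_zpowers_eq]
    refine (hinv g (Commute.refl g)).resolve_right fun e => ?_
    obtain ⟨X, hX⟩ := hA.exists_line
    exact hno X hX (centralizer_le_normalizer _ (mem_centralizer_iff.mpr fun a ha =>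
      mem_centralizer_singleton_iff.mp (inf_eq_left.mp e (hX.1 ha))))
  have hcomm : ⁅A, zpowers g⁆ = A := commutator_eq_self hKn (coprime_pgroup hg hA.isPGroup hrp)
    (Or.inl (isSolvable_of_le_max hG hM (zpowers_le.mpr hgM))) hgfree
  have hk0 : k ≠ 0 := by
    intro e
    rw [e, pow_zero, orderOf_eq_one_iff] at hk
    obtain ⟨X, hX⟩ := hA.exists_line
    exact hno X hX (hk ▸ one_mem _)
  obtain ⟨g₁, hg₁g, hg₁o⟩ := exists_order_p hg fun e => hk0 (by
    rw [zpowers_eq_bot.mp e, orderOf_one] at hk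
    exact (Nat.pow_eq_one.mp hk.symm).resolve_left hr.out.ne_one)
  have hg₁1 : g₁ ≠ 1 := fun e => hr.out.ne_one (by rw [← hg₁o, e, orderOf_one])
  obtain ⟨i₁, rfl⟩ := mem_zpowers_iff.mp hg₁g
  have hg₁comm : Commute (g ^ i₁) g := (Commute.refl g).zpow_left i₁
  have hg₁M : g ^ i₁ ∈ M := zpow_mem hgM _
  have hg₁A : g ^ i₁ ∈ normalizer (A : Set G) := zpow_mem hgA _
  have hg₁p : IsPGroup r (zpowers (g ^ i₁)) := hg.to_le (zpowers_le.mpr hg₁g)
  -- the element of order `r` centralizes `A`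
  have hg₁C : g ^ i₁ ∈ centralizer (A : Set G) := by
    suffices e : A ⊓ centralizer ({g ^ i₁} : Set G) = A from
      mem_centralizer_iff.mpr fun a ha => mem_centralizer_singleton_iff.mp (inf_eq_left.mp e ha)
    refine (hinv _ hg₁comm).resolve_left fun e => ?_
    by_cases hall : g ^ i₁ ∈ linesFixer p A
    · obtain ⟨X, hX⟩ := hA.exists_line
      have h1 := dvd_pred_of_line hX.2 hg₁p (mem_linesFixer.mp hall X hX) fun hle =>
        ne_bot_of_card_prime hX.2 (le_bot_iff.mp ((le_inf hX.1 hle).trans e.le))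
      have hr2 : r ≠ 2 := by
        rintro rfl
        exact (Nat.not_even_iff_odd.mpr hgodd) (even_iff_two_dvd.mpr (hk ▸ dvd_pow_self 2 hk0))
      obtain ⟨Y, hY, hgY⟩ := hA.exists_fixed_line hg hgA fun hd => by
        have h2 := Nat.mod_eq_zero_of_dvd hd
        have := hr.out.two_le
        rw [Nat.add_mod, h1, ← Nat.add_mod, Nat.mod_eq_of_lt (by omega : 1 + 1 < r)] at h2
        omega
      exact hno Y hY hgY
    by_cases hsome : ∃ Y, IsLine p A Y ∧ g ^ i₁ ∈ normalizer (Y : Set G)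
    · obtain ⟨Y, hY⟩ := hsome
      refine hno Y hY.1 (fixes_of_small (Φ := fun Y => IsLine p A Y ∧ g ^ i₁ ∈ normalizer (Y : Set G))
        hgodd (fun Z hZ => ⟨⟨(conjMap_mono hZ.1.1).trans (conjMap_eq_self_iff.mpr hgA).le,
          by rw [card_conjMap, hZ.1.2]⟩, ?_⟩) (fun X Y Z hX hY hZ h1 h2 h3 =>
          hall (hA.mem_linesFixer_of_three hX.1 hY.1 hZ.1 h1 h2 h3 hX.2 hY.2 hZ.2)) hY)
      rw [← conjMap_eq_self_iff, conjMap_conjMap, hg₁comm.eq, ← conjMap_conjMap,
        conjMap_eq_self_iff.mpr hZ.2]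
    push Not at hsome
    -- no fixed line: a fixed point in `Z(M_σ)`
    have hnil := h.nilpotent hG hM
    set N := Cfsg.sigmaCore M with hN
    have hN1 : N ≠ ⊥ := sigmaCore_ne_bot hG hM
    haveI : Nontrivial N := nontrivial_iff_ne_bot N |>.mpr hN1
    haveI := hnil
    set V := (center N).map N.subtype with hV
    have hV1 : V ≠ ⊥ := by
      rw [hV, Ne, map_eq_bot_iff_of_injective _ N.subtype_injective]
      exact Group.IsNilpotent.center_ne_bot _
    have hVN : V ≤ N := map_subtype_le _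
    have hVab : IsMulCommutative V := ⟨⟨fun a b => Subtype.ext (by
      obtain ⟨a', ha', ha''⟩ := a.2
      obtain ⟨b', hb', hb''⟩ := b.2
      show (a : G) * b = b * a
      rw [← ha'', ← hb'', ← map_mul, ← map_mul, (mem_center_iff.mp hb' a')])⟩⟩
    have hVn : M ≤ normalizer (V : Set G) := fun m hm => by
      refine conjMap_eq_self_iff.mp (eq_of_le_of_card_ge ?_ (by rw [card_conjMap]))
      rintro _ ⟨_, ⟨c, hc, rfl⟩, rfl⟩
      refine ⟨⟨m * c * m⁻¹, (mem_normalizer_iff.mp (le_normalizer_sigmaCore M hm) c).mp c.2⟩,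
        mem_center_iff.mpr fun x => Subtype.ext ?_, rfl⟩
      have hx' : m⁻¹ * x * m ∈ N := by
        have := (mem_normalizer_iff.mp (le_normalizer_sigmaCore M (inv_mem hm)) x).mp x.2
        simpa using this
      have h1 : (m⁻¹ * x * m) * c = c * (m⁻¹ * x * m) :=
        congrArg Subtype.val (mem_center_iff.mp hc ⟨_, hx'⟩)
      show (x : G) * (m * c * m⁻¹) = m * c * m⁻¹ * x
      calc (x : G) * (m * c * m⁻¹) = m * ((m⁻¹ * x * m) * c) * m⁻¹ := by group
        _ = m * (c * (m⁻¹ * x * m)) * m⁻¹ := by rw [h1]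
        _ = m * c * m⁻¹ * x := by group
    have hAV : A ≤ normalizer (V : Set G) := h.le.trans hVn
    have hpV : ¬ p ∣ Nat.card V := fun hd => h.not_sigma
      (mem_sigma_of_dvd_sigmaCore hp.out (hd.trans (card_dvd_of_le hVN)))
    obtain ⟨X, hX, hXV⟩ := hA.exists_line_ne_bot hAV hpV hV1
    obtain ⟨v, hv, hv1⟩ := (bot_or_exists_ne_one _).resolve_left hXV
    obtain ⟨hvV, hvX⟩ := mem_inf.mp hv
    letI : CommGroup V := { (inferInstance : Group V) with mul_comm := fun a b => hVab.is_comm.comm a b }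
    letI := Fintype.ofFinite A
    let φ : A →* MulAut V := CfsgLib.Coprime.conjHom hAV
    let B : Subgroup A := X.subgroupOf A
    set t := g ^ i₁ with ht
    have htV : t ∈ normalizer (V : Set G) := hVn hg₁M
    let c : ℕ → V := fun i =>
      ⟨t ^ i * v * (t ^ i)⁻¹, (mem_normalizer_iff.mp (pow_mem htV i) v).mp hvV⟩
    have hprod : ∏ i ∈ Finset.range r, c i = 1 := by
      have hsh : ∏ i ∈ Finset.range r, c (i + 1) = ∏ i ∈ Finset.range r, c i := by
        have hr0 : c r = c 0 := Subtype.ext (by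
          show t ^ r * v * (t ^ r)⁻¹ = t ^ 0 * v * (t ^ 0)⁻¹
          rw [← hg₁o, pow_orderOf_eq_one, pow_zero])
        obtain ⟨n, hn⟩ : ∃ n, r = n + 1 := ⟨r - 1, by have := hr.out.pos; omega⟩
        rw [hn] at hr0 ⊢
        rw [Finset.prod_range_succ, Finset.prod_range_succ', hr0]
      set w := ∏ i ∈ Finset.range r, c i with hw
      have hmem : (w : G) ∈ Cfsg.sigmaCore M ⊓ centralizer ({t} : Set G) := by
        refine mem_inf.mpr ⟨hVN w.2, mem_centralizer_singleton_iff.mpr ?_⟩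
        have h1 : CfsgLib.Coprime.conjHom (zpowers_le.mpr htV) ⟨t, mem_zpowers t⟩ w = w := by
          conv_rhs => rw [← hsh]
          rw [hw, map_prod]
          refine Finset.prod_congr rfl fun i _ => Subtype.ext ?_
          show t * (t ^ i * v * (t ^ i)⁻¹) * t⁻¹ = t ^ (i + 1) * v * (t ^ (i + 1))⁻¹
          rw [pow_succ']; group
        have h2 : t * (w : G) * t⁻¹ = w := congrArg Subtype.val h1
        exact (mul_inv_eq_iff_eq_mul.mp h2).symm
      rw [hfree t hg₁g hg₁o, mem_bot] at hmem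
      exact Subtype.ext hmem
    have hzero : ∀ i ∈ Finset.range r, i ≠ 0 → CfsgLib.Coprime.orbitProd φ B (c i) = 1 := by
      intro i hi hi0
      set Y := conjMap (t ^ i) X with hY
      have hYline : IsLine p A Y :=
        ⟨(conjMap_mono hX.1).trans (conjMap_eq_self_iff.mpr (pow_mem hg₁A i)).le,
          by rw [hY, card_conjMap, hX.2]⟩
      have hXY : X ≠ Y := fun e => hsome X hX (by
        obtain ⟨l, hl⟩ := exists_pow_eq_self_of_coprime (n := i) (x := t) (by
          rw [hg₁o]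
          exact ((Nat.Prime.coprime_iff_not_dvd hr.out).mpr fun hd => by
            have := Nat.le_of_dvd (by omega) hd
            rw [Finset.mem_range] at hi
            omega).symm)
        rw [← hl]
        exact pow_mem (conjMap_eq_self_iff.mp e.symm) l)
      set u := CfsgLib.Coprime.orbitProd φ B (c i) with hu
      have hfixX : ∀ b ∈ B, φ b u = u := fun b hb => CfsgLib.Coprime.apply_orbitProd φ B hb _
      have hfixY : ∀ y : A, (y : G) ∈ Y → φ y u = u := by
        intro y hy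
        have h1 : φ y (c i) = c i := by
          refine Subtype.ext ?_
          obtain ⟨x, hx, hxy⟩ := hy
          show (y : G) * (t ^ i * v * (t ^ i)⁻¹) * (y : G)⁻¹ = t ^ i * v * (t ^ i)⁻¹
          rw [← hxy]
          show t ^ i * x * (t ^ i)⁻¹ * (t ^ i * v * (t ^ i)⁻¹) * (t ^ i * x * (t ^ i)⁻¹)⁻¹ = _
          have hxv : x * v = v * x := mem_centralizer_iff.mp hvX x hx
          calc t ^ i * x * (t ^ i)⁻¹ * (t ^ i * v * (t ^ i)⁻¹) * (t ^ i * x * (t ^ i)⁻¹)⁻¹
              = t ^ i * (x * v * x⁻¹) * (t ^ i)⁻¹ := by group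
            _ = t ^ i * v * (t ^ i)⁻¹ := by rw [hxv]; group
        have h2 : ∀ b : A, φ y (φ b (c i)) = φ b (c i) := fun b => by
          rw [← MulAut.mul_apply, ← map_mul, hA.comm.is_comm.comm y b, map_mul, MulAut.mul_apply, h1]
        rw [hu]
        classical
        show φ y (∏ b ∈ Finset.univ.filter (· ∈ B), φ b (c i)) = _
        rw [map_prod]
        exact Finset.prod_congr rfl fun b _ => h2 b
      have hmem : (u : G) ∈ Cfsg.sigmaCore M ⊓ centralizer (A : Set G) := by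
        refine mem_inf.mpr ⟨hVN u.2, mem_centralizer_iff.mpr fun a ha => ?_⟩
        obtain ⟨x, hx, y, hy, rfl⟩ := hA.exists_decomp hX hYline hXY ha
        have e1 : x * (u : G) * x⁻¹ = u :=
          congrArg Subtype.val (hfixX ⟨x, hX.1 hx⟩ (mem_subgroupOf.mpr hx))
        have e2 : y * (u : G) * y⁻¹ = u := congrArg Subtype.val (hfixY ⟨y, hYline.1 hy⟩ hy)
        rw [mul_inv_eq_iff_eq_mul] at e1 e2
        rw [mul_assoc, e2, ← mul_assoc, e1, mul_assoc]
      rw [h.centralizer_eq_bot hG hM, mem_bot] at hmem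
      exact Subtype.ext hmem
    have hv0 : CfsgLib.Coprime.orbitProd φ B (c 0) = (c 0) ^ p := by
      rw [CfsgLib.Coprime.orbitProd_eq_pow φ B (c 0) fun b hb => Subtype.ext (by
        show (b : G) * (t ^ 0 * v * (t ^ 0)⁻¹) * (b : G)⁻¹ = t ^ 0 * v * (t ^ 0)⁻¹
        simp only [pow_zero, one_mul, inv_one, mul_one]
        rw [mul_inv_eq_iff_eq_mul]
        exact mem_centralizer_iff.mp hvX b (mem_subgroupOf.mp hb))]
      rw [CfsgLib.Coprime.card_subgroupOf hX.1, hX.2]
    have h1 : (c 0) ^ p = 1 := by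
      rw [← hv0, ← map_one (CfsgLib.Coprime.orbitProd φ B), ← hprod, map_prod,
        Finset.prod_eq_single 0 hzero fun h0 => absurd (Finset.mem_range.mpr hr.out.pos) h0]
    refine hv1 ?_
    have h2 : orderOf (c 0) ∣ Nat.gcd p (Nat.card V) :=
      Nat.dvd_gcd (orderOf_dvd_of_pow_eq_one h1) (orderOf_dvd_natCard _)
    rw [Nat.coprime_iff_gcd_eq_one.mp ((Nat.Prime.coprime_iff_not_dvd hp.out).mpr hpV),
      Nat.dvd_one, orderOf_eq_one_iff] at h2
    have := congrArg Subtype.val h2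
    simpa [c] using this
  -- a maximal subgroup over `N(⟨g₁⟩)`
  set t := g ^ i₁ with ht
  have hZ1 : zpowers t ≠ ⊥ := fun e => hg₁1 (zpowers_eq_bot.mp e)
  have hgt : g ∈ normalizer (zpowers t : Set G) := centralizer_le_normalizer _
    (mem_centralizer_iff.mpr fun y hy => by
      obtain ⟨j, rfl⟩ := mem_zpowers_iff.mp hy
      exact (hg₁comm.zpow_left j).eq)
  obtain ⟨L, hL, hNL⟩ := (eq_top_or_exists_le_coatom _).resolve_left
    (minSimple_normalizer_ne_top hG hZ1 fun e => hM.1 (top_le_iff.mp (e ▸ zpowers_le.mpr hg₁M)))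
  have hgL : g ∈ L := hNL hgt
  have hAt : A ≤ centralizer (zpowers t : Set G) := by
    rw [le_centralizer_iff, zpowers_le]; exact hg₁C
  have hAL : A ≤ L := (hAt.trans (centralizer_le_normalizer _)).trans hNL
  have hnd := not_mem_derived hG hM hA hP (fun x hx => (hΩ x hx).mp) hg hrp hcomm hL hAL hgL
  obtain ⟨T, hT, hgT⟩ := exists_sylowIn_le hg (zpowers_le.mpr hgL)
  have hgT' : g ∈ T := hgT (mem_zpowers g)
  have htT : t ∈ T := zpow_mem hgT' _
  by_cases hσL : r ∈ Cfsg.sigma L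
  · exact hnd (sylowIn_le_derived hG hL hσL hT hgT')
  have hT1 : T ≠ ⊥ := fun e => hg₁1 (mem_bot.mp (e ▸ htT))
  have hrL : r ∣ Nat.card L := (dvd_card_of_pgroup_ne_bot hT.2.1 hT1).trans (card_dvd_of_le hT.1)
  by_cases hcycL : Cfsg.PRankLE r 1 L
  · refine hσL (mem_sigma_of_normalizer_le hrL hT (le_trans (fun n hn => ?_) hNL))
    rw [← conjMap_eq_self_iff]
    refine eq_of_isCyclic_card (isCyclic_pgroup_of_prankLE_one hG hT.2.1 hT.1 hcycL) ?_
      (zpowers_le.mpr htT) (by rw [card_conjMap, Nat.card_zpowers, hg₁o]) (by rw [Nat.card_zpowers, hg₁o])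
    exact (conjMap_mono (zpowers_le.mpr htT)).trans (conjMap_eq_self_iff.mpr hn).le
  have hτ : r ∈ Cfsg.tau2 L := ⟨hr.out, hσL, prankLE_two_of_not_sigma hG hL hσL, hcycL⟩
  by_cases hpL : p ∈ Cfsg.sigma L
  swap
  · obtain ⟨Z, hexcA⟩ := exists_exc hG hL hpL hA hAL
    have hAK : A ⊔ zpowers g ≤ L := sup_le hAL (zpowers_le.mpr hgL)
    obtain ⟨EL, hEL, hle⟩ := exists_compl_ge hG hL hAK fun s hs hd => by
      have h1 : Nat.card ↥(A ⊔ zpowers g) = Nat.card A * Nat.card (zpowers g) :=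
        CfsgLib.Coprime.card_sup_of_inf_eq_bot hKn (CfsgLib.Coprime.inf_eq_bot_of_coprime
          (coprime_pgroup hg hA.isPGroup hrp))
      rw [h1] at hd
      rcases hs.dvd_mul.mp hd with hd | hd
      · exact (prime_dvd_pgroup_card hA.isPGroup hs hd) ▸ hpL
      · exact (prime_dvd_pgroup_card hg hs hd) ▸ hσL
    obtain ⟨B, B₀, hBE, hexcB⟩ := tau2_square hG hL hEL hτ
    obtain ⟨Q, hQ, hgQ⟩ := exists_sylowIn_le hg (le_sup_right.trans hle)
    have hgC := hexcA.centralizes_other hG hL hexcB hrp.symm hEL (le_sup_left.trans hle) hBE hQ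
      (hgQ (mem_zpowers g))
    obtain ⟨X, hX⟩ := hA.exists_line
    exact hno X hX (centralizer_le_normalizer _ (Subgroup.centralizer_le hX.1 hgC))
  -- `L` normalizes `A`
  obtain ⟨B, hBL, hB⟩ := exists_sq_le_of_not_prankLE le_rfl hcycL
  obtain ⟨c, hcL, hcB⟩ := hT.exists_conj_le hB.isPGroup hBL
  obtain ⟨B₀, hexcB⟩ := exists_exc hG hL hσL (hB.conjMap c) (hcB.trans hT.1)
  obtain ⟨hTab, hTΩ, -⟩ := hexcB.sylow_abelian hG hL hT hcB
  obtain ⟨PL, hPL, hAPL⟩ := exists_sylowIn_le hA.isPGroup hAL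
  have hPLtop := sylowIn_top hpL hPL
  have hPLN : SylowIn p PL (Cfsg.sigmaCore L) := by
    have hle : PL ≤ Cfsg.sigmaCore L := le_sigmaCore_of_pi hG hL hPL.1 fun s hs hd =>
      (prime_dvd_pgroup_card hPL.2.1 hs hd) ▸ hpL
    exact ⟨hle, hPL.2.1, fun hd => hPL.2.2 (hd.trans
      ⟨(Cfsg.sigmaCore L).relIndex L, (relIndex_mul_relIndex _ _ _ hle (sigmaCore_le L)).symm⟩)⟩
  have hΩL : ∀ x ∈ PL, x ^ p = 1 → x ∈ A := by
    obtain ⟨s, -, hs⟩ := hPLtop.exists_conj_eq hP
    have hle : ∀ x ∈ PL, x ^ p = 1 → x ∈ conjMap s A := by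
      intro x hx hxp
      rw [← hs] at hx
      obtain ⟨y, hy, rfl⟩ := hx
      refine ⟨y, (hΩ y hy).mp ?_, rfl⟩
      exact (MulAut.conj s).injective (by rw [map_pow, map_one]; exact hxp)
    have heq : A = conjMap s A := eq_of_le_of_card_ge
      (fun a ha => hle a (hAPL ha) (hA.1.2 a ha)) (by rw [card_conjMap])
    rwa [← heq] at hle
  have hLA : L ≤ normalizer (A : Set G) := fun l hl => by
    refine conjMap_eq_self_iff.mp (eq_of_le_of_card_ge ?_ (by rw [card_conjMap]))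
    rintro _ ⟨a, ha, rfl⟩
    refine hΩL _ ((mem_normalizer_iff.mp
      (sylow_le_normalizer_of_nilpotent hG hL (hexcB.nilpotent hG hL) hPLN hl) a).mp (hAPL ha)) ?_
    show (l * a * l⁻¹) ^ p = 1
    rw [conj_pow, hA.1.2 a ha]; group
  -- the image of `T` in `Aut A` is cyclic
  letI : CommGroup A := { (inferInstance : Group A) with mul_comm := fun a b => hA.comm.is_comm.comm a b }
  haveI : Nontrivial A := nontrivial_iff_ne_bot A |>.mpr hA.ne_bot
  haveI : Finite (MulAut A) := Finite.of_injective (fun f => (f : A → A)) DFunLike.coe_injective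
  set φ : T →* MulAut A := CfsgLib.Coprime.conjHom (hT.1.trans hLA) with hφ
  have hRab : IsMulCommutative φ.range := ⟨⟨by
    rintro ⟨_, a, rfl⟩ ⟨_, b, rfl⟩
    exact Subtype.ext (by show φ a * φ b = φ b * φ a; rw [← map_mul, ← map_mul, hTab.is_comm.comm a b])⟩⟩
  have hRp : IsPGroup r φ.range := by
    have hTp : IsPGroup r T := hT.2.1
    exact hTp.of_surjective φ.rangeRestrict φ.rangeRestrict_surjective
  have hRcyc : IsCyclic φ.range := by
    by_contra hnc
    obtain ⟨⟨_, s, rfl⟩, ha1, w, hw1, hfix⟩ :=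
      CfsgLib.Coprime.exists_ne_one_fixed_of_not_isCyclic (H := φ.range) (V := A) φ.range.subtype
        (by
          obtain ⟨n, hn⟩ := IsPGroup.iff_card.mp hRp
          rw [hn, hA.2]
          exact Nat.Coprime.pow _ _ ((Nat.coprime_primes hr.out hp.out).mpr hrp)) hnc
    have hsg : Commute (s : G) g := congrArg Subtype.val (hTab.is_comm.comm s ⟨g, hgT'⟩)
    rcases hinv _ hsg with e | e
    · refine hw1 (Subtype.ext (mem_bot.mp (e ▸ mem_inf.mpr ⟨w.2, mem_centralizer_singleton_iff.mpr ?_⟩)))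
      have h1 : (s : G) * w * (s : G)⁻¹ = w := congrArg Subtype.val hfix
      exact (mul_inv_eq_iff_eq_mul.mp h1).symm
    · refine ha1 (Subtype.ext (MulEquiv.ext fun a => Subtype.ext ?_))
      show (s : G) * a * (s : G)⁻¹ = a
      rw [← mem_centralizer_singleton_iff.mp (inf_eq_left.mp e a.2)]
      group
  -- an element of `B` outside `⟨g₁⟩` lies in `M`
  set B' := conjMap c B with hB'
  have hB'sq : IsSq r B' := hB.conjMap c
  have htB : t ∈ B' := (hTΩ t htT).mp (hg₁o ▸ pow_orderOf_eq_one t)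
  obtain ⟨b, hb, hbn⟩ := SetLike.not_le_iff_exists.mp (show ¬ B' ≤ zpowers t from fun hle => by
    have := card_le_of_le hle
    rw [hB'sq.2, Nat.card_zpowers, hg₁o] at this
    nlinarith [hr.out.one_lt])
  have hbT : b ∈ T := hcB hb
  suffices hbM : b ∈ M by
    refine hB'sq.not_prankLE_one (H := M) ?_ hr1
    have hbl := hB'sq.card_zpowers hb fun e => hbn (e ▸ one_mem _)
    rw [← IsLine.sup_eq hB'sq (hB'sq.card_zpowers htB hg₁1) hbl fun e => hbn (e.ge (mem_zpowers b))]
    exact sup_le (zpowers_le.mpr hg₁M) (zpowers_le.mpr hbM)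
  have hker : ∀ x : T, φ x = 1 → (x : G) ∈ M := fun x hx => h.centralizer_le
    (mem_centralizer_iff.mpr fun a ha => by
      have h1 : (x : G) * a * (x : G)⁻¹ = a :=
        congrArg (fun f : MulAut A => ((f ⟨a, ha⟩ : A) : G)) hx
      exact (mul_inv_eq_iff_eq_mul.mp h1).symm)
  by_cases hb1 : φ ⟨b, hbT⟩ = 1
  · exact hker _ hb1
  have hb_ord : orderOf (φ ⟨b, hbT⟩) = r := orderOf_eq_prime (by
    rw [← map_pow]
    exact (congrArg φ (Subtype.ext (hB'sq.1.2 b hb) : (⟨b, hbT⟩ : T) ^ r = 1)).trans (map_one φ)) hb1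
  have hg1 : φ ⟨g, hgT'⟩ ≠ 1 := fun e => by
    obtain ⟨X, hX⟩ := hA.exists_line
    refine hno X hX (centralizer_le_normalizer _ (Subgroup.centralizer_le hX.1
      (mem_centralizer_iff.mpr fun a ha => ?_)))
    have h1 : g * a * g⁻¹ = a := congrArg (fun f : MulAut A => ((f ⟨a, ha⟩ : A) : G)) e
    exact (mul_inv_eq_iff_eq_mul.mp h1).symm
  obtain ⟨y, hy, hyo⟩ := exists_order_p (hRp.to_le (zpowers_le.mpr ⟨⟨g, hgT'⟩, rfl⟩ :
    zpowers (φ ⟨g, hgT'⟩) ≤ φ.range)) (fun e => hg1 (zpowers_eq_bot.mp e))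
  have hyR : y ∈ φ.range := (zpowers_le.mpr ⟨⟨g, hgT'⟩, rfl⟩ : zpowers (φ ⟨g, hgT'⟩) ≤ φ.range) hy
  have heq := eq_of_isCyclic_card hRcyc (zpowers_le.mpr ⟨⟨b, hbT⟩, rfl⟩) (zpowers_le.mpr hyR)
    (by rw [Nat.card_zpowers, hb_ord]) (by rw [Nat.card_zpowers, hyo])
  have hbg : φ ⟨b, hbT⟩ ∈ zpowers (φ ⟨g, hgT'⟩) :=
    (zpowers_le.mpr hy) (heq.le (mem_zpowers _))
  obtain ⟨j, hj⟩ := mem_zpowers_iff.mp hbg
  have hmem := hker (⟨b, hbT⟩ * (⟨g, hgT'⟩ ^ j)⁻¹) (by rw [map_mul, map_inv, map_zpow, hj, mul_inv_cancel])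
  have h2 : b * (g ^ j)⁻¹ ∈ M := by simpa using hmem
  have := mul_mem h2 (zpow_mem hgM j)
  rwa [inv_mul_cancel_right] at this

end CfsgLib.BG
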