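import Cfsg.Agent.Lib.BG.Tau2
import Cfsg.Agent.Lib.Coprime.Generation
import Cfsg.Agent.Lib.OddLocal.RankTwoAction
import Cfsg.Agent.Lib.OddLocal.Stab
import Cfsg.Agent.Lib.OddLocal.PLength
import Cfsg.Agent.S1409
import Cfsg.Agent.S1410
import Cfsg.Agent.S1450

/-!
# `A ⊴ E` for `A` of order `p ^ 2`, `p ∉ σ(M)`, and the TI property of `M_σ`
-/

set_option autoImplicit false
set_option linter.style.haveILetI false
set_option linter.unusedSectionVars false

namespace CfsgLib.BG

open Subgroup CfsgLib.PLocal CfsgLib.OddLocal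
open scoped commutatorElement

universe u
variable {G : Type u} [Group G] [Finite G] {M L : Subgroup G} {p : ℕ} [hp : Fact p.Prime]
  {A A₀ : Subgroup G}

variable (hG : Cfsg.IsMinSimpleOddOrder G) (hM : IsCoatom M)
include hG hM

/-- `A ≤ L ≠ M` with `M_σ ≤ L` is impossible. -/
theorem IsExc.false_of_sigmaCore_le (h : IsExc p M A A₀) (hL : IsCoatom L) (hne : L ≠ M)
    (hAL : A ≤ L) (hle : Cfsg.sigmaCore M ≤ L) : False := by
  have hne0 := sigmaCore_ne_bot hG hM
  have hsol : Group.IsSolvable A := isSolvable_of_le_max hG hM h.le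
  by_cases hpL : p ∈ Cfsg.sigma L
  · exact hne0 (le_bot_iff.mp ((le_inf le_rfl hle).trans (h.inf_eq_bot_of_sigma hG hM hL hAL hpL).le))
  obtain ⟨Z, h'⟩ := exists_exc hG hL hpL h.sq hAL
  have hdis : ∀ s ∈ Cfsg.sigma M, s ∉ Cfsg.sigma L := by
    intro s hs hs'
    obtain ⟨g, rfl⟩ := eq_conj_of_nilpotent hG hM (h.nilpotent hG hM) hL hs hs'
    exact hne0 (le_bot_iff.mp ((le_inf le_rfl hle).trans
      (h.inf_conj hG hM (fun hg => hne (conjMap_eq_of_mem hg)) hAL).le))
  have hcL : Cfsg.sigmaCore M ≤ centralizer (Cfsg.sigmaCore L : Set G) := by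
    refine le_of_inv_sylows (h.le.trans (le_normalizer_sigmaCore M))
      (coprime_of_isSq hG hM h.not_sigma h.sq) (Or.inl hsol) fun r hr T hT hT1 hTn => ?_
    haveI : Fact r.Prime := ⟨hr⟩
    have hrσ := mem_sigma_of_dvd_sigmaCore hr
      ((dvd_card_of_pgroup_ne_bot hT.2.1 hT1).trans (card_dvd_of_le hT.1))
    have hrp : r ≠ p := fun e => h.not_sigma (e ▸ hrσ)
    have := h'.commutator_le_centralizer hG hL hrp (hdis r hrσ) hT.2.1 (hT.1.trans hle) hTn
    rwa [commutator_eq_self hTn (coprime_pgroup h.sq.isPGroup hT.2.1 hrp.symm) (Or.inl hsol)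
      (le_bot_iff.mp ((inf_le_inf_right _ hT.1).trans (h.centralizer_eq_bot hG hM).le))] at this
  exact not_mutual hG hM hL hdis hle ((le_centralizer_iff.mp hcL).trans
    ((centralizer_le_normalizer _).trans (normalizer_sigmaCore hG hM).le))

/-- In a `{r, s}`-subgroup of `M` with `r < s` and `r_r ≤ 2` the Sylow `s`-subgroup is normal. -/
theorem sylow_normal_of_lt {r s : ℕ} [hr : Fact r.Prime] [hs : Fact s.Prime] {H S : Subgroup G}
    (hHM : H ≤ M) (hπ : ∀ t : ℕ, t.Prime → t ∣ Nat.card H → t = r ∨ t = s) (hlt : r < s)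
    (hrH : r ∣ Nat.card H) (hrank : Cfsg.PRankLE r 2 M) (hS : SylowIn s S H) :
    H ≤ normalizer (S : Set G) := by
  haveI : Group.IsSolvable H := isSolvable_of_le_max hG hM hHM
  obtain ⟨hidx, -⟩ := Cfsg.Agent.S1450.result (minSimple_odd hG H) r hrH (prankLE_mono hHM hrank)
  haveI := CfsgLib.Solvable.pPrimeCore_normal r H
  set K := Cfsg.pPrimeCore r H with hK
  set K' := K.map H.subtype with hK'
  have hKH : K' ≤ H := map_subtype_le _
  have hKp : IsPGroup s K' := by
    refine isPGroup_of_prime_dvd fun t ht htd => ?_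
    have htH := htd.trans (card_dvd_of_le hKH)
    rcases hπ t ht htH with rfl | h
    · rw [hK', card_map_of_injective H.subtype_injective] at htd
      exact absurd (Nat.eq_one_of_dvd_coprimes (CfsgLib.Solvable.pPrimeCore_coprime (G := H) t) htd
        dvd_rfl) ht.ne_one
    · exact h
  have hrel : K'.relIndex H = K.index := by
    rw [hK', relIndex, subgroupOf, comap_map_eq_self_of_injective H.subtype_injective]
  have hKs : SylowIn s K' H := ⟨hKH, hKp, fun hd => by
    rw [hrel] at hd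
    exact absurd (hidx s hs.out hd) (not_le.mpr hlt)⟩
  have hKn : H ≤ normalizer (K' : Set G) := by
    intro h hh
    rw [mem_normalizer_iff]
    intro x
    constructor
    · rintro ⟨y, hy, rfl⟩
      exact ⟨⟨h, hh⟩ * y * ⟨h, hh⟩⁻¹, (inferInstance : K.Normal).conj_mem y hy _, rfl⟩
    · rintro ⟨y, hy, hxy⟩
      refine ⟨⟨h, hh⟩⁻¹ * y * ⟨h, hh⟩,
        by simpa using (inferInstance : K.Normal).conj_mem y hy (⟨h, hh⟩ : H)⁻¹, ?_⟩
      show h⁻¹ * H.subtype y * h = x
      rw [hxy]; group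
  obtain ⟨k, hk, hkS⟩ := hKs.exists_conj_eq hS
  have hS' : S = K' := by
    rw [← conjMap_inv_conjMap k S, hkS]
    exact conjMap_eq_self_iff.mpr (inv_mem (hKn hk))
  rwa [hS']

/-- An `A`-invariant `q`-subgroup of `M`, `q ∉ σ(M) ∪ {p}`, is centralized by `A`. -/
theorem IsExc.centralizes_inv (h : IsExc p M A A₀) {q : ℕ} [hq : Fact q.Prime] (hqp : q ≠ p)
    (hqσ : q ∉ Cfsg.sigma M) {R : Subgroup G} (hR : IsPGroup q R) (hRM : R ≤ M)
    (hRn : A ≤ normalizer (R : Set G)) : R ≤ centralizer (A : Set G) := by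
  rw [← commutator_eq_bot_iff_le_centralizer]
  by_contra hX1
  set X := ⁅R, A⁆ with hX
  have hsol : Group.IsSolvable A := isSolvable_of_le_max hG hM h.le
  have hXR : X ≤ R := CfsgLib.Comp.commutator_le_of_le_normalizer hRn
  have hXp : IsPGroup q X := hR.to_le hXR
  have hXM : X ≤ M := hXR.trans hRM
  have hcopR : (Nat.card A).Coprime (Nat.card R) := coprime_pgroup h.sq.isPGroup hR hqp.symm
  have hXA : ⁅X, A⁆ = X := CfsgLib.Coprime.commutator_commutator_eq hRn hcopR (Or.inl hsol)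
  have hXc : X ≤ centralizer (Cfsg.sigmaCore M : Set G) :=
    h.commutator_le_centralizer hG hM hqp hqσ hR hRM hRn
  have hq2 : q ≠ 2 := prime_ne_two_of_pgroup hG hXp hX1
  have hXn : A ≤ normalizer (X : Set G) := by
    intro a ha
    rw [← conjMap_eq_self_iff, hX]
    show (⁅R, A⁆).map _ = _
    rw [map_commutator]
    show ⁅conjMap a R, conjMap a A⁆ = _
    rw [conjMap_eq_self_iff.mpr (hRn ha), conjMap_eq_of_mem ha]
  haveI hcyc : IsCyclic X := by
    by_contra hnc
    obtain ⟨B, hBX, hB⟩ := exists_sq_of_not_isCyclic hq2 hXp hnc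
    exact not_centralizes hG hM hqσ hB (hBX.trans hXM) (hBX.trans hXc)
  obtain ⟨x, hxX, hxo⟩ := exists_order_p hXp hX1
  have hx1 : x ≠ 1 := fun e => hq.out.ne_one (by rw [← hxo, e, orderOf_one])
  set X₀ := zpowers x with hX₀
  have hX₀c : Nat.card X₀ = q := by rw [hX₀, Nat.card_zpowers, hxo]
  have hX₀X : X₀ ≤ X := zpowers_le.mpr hxX
  have hω : ∀ y ∈ X, y ^ q = 1 → y ∈ X₀ := by
    intro y hy hyq
    classical
    have := Fintype.ofFinite X
    have hcard := IsCyclic.card_pow_eq_one_le (α := X) hq.out.pos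
    let S : Finset X := Finset.univ.filter fun z => z ^ q = 1
    let T : Finset X := Finset.univ.filter fun z => (z : G) ∈ X₀
    have hTS : T ⊆ S := fun z hz => by
      simp only [T, S, Finset.mem_filter, Finset.mem_univ, true_and] at hz ⊢
      exact Subtype.ext ((elemAb_zpowers (hxo ▸ pow_orderOf_eq_one x)).2 _ hz)
    have hTc : T.card = q := by
      rw [← hX₀c, ← CfsgLib.Coprime.card_subgroupOf hX₀X, Nat.card_eq_fintype_card,
        Fintype.card_subtype]
      simp only [T, mem_subgroupOf]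
    have := Finset.eq_of_subset_of_card_le hTS (hTc.symm ▸ hcard)
    have hm : (⟨y, hy⟩ : X) ∈ S := by
      simp only [S, Finset.mem_filter, Finset.mem_univ, true_and]
      exact Subtype.ext hyq
    rw [← this] at hm
    simpa [T] using hm
  have hX₀n : A ≤ normalizer (X₀ : Set G) := by
    intro a ha
    rw [← conjMap_eq_self_iff]
    refine eq_of_le_of_card_ge (fun y hy => ?_) (by rw [card_conjMap])
    obtain ⟨z, hz, rfl⟩ := hy
    refine hω _ ((mem_normalizer_iff.mp (hXn ha) z).mp (hX₀X hz)) ?_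
    show (a * z * a⁻¹) ^ q = 1
    rw [conj_pow, (elemAb_zpowers (hxo ▸ pow_orderOf_eq_one x)).2 z hz]; group
  have hX₀A : ⁅X₀, A⁆ = X₀ := by
    refine commutator_eq_self hX₀n (hcopR.coprime_dvd_right (card_dvd_of_le (hX₀X.trans hXR)))
      (Or.inl hsol) ?_
    by_contra hne
    have hle : X₀ ≤ centralizer (A : Set G) := by
      obtain ⟨w, hw1⟩ := (Subgroup.ne_bot_iff_exists_ne_one.mp hne)
      exact (zpowers_eq_of_card_prime hX₀c (mem_inf.mp w.2).1 (fun e => hw1 (Subtype.ext e))).ge.trans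
        (zpowers_le.mpr (mem_inf.mp w.2).2)
    refine hX1 ?_
    rw [← hXA, commutator_eq_bot_iff_le_centralizer, le_centralizer_iff]
    refine le_centralizer_of_fixes_order_p hq2 hXp hXn ?_ fun y hy hyq a ha => ?_
    · obtain ⟨n, hn⟩ := IsPGroup.iff_card.mp h.sq.isPGroup
      rw [hn]
      exact Nat.Coprime.pow_left _ ((Nat.coprime_primes hp.out hq.out).mpr hqp.symm)
    · have := mem_centralizer_iff.mp (hle (hω y hy hyq)) a ha
      rw [this]; group
  -- `N(X₀) ≤ M`
  have hNX : normalizer (X₀ : Set G) ≤ M := by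
    obtain ⟨L', hL', hNL'⟩ := (eq_top_or_exists_le_coatom (normalizer (X₀ : Set G))).resolve_left
      (minSimple_normalizer_ne_top hG (ne_bot_of_card_prime hX₀c)
        (fun h' => hM.1 (top_le_iff.mp (h' ▸ hX₀X.trans hXM))))
    by_contra hNM
    exact h.false_of_sigmaCore_le hG hM hL' (fun e => hNM (e ▸ hNL')) (hX₀n.trans hNL')
      (((le_centralizer_iff.mp (hX₀X.trans hXc)).trans (centralizer_le_normalizer _)).trans hNL')
  obtain ⟨⟨-, -⟩, -, B', hB'e, hB'c, hXB'⟩ := Cfsg.Agent.S1409.result hG M hM q hqσ X₀ hX₀c hNX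
  have hB'M : B' ≤ M := ((IsSq.le_centralizer ⟨hB'e, hB'c⟩).trans (Subgroup.centralizer_le hXB')).trans
    ((centralizer_le_normalizer _).trans hNX)
  have hq' : IsExc q M B' X₀ := ⟨hqσ, ⟨hB'e, hB'c⟩, hB'M, ⟨hXB', hX₀c⟩, hNX⟩
  -- a Hall `{p, q}`-subgroup over `A X₀`
  have hAX : ∀ t : ℕ, t.Prime → t ∣ Nat.card ↥(A ⊔ X₀) → t ∈ ({p, q} : Set ℕ) := by
    intro t ht htd
    have h1 : Nat.card ↥(A ⊔ X₀) ∣ Nat.card A * Nat.card X₀ := by
      refine ⟨Nat.card ↥(A ⊓ X₀), ?_⟩
      rw [← CfsgLib.Solvable.card_mul_set_mul_card_inf A X₀,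
        ← coe_mul_of_left_le_normalizer_right A X₀ hX₀n]
      rfl
    rcases ht.dvd_mul.mp (htd.trans h1) with h' | h'
    · exact Or.inl (prime_dvd_pgroup_card h.sq.isPGroup ht h')
    · exact Or.inr (prime_dvd_pgroup_card (isPGroup_of_card_prime hX₀c) ht h')
  obtain ⟨H, hH, -, hAXH⟩ := CfsgLib.Coprime.exists_invariant_hall_ge (A := (⊥ : Subgroup G)) bot_le
    (by rw [Subgroup.card_bot]; exact Nat.coprime_one_left _) (isSolvable_of_le_max hG hM le_rfl)
    (sup_le h.le (hX₀X.trans hXM)) bot_le hAX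
  have hAH : A ≤ H := le_sup_left.trans hAXH
  have hXH : X₀ ≤ H := le_sup_right.trans hAXH
  have hup : ∀ {t : ℕ} [Fact t.Prime] {S : Subgroup G}, t ∈ ({p, q} : Set ℕ) → SylowIn t S H →
      SylowIn t S M := by
    intro t ht S htm hS
    refine ⟨hS.1.trans hH.1, hS.2.1, ?_⟩
    rw [← relIndex_mul_relIndex _ _ _ hS.1 hH.1]
    exact fun hd => ((Fact.out : t.Prime).dvd_mul.mp hd).elim hS.2.2 (hH.2.2 t Fact.out htm)
  rcases lt_or_gt_of_ne hqp with hlt | hlt
  · -- `q < p`: `A ⊴ H`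
    obtain ⟨P, hP, hAP⟩ := exists_sylowIn_le h.sq.isPGroup hAH
    have hn := (sylow_normal_of_lt hG hM hH.1 (fun t ht htd => (hH.2.1 t ht htd).symm) hlt
      ((hX₀c ▸ dvd_rfl : q ∣ Nat.card X₀).trans (card_dvd_of_le hXH))
      (prankLE_two_of_not_sigma hG hM hqσ) hP).trans
      (h.sylow_abelian hG hM (hup (Or.inl rfl) hP) hAP).2.2
    refine ne_bot_of_card_prime hX₀c ?_
    rw [← hX₀A, ← le_bot_iff]
    refine (le_inf (CfsgLib.Comp.commutator_le_of_le_normalizer hX₀n)
      ((commutator_comm X₀ A).le.trans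
        (CfsgLib.Comp.commutator_le_of_le_normalizer (hXH.trans hn)))).trans ?_
    exact (inf_eq_bot_of_coprime (coprime_pgroup (isPGroup_of_card_prime hX₀c) h.sq.isPGroup hqp)).le
  -- `q > p`: the Sylow `q`-subgroup of `H` is normal
  obtain ⟨Q, hQ, hX₀Q⟩ := exists_sylowIn_le (isPGroup_of_card_prime hX₀c) hXH
  have hQn := sylow_normal_of_lt hG hM hH.1 hH.2.1 hlt
    ((dvd_card_of_pgroup_ne_bot h.sq.isPGroup h.sq.ne_bot).trans (card_dvd_of_le hAH))
    (prankLE_two_of_not_sigma hG hM h.not_sigma) hQ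
  have hQM := hup (Or.inr rfl) hQ
  obtain ⟨m, hm, hmQ⟩ := hQM.exists_conj_le hq'.sq.isPGroup hB'M
  set B := conjMap m B' with hBdef
  have hq'' : IsExc q M B (conjMap m X₀) := by
    have := hq'.conj m
    rwa [conjMap_eq_of_mem hm] at this
  obtain ⟨-, hΩ, hNQ⟩ := hq''.sylow_abelian hG hM hQM hmQ
  have hX₀B : X₀ ≤ B := fun y hy => (hΩ y (hX₀Q hy)).mp
    ((elemAb_zpowers (hxo ▸ pow_orderOf_eq_one x)).2 y hy)
  have hB : IsSq q B := hq''.sq
  have hBM : B ≤ M := hq''.le
  have hBn : A ≤ normalizer (B : Set G) := hAH.trans (hQn.trans hNQ)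
  have hExc : IsExc q M B X₀ := ⟨hqσ, hB, hBM, ⟨hX₀B, hX₀c⟩, hNX⟩
  have hcopB : (Nat.card A).Coprime (Nat.card B) := coprime_pgroup h.sq.isPGroup hB.isPGroup hqp.symm
  set B₁ := B ⊓ centralizer (A : Set G) with hB₁
  have hdec := CfsgLib.Coprime.commutator_sup_centralizer hBn hcopB (Or.inl hsol)
  have hdis := CfsgLib.Coprime.commutator_inf_centralizer_eq_bot hB.comm hBn hcopB
  have hX₀com : X₀ ≤ ⁅B, A⁆ := hX₀A.ge.trans (commutator_mono hX₀B le_rfl)
  have hline : ∀ Y : Subgroup G, Y ≤ B → Y ≠ ⊥ → Y ≠ B → Nat.card Y = q := by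
    intro Y hY h1 h2
    obtain ⟨n, hn⟩ := IsPGroup.iff_card.mp (hB.isPGroup.to_le hY)
    have hlt' : Nat.card Y < Nat.card B := lt_of_le_of_ne (card_le_of_le hY)
      fun e => h2 (eq_of_le_of_card_ge hY e.ge)
    rw [hn, hB.2] at hlt'
    have := (Nat.pow_lt_pow_iff_right hq.out.one_lt).mp hlt'
    have hn0 : n ≠ 0 := fun e => h1 (eq_bot_of_card_eq _ (by rw [hn, e, pow_zero]))
    rw [hn, show n = 1 by omega, pow_one]
  have hB₁1 : B₁ ≠ ⊥ := fun e => by
    rw [← hB₁, e, sup_bot_eq] at hdec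
    exact not_centralizes hG hM hqσ hB hBM
      (hdec.ge.trans (h.commutator_le_centralizer hG hM hqp hqσ hB.isPGroup hBM hBn))
  have hB₁B : B₁ ≠ B := fun e => ne_bot_of_card_prime hX₀c (by
    rw [← hX₀A, commutator_eq_bot_iff_le_centralizer]
    exact hX₀B.trans (e.ge.trans inf_le_right))
  have hB₁c : Nat.card B₁ = q := hline _ inf_le_left hB₁1 hB₁B
  have hcomX : ⁅B, A⁆ = X₀ := by
    refine (eq_of_le_of_card_ge hX₀com ?_).symm
    rw [hX₀c]
    refine (hline _ (CfsgLib.Comp.commutator_le_of_le_normalizer hBn)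
      (fun e => ne_bot_of_card_prime hX₀c (le_bot_iff.mp (hX₀com.trans e.le))) fun e => hB₁1 ?_).le
    rw [e] at hdis
    exact hdis
  -- `N(B)` normalizes `B₁`
  obtain ⟨g₀, hg₀, hg₀M⟩ := hExc.exists_move hG hM
  have hNB : normalizer (B : Set G) ≤ normalizer (B₁ : Set G) := by
    set N := normalizer (B : Set G) with hN
    set φ : N →* MulAut B := CfsgLib.Coprime.conjHom (A := N) le_rfl with hφ
    haveI hNsol : Group.IsSolvable N := minSimple_isSolvable hG
      (minSimple_normalizer_ne_top hG hB.ne_bot fun e => hM.1 (top_le_iff.mp (e ▸ hBM)))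
    haveI : Finite (MulAut B) := Finite.of_injective (fun f => (f : B → B)) DFunLike.coe_injective
    haveI : Group.IsSolvable φ.range := Group.isSolvable_of_surjective φ.rangeRestrict_surjective
    have hr2 : Cfsg.PRankLE q 2 B := fun E _ _ => hB.2 ▸ card_le_card_group E
    have hT : IsPGroup q (commutator φ.range) := isPGroup_commutator_of_rank_two hq2 hB.isPGroup hr2
      ((minSimple_odd hG N).of_dvd_nat (card_range_dvd φ)) φ.range.subtype φ.range.subtype_injective
    set T := (commutator φ.range).map φ.range.subtype with hT'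
    have happ : ∀ (n : N) (b : B), ((φ n b : B) : G) = n * b * (n : G)⁻¹ := fun n b => rfl
    have haN : A ≤ N := hBn
    by_cases hT1 : T = ⊥
    · -- the image of `N(B)` is abelian
      have hcomm : ∀ n n' : N, φ n * φ n' = φ n' * φ n := by
        intro n n'
        have hmem : (⁅(⟨φ n, n, rfl⟩ : φ.range), ⟨φ n', n', rfl⟩⁆ : φ.range) ∈ commutator φ.range := by
          rw [_root_.commutator_def]
          exact commutator_mem_commutator (mem_top _) (mem_top _)
        have h' : φ.range.subtype _ ∈ T := mem_map_of_mem φ.range.subtype hmem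
        rw [hT1, mem_bot] at h'
        have := h'
        exact commutatorElement_eq_one_iff_mul_comm.mp (by simpa using this)
      intro g hg
      rw [← conjMap_eq_self_iff]
      refine eq_of_le_of_card_ge ?_ (by rw [card_conjMap])
      rintro _ ⟨b, hb, rfl⟩
      obtain ⟨hbB, hbA⟩ := mem_inf.mp hb
      refine mem_inf.mpr ⟨(mem_normalizer_iff.mp hg b).mp hbB, mem_centralizer_iff.mpr fun a ha => ?_⟩
      have h1 := congrArg (fun f : MulAut B => ((f ⟨b, hbB⟩ : B) : G))
        (hcomm ⟨a, haN ha⟩ ⟨g, hg⟩)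
      simp only [MulAut.mul_apply, happ] at h1
      have h2 : a * b * a⁻¹ = b := by rw [mem_centralizer_iff.mp hbA a ha]; group
      rw [h2] at h1
      show a * (g * b * g⁻¹) = g * b * g⁻¹ * a
      exact mul_inv_eq_iff_eq_mul.mp h1
    -- otherwise the fixed points of the derived image form the line `B₁`
    have hTp : IsPGroup q T := hT.map _
    set F : Subgroup G := B ⊓ ⨅ t : T, ((MonoidHom.eqLocus (t : MulAut B).toMonoidHom (MonoidHom.id B)).map
      B.subtype) with hF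
    have hFmem : ∀ b : G, b ∈ F ↔ ∃ hb : b ∈ B, ∀ t : T, (t : MulAut B) ⟨b, hb⟩ = ⟨b, hb⟩ := by
      intro b
      rw [hF, mem_inf, mem_iInf]
      constructor
      · rintro ⟨hb, hall⟩
        refine ⟨hb, fun t => ?_⟩
        obtain ⟨c, hc, hcb⟩ := hall t
        obtain rfl : c = ⟨b, hb⟩ := Subtype.ext hcb
        exact hc
      · rintro ⟨hb, hall⟩
        exact ⟨hb, fun t => ⟨⟨b, hb⟩, hall t, rfl⟩⟩
    have hF1 : F ≠ ⊥ := by
      let _ : MulAction T B := MulAction.compHom B T.subtype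
      have hd : q ∣ Nat.card B := dvd_card_of_pgroup_ne_bot hB.isPGroup hB.ne_bot
      obtain ⟨b, hb, hb1⟩ := hTp.exists_fixed_point_of_prime_dvd_card_of_fixed_point B hd
        (a := 1) (fun t => map_one (t : MulAut B))
      intro e
      exact hb1 (Subtype.ext (mem_bot.mp (e ▸ (hFmem b).mpr ⟨b.2, fun t => hb t⟩)).symm)
    have hFB : F ≠ B := by
      intro e
      refine hT1 ((Subgroup.eq_bot_iff_forall _).mpr fun t ht => MulEquiv.ext fun b => ?_)
      obtain ⟨_, hall⟩ := (hFmem b).mp (e.ge b.2)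
      exact hall ⟨t, ht⟩
    have hFc : Nat.card F = q := hline F inf_le_left hF1 hFB
    have hFn : N ≤ normalizer (F : Set G) := by
      have key : ∀ g : N, ∀ b : G, b ∈ F → (g : G) * b * (g : G)⁻¹ ∈ F := by
        intro g b hb
        obtain ⟨hbB, hall⟩ := (hFmem b).mp hb
        refine (hFmem _).mpr ⟨(mem_normalizer_iff.mp g.2 b).mp hbB, fun t => ?_⟩
        have hmem : (φ g)⁻¹ * t * φ g ∈ T := by
          obtain ⟨s, hs, hst⟩ := t.2
          refine ⟨(⟨φ g, g, rfl⟩ : φ.range)⁻¹ * s * ⟨φ g, g, rfl⟩,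
            (by
              have h0 := (inferInstance : (commutator φ.range).Normal).conj_mem s hs
                ((⟨φ g, g, rfl⟩ : φ.range)⁻¹)
              simpa using h0), ?_⟩
          simp [← hst]
        have h1 := hall ⟨_, hmem⟩
        simp only [MulAut.mul_apply] at h1
        have h2 : (t : MulAut B) (φ g ⟨b, hbB⟩) = φ g ⟨b, hbB⟩ := by
          have := congrArg (φ g) h1
          rwa [← MulAut.mul_apply, mul_inv_cancel, MulAut.one_apply] at this
        exact h2
      intro g hg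
      rw [mem_normalizer_iff]
      intro b
      refine ⟨key ⟨g, hg⟩ b, fun hb => ?_⟩
      have := key ⟨g⁻¹, inv_mem hg⟩ _ hb
      simpa [mul_assoc] using this
    have hFX : F ≠ X₀ := fun e => hg₀M (hNX (e ▸ hFn hg₀))
    suffices hFB₁ : F = B₁ by rwa [hFB₁] at hFn
    refine eq_of_le_of_card_ge (le_inf inf_le_left ?_) (by rw [hB₁c, hFc])
    rw [← commutator_eq_bot_iff_le_centralizer, ← le_bot_iff]
    refine (le_inf (CfsgLib.Comp.commutator_le_of_le_normalizer (haN.trans hFn))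
      ((commutator_mono inf_le_left le_rfl).trans hcomX.le)).trans (le_of_eq ?_)
    by_contra hne
    obtain ⟨w, hw1⟩ := (Subgroup.ne_bot_iff_exists_ne_one.mp hne)
    exact hFX ((zpowers_eq_of_card_prime hFc (mem_inf.mp w.2).1 (fun e => hw1 (Subtype.ext e))).symm.trans
      (zpowers_eq_of_card_prime hX₀c (mem_inf.mp w.2).2 (fun e => hw1 (Subtype.ext e))))
  obtain ⟨L', hL', hNL'⟩ := (eq_top_or_exists_le_coatom (normalizer (B₁ : Set G))).resolve_left
    (minSimple_normalizer_ne_top hG hB₁1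
      (fun e => hM.1 (top_le_iff.mp (e ▸ (inf_le_left : B₁ ≤ B).trans hBM))))
  have hAL' : A ≤ L' := (le_centralizer_iff.mp (inf_le_right : B₁ ≤ _)).trans
    ((centralizer_le_normalizer _).trans hNL')
  have hBL' : B ≤ L' := le_normalizer.trans (hNB.trans hNL')
  by_cases hqL : q ∈ Cfsg.sigma L'
  · have hBσ : B ≤ Cfsg.sigmaCore L' := le_sigmaCore_of_pi hG hL' hBL' fun t ht htd =>
      (prime_dvd_pgroup_card hB.isPGroup ht htd) ▸ hqL
    by_cases hpL : p ∈ Cfsg.sigma L'
    · have hAσ : A ≤ Cfsg.sigmaCore L' := le_sigmaCore_of_pi hG hL' hAL' fun t ht htd =>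
        (prime_dvd_pgroup_card h.sq.isPGroup ht htd) ▸ hpL
      have hd := sigmaCore_le_derived hG hL'
      have hc := le_centralizer_of_not_beta hG hL' h.sq.isPGroup hB.isPGroup hqp.symm hBn
        (hAσ.trans hd) (hBσ.trans hd) (not_beta_of_sq hG hM h.not_sigma h.sq h.le)
        (not_beta_of_sq hG hM hqσ hB hBM)
      refine ne_bot_of_card_prime hX₀c ?_
      rw [← hcomX, commutator_eq_bot_iff_le_centralizer]
      exact le_centralizer_iff.mp hc
    · obtain ⟨Z, h'⟩ := exists_exc hG hL' hpL h.sq hAL'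
      exact hB₁1 (le_bot_iff.mp ((le_inf ((inf_le_left : B₁ ≤ B).trans hBσ) inf_le_right).trans
        (h'.centralizer_eq_bot hG hL').le))
  · have h' : IsExc q L' B B₁ := ⟨hqL, hB, hBL', ⟨inf_le_left, hB₁c⟩, hNL'⟩
    obtain ⟨g, hg, hgL⟩ := h'.exists_move hG hL'
    exact hgL (hNL' (hNB hg))

/-- `A ⊴ E` for every complement `E` of `M_σ` containing `A`. -/
theorem IsExc.compl_le_normalizer (h : IsExc p M A A₀) {E : Subgroup G}
    (hE : Cfsg.IsComplIn E (Cfsg.sigmaCore M) M) (hAE : A ≤ E) : E ≤ normalizer (A : Set G) := by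
  obtain ⟨P, hPE, hAP⟩ := exists_sylowIn_le h.sq.isPGroup hAE
  have hP := sylowIn_of_compl hG hM hE h.not_sigma hPE
  have hsol : Group.IsSolvable E := isSolvable_of_le_max hG hM hE.1
  haveI := CfsgLib.Solvable.pPrimeCore_normal p E
  set K := (Cfsg.pPrimeCore p E).map E.subtype with hK
  have hKE : K ≤ E := map_subtype_le _
  have hKn : E ≤ normalizer (K : Set G) := by
    intro e he
    rw [mem_normalizer_iff]
    intro x
    constructor
    · rintro ⟨y, hy, rfl⟩
      exact ⟨⟨e, he⟩ * y * ⟨e, he⟩⁻¹,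
        (inferInstance : (Cfsg.pPrimeCore p E).Normal).conj_mem y hy _, rfl⟩
    · rintro ⟨y, hy, hxy⟩
      refine ⟨⟨e, he⟩⁻¹ * y * ⟨e, he⟩, by simpa using
        (inferInstance : (Cfsg.pPrimeCore p E).Normal).conj_mem y hy (⟨e, he⟩ : E)⁻¹, ?_⟩
      show e⁻¹ * E.subtype y * e = x
      rw [hxy]; group
  have hKcard : Nat.card K = Nat.card (Cfsg.pPrimeCore p E) :=
    card_map_of_injective E.subtype_injective
  have hcop : (Nat.card A).Coprime (Nat.card K) := by
    rw [h.sq.2, hKcard]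
    exact (CfsgLib.Solvable.pPrimeCore_coprime (G := E) p).symm.pow_left 2
  have hKA : K ≤ centralizer (A : Set G) := by
    refine le_of_inv_sylows (hAE.trans hKn) hcop (Or.inl (isSolvable_of_le_max hG hM h.le))
      fun q hq R hR hR1 hRn => ?_
    haveI : Fact q.Prime := ⟨hq⟩
    have hqK : q ∣ Nat.card K := (dvd_card_of_pgroup_ne_bot hR.2.1 hR1).trans (card_dvd_of_le hR.1)
    refine h.centralizes_inv hG hM (fun e => ?_) (not_sigma_of_dvd_compl hG hM hE hq
      (hqK.trans (card_dvd_of_le hKE))) hR.2.1 (hR.1.trans (hKE.trans hE.1)) hRn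
    subst e
    exact hq.ne_one (Nat.eq_one_of_dvd_coprimes (CfsgLib.Solvable.pPrimeCore_coprime (G := E) q)
      (hKcard ▸ hqK) dvd_rfl)
  intro e he
  have hidx : ¬ p ∣ (P.subgroupOf E).index := hPE.2.2
  let S : Sylow p E := (hPE.2.1.comap_subtype).toSylow hidx
  obtain ⟨g, hg, n, hn, hgn⟩ := pLengthLE_one_decomp
    (Cfsg.Agent.S1410.result hG p E fun e' => hM.1 (top_le_iff.mp (e' ▸ hE.1))) S ⟨e, he⟩
  have hgP : (g : G) ∈ normalizer (P : Set G) := by
    have hg' : g ∈ normalizer ((P.subgroupOf E : Subgroup E) : Set E) := hg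
    rw [mem_normalizer_iff]
    intro x
    constructor
    · intro hx
      have := (mem_normalizer_iff.mp hg' ⟨x, hPE.1 hx⟩).mp hx
      exact this
    · intro hx
      have h1 : x ∈ E := by
        have := mul_mem (mul_mem (inv_mem g.2) (hPE.1 hx)) g.2
        simpa [mul_assoc] using this
      exact (mem_normalizer_iff.mp hg' ⟨x, h1⟩).mpr hx
  have := congrArg Subtype.val hgn
  rw [← show (g : G) * (n : G) = e from this]
  exact mul_mem ((h.sylow_abelian hG hM hP hAP).2.2 hgP)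
    (centralizer_le_normalizer _ (hKA (mem_map_of_mem _ hn)))

/-- `M_σ ∩ L = 1` for every maximal `L ≠ M` over `A`. -/
theorem IsExc.inf_other (h : IsExc p M A A₀) (hL : IsCoatom L) (hne : L ≠ M) (hAL : A ≤ L) :
    Cfsg.sigmaCore M ⊓ L = ⊥ := by
  by_cases hpL : p ∈ Cfsg.sigma L
  · exact h.inf_eq_bot_of_sigma hG hM hL hAL hpL
  obtain ⟨Z, h'⟩ := exists_exc hG hL hpL h.sq hAL
  by_cases hdis : ∀ s ∈ Cfsg.sigma M, s ∉ Cfsg.sigma L
  · have hn : A ≤ normalizer ((Cfsg.sigmaCore M ⊓ L : Subgroup G) : Set G) :=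
      CfsgLib.Comp.le_normalizer_inf (h.le.trans (le_normalizer_sigmaCore M)) (hAL.trans le_normalizer)
    rw [← le_bot_iff, ← h.centralizer_eq_bot hG hM]
    refine le_inf inf_le_left (le_of_inv_sylows hn
      ((coprime_of_isSq hG hM h.not_sigma h.sq).coprime_dvd_right (card_dvd_of_le inf_le_left))
      (Or.inl (isSolvable_of_le_max hG hM h.le)) fun q hq R hR hR1 hRn => ?_)
    haveI : Fact q.Prime := ⟨hq⟩
    have hqσ := mem_sigma_of_dvd_sigmaCore hq
      ((dvd_card_of_pgroup_ne_bot hR.2.1 hR1).trans (card_dvd_of_le (hR.1.trans inf_le_left)))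
    exact h'.centralizes_inv hG hL (fun e => h.not_sigma (e ▸ hqσ)) (hdis q hqσ) hR.2.1
      (hR.1.trans inf_le_right) hRn
  push Not at hdis
  obtain ⟨s, hs, hs'⟩ := hdis
  obtain ⟨g, rfl⟩ := eq_conj_of_nilpotent hG hM (h.nilpotent hG hM) hL hs hs'
  exact h.inf_conj hG hM (fun hg => hne (conjMap_eq_of_mem hg)) hAL

end CfsgLib.BG
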