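import Cfsg.Agent.Lib.BG.TauThreeBasic

/-!
# A fixed `τ₃(M)`-line forces a prime action of the complement
-/

set_option autoImplicit false
set_option linter.style.haveILetI false
set_option linter.unusedSectionVars false

namespace CfsgLib.BG

open Subgroup CfsgLib.PLocal CfsgLib.OddLocal
open scoped commutatorElement

universe u
variable {G : Type u} [Group G] [Finite G] {M H E : Subgroup G}
variable (hG : Cfsg.IsMinSimpleOddOrder G) (hM : IsCoatom M)
include hG hM

omit hG hM in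
/-- An element of prime order in a nontrivial subgroup. -/
theorem exists_line_le {N : Subgroup G} (h : N ≠ ⊥) :
    ∃ (q : ℕ) (Q : Subgroup G), q.Prime ∧ Nat.card Q = q ∧ Q ≤ N := by
  obtain ⟨q, hq, hqd⟩ := Nat.exists_prime_and_dvd (fun e => h (Subgroup.card_eq_one.mp e))
  haveI : Fact q.Prime := ⟨hq⟩
  obtain ⟨y, hyo⟩ := exists_prime_orderOf_dvd_card' (G := N) q hqd
  exact ⟨q, zpowers (y : G), hq, by rw [Nat.card_zpowers, Subgroup.orderOf_coe, hyo],
    zpowers_le.mpr y.2⟩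

/-- A line of prime order outside `σ(M)` in `C_M(R)`, `R ≤ E`, has a copy in `C_E(R)`. -/
theorem exists_line_in_compl (hE : Cfsg.IsComplIn E (Cfsg.sigmaCore M) M) {r s : ℕ}
    [hr : Fact r.Prime] [hs : Fact s.Prime] (hrσ : r ∉ Cfsg.sigma M) (hsσ : s ∉ Cfsg.sigma M)
    (hrr : Cfsg.PRankLE r 1 M) {R Y : Subgroup G} (hRE : R ≤ E) (hR : Nat.card R = r) (hYM : Y ≤ M)
    (hY : Nat.card Y = s) (hYR : Y ≤ centralizer (R : Set G)) :
    ∃ Z : Subgroup G, Z ≤ E ∧ Z ≤ centralizer (R : Set G) ∧ Nat.card Z = s := by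
  have hRp := isPGroup_of_card_prime hR
  have hYp := isPGroup_of_card_prime hY
  obtain ⟨c, hc, hcE⟩ := exists_conj_le_compl hG hM hE (sup_le (hRE.trans hE.1) hYM : R ⊔ Y ≤ M)
    fun t ht hd => by
      rcases ht.dvd_mul.mp (hd.trans (card_sup_dvd (hYR.trans (centralizer_le_normalizer _)))) with h | h
      · exact (prime_dvd_pgroup_card hRp ht h) ▸ hrσ
      · exact (prime_dvd_pgroup_card hYp ht h) ▸ hsσ
  have hcR : conjMap c R ≤ E := (conjMap_mono le_sup_left).trans hcE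
  obtain ⟨S, hS, hRS⟩ := exists_sylowIn_le hRp hRE
  obtain ⟨e, he, heS⟩ := hS.exists_conj_le (hRp.map _) hcR
  have heq : conjMap e (conjMap c R) = R := eq_of_isCyclic_card
    (isCyclic_pgroup_of_prankLE_one hG hS.2.1 (hS.1.trans hE.1) hrr) heS hRS
    (by rw [card_conjMap, card_conjMap, hR]) hR
  refine ⟨conjMap e (conjMap c Y), ?_, ?_, by rw [card_conjMap, card_conjMap, hY]⟩
  · exact (conjMap_mono ((conjMap_mono le_sup_right).trans hcE)).trans
      (conjMap_eq_self_iff.mpr (le_normalizer he)).le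
  · intro z hz
    obtain ⟨z₁, ⟨y, hy, rfl⟩, rfl⟩ := hz
    refine mem_centralizer_iff.mpr fun b hb => ?_
    rw [SetLike.mem_coe, ← heq] at hb
    obtain ⟨b₁, ⟨a, ha, rfl⟩, rfl⟩ := hb
    show (MulAut.conj e).toMonoidHom _ * (MulAut.conj e).toMonoidHom _ = _
    rw [← map_mul, ← map_mul, mem_centralizer_iff.mp (hYR hy) a ha, map_mul, map_mul]

/-- The `τ₁(M)`-lines of a complement centralize every fixed `τ₃(M)`-line. -/
theorem tau1_centralizes_tau3 (hE : Cfsg.IsComplIn E (Cfsg.sigmaCore M) M) {p r : ℕ}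
    [hp : Fact p.Prime] [hr : Fact r.Prime] (hpτ : p ∈ Cfsg.tau3 M) (hrτ : r ∈ Cfsg.tau1 M)
    {X R : Subgroup G} (hXE : X ≤ E) (hX : Nat.card X = p)
    (hfix : Cfsg.sigmaCore M ⊓ centralizer (X : Set G) ≠ ⊥) (hRE : R ≤ E) (hR : Nat.card R = r) :
    X ≤ centralizer (R : Set G) := by
  by_contra hmove
  obtain ⟨H, hH, hpH, hCH, hEH, hnc⟩ := tau3_fixed_max hG hM hE hpτ hXE hX hfix
  have hneH : H ≠ M := fun e => hnc 1 (by rw [conjMap_one, e])
  have hnc' : ∀ g : G, conjMap g M ≠ H := fun g e => hnc g⁻¹ (by rw [← e, conjMap_inv_conjMap])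
  have hXM := hXE.trans hE.1
  have hRM := hRE.trans hE.1
  have hEX := compl_le_normalizer_tau3 hG hM hE hpτ hXE hX
  have hRp := isPGroup_of_card_prime hR
  have hrp : p ≠ r := fun e => hrτ.2.2.2.1 (e ▸ hpτ.2.2.1)
  set W := Cfsg.sigmaCore M ⊓ centralizer (X : Set G) with hW
  have hWR : W ⊓ centralizer (R : Set G) = ⊥ := fixed_inf_eq_bot hG hM hpτ hrτ hXM hX hH hpH hCH hRM
    hR (hRE.trans hEX) hmove
  have hEW : E ≤ normalizer (W : Set G) := CfsgLib.Comp.le_normalizer_inf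
    (hE.1.trans (le_normalizer_sigmaCore M)) (CfsgLib.Comp.le_normalizer_centralizer hEX)
  have hWH : W ≤ H := inf_le_right.trans hCH
  -- a `τ₁(M)`-line with no fixed point in `W` is `τ₁(H)`
  have htau1H : ∀ {t : ℕ} [Fact t.Prime] (Z : Subgroup G), t ∈ Cfsg.tau1 M → Z ≤ E →
      Nat.card Z = t → W ⊓ centralizer (Z : Set G) = ⊥ → t ∈ Cfsg.tau1 H := fun Z ht hZE hZ h0 =>
    (centralizes_or_tau1 hG hM hH hnc ht.2.1 hZ (hZE.trans hEH) inf_le_left hWH
      (hZE.trans hEW)).resolve_left fun h => hfix (le_bot_iff.mp (h0 ▸ le_inf le_rfl h))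
  have hrH : r ∈ Cfsg.tau1 H := htau1H R hrτ hRE hR hWR
  -- a line `Q₀` of `W` in `τ₃(H)`, moved by `R`
  obtain ⟨q, hq, hqd⟩ := exists_prime_dvd_of_ne_bot hG hfix
  haveI : Fact q.Prime := ⟨hq⟩
  have hqM : q ∈ Cfsg.sigma M := mem_sigma_of_dvd_sigmaCore hq (hqd.trans (card_dvd_of_le inf_le_left))
  have hqH : q ∉ Cfsg.sigma H := sigma_disjoint hG hM hH hnc hqM
  have hXσH : X ≤ Cfsg.sigmaCore H := le_sigmaCore_of_pi hG hH (hXE.trans hEH) fun t ht hd =>
    (prime_dvd_pgroup_card (isPGroup_of_card_prime hX) ht hd) ▸ hpH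
  have hqr : Cfsg.PRankLE q 1 H := by
    by_contra h
    by_cases hqb : q ∈ Cfsg.beta M
    · exact (Cfsg.Agent.S1408.result hG H hH q hqH (prankLE_two_of_not_sigma hG hH hqH) h).1 hqb.2
    obtain ⟨T', hET⟩ := CfsgLib.Coprime.exists_invariant_sylow (hE.1.trans (le_normalizer_sigmaCore M))
      (coprime_sigmaCore hG hM fun t ht hd => not_sigma_of_dvd_compl hG hM hE ht hd)
      (Or.inl (isSolvable_of_le_max hG hM hE.1)) q
    set T := (T' : Subgroup (Cfsg.sigmaCore M)).map (Cfsg.sigmaCore M).subtype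
    have hT : SylowIn q T (Cfsg.sigmaCore M) := sylowIn_map T'
    have hTX : T ≤ centralizer (X : Set G) := le_centralizer_iff.mp
      ((tau3_le_derived hG hM hE hXE fun t ht hd =>
        (prime_dvd_pgroup_card (isPGroup_of_card_prime hX) ht hd) ▸ hpτ).trans
        (derived_compl_centralizes hG hM hE hqM hqb hT.2.1 hT.1 hET))
    have hTM := sylowIn_of_sigmaCore hG hM hT hqM
    have hTH : SylowIn q T H := sylowIn_of_le (sylowIn_top hqM hTM) (hTX.trans hCH) le_top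
    obtain ⟨B, hBH, hB⟩ := exists_sq_le_of_not_prankLE le_rfl h
    obtain ⟨c, -, hc⟩ := hTH.exists_conj_le hB.isPGroup hBH
    obtain ⟨B₀, hexc⟩ := exists_exc hG hH hqH (hB.conjMap c) (hc.trans hTH.1)
    exact ne_bot_of_card_prime hX (le_bot_iff.mp (hexc.inf_other hG hH hM hneH.symm
      (hc.trans hTM.1) ▸ le_inf hXσH hXM))
  have hRW : R ≤ normalizer (W : Set G) := hRE.trans hEW
  have hcopW : (Nat.card R).Coprime (Nat.card W) := (coprime_sigmaCore hG hM fun t ht hd =>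
    (prime_dvd_pgroup_card hRp ht hd) ▸ hrτ.2.1).coprime_dvd_right (card_dvd_of_le inf_le_left)
  obtain ⟨V', hRV⟩ := CfsgLib.Coprime.exists_invariant_sylow hRW hcopW
    (Or.inl (isSolvable_of_le_max hG hM hRM)) q
  set V := (V' : Subgroup W).map W.subtype
  have hV : SylowIn q V W := sylowIn_map V'
  have hV1 : V ≠ ⊥ := fun e => hV.2.2 (by rw [e, relIndex_bot_left]; exact hqd)
  obtain ⟨y, hy, hyo⟩ := exists_order_p hV.2.1 hV1
  set Q₀ := zpowers y with hQ₀def
  have hQ₀ : Nat.card Q₀ = q := by rw [hQ₀def, Nat.card_zpowers, hyo]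
  have hQ₀V : Q₀ ≤ V := zpowers_le.mpr hy
  have hQ₀H : Q₀ ≤ H := hQ₀V.trans (hV.1.trans hWH)
  have hRQ₀ : R ≤ normalizer (Q₀ : Set G) := hRV.trans (normalizer_le_of_le_cyclic
    (isCyclic_pgroup_of_prankLE_one hG hV.2.1 (hV.1.trans hWH) hqr) hQ₀V)
  have hQ₀R : ¬ Q₀ ≤ centralizer (R : Set G) := fun h =>
    ne_bot_of_card_prime hQ₀ (le_bot_iff.mp (hWR ▸ le_inf (hQ₀V.trans hV.1) h))
  have hqτ : q ∈ Cfsg.tau3 H := by
    refine ⟨hq, hqH, ?_, hqr⟩
    have hd : Nat.card ↥⁅Q₀, R⁆ ∣ q := hQ₀ ▸ card_dvd_of_le (le_normalizer_iff_commutator_le_left.mp hRQ₀)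
    rw [← ((Nat.dvd_prime hq).mp hd).resolve_left fun h1 =>
      hQ₀R (commutator_eq_bot_iff_le_centralizer.mp (Subgroup.card_eq_one.mp h1))]
    exact card_dvd_of_le (commutator_mono hQ₀H (hRE.trans hEH))
  -- fixed points of `R` in both cores
  have hfM : Cfsg.sigmaCore M ⊓ centralizer (R : Set G) ≠ ⊥ := fixed_ne_bot_of_act hG hX hR hrp
    (hRE.trans hEX) hmove (hXM.trans (le_normalizer_sigmaCore M))
    (hRM.trans (le_normalizer_sigmaCore M))
    (fun hd => hpτ.2.1 (mem_sigma_of_dvd_sigmaCore hp.out hd))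
    (fun hd => hrτ.2.1 (mem_sigma_of_dvd_sigmaCore hr.out hd))
    (isSolvable_of_le_max hG hM (sigmaCore_le M)) (not_centralizes_sigmaCore_tau3 hG hM hpτ hXM hX)
  have hfH : Cfsg.sigmaCore H ⊓ centralizer (R : Set G) ≠ ⊥ := fixed_ne_bot_of_act hG hQ₀ hR
    (fun e => hrτ.2.1 (e ▸ hqM)) hRQ₀ hQ₀R (hQ₀H.trans (le_normalizer_sigmaCore H))
    ((hRE.trans hEH).trans (le_normalizer_sigmaCore H))
    (fun hd => hqH (mem_sigma_of_dvd_sigmaCore hq hd))
    (fun hd => hrH.2.1 (mem_sigma_of_dvd_sigmaCore hr.out hd))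
    (isSolvable_of_le_max hG hH (sigmaCore_le H)) (not_centralizes_sigmaCore_tau3 hG hH hqτ hQ₀H hQ₀)
  obtain ⟨s, Q₁, hs, hQ₁, hQ₁le⟩ := exists_line_le hfM
  obtain ⟨v, P₁, hv, hP₁, hP₁le⟩ := exists_line_le hfH
  haveI : Fact s.Prime := ⟨hs⟩
  haveI : Fact v.Prime := ⟨hv⟩
  have hsM : s ∈ Cfsg.sigma M :=
    mem_sigma_of_dvd_sigmaCore hs (hQ₁ ▸ card_dvd_of_le (hQ₁le.trans inf_le_left))
  have hvH : v ∈ Cfsg.sigma H :=
    mem_sigma_of_dvd_sigmaCore hv (hP₁ ▸ card_dvd_of_le (hP₁le.trans inf_le_left))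
  have hvM : v ∉ Cfsg.sigma M := sigma_disjoint hG hH hM hnc' hvH
  -- `C_M(R)` has no line of a prime in `σ(H)`
  have hno : ∀ Y : Subgroup G, Y ≤ M → Y ≤ centralizer (R : Set G) → Nat.card Y = v → False := by
    intro Y hYM hYR hY
    obtain ⟨Z, hZE, hZR, hZ⟩ := exists_line_in_compl hG hM hE hrτ.2.1 hvM hrτ.2.2.2.2 hRE hR hYM hY hYR
    have hZM := hZE.trans hE.1
    have hvd : v ∣ Nat.card E := hZ ▸ card_dvd_of_le hZE
    have h2 : v ∉ Cfsg.tau2 M := by
      rw [tau2_empty_of_tau3_fixed hG hM hE hpτ hXE hX hfix]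
      exact Set.notMem_empty v
    rcases tau_cases hG hM hE hvd h2 with h | h
    · have hπ : ∀ t : ℕ, t.Prime → t ∣ Nat.card ↥(R ⊔ Z) → t ∈ Cfsg.tau1 M := by
        intro t ht hd
        rcases ht.dvd_mul.mp (hd.trans (card_sup_dvd (hZR.trans (centralizer_le_normalizer _)))) with h' | h'
        · exact (prime_dvd_pgroup_card hRp ht h') ▸ hrτ
        · exact (prime_dvd_pgroup_card (isPGroup_of_card_prime hZ) ht h') ▸ h
      obtain ⟨x, hx, hxo⟩ := exists_order_p hRp (ne_bot_of_card_prime hR)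
      obtain ⟨z, hz, hzo⟩ := exists_order_p (isPGroup_of_card_prime hZ) (ne_bot_of_card_prime hZ)
      have hx1 : x ≠ 1 := fun e => hr.out.ne_one (by rw [← hxo, e, orderOf_one])
      have hz1 : z ≠ 1 := fun e => hv.ne_one (by rw [← hzo, e, orderOf_one])
      have e1 := prime_action_tau1 hG hM (sup_le hRM hZM) hπ (mem_sup_left hx) hx1
      have e2 := prime_action_tau1 hG hM (sup_le hRM hZM) hπ (mem_sup_right hz) hz1
      rw [← centralizer_zpowers_eq, zpowers_eq_of_card_prime hR hx hx1] at e1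
      rw [← centralizer_zpowers_eq, zpowers_eq_of_card_prime hZ hz hz1] at e2
      refine (htau1H Z h hZE hZ (le_bot_iff.mp (hWR ▸ le_inf inf_le_left ?_))).2.1 hvH
      exact ((inf_le_inf_right _ inf_le_left).trans (e2.trans e1.symm).le).trans inf_le_right
    · have h13 := centralizer_tau1_le hG hM hrτ hRM hR hZM hZ hZR hvM
      have hfZ : Cfsg.sigmaCore M ⊓ centralizer (Z : Set G) ≠ ⊥ := fun e =>
        hfM (le_bot_iff.mp (e ▸ le_inf inf_le_left h13))
      refine hfM (le_bot_iff.mp (hWR ▸ le_inf (le_inf inf_le_left ?_) inf_le_right))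
      exact (le_inf inf_le_left h13).trans (fixed_le_centralizer_tau3 hG hM hE h hpτ hZE hZ hXE hX hfZ)
  -- a maximal subgroup over `N(R)`
  obtain ⟨K, hK, hNK⟩ := (eq_top_or_exists_le_coatom (normalizer (R : Set G))).resolve_left
    (minSimple_normalizer_ne_top hG (ne_bot_of_card_prime hR) fun h => hM.1 (top_le_iff.mp (h ▸ hRM)))
  have hrK := sigma_of_fixed hG hM (Or.inl hrτ) hRM hR hfM hK hNK
  have hncKM := not_conj_of_normalizer_le hG hM hrτ.2.1 hrτ.2.2.2.2 hK hR hNK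
  have hncKH : ∀ g : G, conjMap g K ≠ H := fun g e => hrH.2.1 (by
    rw [← e, sigma_conjMap]
    exact hrK)
  have hCRK : centralizer (R : Set G) ≤ K := (centralizer_le_normalizer _).trans hNK
  have hRK : R ≤ K := le_normalizer.trans hNK
  have hRσK : R ≤ Cfsg.sigmaCore K := le_sigmaCore_of_pi hG hK hRK fun t ht hd =>
    (prime_dvd_pgroup_card hRp ht hd) ▸ hrK
  have hQ₁R : Q₁ ≤ centralizer (R : Set G) := hQ₁le.trans inf_le_right
  have hP₁R : P₁ ≤ centralizer (R : Set G) := hP₁le.trans inf_le_right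
  have hCQ : centralizer (Q₁ : Set G) ≤ M := (onlyMax_of_tau1_fixed hG hM hrτ hsM hRM hR hQ₁
    (hQ₁le.trans inf_le_left) hQ₁R).1.1
  have hCP : centralizer (P₁ : Set G) ≤ H := (onlyMax_of_tau1_fixed hG hH hrH hvH (hRE.trans hEH) hR
    hP₁ (hP₁le.trans inf_le_left) hP₁R).1.1
  have hsK : s ∉ Cfsg.sigma K := sigma_disjoint hG hM hK hncKM hsM
  have hvK : v ∉ Cfsg.sigma K := sigma_disjoint hG hH hK hncKH hvH
  have hrank : ∀ {N : Subgroup G} {t : ℕ} [Fact t.Prime] {Y : Subgroup G}, IsCoatom N → N ≠ K →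
      t ∉ Cfsg.sigma K → Nat.card Y = t → Y ≤ centralizer (R : Set G) →
      centralizer (Y : Set G) ≤ N → Cfsg.PRankLE t 1 K := by
    intro N t _ Y hN hne htK hY hYR hCY
    by_contra h
    have ht2 : t ∈ Cfsg.tau2 K := ⟨(Fact.out), htK, prankLE_two_of_not_sigma hG hK htK, h⟩
    obtain ⟨F, hF, hYF⟩ := exists_compl_ge hG hK (hYR.trans hCRK)
      fun t' ht' hd => (prime_dvd_pgroup_card (isPGroup_of_card_prime hY) ht' hd) ▸ htK
    obtain ⟨B, B₀, hBF, hexc⟩ := tau2_square hG hK hF ht2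
    have hYB : Y ≤ B := (Cfsg.Agent.S1418.result hG K hK F hF t ht2 B
      ⟨hBF, hexc.sq.1, hexc.sq.2⟩).1.2 Y hYF hY
    have hBC : B ≤ centralizer (Y : Set G) := hexc.sq.le_centralizer.trans (Subgroup.centralizer_le hYB)
    exact ne_bot_of_card_prime hR (le_bot_iff.mp (hexc.inf_other hG hK hN hne (hBC.trans hCY) ▸
      le_inf hRσK ((le_centralizer_iff.mp hYR).trans hCY)))
  have hsr := hrank hM (fun e => hncKM 1 (by rw [conjMap_one, e])) hsK hQ₁ hQ₁R hCQ
  have hvr := hrank hH (fun e => hncKH 1 (by rw [conjMap_one, e])) hvK hP₁ hP₁R hCP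
  have hsv : s ≠ v := fun e => hvM (e ▸ hsM)
  have hCsol : Group.IsSolvable ↥(centralizer (R : Set G)) := isSolvable_of_le_max hG hK hCRK
  have hcb : (Nat.card (⊥ : Subgroup G)).Coprime (Nat.card ↥(centralizer (R : Set G))) := by
    rw [Subgroup.card_bot]; exact Nat.coprime_one_left _
  obtain ⟨K₀, hK₀, -, hQK⟩ := CfsgLib.Coprime.exists_invariant_hall_ge (A := (⊥ : Subgroup G))
    bot_le hcb hCsol hQ₁R bot_le (π := {t | t = s ∨ t = v}) fun t ht hd =>
      Or.inl (prime_dvd_pgroup_card (isPGroup_of_card_prime hQ₁) ht hd)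
  obtain ⟨K₁, hK₁, -, hPK⟩ := CfsgLib.Coprime.exists_invariant_hall_ge (A := (⊥ : Subgroup G))
    bot_le hcb hCsol hP₁R bot_le (π := {t | t = s ∨ t = v}) fun t ht hd =>
      Or.inr (prime_dvd_pgroup_card (isPGroup_of_card_prime hP₁) ht hd)
  obtain ⟨c, hc, hcK⟩ := CfsgLib.Coprime.exists_conj_of_isPiHallOf hCsol hK₁ hK₀
  set P₂ := conjMap c P₁ with hP₂def
  have hP₂ : Nat.card P₂ = v := by rw [hP₂def, card_conjMap, hP₁]
  have hP₂K₀ : P₂ ≤ K₀ := (conjMap_mono hPK).trans hcK.le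
  have hP₂R : P₂ ≤ centralizer (R : Set G) := hP₂K₀.trans hK₀.1
  have hH₂ : IsCoatom (conjMap c H) := isCoatom_conjMap hH c
  have hCP₂ : centralizer (P₂ : Set G) ≤ conjMap c H := by
    intro z hz
    have h1 : c⁻¹ * z * c ∈ centralizer (P₁ : Set G) := mem_centralizer_iff.mpr fun a ha => by
      have h2 := mem_centralizer_iff.mp hz (c * a * c⁻¹) ⟨a, ha, rfl⟩
      calc a * (c⁻¹ * z * c) = c⁻¹ * (c * a * c⁻¹ * z) * c := by group
        _ = c⁻¹ * (z * (c * a * c⁻¹)) * c := by rw [h2]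
        _ = c⁻¹ * z * c * a := by group
    exact ⟨_, hCP h1, by show c * (c⁻¹ * z * c) * c⁻¹ = z; group⟩
  have hncom : ¬ P₂ ≤ centralizer (Q₁ : Set G) := fun h => hno P₂ (h.trans hCQ) hP₂R hP₂
  have hK₀K : K₀ ≤ K := hK₀.1.trans hCRK
  have hπ₀ : ∀ t : ℕ, t.Prime → t ∣ Nat.card K₀ → t = s ∨ t = v := fun t ht hd => hK₀.2.1 t ht hd
  rcases lt_or_gt_of_ne hsv with hlt | hlt
  · -- `Q₁` moves `P₂`
    obtain ⟨S, hS, hPS⟩ := exists_sylowIn_le (isPGroup_of_card_prime hP₂) hP₂K₀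
    have hn : Q₁ ≤ normalizer (P₂ : Set G) :=
      (hQK.trans (sylow_normal_of_lt hG hK hK₀K hπ₀ hlt (hQ₁ ▸ card_dvd_of_le hQK)
        (prankLE_two_of_not_sigma hG hK hsK) hS)).trans (normalizer_le_of_le_cyclic
          (isCyclic_pgroup_of_prankLE_one hG hS.2.1 (hS.1.trans hK₀K) hvr) hPS)
    have hd : Nat.card ↥⁅P₂, Q₁⁆ ∣ v := hP₂ ▸ card_dvd_of_le (le_normalizer_iff_commutator_le_left.mp hn)
    have hcard := ((Nat.dvd_prime hv).mp hd).resolve_left fun h1 =>
      hncom (commutator_eq_bot_iff_le_centralizer.mp (Subgroup.card_eq_one.mp h1))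
    have hvτ : v ∈ Cfsg.tau3 K := ⟨hv, hvK,
      hcard ▸ card_dvd_of_le (commutator_mono (hP₂K₀.trans hK₀K) (hQK.trans hK₀K)), hvr⟩
    have hsτ : s ∈ Cfsg.tau1 K := by
      have hPP : ⁅P₂, Q₁⁆ = P₂ := eq_of_le_of_card_ge (le_normalizer_iff_commutator_le_left.mp hn)
        (by rw [hcard, hP₂])
      exact tau1_of_act hG hH₂ hK (fun g e => hncKH (c⁻¹ * g) (by
          rw [← conjMap_conjMap, e, conjMap_inv_conjMap])) (mem_sigma_conjMap_of c hvH) hsv hQ₁
        (hQK.trans hK₀K) (isPGroup_of_card_prime hP₂) (hP₂K₀.trans hK₀K) hn hPP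
        (ne_bot_of_card_prime hP₂)
    exact ne_bot_of_card_prime hR (le_bot_iff.mp (fixed_inf_eq_bot hG hK hvτ hsτ (hP₂K₀.trans hK₀K)
      hP₂ hH₂ (mem_sigma_conjMap_of c hvH) hCP₂ (hQK.trans hK₀K) hQ₁ hn hncom ▸
      le_inf (le_inf hRσK (le_centralizer_iff.mp hP₂R)) (le_centralizer_iff.mp hQ₁R)))
  · -- `P₂` moves `Q₁`
    obtain ⟨S, hS, hQS⟩ := exists_sylowIn_le (isPGroup_of_card_prime hQ₁) hQK
    have hn : P₂ ≤ normalizer (Q₁ : Set G) :=
      (hP₂K₀.trans (sylow_normal_of_lt hG hK hK₀K (fun t ht hd => (hπ₀ t ht hd).symm) hlt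
        (hP₂ ▸ card_dvd_of_le hP₂K₀) (prankLE_two_of_not_sigma hG hK hvK) hS)).trans
          (normalizer_le_of_le_cyclic
            (isCyclic_pgroup_of_prankLE_one hG hS.2.1 (hS.1.trans hK₀K) hsr) hQS)
    have hncom' : ¬ Q₁ ≤ centralizer (P₂ : Set G) := fun h => hncom (le_centralizer_iff.mp h)
    have hd : Nat.card ↥⁅Q₁, P₂⁆ ∣ s := hQ₁ ▸ card_dvd_of_le (le_normalizer_iff_commutator_le_left.mp hn)
    have hcard := ((Nat.dvd_prime hs).mp hd).resolve_left fun h1 =>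
      hncom' (commutator_eq_bot_iff_le_centralizer.mp (Subgroup.card_eq_one.mp h1))
    have hsτ : s ∈ Cfsg.tau3 K := ⟨hs, hsK,
      hcard ▸ card_dvd_of_le (commutator_mono (hQK.trans hK₀K) (hP₂K₀.trans hK₀K)), hsr⟩
    have hvτ : v ∈ Cfsg.tau1 K := by
      have hQQ : ⁅Q₁, P₂⁆ = Q₁ := eq_of_le_of_card_ge (le_normalizer_iff_commutator_le_left.mp hn)
        (by rw [hcard, hQ₁])
      exact tau1_of_act hG hM hK hncKM hsM hsv.symm hP₂ (hP₂K₀.trans hK₀K)
        (isPGroup_of_card_prime hQ₁) (hQK.trans hK₀K) hn hQQ (ne_bot_of_card_prime hQ₁)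
    exact ne_bot_of_card_prime hR (le_bot_iff.mp (fixed_inf_eq_bot hG hK hsτ hvτ (hQK.trans hK₀K)
      hQ₁ hM hsM hCQ (hP₂K₀.trans hK₀K) hP₂ hn hncom' ▸
      le_inf (le_inf hRσK (le_centralizer_iff.mp hQ₁R)) (le_centralizer_iff.mp hP₂R)))

/-- In a complement with a fixed `τ₃(M)`-line no `τ₃(M)`-line is central. -/
theorem not_central_tau3 (hE : Cfsg.IsComplIn E (Cfsg.sigmaCore M) M) {p : ℕ} [hp : Fact p.Prime]
    (hpτ : p ∈ Cfsg.tau3 M) {X : Subgroup G} (hXE : X ≤ E) (hX : Nat.card X = p) :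
    ¬ E ≤ centralizer (X : Set G) := by
  intro hc
  have hXp := isPGroup_of_card_prime hX
  obtain ⟨S, hS, hXS⟩ := exists_sylowIn_le hXp hXE
  have hSc : IsCyclic S :=
    isCyclic_pgroup_of_prankLE_one hG hS.2.1 (hS.1.trans hE.1) hpτ.2.2.2
  have hab : IsMulCommutative S := IsCyclic.isMulCommutative
  set N := E ⊓ normalizer (S : Set G) with hN
  have hNS : N ≤ centralizer (S : Set G) := by
    refine le_of_inv_sylows (A := (⊥ : Subgroup G)) bot_le
      (by rw [Subgroup.card_bot]; exact Nat.coprime_one_left _)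
      (Or.inr (isSolvable_of_le_max hG hM (inf_le_left.trans hE.1))) fun t ht V hV hV1 _ => ?_
    haveI : Fact t.Prime := ⟨ht⟩
    by_cases htp : t = p
    · subst htp
      have hsup : IsPGroup t ↥(S ⊔ V) := isPGroup_of_prime_dvd fun u hu hd => by
        rcases hu.dvd_mul.mp (hd.trans (card_sup_dvd (hV.1.trans inf_le_right))) with h | h
        · exact prime_dvd_pgroup_card hS.2.1 hu h
        · exact prime_dvd_pgroup_card hV.2.1 hu h
      have hVS : V ≤ S := le_sup_right.trans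
        (hS.eq_of_le hsup (sup_le hS.1 (hV.1.trans inf_le_left)) le_sup_left).ge
      exact fun a ha => mem_centralizer_iff.mpr fun b hb =>
        congrArg Subtype.val (hab.is_comm.comm ⟨b, hb⟩ ⟨a, hVS ha⟩)
    · refine le_centralizer_of_fixes_order_p (prime_ne_two_of_pgroup hG hXp (ne_bot_of_card_prime hX))
        hS.2.1 (hV.1.trans inf_le_right) ?_ fun x hx hxp a ha => ?_
      · obtain ⟨n, hn⟩ := IsPGroup.iff_card.mp hV.2.1
        rw [hn]
        exact Nat.Coprime.pow_left _ ((Nat.coprime_primes ht hp.out).mpr htp)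
      · have hxX : x ∈ X := by
          rcases eq_or_ne x 1 with rfl | hx1
          · exact one_mem X
          exact (eq_of_isCyclic_card hSc (zpowers_le.mpr hx) hXS
            (by rw [Nat.card_zpowers, orderOf_eq_prime hxp hx1]) hX).le (mem_zpowers x)
        rw [← mem_centralizer_iff.mp (hc (hV.1.trans inf_le_left ha)) x hxX, mul_inv_cancel_right]
  let SE : Sylow p E := (hS.2.1.comap_subtype (K := E)).toSylow (fun hd => hS.2.2 hd)
  have hcen : normalizer ((SE : Subgroup E) : Set E) ≤ centralizer ((SE : Subgroup E) : Set E) := by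
    intro n hn
    have hn' : (n : G) ∈ centralizer (S : Set G) := hNS (mem_inf.mpr ⟨n.2, mem_normalizer_iff.mpr
      fun a => by
        constructor
        · intro ha
          exact (mem_normalizer_iff.mp hn ⟨a, hS.1 ha⟩).mp ha
        · intro ha
          have haE : a ∈ E := by
            have h1 := mul_mem (mul_mem (inv_mem n.2) (hS.1 ha)) n.2
            simpa [mul_assoc] using h1
          exact (mem_normalizer_iff.mp hn ⟨a, haE⟩).mpr ha⟩)
    exact mem_centralizer_iff.mpr fun b hb => Subtype.ext (mem_centralizer_iff.mp hn' (b : G) hb)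
  have hbot := sylow_inf_derived_eq_bot hS hab
    (CfsgLib.Transfer.hasNormalPComplement_of_normalizer_le_centralizer SE hcen)
  exact ne_bot_of_card_prime hX (le_bot_iff.mp (hbot ▸ le_inf hXS
    (tau3_le_derived hG hM hE hXE fun t ht hd => (prime_dvd_pgroup_card hXp ht hd) ▸ hpτ)))

/-- With a fixed `τ₃(M)`-line all `τ₁(M)`-lines of a complement are central in it. -/
theorem tau1_central_of_tau3_fixed (hE : Cfsg.IsComplIn E (Cfsg.sigmaCore M) M) {p r : ℕ}
    [hp : Fact p.Prime] [hr : Fact r.Prime] (hpτ : p ∈ Cfsg.tau3 M) (hrτ : r ∈ Cfsg.tau1 M)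
    {X R : Subgroup G} (hXE : X ≤ E) (hX : Nat.card X = p)
    (hfix : Cfsg.sigmaCore M ⊓ centralizer (X : Set G) ≠ ⊥) (hRE : R ≤ E) (hR : Nat.card R = r) :
    E ≤ centralizer (R : Set G) := by
  intro n hn
  obtain ⟨k, hk, a, ha, rfl⟩ := exists_derived_mul_centralizer hG hM hrτ hR hRE hE.1 hn
  refine mul_mem (?_ : k ∈ _) (mem_inf.mp ha).2
  have h2 := tau2_empty_of_tau3_fixed hG hM hE hpτ hXE hX hfix
  have hle : ⁅E, E⁆ ≤ E := derived_le_compl hG hM
  refine le_of_inv_sylows (A := (⊥ : Subgroup G)) bot_le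
    (by rw [Subgroup.card_bot]; exact Nat.coprime_one_left _)
    (Or.inr (isSolvable_of_le_max hG hM (hle.trans hE.1))) (fun t ht V hV hV1 _ => ?_) hk
  haveI : Fact t.Prime := ⟨ht⟩
  have htd : t ∣ Nat.card ↥⁅E, E⁆ := (dvd_card_of_pgroup_ne_bot hV.2.1 hV1).trans (card_dvd_of_le hV.1)
  have htτ : t ∈ Cfsg.tau3 M := by
    rcases tau_cases hG hM hE (htd.trans (card_dvd_of_le hle))
      (by rw [h2]; exact Set.notMem_empty t) with h | h
    · exact absurd (htd.trans (card_dvd_of_le (commutator_mono hE.1 hE.1))) h.2.2.2.1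
    · exact h
  have hVE : V ≤ E := hV.1.trans hle
  obtain ⟨S, hS, hVS⟩ := exists_sylowIn_le hV.2.1 hVE
  have hSc := isCyclic_pgroup_of_prankLE_one hG hS.2.1 (hS.1.trans hE.1) htτ.2.2.2
  obtain ⟨y, hy, hyo⟩ := exists_order_p hV.2.1 hV1
  have hYc : Nat.card (zpowers y) = t := by rw [Nat.card_zpowers, hyo]
  have hYE : zpowers y ≤ E := zpowers_le.mpr (hVE hy)
  have hfy : Cfsg.sigmaCore M ⊓ centralizer (zpowers y : Set G) ≠ ⊥ := fun e =>
    hfix (le_bot_iff.mp (e ▸ le_inf inf_le_left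
      (fixed_le_centralizer_tau3 hG hM hE hpτ htτ hXE hX hYE hYc hfix)))
  have hc := tau1_centralizes_tau3 hG hM hE htτ hrτ hYE hYc hfy hRE hR
  obtain ⟨W, hW, hRV⟩ : ∃ W : Subgroup G, V ≤ W ∧ R ≤ centralizer (W : Set G) := by
    refine ⟨V, le_rfl, le_centralizer_of_fixes_order_p
      (prime_ne_two_of_pgroup hG hV.2.1 hV1) hV.2.1 ?_ ?_ fun x hx hxp b hb => ?_⟩
    · exact (hRE.trans (hall_derived_normal hG hM hE (π := {t})
        ⟨hS.1, fun u hu hd => prime_dvd_pgroup_card hS.2.1 hu hd,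
          fun u _ hu => (Set.mem_singleton_iff.mp hu) ▸ hS.2.2⟩
        (tau3_le_derived hG hM hE hS.1 fun u hu hd =>
          (prime_dvd_pgroup_card hS.2.1 hu hd) ▸ htτ))).trans (normalizer_le_of_le_cyclic hSc hVS)
    · rw [hR]
      exact (Nat.coprime_primes hr.out ht).mpr fun e => hrτ.2.2.2.1 (e ▸ htτ.2.2.1)
    · have hxY : x ∈ zpowers y := by
        rcases eq_or_ne x 1 with rfl | hx1
        · exact one_mem _
        exact (eq_of_isCyclic_card hSc (zpowers_le.mpr (hVS hx)) (zpowers_le.mpr (hVS hy))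
          (by rw [Nat.card_zpowers, orderOf_eq_prime hxp hx1]) hYc).le (mem_zpowers x)
      rw [mem_centralizer_iff.mp (hc hxY) b hb, mul_inv_cancel_right]
  exact hW.trans (le_centralizer_iff.mp hRV)

/-- With a fixed `τ₃(M)`-line the complement fixes `C_{M_σ}(X)`, and its elements fix nothing more. -/
theorem tau3_fixed_structure (hE : Cfsg.IsComplIn E (Cfsg.sigmaCore M) M) {p : ℕ} [hp : Fact p.Prime]
    (hpτ : p ∈ Cfsg.tau3 M) {X : Subgroup G} (hXE : X ≤ E) (hX : Nat.card X = p)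
    (hfix : Cfsg.sigmaCore M ⊓ centralizer (X : Set G) ≠ ⊥) :
    Cfsg.tau2 M = ∅ ∧
      (∀ e ∈ E, e ≠ 1 → Cfsg.sigmaCore M ⊓ centralizer ({e} : Set G) =
        Cfsg.sigmaCore M ⊓ centralizer (E : Set G)) ∧
      Cfsg.sigmaCore M ⊓ centralizer (E : Set G) = Cfsg.sigmaCore M ⊓ centralizer (X : Set G) ∧
      ∀ Y : Subgroup G, Y ≤ E → (Nat.card Y).Prime → E ≤ normalizer (Y : Set G) := by
  have h2 := tau2_empty_of_tau3_fixed hG hM hE hpτ hXE hX hfix
  obtain ⟨H, hH, hpH, hCH, hEH, hnc⟩ := tau3_fixed_max hG hM hE hpτ hXE hX hfix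
  have hcases : ∀ t : ℕ, t.Prime → t ∣ Nat.card E → t ∈ Cfsg.tau1 M ∨ t ∈ Cfsg.tau3 M :=
    fun t ht hd => by
      haveI : Fact t.Prime := ⟨ht⟩
      exact tau_cases hG hM hE hd (by rw [h2]; exact Set.notMem_empty t)
  have hEX := compl_le_normalizer_tau3 hG hM hE hpτ hXE hX
  set W := Cfsg.sigmaCore M ⊓ centralizer (X : Set G) with hW
  have hEW : E ≤ normalizer (W : Set G) := CfsgLib.Comp.le_normalizer_inf
    (hE.1.trans (le_normalizer_sigmaCore M)) (CfsgLib.Comp.le_normalizer_centralizer hEX)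
  have hXR : ∀ {t : ℕ} [Fact t.Prime] (R : Subgroup G), t ∈ Cfsg.tau1 M → R ≤ E → Nat.card R = t →
      X ≤ centralizer (R : Set G) := fun R ht hRE hR =>
    tau1_centralizes_tau3 hG hM hE hpτ ht hXE hX hfix hRE hR
  -- `τ₁(M)`-lines centralize `W`
  have hWR : ∀ {t : ℕ} [Fact t.Prime] (R : Subgroup G), t ∈ Cfsg.tau1 M → R ≤ E → Nat.card R = t →
      W ≤ centralizer (R : Set G) := by
    intro r _ R hrτ hRE hR
    obtain ⟨E₁, hE₁, -, hRE₁⟩ := CfsgLib.Coprime.exists_invariant_hall_ge (A := (⊥ : Subgroup G))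
      bot_le (by rw [Subgroup.card_bot]; exact Nat.coprime_one_left _)
      (isSolvable_of_le_max hG hM hE.1) hRE bot_le (π := Cfsg.tau1 M)
      fun t ht hd => (prime_dvd_pgroup_card (isPGroup_of_card_prime hR) ht hd) ▸ hrτ
    have hE₁M := hE₁.1.trans hE.1
    obtain ⟨x, hx, hxo⟩ := exists_order_p (isPGroup_of_card_prime hR) (ne_bot_of_card_prime hR)
    have hx1 : x ≠ 1 := fun e => (Fact.out : r.Prime).ne_one (by rw [← hxo, e, orderOf_one])
    by_cases hall : ∀ t : ℕ, t.Prime → t ∣ Nat.card E₁ → t ∈ Cfsg.tau1 H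
    · -- `E` would centralize `X`
      have h1 := prime_action_tau1 hG hH (hE₁.1.trans hEH) hall (hRE₁ hx) hx1
      rw [← centralizer_zpowers_eq, zpowers_eq_of_card_prime hR hx hx1] at h1
      have hXE₁ : X ≤ centralizer (E₁ : Set G) := by
        refine le_trans ?_ (h1.le.trans inf_le_right)
        exact le_inf (le_sigmaCore_of_pi hG hH (hXE.trans hEH) fun t ht hd =>
          (prime_dvd_pgroup_card (isPGroup_of_card_prime hX) ht hd) ▸ hpH) (hXR R hrτ hRE hR)
      refine (not_central_tau3 hG hM hE hpτ hXE hX (le_of_inv_sylows (A := (⊥ : Subgroup G)) bot_le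
        (by rw [Subgroup.card_bot]; exact Nat.coprime_one_left _)
        (Or.inr (isSolvable_of_le_max hG hM hE.1)) fun t ht V hV hV1 _ => ?_)).elim
      haveI : Fact t.Prime := ⟨ht⟩
      rcases hcases t ht ((dvd_card_of_pgroup_ne_bot hV.2.1 hV1).trans (card_dvd_of_le hV.1)) with h | h
      · obtain ⟨S, hS, -⟩ := exists_sylowIn_le (IsPGroup.of_bot (p := t) (G := G)) (bot_le (a := E₁))
        have hSE : SylowIn t S E := ⟨hS.1.trans hE₁.1, hS.2.1, fun hd => by
          rw [← relIndex_mul_relIndex _ _ _ hS.1 hE₁.1] at hd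
          exact (ht.dvd_mul.mp hd).elim hS.2.2 (hE₁.2.2 t ht h)⟩
        obtain ⟨e, he, heV⟩ := hV.exists_conj_eq hSE
        rw [← heV]
        rintro _ ⟨a, ha, rfl⟩
        refine mem_centralizer_iff.mpr fun b hb => ?_
        obtain ⟨b', hb', rfl⟩ : ∃ b' ∈ X, (MulAut.conj e).toMonoidHom b' = b := by
          have : conjMap e X = X := conjMap_eq_self_iff.mpr (hEX he)
          rw [SetLike.mem_coe, ← this] at hb
          exact hb
        rw [← map_mul, ← map_mul, (mem_centralizer_iff.mp (hXE₁ hb') a (hS.1 ha)).symm]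
      · obtain ⟨E₃, hE₃, -, hVE₃⟩ := CfsgLib.Coprime.exists_invariant_hall_ge (A := (⊥ : Subgroup G))
          bot_le (by rw [Subgroup.card_bot]; exact Nat.coprime_one_left _)
          (isSolvable_of_le_max hG hM hE.1)
          (sup_le hV.1 hXE : V ⊔ X ≤ E) bot_le (π := Cfsg.tau3 M) fun u hu hd => by
            rcases hu.dvd_mul.mp
                ((sup_comm X V ▸ hd).trans (card_sup_dvd (K := V) (H := X) (hV.1.trans hEX))) with h' | h'
            · exact (prime_dvd_pgroup_card (isPGroup_of_card_prime hX) hu h') ▸ hpτ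
            · exact (prime_dvd_pgroup_card hV.2.1 hu h') ▸ h
        haveI := isCyclic_tau3 hG hM hE hE₃.1 hE₃.2.1
        exact fun a ha => mem_centralizer_iff.mpr fun b hb =>
          congrArg Subtype.val ((IsCyclic.isMulCommutative (α := E₃)).is_comm.comm
            ⟨b, hVE₃ (mem_sup_right hb)⟩ ⟨a, hVE₃ (mem_sup_left ha)⟩)
    · push Not at hall
      obtain ⟨t, ht, htd, htH⟩ := hall
      haveI : Fact t.Prime := ⟨ht⟩
      obtain ⟨z, hzo⟩ := exists_prime_orderOf_dvd_card' (G := E₁) t htd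
      have hzo' : orderOf (z : G) = t := by rw [Subgroup.orderOf_coe]; exact hzo
      have hz1 : (z : G) ≠ 1 := fun e => ht.ne_one (by rw [← hzo', e, orderOf_one])
      have hZ : Nat.card (zpowers (z : G)) = t := by rw [Nat.card_zpowers, hzo']
      have hZE : zpowers (z : G) ≤ E := zpowers_le.mpr (hE₁.1 z.2)
      have hWZ := (centralizes_or_tau1 hG hM hH hnc (hE₁.2.1 t ht htd).2.1 hZ (hZE.trans hEH)
        inf_le_left (inf_le_right.trans hCH) (hZE.trans hEW)).resolve_right htH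
      have e1 := prime_action_tau1 hG hM hE₁M hE₁.2.1 z.2 hz1
      have e2 := prime_action_tau1 hG hM hE₁M hE₁.2.1 (hRE₁ hx) hx1
      rw [← centralizer_zpowers_eq] at e1
      rw [← centralizer_zpowers_eq, zpowers_eq_of_card_prime hR hx hx1] at e2
      exact (le_inf inf_le_left hWZ).trans ((e1.trans e2.symm).le.trans inf_le_right)
  have hprimeFix : ∀ {t : ℕ} [Fact t.Prime] (Y : Subgroup G), Y ≤ E → Nat.card Y = t →
      Cfsg.sigmaCore M ⊓ centralizer (Y : Set G) = W := by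
    intro t _ Y hYE hY
    have ht : t.Prime := Fact.out
    rcases hcases t ht (hY ▸ card_dvd_of_le hYE) with h | h
    · refine le_antisymm ?_ (le_inf inf_le_left (hWR Y h hYE hY))
      exact le_inf inf_le_left (centralizer_tau1_le hG hM h (hYE.trans hE.1) hY (hXE.trans hE.1) hX
        (hXR Y h hYE hY) hpτ.2.1)
    · have h1 : W ≤ Cfsg.sigmaCore M ⊓ centralizer (Y : Set G) :=
        le_inf inf_le_left (fixed_le_centralizer_tau3 hG hM hE hpτ h hXE hX hYE hY hfix)
      refine le_antisymm (le_inf inf_le_left ?_) h1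
      exact fixed_le_centralizer_tau3 hG hM hE h hpτ hYE hY hXE hX
        fun e => hfix (le_bot_iff.mp (e ▸ h1))
  have hpow : ∀ z ∈ E, ∀ t k : ℕ, t.Prime → 1 ≤ k → orderOf z = t ^ k →
      Cfsg.sigmaCore M ⊓ centralizer ({z} : Set G) = W := by
    intro z hz t k ht hk hzo
    haveI : Fact t.Prime := ⟨ht⟩
    have hzp : IsPGroup t (zpowers z) := IsPGroup.of_card (n := k) (by rw [Nat.card_zpowers, hzo])
    have hz1 : z ≠ 1 := fun e => by
      rw [e, orderOf_one] at hzo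
      exact absurd hzo.symm (Nat.one_lt_pow (by omega) ht.one_lt).ne'
    obtain ⟨x, hx, hxo⟩ := exists_order_p hzp (by rwa [Ne, zpowers_eq_bot])
    have htd : t ∣ Nat.card E := hxo ▸ (orderOf_dvd_natCard E (zpowers_le.mpr hz hx))
    have hr1 : Cfsg.PRankLE t 1 M := (hcases t ht htd).elim (fun h => h.2.2.2.2) fun h => h.2.2.2
    have hx1 : x ≠ 1 := fun e => ht.ne_one (by rw [← hxo, e, orderOf_one])
    have hzM : zpowers z ≤ M := zpowers_le.mpr (hE.1 hz)
    have htσ := not_sigma_of_dvd_compl hG hM hE ht htd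
    rw [prime_action_cyclic hG hM htσ hr1 hzp hzM (mem_zpowers z) hz1,
      ← prime_action_cyclic hG hM htσ hr1 hzp hzM hx hx1, ← centralizer_zpowers_eq]
    exact hprimeFix _ (zpowers_le.mpr (zpowers_le.mpr hz hx)) (by rw [Nat.card_zpowers, hxo])
  have hWE : W ≤ centralizer (E : Set G) := by
    intro w hw
    refine mem_centralizer_iff.mpr fun a ha => ?_
    have : a ∈ centralizer ({w} : Set G) := CfsgLib.StructB.mem_of_forall_primePow _ a
      fun z hz t k ht hk hzo _ => by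
        have := (hpow z (zpowers_le.mpr ha hz) t k ht hk hzo).ge hw
        exact mem_centralizer_singleton_iff.mpr
          (mem_centralizer_singleton_iff.mp (mem_inf.mp this).2).symm
    exact mem_centralizer_singleton_iff.mp this
  have hWeq : Cfsg.sigmaCore M ⊓ centralizer (E : Set G) = W :=
    le_antisymm (inf_le_inf_left _ (Subgroup.centralizer_le hXE)) (le_inf inf_le_left hWE)
  refine ⟨h2, fun e he he1 => ?_, hWeq, fun Y hYE hYp => ?_⟩
  · refine le_antisymm ?_ (inf_le_inf_left _ (Subgroup.centralizer_le (Set.singleton_subset_iff.mpr he)))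
    obtain ⟨t, ht, htd⟩ := Nat.exists_prime_and_dvd (mt orderOf_eq_one_iff.mp he1)
    haveI : Fact t.Prime := ⟨ht⟩
    obtain ⟨k, hk⟩ := exists_prime_orderOf_dvd_card' (G := zpowers e) t
      (by rwa [Nat.card_zpowers])
    rw [hWeq, ← hpow (k : G) (zpowers_le.mpr he k.2) t 1 ht le_rfl
      (by rw [Subgroup.orderOf_coe, hk, pow_one]), ← centralizer_zpowers_eq,
      ← centralizer_zpowers_eq]
    exact inf_le_inf_left _ (Subgroup.centralizer_le (zpowers_le.mpr k.2))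
  · haveI : Fact (Nat.card Y).Prime := ⟨hYp⟩
    rcases hcases _ hYp (card_dvd_of_le hYE) with h | h
    · exact (tau1_central_of_tau3_fixed hG hM hE hpτ h hXE hX hfix hYE rfl).trans
        (centralizer_le_normalizer _)
    · exact compl_le_normalizer_tau3 hG hM hE h hYE rfl

end CfsgLib.BG
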