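import Cfsg.Agent.Lib.BG.SigmaOfFixed

/-!
# Lines of `τ₃(M)` with fixed points in `M_σ`: first properties
-/

set_option autoImplicit false
set_option linter.style.haveILetI false
set_option linter.unusedSectionVars false

namespace CfsgLib.BG

open Subgroup CfsgLib.PLocal CfsgLib.OddLocal
open scoped commutatorElement

universe u
variable {G : Type u} [Group G] [Finite G] {M H E : Subgroup G}
variable (hG : Cfsg.IsMinSimpleOddOrder G)
include hG

/-- `R` moves `X` and both act on `N`, `X` nontrivially: then `R` has fixed points in `N`. -/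
theorem fixed_ne_bot_of_act {p r : ℕ} [hp : Fact p.Prime] [hr : Fact r.Prime] {N X R : Subgroup G}
    (hX : Nat.card X = p) (hR : Nat.card R = r) (hpr : p ≠ r) (hRX : R ≤ normalizer (X : Set G))
    (hnc : ¬ X ≤ centralizer (R : Set G)) (hXN : X ≤ normalizer (N : Set G))
    (hRN : R ≤ normalizer (N : Set G)) (hpN : ¬ p ∣ Nat.card N) (hrN : ¬ r ∣ Nat.card N)
    (hNs : Group.IsSolvable N) (hXNc : ¬ X ≤ centralizer (N : Set G)) :
    N ⊓ centralizer (R : Set G) ≠ ⊥ := by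
  intro e
  have hXp := isPGroup_of_card_prime hX
  have hRp := isPGroup_of_card_prime hR
  have hR1 := ne_bot_of_card_prime hR
  have hXR : ⁅X, R⁆ = X := by
    have hle : ⁅X, R⁆ ≤ X := le_normalizer_iff_commutator_le_left.mp hRX
    refine eq_of_le_of_card_ge hle (le_of_eq ?_)
    have hd : Nat.card ↥⁅X, R⁆ ∣ p := hX ▸ card_dvd_of_le hle
    rw [((Nat.dvd_prime hp.out).mp hd).resolve_left fun h1 =>
      hnc (commutator_eq_bot_iff_le_centralizer.mp (Subgroup.card_eq_one.mp h1)), hX]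
  obtain ⟨x, hx, hxo⟩ := exists_order_p hRp hR1
  have hxR : zpowers x = R := zpowers_eq_of_card_prime hR hx
    fun h => hr.out.ne_one (by rw [← hxo, h, orderOf_one])
  refine hXNc (le_centralizer_iff.mp (le_of_inv_sylows (A := X ⊔ R) (sup_le hXN hRN) ?_ (Or.inr hNs)
    fun q hq D hD hD1 hDn => ?_))
  · refine coprime_of_forall fun t ht h1 h2 => ?_
    rcases ht.dvd_mul.mp (h1.trans (card_sup_dvd hRX)) with h | h
    · exact hpN ((prime_dvd_pgroup_card hXp ht h) ▸ h2)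
    · exact hrN ((prime_dvd_pgroup_card hRp ht h) ▸ h2)
  haveI : Fact q.Prime := ⟨hq⟩
  have hqd : q ∣ Nat.card N := (dvd_card_of_pgroup_ne_bot hD.2.1 hD1).trans (card_dvd_of_le hD.1)
  have hqp : p ≠ q := fun h => hpN (h ▸ hqd)
  have hqr : q ≠ r := fun h => hrN (h ▸ hqd)
  refine le_centralizer_iff.mp (centralizes_of_fixed_le (p := q) (q := p) hr.out
    (prime_ne_two_of_pgroup hG hD.2.1 hD1)
    (prime_ne_two_of_pgroup hG hXp (ne_bot_of_card_prime hX)) (prime_ne_two_of_pgroup hG hRp hR1)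
    hqp hpr hqr hxo hXp hD.2.1 bot_le (hRX hx) (hDn (mem_sup_right hx))
    (normalizer_eq_top (⊥ : Subgroup G) ▸ mem_top x) (le_sup_left.trans hDn)
    (fun a _ => mem_centralizer_iff.mpr fun b hb => by
      rw [SetLike.mem_coe, mem_bot] at hb
      subst hb
      simp)
    (normalizer_eq_top (⊥ : Subgroup G) ▸ le_top) ?_ (by rw [hxR, hXR]))
  rw [hxR]
  exact (inf_le_inf_right _ hD.1).trans e.le

variable (hM : IsCoatom M)
include hM

/-- A complement normalizes its `τ₃(M)`-lines. -/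
theorem compl_le_normalizer_tau3 (hE : Cfsg.IsComplIn E (Cfsg.sigmaCore M) M) {p : ℕ}
    [hp : Fact p.Prime] (hpτ : p ∈ Cfsg.tau3 M) {X : Subgroup G} (hXE : X ≤ E)
    (hX : Nat.card X = p) : E ≤ normalizer (X : Set G) := by
  obtain ⟨E₃, hE₃, -, hXE₃⟩ := CfsgLib.Coprime.exists_invariant_hall_ge (A := (⊥ : Subgroup G))
    bot_le (by rw [Subgroup.card_bot]; exact Nat.coprime_one_left _)
    (isSolvable_of_le_max hG hM hE.1) hXE bot_le (π := Cfsg.tau3 M)
    fun t ht hd => (prime_dvd_pgroup_card (isPGroup_of_card_prime hX) ht hd) ▸ hpτ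
  exact (tau3_hall_normal hG hM hE hE₃).trans
    (normalizer_le_of_le_cyclic (isCyclic_tau3 hG hM hE hE₃.1 hE₃.2.1) hXE₃)

/-- A `τ₃(M)`-line does not centralize `M_σ`. -/
theorem not_centralizes_sigmaCore_tau3 {p : ℕ} [hp : Fact p.Prime] (hpτ : p ∈ Cfsg.tau3 M)
    {X : Subgroup G} (hXM : X ≤ M) (hX : Nat.card X = p) :
    ¬ X ≤ centralizer (Cfsg.sigmaCore M : Set G) := by
  intro h
  obtain ⟨F, hF, hXF⟩ := exists_compl_ge hG hM hXM
    fun t ht hd => (prime_dvd_pgroup_card (isPGroup_of_card_prime hX) ht hd) ▸ hpτ.2.1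
  have hMN : M ≤ normalizer (X : Set G) := (isComplIn_sup hF).ge.trans (sup_le
    (compl_le_normalizer_tau3 hG hM hF hpτ hXF hX)
    ((le_centralizer_iff.mp h).trans (centralizer_le_normalizer _)))
  have hN : normalizer (X : Set G) ≤ M := (hM.le_iff.mp hMN).elim (fun e => absurd e
    (minSimple_normalizer_ne_top hG (ne_bot_of_card_prime hX)
      fun e' => hM.1 (top_le_iff.mp (e' ▸ hXM)))) le_of_eq
  exact not_conj_of_normalizer_le hG hM hpτ.2.1 hpτ.2.2.2 hM hX hN 1 (conjMap_one M)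

/-- A prime-order subgroup acting on a `σ(M)`-group of `H` centralizes it, unless it is `τ₁(H)`. -/
theorem centralizes_or_tau1 (hH : IsCoatom H) (hnc : ∀ g : G, conjMap g H ≠ M) {s : ℕ}
    [hs : Fact s.Prime] (hsM : s ∉ Cfsg.sigma M) {Y N : Subgroup G} (hY : Nat.card Y = s)
    (hYH : Y ≤ H) (hN : N ≤ Cfsg.sigmaCore M) (hNH : N ≤ H) (hYN : Y ≤ normalizer (N : Set G)) :
    N ≤ centralizer (Y : Set G) ∨ s ∈ Cfsg.tau1 H := by
  by_contra hno
  push Not at hno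
  obtain ⟨hnot, hτ⟩ := hno
  have hYp := isPGroup_of_card_prime hY
  have hπ : ∀ q : ℕ, q.Prime → q ∣ Nat.card N → q ∈ Cfsg.sigma M := fun q hq hd =>
    mem_sigma_of_dvd_sigmaCore hq (hd.trans (card_dvd_of_le hN))
  refine hnot (le_of_inv_sylows hYN (coprime_of_forall fun t ht h1 h2 =>
    hsM ((prime_dvd_pgroup_card hYp ht h1) ▸ hπ t ht h2))
    (Or.inl (isSolvable_of_le_max hG hH hYH)) fun q hq V hV hV1 hVn => ?_)
  haveI : Fact q.Prime := ⟨hq⟩
  have hqM := hπ q hq ((dvd_card_of_pgroup_ne_bot hV.2.1 hV1).trans (card_dvd_of_le hV.1))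
  have hsq : s ≠ q := fun e => hsM (e ▸ hqM)
  by_contra hne
  have hQQ := CfsgLib.Coprime.commutator_commutator_eq hVn (coprime_pgroup hYp hV.2.1 hsq)
    (Or.inl (isSolvable_of_le_max hG hH hYH))
  exact hτ (tau1_of_act hG hM hH hnc hqM hsq hY hYH
    (hV.2.1.to_le (le_normalizer_iff_commutator_le_left.mp hVn))
    ((le_normalizer_iff_commutator_le_left.mp hVn).trans (hV.1.trans hNH))
    (Subgroup.normalizer_commutator_ge_right V Y) hQQ
    fun e => hne (commutator_eq_bot_iff_le_centralizer.mp e))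

/-- A `τ₁(M)`-line moving `X` fixes nothing in `C_{M_σ}(X)`. -/
theorem fixed_inf_eq_bot {p r : ℕ} [hp : Fact p.Prime] [hr : Fact r.Prime]
    (hpτ : p ∈ Cfsg.tau3 M) (hrτ : r ∈ Cfsg.tau1 M) {X R : Subgroup G} (hXM : X ≤ M)
    (hX : Nat.card X = p) (hH : IsCoatom H) (hpH : p ∈ Cfsg.sigma H)
    (hCH : centralizer (X : Set G) ≤ H) (hRM : R ≤ M) (hR : Nat.card R = r)
    (hRX : R ≤ normalizer (X : Set G)) (hmove : ¬ X ≤ centralizer (R : Set G)) :
    Cfsg.sigmaCore M ⊓ centralizer (X : Set G) ⊓ centralizer (R : Set G) = ⊥ := by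
  by_contra hne
  obtain ⟨q, hq, hqd⟩ := exists_prime_dvd_of_ne_bot hG hne
  haveI : Fact q.Prime := ⟨hq⟩
  obtain ⟨y, hyo⟩ := exists_prime_orderOf_dvd_card' (G := ↥(Cfsg.sigmaCore M ⊓
    centralizer (X : Set G) ⊓ centralizer (R : Set G))) q hqd
  have hyo' : orderOf (y : G) = q := by rw [Subgroup.orderOf_coe]; exact hyo
  obtain ⟨hy12, hyR⟩ := mem_inf.mp y.2
  obtain ⟨hyσ, hyX⟩ := mem_inf.mp hy12
  set Q₀ := zpowers (y : G) with hQ₀def
  have hQ₀ : Nat.card Q₀ = q := by rw [hQ₀def, Nat.card_zpowers, hyo']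
  have hQ₀σ : Q₀ ≤ Cfsg.sigmaCore M := zpowers_le.mpr hyσ
  have hQ₀X : Q₀ ≤ centralizer (X : Set G) := zpowers_le.mpr hyX
  have hQ₀R : Q₀ ≤ centralizer (R : Set G) := zpowers_le.mpr hyR
  have hpσ := hpτ.2.1
  have hnc : ∀ g : G, conjMap g H ≠ M := fun g e => hpσ (by
    rw [← e, sigma_conjMap]
    exact hpH)
  have hne' : H ≠ M := fun e => hnc 1 (by rw [conjMap_one, e])
  have hqσ : q ∈ Cfsg.sigma M := mem_sigma_of_dvd_sigmaCore hq (hQ₀ ▸ card_dvd_of_le hQ₀σ)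
  have hqH : q ∉ Cfsg.sigma H := sigma_disjoint hG hM hH hnc hqσ
  have hXp := isPGroup_of_card_prime hX
  have hRp := isPGroup_of_card_prime hR
  have hrp : r ≠ p := fun e => hrτ.2.2.2.1 (e ▸ hpτ.2.2.1)
  have hπ : ∀ t : ℕ, t.Prime → t ∣ Nat.card ↥(X ⊔ R) → t ∉ Cfsg.sigma M := by
    intro t ht hd
    rcases ht.dvd_mul.mp (hd.trans (card_sup_dvd hRX)) with h | h
    · exact (prime_dvd_pgroup_card hXp ht h) ▸ hpσ
    · exact (prime_dvd_pgroup_card hRp ht h) ▸ hrτ.2.1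
  have hXR : ⁅X, R⁆ = X := by
    have hle : ⁅X, R⁆ ≤ X := le_normalizer_iff_commutator_le_left.mp hRX
    refine eq_of_le_of_card_ge hle (le_of_eq ?_)
    have hd : Nat.card ↥⁅X, R⁆ ∣ p := hX ▸ card_dvd_of_le hle
    rw [((Nat.dvd_prime hp.out).mp hd).resolve_left fun h1 =>
      hmove (commutator_eq_bot_iff_le_centralizer.mp (Subgroup.card_eq_one.mp h1)), hX]
  have hQ₀H : Q₀ ≤ H := hQ₀X.trans hCH
  by_cases hqb : q ∈ Cfsg.beta M
  · obtain ⟨D, hPD, hDM, hD, hDe, hDP, hKD, A, hAD, hA⟩ := exists_beta_witness hG hM hqb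
      (hQ₀σ.trans (sigmaCore_le M)) hQ₀ (sup_le hXM hRM)
      (sup_le (le_centralizer_iff.mp hQ₀X) (le_centralizer_iff.mp hQ₀R))
      fun t ht hd h => hπ t ht hd (mem_sigma_of_mem_beta hG hM h)
    have hc := commutator_centralizes_witness (q := p) hG hM hqb (fun e => hpσ (by rw [e]; exact hqσ)) hrp
      (hQ₀σ.trans (sigmaCore_le M)) hQ₀ hPD hD hDe hDP hrτ hR (le_centralizer_iff.mp hQ₀R)
      (le_sup_right.trans hKD) hXp (ne_bot_of_card_prime hX) (le_centralizer_iff.mp hQ₀X)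
      (le_sup_left.trans hKD) hRX hXR
    exact hA.not_prankLE_one ((hAD.trans (le_centralizer_iff.mp hc)).trans hCH)
      (prankLE_one_of_beta hG hM hqb hQ₀ (hQ₀σ.trans (sigmaCore_le M)) hH hne' hQ₀H)
  obtain ⟨F, hF, hXRF⟩ := exists_compl_ge hG hM (sup_le hXM hRM) hπ
  obtain ⟨T', hFT⟩ := CfsgLib.Coprime.exists_invariant_sylow (hF.1.trans (le_normalizer_sigmaCore M))
    (coprime_sigmaCore hG hM fun t ht hd => not_sigma_of_dvd_compl hG hM hF ht hd)
    (Or.inl (isSolvable_of_le_max hG hM hF.1)) q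
  set T := (T' : Subgroup (Cfsg.sigmaCore M)).map (Cfsg.sigmaCore M).subtype
  have hT : SylowIn q T (Cfsg.sigmaCore M) := sylowIn_map T'
  set W := Cfsg.sigmaCore M ⊓ centralizer (X : Set G) with hW
  have hTW : T ≤ W := le_inf hT.1 (le_centralizer_iff.mp
    ((tau3_le_derived hG hM hF (le_sup_left.trans hXRF) fun t ht hd =>
      (prime_dvd_pgroup_card hXp ht hd) ▸ hpτ).trans
      (derived_compl_centralizes hG hM hF hqσ hqb hT.2.1 hT.1 hFT)))
  have hTtop := sylowIn_top hqσ (sylowIn_of_sigmaCore hG hM hT hqσ)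
  obtain ⟨P', hQP, -⟩ := CfsgLib.Coprime.exists_invariant_sylow_ge (A := R) (G := W)
    (CfsgLib.Comp.le_normalizer_inf (hRM.trans (le_normalizer_sigmaCore M))
      (CfsgLib.Comp.le_normalizer_centralizer hRX))
    ((coprime_sigmaCore hG hM fun t ht hd =>
      (prime_dvd_pgroup_card hRp ht hd) ▸ hrτ.2.1).coprime_dvd_right (card_dvd_of_le inf_le_left))
    (Or.inl (isSolvable_of_le_max hG hM hRM)) (isPGroup_of_card_prime hQ₀)
    (le_inf hQ₀σ hQ₀X) ((le_centralizer_iff.mp hQ₀R).trans (centralizer_le_normalizer _))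
  set P := (P' : Subgroup W).map W.subtype
  have hP : SylowIn q P W := sylowIn_map P'
  have hPtop : SylowIn q P ⊤ := hTtop.of_card_le hP.2.1 le_top (hP.card_le hT.2.1 hTW)
  have hPH : P ≤ H := hP.1.trans (inf_le_right.trans hCH)
  have hab : IsMulCommutative P := isMulCommutative_of_nilpotent hG hH hPH hP.2.1.isNilpotent
    fun t ht hd => (prime_dvd_pgroup_card hP.2.1 ht hd) ▸ hqH
  exact ne_bot_of_card_prime hQ₀ (le_bot_iff.mp ((le_inf hQP hQ₀R).trans
    (fixed_eq_bot_of_abelian hG hM hrτ hqσ hqb hRM hR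
      (sylowIn_of_le hPtop (hP.1.trans inf_le_left) le_top) hab).le))

/-- The data attached to a fixed `τ₃(M)`-line `X`: a maximal subgroup over `N(X)`. -/
theorem tau3_fixed_max (hE : Cfsg.IsComplIn E (Cfsg.sigmaCore M) M) {p : ℕ} [hp : Fact p.Prime]
    (hpτ : p ∈ Cfsg.tau3 M) {X : Subgroup G} (hXE : X ≤ E) (hX : Nat.card X = p)
    (hfix : Cfsg.sigmaCore M ⊓ centralizer (X : Set G) ≠ ⊥) :
    ∃ H : Subgroup G, IsCoatom H ∧ p ∈ Cfsg.sigma H ∧ centralizer (X : Set G) ≤ H ∧ E ≤ H ∧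
      ∀ g : G, conjMap g H ≠ M := by
  have hXM := hXE.trans hE.1
  obtain ⟨H, hH, hNH⟩ := (eq_top_or_exists_le_coatom (normalizer (X : Set G))).resolve_left
    (minSimple_normalizer_ne_top hG (ne_bot_of_card_prime hX)
      fun h => hM.1 (top_le_iff.mp (h ▸ hXM)))
  exact ⟨H, hH, sigma_of_fixed hG hM (Or.inr hpτ) hXM hX hfix hH hNH,
    (centralizer_le_normalizer _).trans hNH, (compl_le_normalizer_tau3 hG hM hE hpτ hXE hX).trans hNH,
    not_conj_of_normalizer_le hG hM hpτ.2.1 hpτ.2.2.2 hH hX hNH⟩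

/-- A fixed `τ₃(M)`-line excludes `τ₂(M)`. -/
theorem tau2_empty_of_tau3_fixed (hE : Cfsg.IsComplIn E (Cfsg.sigmaCore M) M) {p : ℕ}
    [hp : Fact p.Prime] (hpτ : p ∈ Cfsg.tau3 M) {X : Subgroup G} (hXE : X ≤ E) (hX : Nat.card X = p)
    (hfix : Cfsg.sigmaCore M ⊓ centralizer (X : Set G) ≠ ⊥) : Cfsg.tau2 M = ∅ := by
  refine Set.eq_empty_iff_forall_notMem.mpr fun r hr => ?_
  haveI : Fact r.Prime := ⟨hr.1⟩
  obtain ⟨H, hH, -, hCH, hEH, hnc⟩ := tau3_fixed_max hG hM hE hpτ hXE hX hfix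
  obtain ⟨B, B₀, hBE, h⟩ := tau2_square hG hM hE hr
  exact hfix (le_bot_iff.mp (h.inf_other hG hM hH (fun e => hnc 1 (by rw [conjMap_one, e]))
    (hBE.trans hEH) ▸ inf_le_inf_left _ hCH))

/-- All `τ₃(M)`-lines of a complement centralize the fixed points of one of them. -/
theorem fixed_le_centralizer_tau3 (hE : Cfsg.IsComplIn E (Cfsg.sigmaCore M) M) {p s : ℕ}
    [hp : Fact p.Prime] [hs : Fact s.Prime] (hpτ : p ∈ Cfsg.tau3 M) (hsτ : s ∈ Cfsg.tau3 M)
    {X Y : Subgroup G} (hXE : X ≤ E) (hX : Nat.card X = p) (hYE : Y ≤ E) (hY : Nat.card Y = s)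
    (hfix : Cfsg.sigmaCore M ⊓ centralizer (X : Set G) ≠ ⊥) :
    Cfsg.sigmaCore M ⊓ centralizer (X : Set G) ≤ centralizer (Y : Set G) := by
  obtain ⟨H, hH, -, hCH, hEH, hnc⟩ := tau3_fixed_max hG hM hE hpτ hXE hX hfix
  refine (centralizes_or_tau1 hG hM hH hnc hsτ.2.1 hY (hYE.trans hEH) inf_le_left
    (inf_le_right.trans hCH) (CfsgLib.Comp.le_normalizer_inf
      ((hYE.trans hE.1).trans (le_normalizer_sigmaCore M))
      (CfsgLib.Comp.le_normalizer_centralizer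
        (hYE.trans (compl_le_normalizer_tau3 hG hM hE hpτ hXE hX))))).resolve_right fun h => ?_
  refine h.2.2.2.1 ((hY.symm ▸ dvd_rfl : s ∣ Nat.card Y).trans (card_dvd_of_le ?_))
  exact (tau3_le_derived hG hM hE hYE fun t ht hd =>
    (prime_dvd_pgroup_card (isPGroup_of_card_prime hY) ht hd) ▸ hsτ).trans (commutator_mono hEH hEH)

end CfsgLib.BG
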