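import Cfsg.Agent.Lib.BG.KappaDecomp
import Cfsg.Agent.Lib.BG14.SupportR
import Cfsg.Agent.Lib.OddLocal.FittingParts
import Cfsg.Agent.Lib.Coprime.Generation
import Cfsg.Agent.S1420

/-!
# The derived series and the Fitting subgroup of a maximal subgroup
-/

set_option autoImplicit false
set_option linter.style.haveILetI false
set_option linter.unusedSectionVars false

namespace CfsgLib.BG

open Subgroup CfsgLib.PLocal CfsgLib.OddLocal
open scoped commutatorElement

universe u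
variable {G : Type u} [Group G] [Finite G] {M K U : Subgroup G}

/-- The commutator of two elements `d k`, `e l` of `D A` with `A` abelian. -/
theorem commutator_mul_mul_eq {A D : Subgroup G} (hA : A ≤ normalizer (D : Set G))
    (hAc : IsMulCommutative A) {d k e l : G} (hd : d ∈ D) (hk : k ∈ A) (he : e ∈ D) (hl : l ∈ A) :
    k * e * k⁻¹ ∈ D ∧ l * d⁻¹ * l⁻¹ ∈ D ∧
      ⁅d * k, e * l⁆ = d * (k * e * k⁻¹) * (l * d⁻¹ * l⁻¹) * e⁻¹ := by
  refine ⟨(mem_normalizer_iff.mp (hA hk) e).mp he, (mem_normalizer_iff.mp (hA hl) _).mp (inv_mem hd), ?_⟩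
  have h : k * l * k⁻¹ = l := by
    have := congrArg Subtype.val (hAc.is_comm.comm ⟨k, hk⟩ ⟨l, hl⟩)
    simp only [Subgroup.coe_mul] at this
    rw [this]; group
  calc ⁅d * k, e * l⁆ = d * (k * e * k⁻¹) * (k * l * k⁻¹) * d⁻¹ * l⁻¹ * e⁻¹ := by
        rw [commutatorElement_def]; group
    _ = _ := by rw [h]; group

/-- `(D A)' ≤ D` for abelian `A`. -/
theorem derived_sup_le {A D : Subgroup G} (hA : A ≤ normalizer (D : Set G))
    (hAc : IsMulCommutative A) : ⁅D ⊔ A, D ⊔ A⁆ ≤ D := by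
  rw [commutator_le]
  intro a ha b hb
  obtain ⟨d, hd, k, hk, rfl⟩ := (CfsgLib.Coprime.mem_sup_of_le_normalizer hA).mp ha
  obtain ⟨e, he, l, hl, rfl⟩ := (CfsgLib.Coprime.mem_sup_of_le_normalizer hA).mp hb
  obtain ⟨h1, h2, h3⟩ := commutator_mul_mul_eq hA hAc hd hk he hl
  rw [h3]
  exact mul_mem (mul_mem (mul_mem hd h1) h2) (inv_mem he)

/-- `(D A)' ≤ [D, A]` for abelian `D` and `A`. -/
theorem derived_sup_le_commutator {A D : Subgroup G} (hA : A ≤ normalizer (D : Set G))
    (hAc : IsMulCommutative A) (hD : IsMulCommutative D) : ⁅D ⊔ A, D ⊔ A⁆ ≤ ⁅D, A⁆ := by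
  rw [commutator_le]
  intro a ha b hb
  obtain ⟨d, hd, k, hk, rfl⟩ := (CfsgLib.Coprime.mem_sup_of_le_normalizer hA).mp ha
  obtain ⟨e, he, l, hl, rfl⟩ := (CfsgLib.Coprime.mem_sup_of_le_normalizer hA).mp hb
  obtain ⟨h1, h2, h3⟩ := commutator_mul_mul_eq hA hAc hd hk he hl
  have hc : ∀ x ∈ D, ∀ y ∈ D, x * y = y * x := fun x hx y hy =>
    congrArg Subtype.val (hD.is_comm.comm ⟨x, hx⟩ ⟨y, hy⟩)
  have h4 : ⁅d * k, e * l⁆ = ⁅d, l⁆ * ⁅e, k⁆⁻¹ := by
    rw [h3]
    calc d * (k * e * k⁻¹) * (l * d⁻¹ * l⁻¹) * e⁻¹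
        = d * ((k * e * k⁻¹) * (l * d⁻¹ * l⁻¹)) * e⁻¹ := by group
      _ = d * ((l * d⁻¹ * l⁻¹) * (k * e * k⁻¹)) * e⁻¹ := by rw [hc _ h1 _ h2]
      _ = _ := by simp only [commutatorElement_def]; group
  rw [h4]
  exact mul_mem (commutator_mem_commutator hd hl) (inv_mem (commutator_mem_commutator he hk))

/-- In `M = D A` with `A` abelian of order prime to `|D|` and `M' = D`, the fixed points of `A`
on `D` lie in `D'`. -/
theorem fixed_le_derived_of_sup {A D : Subgroup G} (hA : A ≤ normalizer (D : Set G))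
    (hAc : IsMulCommutative A) (hcop : (Nat.card A).Coprime (Nat.card D))
    (hD : D ≤ ⁅D ⊔ A, D ⊔ A⁆) : D ⊓ centralizer (A : Set G) ≤ ⁅D, D⁆ := by
  set X : Subgroup G := D ⊔ A with hX
  have hD2 : ⁅D, D⁆ ≤ D := le_normalizer_iff_commutator_le_left.mp le_normalizer
  have hn : X ≤ normalizer ((⁅D, D⁆ : Subgroup G) : Set G) := by
    refine le_trans (sup_le le_normalizer hA) ?_
    intro x hx
    have h := Subgroup.map_commutator D D (MulAut.conj x).toMonoidHom
    have h' : D.map (MulAut.conj x).toMonoidHom = D := conjMap_eq_self_iff.mpr hx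
    rw [h'] at h
    exact conjMap_eq_self_iff.mp h
  haveI := (normal_subgroupOf_iff_le_normalizer (hD2.trans le_sup_left)).mpr hn
  set f := QuotientGroup.mk' ((⁅D, D⁆).subgroupOf X) with hf
  set D' := (D.subgroupOf X).map f with hD'
  set A' := (A.subgroupOf X).map f with hA'
  have htop : D' ⊔ A' = ⊤ := by
    rw [hD', hA', ← Subgroup.map_sup, ← subgroupOf_sup le_sup_left le_sup_right, subgroupOf_self]
    exact map_top_of_surjective f (QuotientGroup.mk'_surjective _)
  have hDc : IsMulCommutative D' := by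
    refine ⟨⟨?_⟩⟩
    rintro ⟨a, x, hx, rfl⟩ ⟨b, y, hy, rfl⟩
    refine Subtype.ext ?_
    show f x * f y = f y * f x
    rw [← map_mul, ← map_mul, hf, QuotientGroup.mk'_eq_mk']
    refine ⟨(x * y)⁻¹ * (y * x), ?_, by group⟩
    rw [mem_subgroupOf]
    have h : ((((x * y)⁻¹ * (y * x)) : X) : G) = ⁅(y : G)⁻¹, (x : G)⁻¹⁆ := by
      simp only [Subgroup.coe_mul, Subgroup.coe_inv, commutatorElement_def]; group
    rw [h]
    exact commutator_mem_commutator (inv_mem (mem_subgroupOf.mp hy)) (inv_mem (mem_subgroupOf.mp hx))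
  have hAc' : IsMulCommutative A' := by
    haveI : IsMulCommutative (A.subgroupOf X) := ⟨⟨fun a b => Subtype.ext (Subtype.ext (by
      simpa using congrArg Subtype.val
        (hAc.is_comm.comm ⟨_, mem_subgroupOf.mp a.2⟩ ⟨_, mem_subgroupOf.mp b.2⟩)))⟩⟩
    exact Subgroup.map_isMulCommutative _ _
  have hA'n : A' ≤ normalizer (D' : Set (X ⧸ (⁅D, D⁆).subgroupOf X)) := by
    haveI : (D.subgroupOf X).Normal :=
      (normal_subgroupOf_iff_le_normalizer le_sup_left).mpr (sup_le le_normalizer hA)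
    haveI : D'.Normal := Subgroup.Normal.map inferInstance f (QuotientGroup.mk'_surjective _)
    rw [Subgroup.normalizer_eq_top (H := D')]
    exact le_top
  have hle : D' ≤ ⁅D' ⊔ A', D' ⊔ A'⁆ := by
    rw [htop, ← map_top_of_surjective f (QuotientGroup.mk'_surjective _), ← Subgroup.map_commutator,
      hD']
    refine Subgroup.map_mono fun x hx => ?_
    have h : (x : G) ∈ Subgroup.map X.subtype ⁅(⊤ : Subgroup X), (⊤ : Subgroup X)⁆ := by
      rw [Subgroup.map_commutator, ← MonoidHom.range_eq_map, Subgroup.range_subtype]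
      exact hD (mem_subgroupOf.mp hx)
    obtain ⟨y, hy, hyx⟩ := h
    exact Subtype.ext hyx ▸ hy
  have hcop' : (Nat.card A').Coprime (Nat.card D') := by
    refine (hcop.coprime_dvd_left ?_).coprime_dvd_right ?_
    · exact (card_map_dvd _ _).trans (CfsgLib.Coprime.card_subgroupOf le_sup_right).dvd
    · exact (card_map_dvd _ _).trans (CfsgLib.Coprime.card_subgroupOf le_sup_left).dvd
  intro c hc
  obtain ⟨hcD, hcA⟩ := mem_inf.mp hc
  have hcX : c ∈ X := mem_sup_left hcD
  have h1 : f ⟨c, hcX⟩ ∈ ⁅D', A'⁆ ⊓ centralizer (A' : Set (X ⧸ (⁅D, D⁆).subgroupOf X)) := by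
    refine mem_inf.mpr ⟨derived_sup_le_commutator hA'n hAc' hDc (hle ⟨_, mem_subgroupOf.mpr hcD, rfl⟩),
      mem_centralizer_iff.mpr ?_⟩
    rintro _ ⟨a, ha, rfl⟩
    rw [← map_mul, ← map_mul]
    congr 1
    exact Subtype.ext (mem_centralizer_iff.mp hcA _ (mem_subgroupOf.mp ha))
  rw [CfsgLib.Coprime.commutator_inf_centralizer_eq_bot hDc hA'n hcop', mem_bot, hf,
    QuotientGroup.mk'_apply, QuotientGroup.eq_one_iff, mem_subgroupOf] at h1
  exact h1

theorem le_fittingOf {N : Subgroup G} (hNM : N ≤ M) (hn : M ≤ normalizer (N : Set G))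
    (hnil : Group.IsNilpotent N) : N ≤ Cfsg.fittingOf M := by
  have h : N.subgroupOf M ≤ Cfsg.fittingSubgroup M :=
    CfsgLib.Solvable.le_fittingSubgroup ((normal_subgroupOf_iff_le_normalizer hNM).mpr hn)
      ((Group.isNilpotent_congr (subgroupOfEquivOfLe hNM)).mpr hnil)
  have := Subgroup.map_mono (f := M.subtype) h
  rwa [map_subgroupOf_eq_of_le hNM] at this

theorem fittingHallOf_le_fittingOf (M : Subgroup G) : Cfsg.fittingHallOf M ≤ Cfsg.fittingOf M :=
  le_fittingOf (fittingHallOf_le M) (le_normalizer_fittingHallOf M) (fittingHallOf_isNilpotent M)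

/-- `F(M) ≤ M_F C_M(M_F)`. -/
theorem fittingOf_le_sup (M : Subgroup G) :
    Cfsg.fittingOf M ≤ (M ⊓ centralizer (Cfsg.fittingHallOf M : Set G)) ⊔ Cfsg.fittingHallOf M := by
  refine fittingOf_le_of_parts M fun r hr => ?_
  haveI : Fact r.Prime := ⟨hr⟩
  by_cases hd : r ∣ Nat.card (Cfsg.fittingHallOf M)
  · refine le_trans (fun x hx => ?_) le_sup_right
    refine CfsgLib.Solvable.mem_of_coprime_relIndex
      ((normal_subgroupOf_iff_le_normalizer (fittingHallOf_le M)).mpr (le_normalizer_fittingHallOf M))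
      (fPart_le M r hx) (coprime_of_forall fun t ht h1 h2 => ?_)
    obtain rfl : t = r := prime_dvd_pGroup (isPGroup_fPart M r) ht
      (h1.trans (orderOf_dvd_natCard _ hx))
    exact ht.ne_one (Nat.eq_one_of_dvd_coprimes (fittingHallOf_coprime_relIndex M) hd h2)
  · refine le_trans (le_inf (fPart_le M r) ?_) le_sup_left
    refine le_centralizer_of_coprime_of_le_nilpotent (fittingOf_isNilpotent M) (fPart_le_fittingOf M)
      (fittingHallOf_le_fittingOf M) (coprime_of_forall fun t ht h1 h2 => hd ?_)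
    obtain rfl : t = r := prime_dvd_pGroup (isPGroup_fPart M r) ht h1
    exact h2

variable (hG : Cfsg.IsMinSimpleOddOrder G) (hM : IsCoatom M)
include hG hM

theorem derived_lt : ⁅M, M⁆ < M := by
  haveI : Group.IsSolvable M := isSolvable_of_le_max hG hM le_rfl
  haveI : Nontrivial M := (nontrivial_iff_ne_bot M).mpr (max_ne_bot hG hM)
  refine lt_of_le_of_ne (le_normalizer_iff_commutator_le_left.mp le_normalizer) fun e =>
    (Group.IsSolvable.commutator_lt_top_of_nontrivial M).ne ?_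
  apply Subgroup.map_injective M.subtype_injective
  rwa [Subgroup.map_subtype_commutator, ← MonoidHom.range_eq_map, Subgroup.range_subtype]

/-- With `K ≠ 1` the factor `U` is `[U, K]`. -/
theorem decomp_U_le_derived (h : Cfsg.IsSigmaDecomposition M K U) (hK : K ≠ ⊥) : U ≤ ⁅M, M⁆ := by
  have hUab := decomp_U_abelian hG hM h hK
  obtain ⟨k, hk, hk1⟩ := (bot_or_exists_ne_one K).resolve_left hK
  have hfix : U ⊓ centralizer (K : Set G) = ⊥ := le_bot_iff.mp ((inf_le_inf_left U
    (centralizer_le (Set.singleton_subset_iff.mpr hk))).trans (decomp_regular hG hM h hk hk1).le)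
  have hcop : (Nat.card K).Coprime (Nat.card U) := coprime_of_forall fun t ht h1 h2 =>
    ((decomp_U_primes hG hM h).2 t ht h2).1 (h.hall.2.1 t ht h1)
  haveI := hUab
  have := CfsgLib.Coprime.commutator_sup_centralizer h.normal hcop
    (Or.inr (isSolvable_of_le_max hG hM h.compl.1))
  rw [hfix, sup_bot_eq] at this
  exact this.ge.trans (commutator_mono h.compl.1 h.hall.1)

theorem decomp_sup_eq (h : Cfsg.IsSigmaDecomposition M K U) :
    (U ⊔ Cfsg.sigmaCore M) ⊔ K = M := by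
  rw [sup_assoc, sup_comm (Cfsg.sigmaCore M) K]
  exact isComplIn_sup h.compl

theorem decomp_K_le_normalizer (h : Cfsg.IsSigmaDecomposition M K U) :
    K ≤ normalizer ((U ⊔ Cfsg.sigmaCore M : Subgroup G) : Set G) :=
  h.hall.1.trans (decomp_normal hG hM h)

/-- `M' = U M_σ` when `K ≠ 1`. -/
theorem derived_eq_decomp (h : Cfsg.IsSigmaDecomposition M K U) (hK : K ≠ ⊥) :
    ⁅M, M⁆ = U ⊔ Cfsg.sigmaCore M := by
  refine le_antisymm ?_ (sup_le (decomp_U_le_derived hG hM h hK) (sigmaCore_le_derived hG hM))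
  haveI := h.cyclic
  have := derived_sup_le (decomp_K_le_normalizer hG hM h) IsCyclic.isMulCommutative
  rwa [decomp_sup_eq hG hM h] at this

/-- `C_{M_σ}(K) ≤ M''`. -/
theorem star_le_derived2 (h : Cfsg.IsSigmaDecomposition M K U) (hK : K ≠ ⊥) :
    Cfsg.sigmaCore M ⊓ centralizer (K : Set G) ≤ ⁅⁅M, M⁆, ⁅M, M⁆⁆ := by
  haveI := h.cyclic
  have hD := derived_eq_decomp hG hM h hK
  rw [hD]
  refine le_trans (inf_le_inf_right _ le_sup_right)
    (fixed_le_derived_of_sup (decomp_K_le_normalizer hG hM h) IsCyclic.isMulCommutative ?_ ?_)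
  · refine coprime_of_forall fun t ht h1 h2 => ?_
    rw [sup_comm, card_sup_of_coprime (h.compl.1.trans (le_normalizer_sigmaCore M))
      (coprime_sigmaCore hG hM fun s hs hd => ((decomp_U_primes hG hM h).2 s hs hd).2)] at h2
    rcases ht.dvd_mul.mp h2 with h' | h'
    · exact (h.hall.2.1 t ht h1).2.2.1 (mem_sigma_of_dvd_sigmaCore ht h')
    · exact ((decomp_U_primes hG hM h).2 t ht h').1 (h.hall.2.1 t ht h1)
  · rw [decomp_sup_eq hG hM h, hD]

/-- `M'' ≤ M_σ`. -/
theorem derived2_le_sigmaCore : ⁅⁅M, M⁆, ⁅M, M⁆⁆ ≤ Cfsg.sigmaCore M := by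
  obtain ⟨E, hE, -⟩ := exists_compl_ge hG hM (bot_le (a := M)) fun t ht hd => by
    rw [Subgroup.card_bot] at hd
    exact absurd (Nat.eq_one_of_dvd_one hd) ht.ne_one
  rw [derived_eq hG hM hE]
  exact derived_sup_le ((derived_le_compl hG hM).trans (hE.1.trans (le_normalizer_sigmaCore M)))
    (Cfsg.Agent.S1420.result hG M hM E hE).2.1

/-- `K` and `U` are not both trivial. -/
theorem decomp_U_ne_bot (h : Cfsg.IsSigmaDecomposition M K U) (hK : K = ⊥) : U ≠ ⊥ := by
  intro hU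
  have hM' := decomp_sup_eq hG hM h
  rw [hK, hU, bot_sup_eq, sup_bot_eq] at hM'
  exact ((sigmaCore_le_derived hG hM).trans_lt (derived_lt hG hM)).ne hM'

end CfsgLib.BG
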