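import Cfsg.Agent.Lib.BG.TypeEmbedding
import Cfsg.Agent.Lib.BG.TypeOne
import Cfsg.Agent.Lib.BG.TypePConstruct

/-!
# Every maximal subgroup is of type I or of type P
-/

set_option autoImplicit false

namespace CfsgLib.BG

universe u
variable {G : Type u} [Group G] [Finite G] {M : Subgroup G}

theorem typeKnown (hG : Cfsg.IsMinSimpleOddOrder G) (hM : IsCoatom M) : TypeKnown M := by
  obtain ⟨K, U, h⟩ := exists_sigma_decomposition hG hM
  by_cases hK : K = ⊥
  · exact ⟨Or.inl (isOfTypeI_of_decomp hG hM h hK)⟩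
  · obtain ⟨V, hV, hVn, hKV, -, -⟩ := exists_derived_compl hG hM h hK
    exact ⟨Or.inr ⟨K, V, _, isTypePWith hG hM h hK hV hVn hKV⟩⟩

end CfsgLib.BG
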