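import Cfsg.Agent.Lib.BG.TypeBasic
import Cfsg.Agent.Lib.BG14.Basic
import Cfsg.Agent.S1418

/-!
# `U` and `K` when both are nontrivial
-/

set_option autoImplicit false
set_option linter.style.haveILetI false
set_option linter.unusedSectionVars false

namespace CfsgLib.BG

open Subgroup CfsgLib.PLocal CfsgLib.OddLocal
open scoped commutatorElement

universe u
variable {G : Type u} [Group G] [Finite G] {M K U : Subgroup G}
variable (hG : Cfsg.IsMinSimpleOddOrder G) (hM : IsCoatom M)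
include hG hM

/-- A square inside `U` for a `τ₂`-prime of `U`. -/
theorem exists_square_U (h : Cfsg.IsSigmaDecomposition M K U) {p : ℕ} [hp : Fact p.Prime]
    (hp2 : p ∈ Cfsg.tau2 M) :
    ∃ E A : Subgroup G, Cfsg.IsComplIn E (Cfsg.sigmaCore M) M ∧ U ⊔ K = E ∧ E ≤ normalizer (U : Set G) ∧
      A ≤ U ∧ A ≤ M ∧ Cfsg.IsElementaryAbelian p A ∧ Nat.card A = p ^ 2 := by
  obtain ⟨E, hE, hUK, hEU, hUh, -⟩ := exists_compl_decomp hG hM h
  obtain ⟨A, A₀, hAE, hexc⟩ := tau2_square hG hM hE hp2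
  refine ⟨E, A, hE, hUK, hEU, fun a ha => ?_, hexc.le, hexc.sq.1, hexc.sq.2⟩
  refine CfsgLib.Solvable.mem_of_coprime_relIndex ((normal_subgroupOf_iff_le_normalizer hUh.1).mpr hEU)
    (hAE ha) (coprime_of_forall fun t ht h1 h2 => hUh.2.2 t ht ?_ h2)
  obtain rfl := prime_dvd_pgroup_card hexc.sq.isPGroup ht (h1.trans (orderOf_dvd_natCard A ha))
  exact fun hκ => hp2.2.2.2 (prankLE_one_of_kappa hG hM hκ)

/-- `C_{M_σ}(U) = 1` when `U ≠ 1`. -/
theorem sigmaCore_inf_centralizer_U (h : Cfsg.IsSigmaDecomposition M K U) (hU1 : U ≠ ⊥) :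
    Cfsg.sigmaCore M ⊓ centralizer (U : Set G) = ⊥ := by
  by_contra hne
  obtain ⟨u, hu, hu1⟩ := (bot_or_exists_ne_one U).resolve_left hU1
  obtain ⟨t, ht, htd⟩ := Nat.exists_prime_and_dvd (mt orderOf_eq_one_iff.mp hu1)
  haveI : Fact t.Prime := ⟨ht⟩
  have hτ : t ∈ Cfsg.tau2 M := decomp_tau2_of_fixed hG hM h hu (fun e => hne (le_bot_iff.mp
    (e ▸ inf_le_inf_left _ (centralizer_le (Set.singleton_subset_iff.mpr hu))))) ht htd
  obtain ⟨E, A, -, -, -, hAU, hAM, hA, hAc⟩ := exists_square_U hG hM h hτ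
  obtain ⟨-, -, -, hfix, -⟩ := Cfsg.Agent.S1417.result hG M hM t hτ A ⟨hAM, hA, hAc⟩
  exact hne (le_bot_iff.mp (hfix ▸ inf_le_inf_left _ (centralizer_le hAU)))

/-- `|K|` is prime when `U ≠ 1`. -/
theorem decomp_K_prime (h : Cfsg.IsSigmaDecomposition M K U) (hK : K ≠ ⊥) (hU1 : U ≠ ⊥) :
    (Nat.card K).Prime := by
  obtain ⟨k, hk, hk1⟩ := (bot_or_exists_ne_one K).resolve_left hK
  obtain ⟨r, hr, hrd⟩ := Nat.exists_prime_and_dvd (mt orderOf_eq_one_iff.mp hk1)
  haveI : Fact r.Prime := ⟨hr⟩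
  set B := zpowers (k ^ (orderOf k / r))
  have hBr : Nat.card B = r := by rw [Nat.card_zpowers, orderOf_pow_orderOf_div (orderOf_pos k).ne' hrd]
  have hBK : B ≤ K := zpowers_le.mpr (pow_mem hk _)
  rcases eq_or_ne B K with e | hne
  · rw [← e, hBr]; exact hr
  exfalso
  obtain ⟨E, hE, hUK, -, -, -⟩ := exists_compl_decomp hG hM h
  have hcop : (Nat.card (Cfsg.sigmaCore M)).Coprime (Nat.card ↥(U ⊔ K)) := by
    rw [hUK]
    exact (coprime_sigmaCore hG hM fun t ht hd => not_sigma_of_dvd_compl hG hM hE ht hd).symm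
  have hb1 : k ^ (orderOf k / r) ≠ 1 := fun e => hr.ne_one (by
    rw [← hBr, Nat.card_zpowers, e, orderOf_one])
  have hcent := CfsgLib.BG14.frobenius_two hU1 (ne_bot_of_card_prime hBr) hBK hne h.normal
    (fun a ha ha1 => decomp_regular hG hM h ha ha1)
    (sup_le (h.compl.1.trans (le_normalizer_sigmaCore M)) (h.hall.1.trans (le_normalizer_sigmaCore M)))
    (isSolvable_of_le_max hG hM (sigmaCore_le M)) hcop (by
      rw [centralizer_zpowers_eq, kappa_prime_action hG hM h.hall.1 h.hall.2.1 (pow_mem hk _) hb1]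
      exact inf_le_right)
  have h' := sigmaCore_inf_centralizer_U hG hM h hU1
  rw [inf_eq_left.mpr hcent] at h'
  exact sigmaCore_ne_bot hG hM h'

/-- For a `τ₂`-prime of `U` the normalizer of `U` leaves `M`. -/
theorem not_normalizer_U_le (h : Cfsg.IsSigmaDecomposition M K U) (hK : K ≠ ⊥) {p : ℕ} [Fact p.Prime]
    (hp2 : p ∈ Cfsg.tau2 M) : ¬ normalizer (U : Set G) ≤ M := by
  obtain ⟨E, A, hE, hUK, -, hAU, -, hA, hAc⟩ := exists_square_U hG hM h hp2
  obtain ⟨-, ⟨hC, hMN, hN⟩, -⟩ := Cfsg.Agent.S1418.result hG M hM E hE p hp2 A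
    ⟨hAU.trans (le_sup_left.trans hUK.le), hA, hAc⟩
  rw [hMN, ← hUK] at hC
  have hUC : centralizer (A : Set G) = U := by
    refine le_antisymm (fun x hx => ?_) ?_
    · rw [sup_comm] at hC
      obtain ⟨k, hk, u, hu, rfl⟩ :=
        (CfsgLib.Coprime.mem_sup_of_le_normalizer' h.normal).mp (sup_comm K U ▸ hC hx)
      rcases eq_or_ne k 1 with rfl | hk1
      · simpa using hu
      · exfalso
        obtain ⟨a, ha, ha1⟩ := (bot_or_exists_ne_one A).resolve_left fun e => by
          rw [e, Subgroup.card_bot] at hAc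
          exact (Nat.one_lt_pow two_ne_zero (Fact.out : p.Prime).one_lt).ne hAc
        have hab : a * u = u * a := congrArg Subtype.val
          ((decomp_U_abelian hG hM h hK).is_comm.comm ⟨a, hAU ha⟩ ⟨u, hu⟩)
        have hx' : a * (k * u) = k * u * a := mem_centralizer_iff.mp hx a ha
        have hka : a * k = k * a := by
          calc a * k = a * (k * u) * u⁻¹ := by group
            _ = k * u * a * u⁻¹ := by rw [hx']
            _ = k * (u * a) * u⁻¹ := by group
            _ = k * (a * u) * u⁻¹ := by rw [hab]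
            _ = k * a := by group
        exact ha1 (mem_bot.mp (decomp_regular hG hM h hk hk1 ▸
          mem_inf.mpr ⟨hAU ha, mem_centralizer_singleton_iff.mpr hka⟩))
    · intro u hu
      refine mem_centralizer_iff.mpr fun a ha => ?_
      exact congrArg Subtype.val ((decomp_U_abelian hG hM h hK).is_comm.comm ⟨a, hAU ha⟩ ⟨u, hu⟩)
  intro hle
  refine hN (le_trans ?_ hle)
  rw [← hUC]
  exact le_normalizer_centralizer (le_refl _)

end CfsgLib.BG
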