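import Cfsg.Agent.Lib.BG.TypesNormalizer
import Cfsg.Agent.S1417

/-!
# Fixers in complements and the set `A(M) \ A₁(M)`
-/

set_option autoImplicit false
set_option linter.style.haveILetI false
set_option linter.unusedSectionVars false

namespace CfsgLib.BG

open Subgroup CfsgLib.PLocal CfsgLib.OddLocal
open scoped commutatorElement

universe u
variable {G : Type u} [Group G] [Finite G] {M K U : Subgroup G}
variable (hG : Cfsg.IsMinSimpleOddOrder G) (hM : IsCoatom M)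
include hG hM

/-- A `σ(M)'`-subgroup of `U M_σ` is conjugate into `U`. -/
theorem exists_conj_le_U (h : Cfsg.IsSigmaDecomposition M K U) {X : Subgroup G}
    (hX : X ≤ U ⊔ Cfsg.sigmaCore M)
    (hπ : ∀ t : ℕ, t.Prime → t ∣ Nat.card X → t ∉ Cfsg.sigma M) :
    ∃ c ∈ M, conjMap c X ≤ U := by
  obtain ⟨E, hE, hUK, hEU, hUh, hKh⟩ := exists_compl_decomp hG hM h
  have hDM : U ⊔ Cfsg.sigmaCore M ≤ M := sup_le h.compl.1 (sigmaCore_le M)
  obtain ⟨c, hc, hcE⟩ := exists_conj_le_compl hG hM hE (hX.trans hDM) hπ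
  refine ⟨c, sigmaCore_le M hc, fun x hx => ?_⟩
  have hxD : x ∈ U ⊔ Cfsg.sigmaCore M := by
    have h' := conjMap_mono (g := c) hX hx
    rwa [conjMap_eq_self_iff.mpr (decomp_normal hG hM h (sigmaCore_le M hc))] at h'
  have hxE : x ∈ U ⊔ K := hUK.ge (hcE hx)
  obtain ⟨u, hu, k, hk, rfl⟩ := (CfsgLib.Coprime.mem_sup_of_le_normalizer h.normal).mp hxE
  obtain ⟨hcard, hU⟩ := decomp_U_primes hG hM h
  have hcK : (Nat.card ↥(U ⊔ Cfsg.sigmaCore M)).Coprime (Nat.card K) := by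
    rw [sup_comm, card_sup_of_coprime (h.compl.1.trans (le_normalizer_sigmaCore M))
      (coprime_sigmaCore hG hM fun t ht hd => (hU t ht hd).2)]
    exact Nat.Coprime.mul_left
      (coprime_sigmaCore hG hM fun t ht hd => (h.hall.2.1 t ht hd).2.2.1).symm
      (coprime_of_forall fun t ht h1 h2 => (hU t ht h1).1 (h.hall.2.1 t ht h2))
  have hk' : k ∈ (U ⊔ Cfsg.sigmaCore M) ⊓ K :=
    mem_inf.mpr ⟨(mul_mem_cancel_left (mem_sup_left hu)).mp hxD, hk⟩
  rw [CfsgLib.Coprime.inf_eq_bot_of_coprime hcK, mem_bot] at hk'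
  rw [hk', mul_one]
  exact hu

/-- A nontrivial `σ(M)'`-subgroup of `U M_σ` with fixed points in `M_σ` pins `M`. -/
theorem onlyMax_fixer (h : Cfsg.IsSigmaDecomposition M K U) {X : Subgroup G}
    (hX : X ≤ U ⊔ Cfsg.sigmaCore M)
    (hπ : ∀ t : ℕ, t.Prime → t ∣ Nat.card X → t ∉ Cfsg.sigma M) (hX1 : X ≠ ⊥)
    (hfix : Cfsg.sigmaCore M ⊓ centralizer (X : Set G) ≠ ⊥) :
    OnlyMax (centralizer (X : Set G)) M := by
  obtain ⟨c, hc, hcU⟩ := exists_conj_le_U hG hM h hX hπ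
  have hcS : conjMap c (Cfsg.sigmaCore M) = Cfsg.sigmaCore M :=
    conjMap_eq_self_iff.mpr (le_normalizer_sigmaCore M hc)
  have heq : Cfsg.sigmaCore M ⊓ centralizer (conjMap c X : Set G) =
      conjMap c (Cfsg.sigmaCore M ⊓ centralizer (X : Set G)) := by
    rw [← CfsgLib.BG14.conjMap_centralizer, conjMap, conjMap,
      Subgroup.map_inf _ _ _ (MulAut.conj c).injective]
    exact congrArg (· ⊓ _) hcS.symm
  have hpin : OnlyMax (centralizer (conjMap c X : Set G)) M := decomp_onlyMax hG hM h hcU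
    (fun e => hX1 ((Subgroup.map_eq_bot_iff_of_injective _ (MulAut.conj c).injective).mp e))
    (fun e => hfix ((Subgroup.map_eq_bot_iff_of_injective _ (MulAut.conj c).injective).mp
      (heq.symm.trans e)))
  rw [← CfsgLib.BG14.conjMap_centralizer] at hpin
  refine ⟨fun x hx => ?_, fun L hL hle => ?_⟩
  · have := hpin.1 (conj_mem_conjMap (g := c) hx)
    simpa [mul_assoc] using mul_mem (mul_mem (inv_mem hc) this) hc
  · have hLc : IsCoatom (conjMap c L) := (OrderIso.isCoatom_iff (MulEquiv.mapSubgroup (MulAut.conj c)) L).mpr hL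
    have h1 := hpin.2 _ hLc (conjMap_mono hle)
    rw [← conjMap_inv_conjMap c L, h1]
    exact conjMap_eq_of_mem (inv_mem hc)

/-- Sylow subgroups of a `σ(M)'`-subgroup are abelian of rank at most 2. -/
theorem sylow_sigma'_abelian {V : Subgroup G} (hV : V ≤ M)
    (hπ : ∀ t : ℕ, t.Prime → t ∣ Nat.card V → t ∉ Cfsg.sigma M) (p : ℕ) (hp : p.Prime) (P : Sylow p V) :
    IsMulCommutative (P : Subgroup V) ∧ Cfsg.PRankLE p 2 (P : Subgroup V) := by
  haveI := Fact.mk hp
  by_cases hP1 : (P : Subgroup V) = ⊥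
  · refine ⟨⟨⟨fun a b => ?_⟩⟩, fun E _ _ => ?_⟩
    · refine Subtype.ext ?_
      have ha := a.2; have hb := b.2
      simp only [hP1, mem_bot] at ha hb
      simp [ha, hb]
    · refine (card_le_card_group E).trans ?_
      rw [hP1, Subgroup.card_bot]; exact Nat.one_le_pow _ _ hp.pos
  set P' := (P : Subgroup V).map V.subtype
  set e := (P : Subgroup V).equivMapOfInjective _ V.subtype_injective
  have hP'M : P' ≤ M := (map_subtype_le _).trans hV
  have hpσ : p ∉ Cfsg.sigma M :=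
    hπ p hp ((dvd_card_of_pgroup_ne_bot P.2 hP1).trans (card_subgroup_dvd_card _))
  have h2 : Cfsg.PRankLE p 2 P' := prankLE_mono hP'M (prankLE_two_of_not_sigma hG hM hpσ)
  have hab : IsMulCommutative P' := by
    by_cases h1 : Cfsg.PRankLE p 1 M
    · haveI := isCyclic_pgroup_of_prankLE_one hG (P.2.map _) hP'M h1
      exact IsCyclic.isMulCommutative
    obtain ⟨B, hBM, hB⟩ := exists_sq_le_of_not_prankLE le_rfl h1
    obtain ⟨R, hR, hPR⟩ := exists_sylowIn_le (P.2.map V.subtype) hP'M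
    obtain ⟨TM, hTM⟩ := CfsgLib.BG14.exists_sylow_map hR
    have hab := ((Cfsg.Agent.S1417.result hG M hM p ⟨hp, hpσ, prankLE_two_of_not_sigma hG hM hpσ, h1⟩
      B ⟨hBM, hB.1, hB.2⟩).2.1 TM).1
    haveI := hab
    haveI : IsMulCommutative R := hTM ▸ Subgroup.map_isMulCommutative (TM : Subgroup M) M.subtype
    exact ⟨⟨fun a b => Subtype.ext (congrArg Subtype.val
      (IsMulCommutative.is_comm.comm (⟨a.1, hPR a.2⟩ : R) ⟨b.1, hPR b.2⟩) :)⟩⟩
  refine ⟨⟨⟨fun a b => e.injective (by rw [map_mul, map_mul]; exact hab.is_comm.comm _ _)⟩⟩, ?_⟩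
  intro E hc he
  have hE : Cfsg.IsElementaryAbelian p (E.map e.toMonoidHom) := elemAb_map _ ⟨hc, he⟩
  have := h2 (E.map e.toMonoidHom) hE.1 hE.2
  rwa [Subgroup.card_map_of_injective e.injective] at this

/-- An element of `U M_σ` outside `M_σ` centralizing a non-identity element of `M_σ` has a power that
pins `M`. -/
theorem exists_pin (h : Cfsg.IsSigmaDecomposition M K U) {a x : G}
    (ha : a ∈ U ⊔ Cfsg.sigmaCore M) (haS : a ∉ Cfsg.sigmaCore M)
    (hx : x ∈ Cfsg.sigmaCore M) (hx1 : x ≠ 1) (hc : a * x = x * a) :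
    ∃ k : ℤ, OnlyMax (centralizer ({a ^ k} : Set G)) M := by
  have haM : a ∈ M := sup_le h.compl.1 (sigmaCore_le M) ha
  by_contra hne
  refine haS ?_
  rw [← zpowers_le]
  refine le_of_prime_power_elements fun t ht y hy hyt => ?_
  haveI := Fact.mk ht
  by_cases htσ : t ∈ Cfsg.sigma M
  · refine CfsgLib.Solvable.mem_of_coprime_relIndex
      ((normal_subgroupOf_iff_le_normalizer (sigmaCore_le M)).mpr (le_normalizer_sigmaCore M))
      (zpowers_le.mpr haM hy) (coprime_of_forall fun s hs h1 h2 => (sigmaCore_hall hG hM).2.2 s hs ?_ h2)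
    rwa [prime_dvd_pGroup hyt hs (Nat.card_zpowers y ▸ h1)]
  by_cases hy1 : y = 1
  · rw [hy1]; exact one_mem _
  obtain ⟨k, rfl⟩ := hy
  refine absurd ⟨k, ?_⟩ hne
  rw [← centralizer_zpowers_eq]
  refine onlyMax_fixer hG hM h (zpowers_le.mpr (zpow_mem ha k))
    (fun s hs hd => (prime_dvd_pGroup hyt hs hd).symm ▸ htσ) (zpowers_ne_bot.mpr hy1)
    (fun e => hx1 (mem_bot.mp (e ▸ mem_inf.mpr ⟨hx, ?_⟩)))
  rw [centralizer_zpowers_eq, mem_centralizer_singleton_iff]
  exact ((show Commute a x from hc).symm.zpow_right k).eq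

/-- The elements of `U M_σ` outside `M_σ` with fixed points in `M_σ` form a set fused only by `M`. -/
theorem mem_of_fusion_outside (h : Cfsg.IsSigmaDecomposition M K U) {a x g x' : G}
    (ha : a ∈ U ⊔ Cfsg.sigmaCore M) (haS : a ∉ Cfsg.sigmaCore M)
    (hx : x ∈ Cfsg.sigmaCore M) (hx1 : x ≠ 1) (hc : a * x = x * a)
    (hga : g * a * g⁻¹ ∈ U ⊔ Cfsg.sigmaCore M)
    (hx' : x' ∈ Cfsg.sigmaCore M) (hx'1 : x' ≠ 1) (hc' : g * a * g⁻¹ * x' = x' * (g * a * g⁻¹)) :
    g ∈ M := by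
  by_contra hgM
  have haM : a ∈ M := sup_le h.compl.1 (sigmaCore_le M) ha
  refine haS ?_
  rw [← zpowers_le]
  refine le_of_prime_power_elements fun t ht y hy hyt => ?_
  haveI := Fact.mk ht
  by_cases htσ : t ∈ Cfsg.sigma M
  · refine CfsgLib.Solvable.mem_of_coprime_relIndex
      ((normal_subgroupOf_iff_le_normalizer (sigmaCore_le M)).mpr (le_normalizer_sigmaCore M))
      (zpowers_le.mpr haM hy) (coprime_of_forall fun s hs h1 h2 => (sigmaCore_hall hG hM).2.2 s hs ?_ h2)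
    rwa [prime_dvd_pGroup hyt hs (Nat.card_zpowers y ▸ h1)]
  by_cases hy1 : y = 1
  · rw [hy1]; exact one_mem _
  obtain ⟨k, rfl⟩ := hy
  exfalso
  have key : ∀ b z : G, b ∈ U ⊔ Cfsg.sigmaCore M → z ∈ Cfsg.sigmaCore M → z ≠ 1 → b * z = z * b →
      orderOf b = orderOf a → OnlyMax (centralizer ({b ^ k} : Set G)) M := by
    intro b z hb hz hz1 hcb hob
    rw [← centralizer_zpowers_eq]
    refine onlyMax_fixer hG hM h (zpowers_le.mpr (zpow_mem hb k))
      (fun s hs hd => ?_) (zpowers_ne_bot.mpr fun e => hy1 ?_)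
      (fun e => hz1 (mem_bot.mp (e ▸ mem_inf.mpr ⟨hz, ?_⟩)))
    · refine (prime_dvd_pGroup hyt hs ?_).symm ▸ htσ
      rw [Nat.card_zpowers] at hd ⊢
      refine hd.trans (orderOf_dvd_of_pow_eq_one ?_)
      rw [← zpow_natCast, ← zpow_mul, ← orderOf_dvd_iff_zpow_eq_one, hob, orderOf_dvd_iff_zpow_eq_one,
        zpow_mul, zpow_natCast, pow_orderOf_eq_one]
    · rwa [← orderOf_dvd_iff_zpow_eq_one, ← hob, orderOf_dvd_iff_zpow_eq_one]
    · rw [centralizer_zpowers_eq, mem_centralizer_singleton_iff]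
      exact ((show Commute b z from hcb).symm.zpow_right k).eq
  have h1 := key a x ha hx hx1 hc rfl
  have h2 := key (g * a * g⁻¹) x' hga hx' hx'1 hc' (MulEquiv.orderOf_eq (MulAut.conj g) a)
  rw [show (g * a * g⁻¹) ^ k = g * a ^ k * g⁻¹ from conj_zpow] at h2
  have hle : centralizer ({g * a ^ k * g⁻¹} : Set G) ≤ conjMap g M := by
    intro c hc0
    rw [mem_conjMap]
    refine h1.1 (mem_centralizer_singleton_iff.mpr ?_)
    have := mem_centralizer_singleton_iff.mp hc0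
    calc g⁻¹ * c * g * a ^ k = g⁻¹ * (c * (g * a ^ k * g⁻¹)) * g := by group
      _ = g⁻¹ * (g * a ^ k * g⁻¹ * c) * g := by rw [this]
      _ = a ^ k * (g⁻¹ * c * g) := by group
  have heq := h2.2 _ ((OrderIso.isCoatom_iff (MulEquiv.mapSubgroup (MulAut.conj g)) M).mpr hM) hle
  exact hgM ((normalizer_max hG hM).le (conjMap_eq_self_iff.mp heq))

/-- `M_s` is normalized by `M`. -/
theorem le_normalizer_typeCore : M ≤ normalizer (Cfsg.typeCore M : Set G) := by
  unfold Cfsg.typeCore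
  split_ifs
  · intro m hm
    refine conjMap_eq_self_iff.mp ?_
    have h := Subgroup.map_commutator M M (MulAut.conj m).toMonoidHom
    rwa [show M.map (MulAut.conj m).toMonoidHom = M from conjMap_eq_of_mem hm] at h
  · exact le_normalizer_fittingHallOf M

theorem conj_mem_derived {m a : G} (hm : m ∈ M) (ha : a ∈ ⁅M, M⁆) : m * a * m⁻¹ ∈ ⁅M, M⁆ := by
  have h := Subgroup.map_commutator M M (MulAut.conj m).toMonoidHom
  rw [show M.map (MulAut.conj m).toMonoidHom = M from conjMap_eq_of_mem hm] at h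
  exact h.le (conj_mem_conjMap ha)

theorem typeA_conj {m a : G} (hm : m ∈ M) (ha : a ∈ Cfsg.typeA M) : m * a * m⁻¹ ∈ Cfsg.typeA M := by
  unfold Cfsg.typeA at ha ⊢
  split_ifs at ha ⊢
  · obtain ⟨h1, h2, x, hx, hx1, hc⟩ := ha
    refine ⟨mul_mem (mul_mem hm h1) (inv_mem hm), fun e => h2 (conj_eq_one_iff.mp e), m * x * m⁻¹,
      (mem_normalizer_iff.mp (le_normalizer_fittingHallOf M hm) x).mp hx,
      fun e => hx1 (conj_eq_one_iff.mp e), ?_⟩
    calc m * a * m⁻¹ * (m * x * m⁻¹) = m * (a * x) * m⁻¹ := by group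
      _ = m * (x * a) * m⁻¹ := by rw [hc]
      _ = _ := by group
  · obtain ⟨h1, h2, x, hx, hx1, hc⟩ := ha
    refine ⟨conj_mem_derived hG hM hm h1, fun e => h2 (conj_eq_one_iff.mp e), m * x * m⁻¹,
      (mem_normalizer_iff.mp (le_normalizer_typeCore hG hM hm) x).mp hx,
      fun e => hx1 (conj_eq_one_iff.mp e), ?_⟩
    calc m * a * m⁻¹ * (m * x * m⁻¹) = m * (a * x) * m⁻¹ := by group
      _ = m * (x * a) * m⁻¹ := by rw [hc]
      _ = _ := by group

theorem typeA1_conj {m a : G} (hm : m ∈ M) (ha : a ∈ Cfsg.typeA1 M) :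
    m * a * m⁻¹ ∈ Cfsg.typeA1 M :=
  ⟨(mem_normalizer_iff.mp (le_normalizer_typeCore hG hM hm) a).mp ha.1,
    fun e => ha.2 (conj_eq_one_iff.mp e)⟩

theorem le_normalizer_typeA_diff : M ≤ normalizer (Cfsg.typeA M \ Cfsg.typeA1 M) := by
  intro m hm
  show ∀ a, a ∈ Cfsg.typeA M \ Cfsg.typeA1 M ↔ m * a * m⁻¹ ∈ Cfsg.typeA M \ Cfsg.typeA1 M
  intro a
  constructor
  · rintro ⟨h1, h2⟩
    refine ⟨typeA_conj hG hM hm h1, fun h => h2 ?_⟩
    have := typeA1_conj hG hM (inv_mem hm) h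
    simpa [mul_assoc] using this
  · rintro ⟨h1, h2⟩
    refine ⟨?_, fun h => h2 (typeA1_conj hG hM hm h)⟩
    have := typeA_conj hG hM (inv_mem hm) h1
    simpa [mul_assoc] using this

end CfsgLib.BG
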